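import Mathlib

set_option autoImplicit false

namespace Cfsg.Agent.Helper80

open Module Polynomial

/-- An endomorphism of finite order over `ℂ` is semisimple. -/
theorem isSemisimple_of_pow_eq_one {V : Type*} [AddCommGroup V] [Module ℂ V]
    (f : Module.End ℂ V) (n : ℕ) (hn : 0 < n) (hf : f ^ n = 1) : f.IsSemisimple := by
  have hsep : (X ^ n - 1 : ℂ[X]).Separable :=
    separable_X_pow_sub_C (1 : ℂ) (by exact_mod_cast hn.ne') one_ne_zero
  refine Module.End.isSemisimple_of_squarefree_aeval_eq_zero hsep.squarefree ?_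
  simp [hf]

/-- A semisimple endomorphism of a finite-dimensional complex space has a basis of eigenvectors. -/
theorem exists_eigenbasis {V : Type*} [AddCommGroup V] [Module ℂ V] [FiniteDimensional ℂ V]
    (f : Module.End ℂ V) (hf : f.IsSemisimple) :
    ∃ (b : Basis (Fin (finrank ℂ V)) ℂ V) (μ : Fin (finrank ℂ V) → ℂ),
      ∀ i, f (b i) = μ i • b i := by
  classical
  have hint : DirectSum.IsInternal (fun μ : ℂ => f.eigenspace μ) :=
    DirectSum.isInternal_submodule_of_iSupIndep_of_iSup_eq_top f.eigenspaces_iSupIndep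
      hf.iSup_eigenspace_eq_top
  let b0 := hint.collectedBasis (fun μ => Module.finBasis ℂ (f.eigenspace μ))
  have : Fintype (Σ μ : ℂ, Fin (finrank ℂ (f.eigenspace μ))) :=
    FiniteDimensional.fintypeBasisIndex b0
  have hcard : Fintype.card (Σ μ : ℂ, Fin (finrank ℂ (f.eigenspace μ))) = finrank ℂ V :=
    (Module.finrank_eq_card_basis b0).symm
  let e := Fintype.equivFinOfCardEq hcard
  refine ⟨b0.reindex e, fun i => (e.symm i).1, fun i => ?_⟩
  have hmem : b0 (e.symm i) ∈ f.eigenspace (e.symm i).1 := hint.collectedBasis_mem _ _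
  rw [Basis.reindex_apply]
  exact Module.End.mem_eigenspace_iff.mp hmem

/-- The trace of an endomorphism that is diagonal in a basis is the sum of the diagonal entries. -/
theorem trace_eq_sum_of_eigenbasis {V : Type*} [AddCommGroup V] [Module ℂ V]
    {ι : Type*} [Fintype ι] (b : Basis ι ℂ V) (f : Module.End ℂ V) (μ : ι → ℂ)
    (h : ∀ i, f (b i) = μ i • b i) : LinearMap.trace ℂ V f = ∑ i, μ i := by
  classical
  rw [LinearMap.trace_eq_matrix_trace ℂ b, Matrix.trace]
  refine Finset.sum_congr rfl fun i _ => ?_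
  simp [LinearMap.toMatrix_apply, h]

/-- Powers of an endomorphism that is diagonal in a basis are diagonal. -/
theorem pow_apply_eigenbasis {V : Type*} [AddCommGroup V] [Module ℂ V]
    {ι : Type*} (b : Basis ι ℂ V) (f : Module.End ℂ V) (μ : ι → ℂ)
    (h : ∀ i, f (b i) = μ i • b i) (k : ℕ) (i : ι) : (f ^ k) (b i) = μ i ^ k • b i := by
  induction k with
  | zero => simp
  | succ k ih =>
    rw [pow_succ, Module.End.mul_apply, h, map_smul, ih, smul_smul, pow_succ, mul_comm]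

/-- Main eigen-data package for an endomorphism of finite order. -/
theorem exists_eigen_data {V : Type*} [AddCommGroup V] [Module ℂ V] [FiniteDimensional ℂ V]
    (f : Module.End ℂ V) (n : ℕ) (hn : 0 < n) (hf : f ^ n = 1) :
    ∃ (b : Basis (Fin (finrank ℂ V)) ℂ V) (μ : Fin (finrank ℂ V) → ℂ),
      (∀ i, f (b i) = μ i • b i) ∧ (∀ i, μ i ^ n = 1) ∧
      (∀ k : ℕ, LinearMap.trace ℂ V (f ^ k) = ∑ i, μ i ^ k) := by
  obtain ⟨b, μ, h⟩ := exists_eigenbasis f (isSemisimple_of_pow_eq_one f n hn hf)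
  refine ⟨b, μ, h, fun i => ?_, fun k => ?_⟩
  · have h1 := pow_apply_eigenbasis b f μ h n i
    rw [hf, Module.End.one_apply] at h1
    have h2 : (μ i ^ n - 1) • b i = 0 := by rw [sub_smul, one_smul, ← h1, sub_self]
    rcases smul_eq_zero.mp h2 with h3 | h3
    · exact sub_eq_zero.mp h3
    · exact absurd h3 (b.ne_zero i)
  · exact trace_eq_sum_of_eigenbasis b (f ^ k) (fun i => μ i ^ k)
      (fun i => pow_apply_eigenbasis b f μ h k i)



theorem eq_one_of_norm_eq_one_of_re_eq_one (z : ℂ) (h1 : ‖z‖ = 1) (h2 : z.re = 1) : z = 1 := by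
  have h3 : z.re ^ 2 + z.im ^ 2 = 1 := by
    have := Complex.sq_norm z
    rw [h1, Complex.normSq_apply] at this
    nlinarith
  have h4 : z.im = 0 := by
    rw [h2] at h3
    have : z.im ^ 2 = 0 := by linarith
    exact pow_eq_zero_iff (two_ne_zero) |>.mp this
  exact Complex.ext (by simp [h2]) (by simp [h4])

theorem norm_sum_le_card {ι : Type*} (s : Finset ι) (μ : ι → ℂ) (h : ∀ i ∈ s, ‖μ i‖ = 1) :
    ‖∑ i ∈ s, μ i‖ ≤ s.card := by
  calc ‖∑ i ∈ s, μ i‖ ≤ ∑ i ∈ s, ‖μ i‖ := norm_sum_le _ _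
    _ = ∑ i ∈ s, (1 : ℝ) := Finset.sum_congr rfl h
    _ = s.card := by simp

theorem eq_one_of_sum_eq_card {ι : Type*} (s : Finset ι) (μ : ι → ℂ) (h : ∀ i ∈ s, ‖μ i‖ = 1)
    (hs : ∑ i ∈ s, μ i = s.card) : ∀ i ∈ s, μ i = 1 := by
  have hre : ∀ i ∈ s, (μ i).re ≤ 1 := fun i hi => (Complex.re_le_norm _).trans (h i hi).le
  have hsum : ∑ i ∈ s, (μ i).re = ∑ i ∈ s, (1 : ℝ) := by
    have := congrArg Complex.re hs
    simpa using this
  have := (Finset.sum_eq_sum_iff_of_le hre).mp hsum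
  intro i hi
  exact eq_one_of_norm_eq_one_of_re_eq_one _ (h i hi) (this i hi)

theorem eq_of_norm_sum_eq_card {ι : Type*} (s : Finset ι) (μ : ι → ℂ) (h : ∀ i ∈ s, ‖μ i‖ = 1)
    (hs : ‖∑ i ∈ s, μ i‖ = s.card) : ∃ u : ℂ, ‖u‖ = 1 ∧ ∀ i ∈ s, μ i = u := by
  rcases s.eq_empty_or_nonempty with rfl | hne
  · exact ⟨1, by simp, by simp⟩
  set S := ∑ i ∈ s, μ i with hS
  have hcard : (0 : ℝ) < s.card := by exact_mod_cast hne.card_pos
  have hSne : S ≠ 0 := by
    intro h0; rw [h0, norm_zero] at hs; linarith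
  have hSn : ‖S‖ ≠ 0 := by rwa [norm_ne_zero_iff]
  set u : ℂ := S / (‖S‖ : ℂ) with hu
  have hun : ‖u‖ = 1 := by
    rw [hu, norm_div, Complex.norm_real, norm_norm, div_self hSn]
  have hune : u ≠ 0 := by rw [← norm_ne_zero_iff, hun]; exact one_ne_zero
  refine ⟨u, hun, ?_⟩
  have h' : ∀ i ∈ s, ‖μ i / u‖ = 1 := fun i hi => by rw [norm_div, h i hi, hun, div_one]
  have hsum : ∑ i ∈ s, μ i / u = s.card := by
    rw [← Finset.sum_div, ← hS, hu, div_div_eq_mul_div, mul_comm, mul_div_assoc, div_self hSne,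
      mul_one, hs]
    simp
  intro i hi
  have := eq_one_of_sum_eq_card s (fun i => μ i / u) h' hsum i hi
  field_simp at this
  exact this

end Cfsg.Agent.Helper80
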