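import Mathlib
import Cfsg.Agent.Helper80.Eigen

set_option autoImplicit false

namespace Cfsg.Agent.Helper80

open Module

section
variable {G : Type*} [Group G] {V : Type*} [AddCommGroup V] [Module ℂ V] [FiniteDimensional ℂ V]
  (ρ : Representation ℂ G V)

/-- Eigen-data for `ρ g`, `g` of finite order: a basis of eigenvectors with root-of-unity
eigenvalues, and the character on powers of `g` as a power sum. -/
theorem exists_eigen_data_rep (g : G) (hg : IsOfFinOrder g) :
    ∃ (b : Basis (Fin (finrank ℂ V)) ℂ V) (μ : Fin (finrank ℂ V) → ℂ),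
      (∀ i, ρ g (b i) = μ i • b i) ∧ (∀ i, μ i ^ orderOf g = 1) ∧ (∀ i, ‖μ i‖ = 1) ∧
      (∀ k : ℕ, ρ.character (g ^ k) = ∑ i, μ i ^ k) := by
  have hn : 0 < orderOf g := hg.orderOf_pos
  have hf : (ρ g) ^ orderOf g = 1 := by rw [← map_pow, pow_orderOf_eq_one, map_one]
  obtain ⟨b, μ, h1, h2, h3⟩ := exists_eigen_data (ρ g) (orderOf g) hn hf
  refine ⟨b, μ, h1, h2, fun i => ?_, fun k => ?_⟩
  · exact Complex.norm_eq_one_of_pow_eq_one (h2 i) hn.ne'
  · rw [Representation.character, map_pow]; exact h3 k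

theorem norm_char_le (g : G) (hg : IsOfFinOrder g) : ‖ρ.character g‖ ≤ finrank ℂ V := by
  obtain ⟨b, μ, -, -, h3, h4⟩ := exists_eigen_data_rep ρ g hg
  have := h4 1
  simp only [pow_one] at this
  rw [this]
  simpa using norm_sum_le_card Finset.univ μ (fun i _ => h3 i)

theorem char_eq_finrank_iff (g : G) (hg : IsOfFinOrder g) :
    ρ.character g = (finrank ℂ V : ℂ) ↔ ρ g = 1 := by
  constructor
  · intro h
    obtain ⟨b, μ, h1, -, h3, h4⟩ := exists_eigen_data_rep ρ g hg
    have h5 := h4 1
    simp only [pow_one] at h5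
    rw [h5] at h
    have h6 : ∀ i, μ i = 1 := fun i =>
      eq_one_of_sum_eq_card Finset.univ μ (fun i _ => h3 i) (by simpa using h) i (Finset.mem_univ i)
    refine b.ext fun i => ?_
    rw [h1, h6, one_smul, Module.End.one_apply]
  · intro h
    rw [Representation.character, h]
    simp

theorem norm_char_eq_finrank_iff (g : G) (hg : IsOfFinOrder g) :
    ‖ρ.character g‖ = (finrank ℂ V : ℝ) ↔ ∃ c : ℂ, ρ g = c • (1 : Module.End ℂ V) := by
  constructor
  · intro h
    obtain ⟨b, μ, h1, -, h3, h4⟩ := exists_eigen_data_rep ρ g hg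
    have h5 := h4 1
    simp only [pow_one] at h5
    rw [h5] at h
    obtain ⟨u, -, hu⟩ := eq_of_norm_sum_eq_card Finset.univ μ (fun i _ => h3 i) (by simpa using h)
    refine ⟨u, b.ext fun i => ?_⟩
    rw [h1, hu i (Finset.mem_univ i)]
    simp
  · rintro ⟨c, hc⟩
    rcases Nat.eq_zero_or_pos (finrank ℂ V) with h0 | hpos
    · have : ρ.character g = 0 := by
        rw [Representation.character, hc, map_smul, LinearMap.trace_one, h0]; simp
      rw [this, h0]; simp
    · have hV : Nontrivial V := Module.finrank_pos_iff.mp hpos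
      obtain ⟨v, hv⟩ := exists_ne (0 : V)
      have hpow : (ρ g) ^ orderOf g = 1 := by rw [← map_pow, pow_orderOf_eq_one, map_one]
      have hc1 : c ^ orderOf g = 1 := by
        rw [hc, smul_pow, one_pow] at hpow
        have := LinearMap.congr_fun hpow v
        simp only [LinearMap.smul_apply, Module.End.one_apply] at this
        have h2 : (c ^ orderOf g - 1) • v = 0 := by rw [sub_smul, one_smul, this, sub_self]
        rcases smul_eq_zero.mp h2 with h3 | h3
        · exact sub_eq_zero.mp h3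
        · exact absurd h3 hv
      have hcn : ‖c‖ = 1 := Complex.norm_eq_one_of_pow_eq_one hc1 hg.orderOf_pos.ne'
      rw [Representation.character, hc, map_smul, LinearMap.trace_one, smul_eq_mul, norm_mul, hcn,
        one_mul]
      simp

theorem char_inv (g : G) (hg : IsOfFinOrder g) :
    ρ.character g⁻¹ = (starRingEnd ℂ) (ρ.character g) := by
  obtain ⟨b, μ, h1, -, h3, h4⟩ := exists_eigen_data_rep ρ g hg
  have h5 := h4 1
  simp only [pow_one] at h5
  have hinv : ∀ i, ρ g⁻¹ (b i) = (μ i)⁻¹ • b i := by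
    intro i
    have hne : μ i ≠ 0 := by rw [← norm_ne_zero_iff, h3 i]; exact one_ne_zero
    have : ρ g⁻¹ (ρ g (b i)) = b i := by
      rw [← Module.End.mul_apply, ← map_mul, inv_mul_cancel, map_one, Module.End.one_apply]
    rw [h1, map_smul] at this
    calc ρ g⁻¹ (b i) = (μ i)⁻¹ • (μ i • ρ g⁻¹ (b i)) := by
          rw [smul_smul, inv_mul_cancel₀ hne, one_smul]
      _ = (μ i)⁻¹ • b i := by rw [this]
  rw [Representation.character, trace_eq_sum_of_eigenbasis b (ρ g⁻¹) (fun i => (μ i)⁻¹) hinv, h5,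
    map_sum]
  refine Finset.sum_congr rfl fun i _ => ?_
  rw [Complex.inv_def, Complex.normSq_eq_norm_sq, h3 i]
  simp

theorem isIntegral_char (g : G) (hg : IsOfFinOrder g) : IsIntegral ℤ (ρ.character g) := by
  obtain ⟨b, μ, -, h2, -, h4⟩ := exists_eigen_data_rep ρ g hg
  have h5 := h4 1
  simp only [pow_one] at h5
  rw [h5]
  refine IsIntegral.sum _ fun i _ => ?_
  exact IsIntegral.of_pow hg.orderOf_pos (by rw [h2 i]; exact isIntegral_one)

end

end Cfsg.Agent.Helper80
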