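import Mathlib
import Cfsg.Prelude.Def_Characters
import Cfsg.Agent.Helper80.CharBasic

set_option autoImplicit false

namespace Cfsg.Agent.Helper80

open Module

universe u

section irr
variable {k : Type*} [Field k] {G : Type*} [Monoid G] {V : Type*} [AddCommGroup V] [Module k V]

/-- Concrete characterisation of irreducibility. -/
theorem isIrreducible_iff (ρ : Representation k G V) :
    ρ.IsIrreducible ↔ Nontrivial V ∧
      ∀ W : Submodule k V, (∀ g : G, ∀ v ∈ W, ρ g v ∈ W) → W = ⊥ ∨ W = ⊤ := by
  constructor
  · intro h
    refine ⟨?_, fun W hW => ?_⟩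
    · by_contra hV
      rw [not_nontrivial_iff_subsingleton] at hV
      have : (⊥ : Subrepresentation ρ) = ⊤ := by
        apply Subrepresentation.toSubmodule_injective
        exact Subsingleton.elim _ _
      exact h.toNontrivial.exists_pair_ne.elim fun a ⟨b, hab⟩ => hab (by
        rcases h.eq_bot_or_eq_top a with ha | ha <;> rcases h.eq_bot_or_eq_top b with hb | hb <;>
          simp [ha, hb, this])
    · rcases h.eq_bot_or_eq_top (⟨W, fun g v hv => hW g v hv⟩ : Subrepresentation ρ) with h1 | h1
      · left; exact congrArg Subrepresentation.toSubmodule h1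
      · right; exact congrArg Subrepresentation.toSubmodule h1
  · rintro ⟨hV, h⟩
    refine { exists_pair_ne := ⟨⊥, ⊤, ?_⟩, eq_bot_or_eq_top := fun W => ?_ }
    · intro hbt
      have : (⊥ : Submodule k V) = ⊤ := congrArg Subrepresentation.toSubmodule hbt
      exact bot_ne_top this
    · rcases h W.toSubmodule (fun g v hv => W.apply_mem_toSubmodule g hv) with h1 | h1
      · left; exact Subrepresentation.toSubmodule_injective h1
      · right; exact Subrepresentation.toSubmodule_injective h1

variable {W : Type*} [AddCommGroup W] [Module k W]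

/-- Irreducibility transfers along a linear equivalence intertwining the actions. -/
theorem isIrreducible_of_linearEquiv (ρ : Representation k G V) (σ : Representation k G W)
    (e : V ≃ₗ[k] W) (he : ∀ g v, e (ρ g v) = σ g (e v)) (h : ρ.IsIrreducible) :
    σ.IsIrreducible := by
  rw [isIrreducible_iff] at h ⊢
  obtain ⟨hV, h⟩ := h
  refine ⟨e.toEquiv.symm.nontrivial, fun U hU => ?_⟩
  rcases h (U.comap e.toLinearMap) (fun g v hv => by
    simp only [Submodule.mem_comap, LinearEquiv.coe_coe] at hv ⊢
    rw [he]; exact hU g _ hv) with h1 | h1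
  · left
    rw [eq_bot_iff]
    intro u hu
    have : e.symm u ∈ U.comap e.toLinearMap := by simpa using hu
    rw [h1] at this
    have h2 : e.symm u = 0 := by simpa using this
    simpa using congrArg e h2
  · right
    rw [eq_top_iff]
    intro u _
    have : e.symm u ∈ U.comap e.toLinearMap := by rw [h1]; trivial
    simpa using this

theorem isIrreducible_of_equiv {ρ : Representation k G V} {σ : Representation k G W}
    (φ : ρ.Equiv σ) (h : ρ.IsIrreducible) : σ.IsIrreducible :=
  isIrreducible_of_linearEquiv ρ σ φ.toLinearEquiv (fun g v => by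
    exact Representation.IntertwiningMap.isIntertwining _ _ φ.toIntertwiningMap g v) h

/-- Pulling back along a surjective monoid hom preserves and reflects irreducibility. -/
theorem isIrreducible_comp_iff {H : Type*} [Monoid H] (φ : H →* G) (hφ : Function.Surjective φ)
    (ρ : Representation k G V) :
    Representation.IsIrreducible (MonoidHom.comp ρ φ : Representation k H V) ↔
      ρ.IsIrreducible := by
  rw [isIrreducible_iff, isIrreducible_iff]
  refine and_congr Iff.rfl (forall_congr' fun U => ?_)
  constructor
  · intro h hU
    exact h fun x v hv => hU (φ x) v hv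
  · intro h hU
    refine h fun g v hv => ?_
    obtain ⟨x, rfl⟩ := hφ g
    exact hU x v hv

end irr



section bridge
variable {G : Type u} [Group G] {V : Type*} [AddCommGroup V] [Module ℂ V] [FiniteDimensional ℂ V]

/-- Transport of a representation to the coordinate space `Fin n → ℂ`. -/
noncomputable def coordRep (ρ : Representation ℂ G V) :
    Representation ℂ G (Fin (finrank ℂ V) → ℂ) :=
  (((Module.finBasis ℂ V).equivFun.conjAlgEquiv ℂ : Module.End ℂ V ≃ₐ[ℂ] _) : Module.End ℂ V →* _).comp ρ

theorem coordRep_apply (ρ : Representation ℂ G V) (g : G) (v : V) :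
    coordRep ρ g ((Module.finBasis ℂ V).equivFun v) = (Module.finBasis ℂ V).equivFun (ρ g v) := by
  simp [coordRep, LinearEquiv.conjAlgEquiv_apply]

theorem coordRep_character (ρ : Representation ℂ G V) : (coordRep ρ).character = ρ.character := by
  ext g
  simp only [Representation.character, coordRep, MonoidHom.comp_apply]
  exact LinearMap.trace_conj' (ρ g) (Module.finBasis ℂ V).equivFun


theorem coordRep_isIrreducible (ρ : Representation ℂ G V) (h : ρ.IsIrreducible) :
    (coordRep ρ).IsIrreducible :=
  isIrreducible_of_linearEquiv ρ (coordRep ρ) (Module.finBasis ℂ V).equivFun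
    (fun g v => (coordRep_apply ρ g v).symm) h

theorem isCharacter_of_rep (ρ : Representation ℂ G V) : Cfsg.IsCharacter G ρ.character :=
  ⟨_, coordRep ρ, coordRep_character ρ⟩

theorem isIrrCharacter_of_rep (ρ : Representation ℂ G V) (h : ρ.IsIrreducible) :
    Cfsg.IsIrrCharacter G ρ.character :=
  ⟨_, coordRep ρ, coordRep_isIrreducible ρ h, coordRep_character ρ⟩

theorem IsIrrCharacter.isCharacter {χ : G → ℂ} (h : Cfsg.IsIrrCharacter G χ) :
    Cfsg.IsCharacter G χ := by
  obtain ⟨n, ρ, -, h2⟩ := h
  exact ⟨n, ρ, h2⟩

end bridge

end Cfsg.Agent.Helper80
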