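import Mathlib
import Cfsg.Prelude.Def_Blocks
import Cfsg.Agent.Helper80.Irr

set_option autoImplicit false

namespace Cfsg.Agent.Helper80

open Module

universe u

section charlevel
variable {G : Type u} [Group G]

theorem IsCharacter.map_one {χ : G → ℂ} (h : Cfsg.IsCharacter G χ) : ∃ n : ℕ, χ 1 = n := by
  obtain ⟨n, ρ, rfl⟩ := h
  exact ⟨finrank ℂ (Fin n → ℂ), Representation.char_one ρ⟩

theorem IsCharacter.charDegree_cast {χ : G → ℂ} (h : Cfsg.IsCharacter G χ) :
    (Cfsg.charDegree χ : ℂ) = χ 1 := by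
  obtain ⟨n, hn⟩ := IsCharacter.map_one h
  rw [Cfsg.charDegree, hn]
  simp

theorem IsCharacter.conj_mem {χ : G → ℂ} (h : Cfsg.IsCharacter G χ) (g x : G) :
    χ (x * g * x⁻¹) = χ g := by
  obtain ⟨n, ρ, rfl⟩ := h
  exact Representation.char_conj ρ g x

theorem IsCharacter.isClassFunction {χ : G → ℂ} (h : Cfsg.IsCharacter G χ) :
    Cfsg.IsClassFunction G χ := fun g x => IsCharacter.conj_mem h g x

theorem IsCharacter.eq_of_isConj {χ : G → ℂ} (h : Cfsg.IsCharacter G χ) {g g' : G}
    (hc : IsConj g g') : χ g = χ g' := by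
  obtain ⟨c, hc⟩ := isConj_iff.mp hc
  rw [← hc, IsCharacter.conj_mem h]

theorem IsIrrCharacter.map_one_ne_zero {χ : G → ℂ} (h : Cfsg.IsIrrCharacter G χ) : χ 1 ≠ 0 := by
  obtain ⟨n, ρ, hirr, rfl⟩ := h
  rw [Representation.char_one]
  have : Nontrivial (Fin n → ℂ) := ((isIrreducible_iff ρ).mp hirr).1
  exact_mod_cast (Module.finrank_pos (R := ℂ) (M := Fin n → ℂ)).ne'

theorem IsIrrCharacter.charDegree_pos {χ : G → ℂ} (h : Cfsg.IsIrrCharacter G χ) :
    0 < Cfsg.charDegree χ := by
  have h1 := IsCharacter.charDegree_cast (IsIrrCharacter.isCharacter h)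
  have h2 := IsIrrCharacter.map_one_ne_zero h
  rcases Nat.eq_zero_or_pos (Cfsg.charDegree χ) with h0 | h0
  · rw [h0] at h1; exact absurd h1.symm (by simpa using h2)
  · exact h0

variable [Finite G]

theorem IsCharacter.norm_le {χ : G → ℂ} (h : Cfsg.IsCharacter G χ) (g : G) :
    ‖χ g‖ ≤ (Cfsg.charDegree χ : ℝ) := by
  have hd := IsCharacter.charDegree_cast h
  obtain ⟨n, ρ, rfl⟩ := h
  have := norm_char_le ρ g (isOfFinOrder_of_finite g)
  rw [Representation.char_one] at hd
  have hd' : Cfsg.charDegree ρ.character = finrank ℂ (Fin n → ℂ) := by exact_mod_cast hd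
  rw [hd']; exact this

theorem IsCharacter.map_inv {χ : G → ℂ} (h : Cfsg.IsCharacter G χ) (g : G) :
    χ g⁻¹ = (starRingEnd ℂ) (χ g) := by
  obtain ⟨n, ρ, rfl⟩ := h
  exact char_inv ρ g (isOfFinOrder_of_finite g)

theorem IsCharacter.isIntegral {χ : G → ℂ} (h : Cfsg.IsCharacter G χ) (g : G) :
    IsIntegral ℤ (χ g) := by
  obtain ⟨n, ρ, rfl⟩ := h
  exact isIntegral_char ρ g (isOfFinOrder_of_finite g)

/-- The kernel of a character, as a subgroup. -/
noncomputable def kerChar (χ : G → ℂ) (h : Cfsg.IsCharacter G χ) : Subgroup G :=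
  MonoidHom.ker (Classical.choose (Classical.choose_spec h))

instance kerChar_normal (χ : G → ℂ) (h : Cfsg.IsCharacter G χ) : (kerChar χ h).Normal :=
  MonoidHom.normal_ker _

theorem mem_kerChar {χ : G → ℂ} (h : Cfsg.IsCharacter G χ) (g : G) :
    g ∈ kerChar χ h ↔ χ g = χ 1 := by
  have hspec := Classical.choose_spec (Classical.choose_spec h)
  set ρ := Classical.choose (Classical.choose_spec h) with hρ
  rw [kerChar, MonoidHom.mem_ker, ← hρ]
  conv_rhs => rw [← hspec]
  rw [Representation.char_one, char_eq_finrank_iff ρ g (isOfFinOrder_of_finite g)]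

/-- Multiplying by an element of the kernel does not change the character value. -/
theorem IsCharacter.mul_mem_ker {χ : G → ℂ} (h : Cfsg.IsCharacter G χ) (g k : G)
    (hk : χ k = χ 1) : χ (g * k) = χ g := by
  obtain ⟨n, ρ, rfl⟩ := h
  rw [Representation.char_one, char_eq_finrank_iff ρ k (isOfFinOrder_of_finite k)] at hk
  simp only [Representation.character, map_mul, hk, mul_one]

end charlevel

end Cfsg.Agent.Helper80
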