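import Mathlib
import Cfsg.Prelude.Def_Blocks
import Cfsg.Agent.Helper80.CharLevel

set_option autoImplicit false

namespace Cfsg.Agent.Helper80

open Module

section schur
variable {G : Type*} [Group G] {V : Type*} [AddCommGroup V] [Module ℂ V] [FiniteDimensional ℂ V]
  (ρ : Representation ℂ G V)

/-- Schur's lemma: an endomorphism commuting with an irreducible complex representation is a
scalar. -/
theorem exists_scalar_of_commute (hirr : ρ.IsIrreducible) (T : Module.End ℂ V)
    (hT : ∀ g, T * ρ g = ρ g * T) : ∃ c : ℂ, T = c • (1 : Module.End ℂ V) := by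
  haveI := hirr
  let f : Representation.IntertwiningMap ρ ρ := ⟨T, fun g => hT g⟩
  obtain ⟨c, hc⟩ :=
    (Representation.IsIrreducible.algebraMap_intertwiningMap_bijective_of_isAlgClosed
      (ρ := ρ)).2 f
  refine ⟨c, ?_⟩
  have : f.toLinearMap = (algebraMap ℂ (Representation.IntertwiningMap ρ ρ) c).toLinearMap := by
    rw [hc]
  rw [show f.toLinearMap = T from rfl] at this
  rw [this]
  ext v
  simp

end schur


section classes
variable {G : Type*} [Group G] [Fintype G]

open Classical in
/-- The conjugacy class of `g` as a finset. -/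
noncomputable def classFinset (g : G) : Finset G := Finset.univ.filter (fun y => IsConj g y)

theorem mem_classFinset {g y : G} : y ∈ classFinset g ↔ IsConj g y := by
  classical
  simp [classFinset]

theorem card_classFinset (g : G) :
    (classFinset g).card = (Subgroup.centralizer ({g} : Set G)).index := by
  classical
  have h1 : (Subgroup.centralizer ({g} : Set G)).index =
      (MulAction.stabilizer (ConjAct G) g).index := by
    rw [Subgroup.centralizer_eq_comap_stabilizer]
    exact Subgroup.index_comap_of_surjective _ ConjAct.toConjAct.surjective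
  rw [h1, MulAction.index_stabilizer, ConjAct.orbit_eq_carrier_conjClasses,
    ← Set.ncard_coe_finset]
  congr 1
  ext y
  rw [Finset.mem_coe, mem_classFinset, ConjClasses.mem_carrier_iff_mk_eq,
    ConjClasses.mk_eq_mk_iff_isConj, isConj_comm]

theorem sum_classFinset {M : Type*} [AddCommMonoid M] (a : G → M)
    (ha : ∀ g x : G, a (x * g * x⁻¹) = a g) (g : G) :
    ∑ y ∈ classFinset g, a y = (classFinset g).card • a g := by
  rw [← Finset.sum_const]
  refine Finset.sum_congr rfl fun y hy => ?_
  obtain ⟨c, hc⟩ := isConj_iff.mp (mem_classFinset.mp hy)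
  rw [← hc, ha]

/-- Sum of a class function over the group, organised by conjugacy classes. -/
theorem sum_eq_sum_classes [Fintype (ConjClasses G)] {M : Type*} [AddCommMonoid M] (a : G → M)
    (ha : ∀ g x : G, a (x * g * x⁻¹) = a g) :
    ∑ g : G, a g =
      ∑ C : ConjClasses G, (classFinset (Quotient.out C)).card • a (Quotient.out C) := by
  classical
  rw [← Finset.sum_fiberwise Finset.univ (ConjClasses.mk) a]
  refine Finset.sum_congr rfl fun C _ => ?_
  have hset : (Finset.univ.filter fun g : G => ConjClasses.mk g = C) =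
      classFinset (Quotient.out C) := by
    ext y
    simp only [Finset.mem_filter, Finset.mem_univ, true_and, mem_classFinset]
    rw [← ConjClasses.mk_eq_mk_iff_isConj]
    have : ConjClasses.mk (Quotient.out C) = C := Quotient.out_eq C
    rw [this, eq_comm]
  rw [hset, sum_classFinset a ha]

end classes


section classSum
variable {G : Type*} [Group G] [Fintype G] {V : Type*} [AddCommGroup V] [Module ℂ V]
  [FiniteDimensional ℂ V] (ρ : Representation ℂ G V)

/-- The class sum of `g` acting through `ρ`. -/
noncomputable def classSum (g : G) : Module.End ℂ V := ∑ y ∈ classFinset g, ρ y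

theorem classSum_commute (g h : G) : classSum ρ g * ρ h = ρ h * classSum ρ g := by
  classical
  unfold classSum
  rw [Finset.sum_mul, Finset.mul_sum]
  refine Finset.sum_bij' (fun y _ => h⁻¹ * y * h) (fun y _ => h * y * h⁻¹) ?_ ?_ ?_ ?_ ?_
  · intro y hy
    rw [mem_classFinset] at hy ⊢
    exact hy.trans (isConj_iff.mpr ⟨h⁻¹, by simp⟩)
  · intro y hy
    rw [mem_classFinset] at hy ⊢
    exact hy.trans (isConj_iff.mpr ⟨h, rfl⟩)
  · intro y _; simp [mul_assoc]
  · intro y _; simp [mul_assoc]
  · intro y _
    rw [← map_mul, ← map_mul]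
    congr 1
    simp [mul_assoc]

theorem trace_classSum (g : G) :
    LinearMap.trace ℂ V (classSum ρ g) = ((classFinset g).card : ℂ) * ρ.character g := by
  unfold classSum
  rw [map_sum]
  have := sum_classFinset (fun y => ρ.character y) (fun g x => Representation.char_conj ρ g x) g
  simp only [Representation.character] at this
  rw [this, nsmul_eq_mul]
  rfl

/-- The class sum is integral over `ℤ` as an endomorphism: it is the image of an element of the
integral group ring. -/
theorem isIntegral_classSum (g : G) : IsIntegral ℤ (classSum ρ g) := by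
  classical
  let F : MonoidAlgebra ℤ G →ₐ[ℤ] Module.End ℂ V := MonoidAlgebra.lift ℤ (Module.End ℂ V) G ρ
  have hF : F (∑ y ∈ classFinset g, MonoidAlgebra.of ℤ G y) = classSum ρ g := by
    rw [map_sum]
    unfold classSum
    refine Finset.sum_congr rfl fun y _ => ?_
    simp [F]
  rw [← hF]
  exact IsIntegral.map F (IsIntegral.of_finite ℤ _)

theorem classSum_eq_smul (hirr : ρ.IsIrreducible) (g : G) :
    classSum ρ g = ((((Subgroup.centralizer ({g} : Set G)).index : ℂ) * ρ.character g /
      (finrank ℂ V : ℂ))) • (1 : Module.End ℂ V) := by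
  obtain ⟨c, hc⟩ := exists_scalar_of_commute ρ hirr (classSum ρ g) (classSum_commute ρ g)
  have hV : Nontrivial V := ((isIrreducible_iff ρ).mp hirr).1
  have hn : (finrank ℂ V : ℂ) ≠ 0 := by exact_mod_cast (Module.finrank_pos (R := ℂ) (M := V)).ne'
  have htr := trace_classSum ρ g
  rw [hc, map_smul, LinearMap.trace_one, smul_eq_mul, card_classFinset] at htr
  rw [hc]
  congr 1
  field_simp
  exact htr

/-- `|cl(g)| χ(g) / χ(1)` is an algebraic integer (irreducible `ρ`). -/
theorem isIntegral_centralChar_rep (hirr : ρ.IsIrreducible) (g : G) :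
    IsIntegral ℤ ((((Subgroup.centralizer ({g} : Set G)).index : ℂ) * ρ.character g /
      (finrank ℂ V : ℂ))) := by
  have hV : Nontrivial V := ((isIrreducible_iff ρ).mp hirr).1
  have h := isIntegral_classSum ρ g
  rw [classSum_eq_smul ρ hirr g, ← Algebra.algebraMap_eq_smul_one] at h
  exact (isIntegral_algebraMap_iff (FaithfulSMul.algebraMap_injective ℂ (Module.End ℂ V))).mp h

end classSum


/-- A rational number (given as a quotient of naturals in `ℂ`) that is an algebraic integer forces
divisibility. -/
theorem dvd_of_isIntegral_div {a b : ℕ} (hb : b ≠ 0) (h : IsIntegral ℤ ((a : ℂ) / (b : ℂ))) :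
    b ∣ a := by
  have h1 : ((a : ℂ) / (b : ℂ)) = algebraMap ℚ ℂ ((a : ℚ) / (b : ℚ)) := by simp
  rw [h1, isIntegral_algebraMap_iff (algebraMap ℚ ℂ).injective] at h
  obtain ⟨m, hm⟩ := IsIntegrallyClosed.algebraMap_eq_of_integral h
  have hbq : (b : ℚ) ≠ 0 := by exact_mod_cast hb
  have h2 : (a : ℚ) = (m : ℚ) * (b : ℚ) := by
    have : (m : ℚ) = (a : ℚ) / (b : ℚ) := by simpa using hm
    rw [this]; field_simp
  have h3 : (a : ℤ) = m * (b : ℤ) := by exact_mod_cast h2
  have h4 : (b : ℤ) ∣ (a : ℤ) := ⟨m, by rw [h3, mul_comm]⟩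
  exact_mod_cast h4


section degree
variable {G : Type*} [Group G] [Fintype G] {V : Type*} [AddCommGroup V] [Module ℂ V]
  [FiniteDimensional ℂ V] (ρ : Representation ℂ G V)

/-- First orthogonality, norm form: `∑ χ(g) χ(g⁻¹) = |G|` for irreducible `ρ`. -/
theorem sum_char_mul_char_inv (hirr : ρ.IsIrreducible) :
    ∑ g : G, ρ.character g * ρ.character g⁻¹ = (Fintype.card G : ℂ) := by
  haveI := hirr
  have hne : (Nat.card G : ℂ) ≠ 0 := by
    rw [Nat.card_eq_fintype_card]; exact_mod_cast Fintype.card_ne_zero
  haveI : Invertible (Nat.card G : ℂ) := invertibleOfNonzero hne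
  have h := Representation.char_orthonormal ρ ρ
  rw [if_pos ⟨Representation.Equiv.refl ρ⟩] at h
  rw [Nat.card_eq_fintype_card] at h hne
  field_simp at h
  simpa using h

/-- The degree of an irreducible complex representation divides the group order. -/
theorem finrank_dvd_card (hirr : ρ.IsIrreducible) : finrank ℂ V ∣ Fintype.card G := by
  classical
  have hV : Nontrivial V := ((isIrreducible_iff ρ).mp hirr).1
  have hn0 : finrank ℂ V ≠ 0 := (Module.finrank_pos (R := ℂ) (M := V)).ne'
  have hn : (finrank ℂ V : ℂ) ≠ 0 := by exact_mod_cast hn0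
  apply dvd_of_isIntegral_div hn0
  have h1 := sum_char_mul_char_inv ρ hirr
  have h2 : ((Fintype.card G : ℂ)) / (finrank ℂ V : ℂ) =
      ∑ g : G, ρ.character g * ρ.character g⁻¹ / (finrank ℂ V : ℂ) := by
    rw [← Finset.sum_div, h1]
  rw [h2, sum_eq_sum_classes (fun g => ρ.character g * ρ.character g⁻¹ / (finrank ℂ V : ℂ))
    (fun g x => by
      rw [Representation.char_conj]
      have : (x * g * x⁻¹)⁻¹ = x * g⁻¹ * x⁻¹ := by group
      rw [this, Representation.char_conj])]
  refine IsIntegral.sum _ fun C _ => ?_
  rw [nsmul_eq_mul, card_classFinset]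
  have h3 := isIntegral_centralChar_rep ρ hirr (Quotient.out C)
  have h4 := isIntegral_char ρ (Quotient.out C)⁻¹ (isOfFinOrder_of_finite _)
  have h5 := h3.mul h4
  convert h5 using 1
  ring

end degree

end Cfsg.Agent.Helper80
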