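import Mathlib
import Cfsg.Prelude.Def_Blocks
import Cfsg.Agent.Helper80.CharLevel

set_option autoImplicit false

namespace Cfsg.Agent.Helper80

open Module

universe u v

section pullback
variable {G : Type u} [Group G] {H : Type v} [Group H]

/-- Characters pull back along any group homomorphism (e.g. restriction to a subgroup,
inflation from a quotient). -/
theorem IsCharacter.comp_hom {ψ : H → ℂ} (h : Cfsg.IsCharacter H ψ) (φ : G →* H) :
    Cfsg.IsCharacter G (fun g => ψ (φ g)) := by
  obtain ⟨n, ρ, rfl⟩ := h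
  exact ⟨n, (MonoidHom.comp ρ φ : Representation ℂ G (Fin n → ℂ)), rfl⟩

/-- Irreducible characters pull back to irreducible characters along surjective homs. -/
theorem IsIrrCharacter.comp_surjective {ψ : H → ℂ} (h : Cfsg.IsIrrCharacter H ψ) (φ : G →* H)
    (hφ : Function.Surjective φ) : Cfsg.IsIrrCharacter G (fun g => ψ (φ g)) := by
  obtain ⟨n, ρ, hirr, rfl⟩ := h
  exact ⟨n, (MonoidHom.comp ρ φ : Representation ℂ G (Fin n → ℂ)),
    (isIrreducible_comp_iff φ hφ ρ).mpr hirr, rfl⟩

/-- Descent of a monoid hom from `G` along a surjective hom `φ : G →* H` whose kernel acts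
trivially. -/
noncomputable def descend {M : Type*} [Monoid M] (φ : G →* H) (hφ : Function.Surjective φ)
    (ρ : G →* M) (hker : ∀ g, φ g = 1 → ρ g = 1) : H →* M where
  toFun h := ρ (Function.surjInv hφ h)
  map_one' := hker _ (Function.surjInv_eq hφ 1)
  map_mul' a b := by
    have key : ∀ x y : G, φ x = φ y → ρ x = ρ y := by
      intro x y hxy
      have h1 : ρ (x⁻¹ * y) = 1 := hker _ (by rw [map_mul, map_inv, hxy, inv_mul_cancel])
      calc ρ x = ρ x * ρ (x⁻¹ * y) := by rw [h1, mul_one]
        _ = ρ y := by rw [← map_mul, mul_inv_cancel_left]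
    rw [← map_mul]
    apply key
    rw [map_mul, Function.surjInv_eq hφ, Function.surjInv_eq hφ, Function.surjInv_eq hφ]

theorem descend_apply {M : Type*} [Monoid M] (φ : G →* H) (hφ : Function.Surjective φ)
    (ρ : G →* M) (hker : ∀ g, φ g = 1 → ρ g = 1) (g : G) :
    descend φ hφ ρ hker (φ g) = ρ g := by
  have key : ∀ x y : G, φ x = φ y → ρ x = ρ y := by
    intro x y hxy
    have h1 : ρ (x⁻¹ * y) = 1 := hker _ (by rw [map_mul, map_inv, hxy, inv_mul_cancel])
    calc ρ x = ρ x * ρ (x⁻¹ * y) := by rw [h1, mul_one]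
      _ = ρ y := by rw [← map_mul, mul_inv_cancel_left]
  exact key _ _ (Function.surjInv_eq hφ (φ g))

theorem descend_comp {M : Type*} [Monoid M] (φ : G →* H) (hφ : Function.Surjective φ)
    (ρ : G →* M) (hker : ∀ g, φ g = 1 → ρ g = 1) :
    (descend φ hφ ρ hker).comp φ = ρ := by
  ext g; exact descend_apply φ hφ ρ hker g

variable [Finite G]

/-- Deflation: an irreducible character of `G` whose kernel contains `ker φ`, `φ : G →* H`
surjective, is the pullback of an irreducible character of `H`. -/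
theorem IsIrrCharacter.exists_descend {χ : G → ℂ} (h : Cfsg.IsIrrCharacter G χ) (φ : G →* H)
    (hφ : Function.Surjective φ) (hker : ∀ g, φ g = 1 → χ g = χ 1) :
    ∃ ψ : H → ℂ, Cfsg.IsIrrCharacter H ψ ∧ ∀ g, χ g = ψ (φ g) := by
  obtain ⟨n, ρ, hirr, rfl⟩ := h
  have hker' : ∀ g, φ g = 1 → ρ g = 1 := by
    intro g hg
    have := hker g hg
    rwa [Representation.char_one, char_eq_finrank_iff ρ g (isOfFinOrder_of_finite g)] at this
  set σ : Representation ℂ H (Fin n → ℂ) := descend φ hφ ρ hker' with hσ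
  have hcomp : (MonoidHom.comp σ φ : Representation ℂ G (Fin n → ℂ)) = ρ :=
    descend_comp φ hφ ρ hker'
  refine ⟨σ.character, ⟨n, σ, ?_, rfl⟩, fun g => ?_⟩
  · rw [← isIrreducible_comp_iff φ hφ σ, hcomp]; exact hirr
  · simp only [Representation.character]
    rw [hσ, descend_apply]

/-- Same for characters. -/
theorem IsCharacter.exists_descend {χ : G → ℂ} (h : Cfsg.IsCharacter G χ) (φ : G →* H)
    (hφ : Function.Surjective φ) (hker : ∀ g, φ g = 1 → χ g = χ 1) :
    ∃ ψ : H → ℂ, Cfsg.IsCharacter H ψ ∧ ∀ g, χ g = ψ (φ g) := by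
  obtain ⟨n, ρ, rfl⟩ := h
  have hker' : ∀ g, φ g = 1 → ρ g = 1 := by
    intro g hg
    have := hker g hg
    rwa [Representation.char_one, char_eq_finrank_iff ρ g (isOfFinOrder_of_finite g)] at this
  set σ : Representation ℂ H (Fin n → ℂ) := descend φ hφ ρ hker' with hσ
  refine ⟨σ.character, ⟨n, σ, rfl⟩, fun g => ?_⟩
  simp only [Representation.character]
  rw [hσ, descend_apply]

/-- If the pullback of `ψ` along a surjective hom is an irreducible character, so is `ψ`. -/
theorem IsIrrCharacter.of_comp_surjective {ψ : H → ℂ} (φ : G →* H)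
    (hφ : Function.Surjective φ) (h : Cfsg.IsIrrCharacter G (fun g => ψ (φ g))) :
    Cfsg.IsIrrCharacter H ψ := by
  obtain ⟨ψ', hψ', hψ⟩ := IsIrrCharacter.exists_descend h φ hφ (fun g hg => by
    simp only [hg, map_one])
  have : ψ = ψ' := by
    ext x
    obtain ⟨g, rfl⟩ := hφ x
    exact hψ g
  rw [this]; exact hψ'


/-- The bijection between irreducible characters of `H` and the irreducible characters of `G`
whose kernel contains `ker φ`, for a surjective `φ : G →* H`. -/
noncomputable def irrEquivOfSurjective (φ : G →* H) (hφ : Function.Surjective φ) :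
    Cfsg.IrrCharacter H ≃ {χ : Cfsg.IrrCharacter G // ∀ g, φ g = 1 → χ.1 g = χ.1 1} where
  toFun ψ := ⟨⟨fun g => ψ.1 (φ g), IsIrrCharacter.comp_surjective ψ.2 φ hφ⟩,
    fun g hg => by simp only [hg, map_one]⟩
  invFun χ := ⟨Classical.choose (IsIrrCharacter.exists_descend χ.1.2 φ hφ χ.2),
    (Classical.choose_spec (IsIrrCharacter.exists_descend χ.1.2 φ hφ χ.2)).1⟩
  left_inv ψ := by
    apply Subtype.ext
    funext x
    obtain ⟨g, rfl⟩ := hφ x
    exact ((Classical.choose_spec (IsIrrCharacter.exists_descend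
      (IsIrrCharacter.comp_surjective ψ.2 φ hφ) φ hφ
      (fun g hg => by simp only [hg, map_one]))).2 g).symm
  right_inv χ := by
    apply Subtype.ext
    apply Subtype.ext
    funext g
    exact ((Classical.choose_spec (IsIrrCharacter.exists_descend χ.1.2 φ hφ χ.2)).2 g).symm

@[simp] theorem irrEquivOfSurjective_apply (φ : G →* H) (hφ : Function.Surjective φ)
    (ψ : Cfsg.IrrCharacter H) (g : G) :
    ((irrEquivOfSurjective φ hφ ψ).1 : G → ℂ) g = ψ.1 (φ g) := rfl

theorem irrEquivOfSurjective_symm_apply (φ : G →* H) (hφ : Function.Surjective φ)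
    (χ : {χ : Cfsg.IrrCharacter G // ∀ g, φ g = 1 → χ.1 g = χ.1 1}) (g : G) :
    (((irrEquivOfSurjective φ hφ).symm χ : Cfsg.IrrCharacter H) : H → ℂ) (φ g) = χ.1.1 g :=
  ((Classical.choose_spec (IsIrrCharacter.exists_descend χ.1.2 φ hφ χ.2)).2 g).symm

/-- Irreducible characters of the quotient `G ⧸ N` correspond to irreducible characters of `G`
with `N` in their kernel. -/
noncomputable def irrQuotientEquiv (N : Subgroup G) [N.Normal] :
    Cfsg.IrrCharacter (G ⧸ N) ≃ {χ : Cfsg.IrrCharacter G // ∀ n ∈ N, χ.1 n = χ.1 1} :=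
  (irrEquivOfSurjective (QuotientGroup.mk' N) (QuotientGroup.mk'_surjective N)).trans
    (Equiv.subtypeEquivRight fun χ => by
      constructor
      · intro h n hn
        exact h n ((QuotientGroup.eq_one_iff n).mpr hn)
      · intro h g hg
        exact h g ((QuotientGroup.eq_one_iff g).mp hg))

@[simp] theorem irrQuotientEquiv_apply (N : Subgroup G) [N.Normal]
    (ψ : Cfsg.IrrCharacter (G ⧸ N)) (g : G) :
    ((irrQuotientEquiv N ψ).1 : G → ℂ) g = ψ.1 (g : G ⧸ N) := rfl

theorem irrQuotientEquiv_symm_apply (N : Subgroup G) [N.Normal]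
    (χ : {χ : Cfsg.IrrCharacter G // ∀ n ∈ N, χ.1 n = χ.1 1}) (g : G) :
    (((irrQuotientEquiv N).symm χ : Cfsg.IrrCharacter (G ⧸ N)) : G ⧸ N → ℂ) (g : G ⧸ N) =
      χ.1.1 g := by
  have h := (irrQuotientEquiv N).apply_symm_apply χ
  have h2 := irrQuotientEquiv_apply N ((irrQuotientEquiv N).symm χ) g
  rw [h] at h2
  exact h2.symm

/-- Transport of irreducible characters along a group isomorphism. -/
noncomputable def irrCongr (e : G ≃* H) : Cfsg.IrrCharacter G ≃ Cfsg.IrrCharacter H where
  toFun χ := ⟨fun h => χ.1 (e.symm h),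
    IsIrrCharacter.comp_surjective χ.2 e.symm.toMonoidHom e.symm.surjective⟩
  invFun ψ := ⟨fun g => ψ.1 (e g),
    IsIrrCharacter.comp_surjective ψ.2 e.toMonoidHom e.surjective⟩
  left_inv χ := by
    apply Subtype.ext; funext g; simp
  right_inv ψ := by
    apply Subtype.ext; funext h; simp

omit [Finite G] in
@[simp] theorem irrCongr_apply (e : G ≃* H) (χ : Cfsg.IrrCharacter G) (h : H) :
    ((irrCongr e χ : Cfsg.IrrCharacter H) : H → ℂ) h = χ.1 (e.symm h) := rfl

end pullback

end Cfsg.Agent.Helper80
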