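import Mathlib
import Cfsg.Prelude.Def_Blocks
import Cfsg.Agent.Helper80.Integrality
import Cfsg.Agent.Helper80.Pullback

set_option autoImplicit false

namespace Cfsg.Agent.Helper80

open Module

universe u

section charlevel
variable {G : Type u} [Group G] [Finite G]

theorem IsIrrCharacter.charDegree_dvd_card {χ : G → ℂ} (h : Cfsg.IsIrrCharacter G χ) :
    Cfsg.charDegree χ ∣ Nat.card G := by
  cases nonempty_fintype G
  have hd := IsCharacter.charDegree_cast (IsIrrCharacter.isCharacter h)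
  obtain ⟨n, ρ, hirr, rfl⟩ := h
  rw [Representation.char_one] at hd
  have hd' : Cfsg.charDegree ρ.character = finrank ℂ (Fin n → ℂ) := by exact_mod_cast hd
  rw [hd', Nat.card_eq_fintype_card]
  exact finrank_dvd_card ρ hirr

theorem IsIrrCharacter.isIntegral_centralChar {χ : G → ℂ} (h : Cfsg.IsIrrCharacter G χ) (g : G) :
    IsIntegral ℤ (Cfsg.centralChar χ g) := by
  cases nonempty_fintype G
  obtain ⟨n, ρ, hirr, rfl⟩ := h
  rw [Cfsg.centralChar, Representation.char_one]
  exact isIntegral_centralChar_rep ρ hirr g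

/-- `∑ |χ(g)|² = |G|` for irreducible `χ`. -/
theorem IsIrrCharacter.sum_mul_conj [Fintype G] {χ : G → ℂ} (h : Cfsg.IsIrrCharacter G χ) :
    ∑ g : G, χ g * (starRingEnd ℂ) (χ g) = (Fintype.card G : ℂ) := by
  have hc := IsIrrCharacter.isCharacter h
  obtain ⟨n, ρ, hirr, rfl⟩ := h
  rw [← sum_char_mul_char_inv ρ hirr]
  refine Finset.sum_congr rfl fun g _ => ?_
  rw [IsCharacter.map_inv hc]

theorem IsIrrCharacter.sum_normSq [Fintype G] {χ : G → ℂ} (h : Cfsg.IsIrrCharacter G χ) :
    ∑ g : G, ‖χ g‖ ^ 2 = (Fintype.card G : ℝ) := by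
  have h1 := IsIrrCharacter.sum_mul_conj h
  have h2 : ∀ g : G, χ g * (starRingEnd ℂ) (χ g) = ((‖χ g‖ ^ 2 : ℝ) : ℂ) := fun g => by
    rw [Complex.mul_conj, Complex.normSq_eq_norm_sq]
  simp_rw [h2] at h1
  exact_mod_cast h1

/-- The number of elements in the kernel times the degree divides the group order: the codegree
`|G| / (|ker χ| χ(1))` is an honest quotient. -/
theorem IsIrrCharacter.card_ker_mul_charDegree_dvd {χ : G → ℂ} (h : Cfsg.IsIrrCharacter G χ) :
    Nat.card {g : G // χ g = χ 1} * Cfsg.charDegree χ ∣ Nat.card G := by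
  have hc := IsIrrCharacter.isCharacter h
  set K := kerChar χ hc with hK
  have hcardK : Nat.card {g : G // χ g = χ 1} = Nat.card K := by
    apply Nat.card_congr
    exact Equiv.subtypeEquivRight fun g => (mem_kerChar hc g).symm
  obtain ⟨ψ, hψ, hψχ⟩ := IsIrrCharacter.exists_descend h (QuotientGroup.mk' K)
    (QuotientGroup.mk'_surjective K) (fun g hg => by
      rw [← mem_kerChar hc]; exact (QuotientGroup.eq_one_iff g).mp hg)
  have hdeg : Cfsg.charDegree ψ = Cfsg.charDegree χ := by
    have := hψχ 1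
    rw [map_one] at this
    rw [Cfsg.charDegree, Cfsg.charDegree, this]
  have h1 := IsIrrCharacter.charDegree_dvd_card hψ
  rw [hdeg, ← Subgroup.index_eq_card] at h1
  rw [hcardK, ← Subgroup.card_mul_index K]
  exact Nat.mul_dvd_mul_left _ h1

end charlevel


section center
variable {G : Type u} [Group G] [Finite G]

/-- A central element acts as a scalar in an irreducible representation, so `|χ(z)| = χ(1)`. -/
theorem IsIrrCharacter.norm_eq_of_mem_center {χ : G → ℂ} (h : Cfsg.IsIrrCharacter G χ) {z : G}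
    (hz : z ∈ Subgroup.center G) : ‖χ z‖ = (Cfsg.charDegree χ : ℝ) := by
  have hd := IsCharacter.charDegree_cast (IsIrrCharacter.isCharacter h)
  obtain ⟨n, ρ, hirr, rfl⟩ := h
  rw [Representation.char_one] at hd
  have hd' : Cfsg.charDegree ρ.character = finrank ℂ (Fin n → ℂ) := by exact_mod_cast hd
  rw [hd', norm_char_eq_finrank_iff ρ z (isOfFinOrder_of_finite z)]
  refine exists_scalar_of_commute ρ hirr (ρ z) fun g => ?_
  rw [← map_mul, ← map_mul, Subgroup.mem_center_iff.mp hz g]

/-- `χ(1)² |Z(G)| ≤ |G|`. -/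
theorem IsIrrCharacter.charDegree_sq_mul_card_center_le {χ : G → ℂ}
    (h : Cfsg.IsIrrCharacter G χ) :
    Cfsg.charDegree χ ^ 2 * Nat.card (Subgroup.center G) ≤ Nat.card G := by
  classical
  cases nonempty_fintype G
  have h1 := IsIrrCharacter.sum_normSq h
  have h2 : ∑ g ∈ (Finset.univ.filter fun g : G => g ∈ Subgroup.center G), ‖χ g‖ ^ 2 ≤
      ∑ g : G, ‖χ g‖ ^ 2 :=
    Finset.sum_le_sum_of_subset_of_nonneg (Finset.filter_subset _ _) (fun _ _ _ => by positivity)
  have h3 : ∑ g ∈ (Finset.univ.filter fun g : G => g ∈ Subgroup.center G), ‖χ g‖ ^ 2 =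
      ((Finset.univ.filter fun g : G => g ∈ Subgroup.center G).card : ℝ) *
        (Cfsg.charDegree χ : ℝ) ^ 2 := by
    rw [← nsmul_eq_mul, ← Finset.sum_const]
    refine Finset.sum_congr rfl fun g hg => ?_
    rw [IsIrrCharacter.norm_eq_of_mem_center h (Finset.mem_filter.mp hg).2]
  have h4 : (Finset.univ.filter fun g : G => g ∈ Subgroup.center G).card =
      Nat.card (Subgroup.center G) := by
    rw [Nat.card_eq_fintype_card, Fintype.card_subtype]
  rw [h3, h1, h4] at h2
  rw [Nat.card_eq_fintype_card (α := G)]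
  have h5 : ((Cfsg.charDegree χ ^ 2 * Nat.card (Subgroup.center G) : ℕ) : ℝ) ≤
      (Fintype.card G : ℝ) := by
    push_cast; linarith
  exact_mod_cast h5

/-- `χ(1)² ≤ [G : Z(G)]`. -/
theorem IsIrrCharacter.charDegree_sq_le_index_center {χ : G → ℂ}
    (h : Cfsg.IsIrrCharacter G χ) :
    Cfsg.charDegree χ ^ 2 ≤ (Subgroup.center G).index := by
  have h1 := IsIrrCharacter.charDegree_sq_mul_card_center_le h
  rw [← Subgroup.card_mul_index (Subgroup.center G), mul_comm] at h1
  exact Nat.le_of_mul_le_mul_left h1 Nat.card_pos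

theorem IsIrrCharacter.charDegree_sq_le_card {χ : G → ℂ} (h : Cfsg.IsIrrCharacter G χ) :
    Cfsg.charDegree χ ^ 2 ≤ Nat.card G :=
  (IsIrrCharacter.charDegree_sq_le_index_center h).trans
    (Nat.le_of_dvd Nat.card_pos (Subgroup.index_dvd_card _))

end center

end Cfsg.Agent.Helper80
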