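import Mathlib
import Cfsg.Prelude.Def_Blocks
import Cfsg.Agent.Helper80.Degree

set_option autoImplicit false

namespace Cfsg.Agent.Helper80

open Module

universe u

section linear
variable {G : Type u} [Group G]

/-- An endomorphism of a one-dimensional space is multiplication by its trace. -/
theorem end_eq_trace_smul_of_finrank_eq_one {V : Type*} [AddCommGroup V] [Module ℂ V]
    [FiniteDimensional ℂ V] (hV : finrank ℂ V = 1) (f : Module.End ℂ V) :
    f = (LinearMap.trace ℂ V f) • (1 : Module.End ℂ V) := by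
  obtain ⟨v, hv, hspan⟩ := finrank_eq_one_iff'.mp hV
  obtain ⟨c, hc⟩ := hspan (f v)
  have hf : f = c • (1 : Module.End ℂ V) := by
    ext w
    obtain ⟨d, rfl⟩ := hspan w
    simp only [map_smul, LinearMap.smul_apply, Module.End.one_apply]
    rw [← hc, smul_comm]
  have : LinearMap.trace ℂ V f = c := by
    rw [hf, map_smul, LinearMap.trace_one, hV]; simp
  rw [this]; exact hf

/-- A homomorphism to `ℂˣ` is an irreducible (linear) character. -/
theorem isIrrCharacter_of_monoidHom (φ : G →* ℂˣ) :
    Cfsg.IsIrrCharacter G (fun g => ((φ g : ℂˣ) : ℂ)) := by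
  let ρ : Representation ℂ G (Fin 1 → ℂ) :=
    { toFun := fun g => ((φ g : ℂˣ) : ℂ) • (1 : Module.End ℂ (Fin 1 → ℂ))
      map_one' := by simp
      map_mul' := fun a b => by
        rw [map_mul, Units.val_mul, smul_mul_smul_comm, mul_one] }
  refine ⟨1, ρ, ?_, ?_⟩
  · rw [isIrreducible_iff]
    refine ⟨inferInstance, fun W _ => ?_⟩
    have : IsSimpleModule ℂ (Fin 1 → ℂ) := isSimpleModule_iff_finrank_eq_one.mpr (by simp)
    exact eq_bot_or_eq_top W
  · ext g
    simp [Representation.character, ρ]

/-- A character of degree one is a homomorphism to `ℂˣ`. -/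
theorem IsCharacter.exists_monoidHom {χ : G → ℂ} (h : Cfsg.IsCharacter G χ) (h1 : χ 1 = 1) :
    ∃ φ : G →* ℂˣ, ∀ g, χ g = ((φ g : ℂˣ) : ℂ) := by
  obtain ⟨n, ρ, rfl⟩ := h
  rw [Representation.char_one] at h1
  have hn : finrank ℂ (Fin n → ℂ) = 1 := by exact_mod_cast h1
  have key : ∀ g, ρ g = ρ.character g • (1 : Module.End ℂ (Fin n → ℂ)) := fun g =>
    end_eq_trace_smul_of_finrank_eq_one hn (ρ g)
  have hV : Nontrivial (Fin n → ℂ) := Module.finrank_pos_iff.mp (by rw [hn]; exact one_pos)
  have hinj : Function.Injective (fun c : ℂ => c • (1 : Module.End ℂ (Fin n → ℂ))) := by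
    intro a b hab
    obtain ⟨v, hv⟩ := exists_ne (0 : Fin n → ℂ)
    have := LinearMap.congr_fun hab v
    simp only [LinearMap.smul_apply, Module.End.one_apply] at this
    exact smul_left_injective ℂ hv this
  have hmul : ∀ a b, ρ.character (a * b) = ρ.character a * ρ.character b := by
    intro a b
    apply hinj
    simp only
    rw [← key, map_mul, key a, key b, smul_mul_smul_comm, mul_one]
  have hone : ρ.character 1 = 1 := by
    rw [Representation.char_one]; exact_mod_cast hn
  let ψ : G →* ℂ := { toFun := ρ.character, map_one' := hone, map_mul' := hmul }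
  refine ⟨ψ.toHomUnits, fun g => ?_⟩
  simp [ψ]

end linear

end Cfsg.Agent.Helper80
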