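import Mathlib
import Cfsg.Prelude.Def_Blocks
import Cfsg.Agent.Helper80.Linear
import Cfsg.Agent.Helper15.IndChar
import Cfsg.Agent.Helper15.ConjChar

set_option autoImplicit false

namespace Cfsg.Agent.Helper80

open Cfsg

universe u

section decomp
variable {G : Type u} [Group G] [Fintype G]

/-- The multiplicity of an irreducible character in a character, as a natural number. -/
noncomputable def mult (θ : G → ℂ) (hθ : IsCharacter G θ) (ψ : IrrCharacter G) : ℕ :=
  Classical.choose (Helper74.isCharacter_inner_irr_nat hθ ψ)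

theorem mult_spec (θ : G → ℂ) (hθ : IsCharacter G θ) (ψ : IrrCharacter G) :
    classInner θ (ψ : G → ℂ) = (mult θ hθ ψ : ℂ) :=
  Classical.choose_spec (Helper74.isCharacter_inner_irr_nat hθ ψ)

/-- Decomposition of a character into irreducibles with natural multiplicities. -/
theorem eq_sum_mult [Fintype (IrrCharacter G)] (θ : G → ℂ) (hθ : IsCharacter G θ) :
    θ = ∑ ψ : IrrCharacter G, (mult θ hθ ψ : ℂ) • (ψ : G → ℂ) := by
  conv_lhs => rw [Helper74.isCharacter_eq_sum_irr hθ]
  exact Finset.sum_congr rfl fun ψ _ => by rw [mult_spec]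

/-- Degree formula. -/
theorem charDegree_eq_sum_mult [Fintype (IrrCharacter G)] (θ : G → ℂ) (hθ : IsCharacter G θ) :
    charDegree θ = ∑ ψ : IrrCharacter G, mult θ hθ ψ * charDegree (ψ : G → ℂ) := by
  have h1 := congrFun (eq_sum_mult θ hθ) 1
  simp only [Finset.sum_apply, Pi.smul_apply, smul_eq_mul] at h1
  have h2 : (charDegree θ : ℂ) =
      ((∑ ψ : IrrCharacter G, mult θ hθ ψ * charDegree (ψ : G → ℂ) : ℕ) : ℂ) := by
    rw [IsCharacter.charDegree_cast hθ, h1]
    push_cast
    refine Finset.sum_congr rfl fun ψ _ => ?_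
    rw [IsCharacter.charDegree_cast (IsIrrCharacter.isCharacter ψ.2)]
  exact_mod_cast h2

end decomp


section induced
variable {G : Type u} [Group G] [Fintype G]

theorem charDegree_indFun (H : Subgroup G) {ψ : H → ℂ} (hψ : IsCharacter H ψ) :
    charDegree (indFun H ψ) = H.index * charDegree ψ := by
  have h1 := Helper15.indFun_apply_one H ψ
  have hI := Helper15.isCharacter_indFun H hψ
  have h2 : (charDegree (indFun H ψ) : ℂ) = ((H.index * charDegree ψ : ℕ) : ℂ) := by
    rw [IsCharacter.charDegree_cast hI, h1]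
    push_cast
    rw [IsCharacter.charDegree_cast hψ]
  exact_mod_cast h2

/-- If `ψ` is a constituent of the restriction of the irreducible character `χ` to `H` and
`[G:H] ψ(1) ≤ χ(1)`, then `χ` is induced from `ψ`. -/
theorem IsIrrCharacter.eq_indFun_of_degree_le {χ : G → ℂ} (hχ : IsIrrCharacter G χ)
    (H : Subgroup G) [Fintype H] {ψ : H → ℂ} (hψ : IsCharacter H ψ)
    (hne : classInner (fun h : H => χ h) ψ ≠ 0)
    (hdeg : H.index * charDegree ψ ≤ charDegree χ) : χ = indFun H ψ := by
  classical
  let _ : Fintype (IrrCharacter G) := Helper74.irrFintype G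
  have hI := Helper15.isCharacter_indFun H hψ
  set I := indFun H ψ with hIdef
  set X : IrrCharacter G := ⟨χ, hχ⟩ with hX
  have hcf : IsClassFunction G χ := IsCharacter.isClassFunction (IsIrrCharacter.isCharacter hχ)
  have hm : (mult I hI X : ℂ) ≠ 0 := by
    rw [← mult_spec, hIdef, Helper15.frobenius_reciprocity H ψ χ hcf, ← Helper15.classInner_conj_symm]
    simpa using hne
  have hm1 : 1 ≤ mult I hI X := Nat.one_le_iff_ne_zero.mpr (by exact_mod_cast hm)
  have hdegI := charDegree_eq_sum_mult I hI
  rw [charDegree_indFun H hψ] at hdegI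
  rw [← Finset.add_sum_erase _ _ (Finset.mem_univ X)] at hdegI
  have hχpos : 0 < charDegree χ := IsIrrCharacter.charDegree_pos hχ
  have hXdeg : charDegree (X : G → ℂ) = charDegree χ := rfl
  rw [hXdeg] at hdegI
  -- squeeze
  have hge : charDegree χ ≤ mult I hI X * charDegree χ := Nat.le_mul_of_pos_left _ hm1
  have hrest : ∑ ψ' ∈ Finset.univ.erase X, mult I hI ψ' * charDegree (ψ' : G → ℂ) = 0 := by omega
  have hmX : mult I hI X * charDegree χ = charDegree χ := by omega
  have hmX1 : mult I hI X = 1 := by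
    have := Nat.eq_of_mul_eq_mul_right hχpos (by rw [hmX, one_mul] : mult I hI X * charDegree χ = 1 * charDegree χ)
    exact this
  have hzero : ∀ ψ' ∈ Finset.univ.erase X, mult I hI ψ' = 0 := by
    intro ψ' hψ'
    have := (Finset.sum_eq_zero_iff.mp hrest) ψ' hψ'
    rcases Nat.mul_eq_zero.mp this with h | h
    · exact h
    · exact absurd h (IsIrrCharacter.charDegree_pos ψ'.2).ne'
  have hexp := eq_sum_mult I hI
  rw [← Finset.add_sum_erase _ _ (Finset.mem_univ X), hmX1] at hexp
  rw [Finset.sum_eq_zero (fun ψ' hψ' => by rw [hzero ψ' hψ']; simp)] at hexp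
  rw [hexp]
  simp [hX]

end induced

end Cfsg.Agent.Helper80
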