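import Mathlib
import Cfsg.Prelude.Def_Blocks
import Cfsg.Agent.Helper80.Induced
import Cfsg.Agent.Helper15.Clifford

set_option autoImplicit false

namespace Cfsg.Agent.Helper80

open Cfsg
open scoped ComplexConjugate

universe u

section inertia
variable {G : Type u} [Group G] [Fintype G] (N : Subgroup G) [hN : N.Normal] [Fintype N]

open Classical in
/-- The inertia group of `θ` in `G`, as a finset. -/
noncomputable def inertiaFinset (θ : N → ℂ) : Finset G :=
  Finset.univ.filter (fun g : G => Helper15.conjFun N g θ = θ)

theorem mem_inertiaFinset {θ : N → ℂ} {g : G} :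
    g ∈ inertiaFinset N θ ↔ Helper15.conjFun N g θ = θ := by
  classical
  simp [inertiaFinset]

/-- `‖Ind θ‖² = |I_G(θ)| / |N|` for irreducible `θ` of a normal subgroup. -/
theorem classInner_indFun_self {θ : N → ℂ} (hθ : IsIrrCharacter N θ) :
    classInner (indFun N θ) (indFun N θ) =
      (Nat.card N : ℂ)⁻¹ * ((inertiaFinset N θ).card : ℂ) := by
  classical
  rw [Helper15.frobenius_reciprocity N θ (indFun N θ) (Helper15.isClassFunction_indFun N θ),
    Helper15.indFun_normal_restrict, Helper15.classInner_smul_right,
    Helper15.classInner_finset_sum_right]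
  have h1 : ∀ g : G, classInner θ (Helper15.conjFun N g θ) =
      if Helper15.conjFun N g θ = θ then 1 else 0 := by
    intro g
    have h2 := Helper74.irr_orthonormal (⟨θ, hθ⟩ : IrrCharacter N)
      ⟨Helper15.conjFun N g θ, Helper15.isIrrCharacter_conjFun N hθ g⟩
    simp only at h2
    rw [h2]
    by_cases h3 : Helper15.conjFun N g θ = θ
    · rw [if_pos h3, if_pos (Subtype.ext h3.symm)]
    · rw [if_neg h3, if_neg (fun h4 => h3 (congrArg Subtype.val h4).symm)]
  simp only [h1]
  rw [Finset.sum_boole, map_inv₀, Complex.conj_natCast]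
  rfl

/-- Elements centralizing `N` lie in the inertia group of every function on `N`. -/
theorem mem_inertiaFinset_of_mem_centralizer {θ : N → ℂ} {g : G}
    (hg : g ∈ Subgroup.centralizer (N : Set G)) : g ∈ inertiaFinset N θ := by
  rw [mem_inertiaFinset]
  funext n
  rw [Helper15.conjFun_apply]
  congr 1
  apply Subtype.ext
  have := Subgroup.mem_centralizer_iff.mp hg (n : G) n.2
  simp only
  rw [← this]; group

end inertia

end Cfsg.Agent.Helper80
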