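import Mathlib
import Cfsg.Prelude.Def_Blocks
import Cfsg.Agent.Helper80.Linear

set_option autoImplicit false

namespace Cfsg.Agent.Helper80

open Module

universe u

section normalsum
variable {G : Type u} [Group G] [Finite G]

omit [Finite G] in
/-- For an irreducible representation `ρ` and a normal subgroup `N` not contained in its kernel,
the sum of `ρ n` over `N` vanishes. -/
theorem sum_rep_normal_eq_zero {V : Type*} [AddCommGroup V] [Module ℂ V] [FiniteDimensional ℂ V]
    (ρ : Representation ℂ G V) (hirr : ρ.IsIrreducible) (N : Subgroup G) [N.Normal] [Fintype N]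
    (hN : ∃ n ∈ N, ρ n ≠ 1) : ∑ n : N, ρ (n : G) = 0 := by
  classical
  set e : Module.End ℂ V := ∑ n : N, ρ (n : G) with he
  have hcomm : ∀ g, e * ρ g = ρ g * e := by
    intro g
    rw [he, Finset.sum_mul, Finset.mul_sum]
    let φ : N ≃ N :=
      { toFun := fun n => ⟨g * n * g⁻¹,
          Subgroup.Normal.conj_mem (inferInstance : N.Normal) (n : G) n.2 g⟩
        invFun := fun n => ⟨g⁻¹ * n * g, by
          have := Subgroup.Normal.conj_mem (inferInstance : N.Normal) (n : G) n.2 g⁻¹
          simpa using this⟩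
        left_inv := fun n => by ext; simp [mul_assoc]
        right_inv := fun n => by ext; simp [mul_assoc] }
    refine Fintype.sum_equiv φ.symm _ _ fun n => ?_
    rw [← map_mul, ← map_mul]
    congr 1
    simp [φ, mul_assoc]
  obtain ⟨c, hc⟩ := exists_scalar_of_commute ρ hirr e hcomm
  have habs : ∀ m : N, e * ρ (m : G) = e := by
    intro m
    rw [he, Finset.sum_mul]
    refine Fintype.sum_equiv (Equiv.mulRight m) _ _ fun n => ?_
    rw [← map_mul]; rfl
  obtain ⟨n, hn, hne⟩ := hN
  by_contra h0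
  have hc0 : c ≠ 0 := by
    intro h
    apply h0
    rw [hc, h, zero_smul]
  apply hne
  have h1 := habs ⟨n, hn⟩
  rw [hc, smul_mul_assoc, one_mul] at h1
  have h2 : c • ρ n = c • (1 : Module.End ℂ V) := h1
  exact smul_right_injective _ hc0 h2

/-- For an irreducible character `χ` and a normal subgroup `N` not contained in its kernel,
`∑_{n ∈ N} χ(g n) = 0` for every `g`. -/
theorem IsIrrCharacter.sum_mul_normal_eq_zero {χ : G → ℂ} (h : Cfsg.IsIrrCharacter G χ)
    (N : Subgroup G) [N.Normal] [Fintype N] (hN : ∃ n ∈ N, χ n ≠ χ 1) (g : G) :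
    ∑ n : N, χ (g * n) = 0 := by
  obtain ⟨k, ρ, hirr, rfl⟩ := h
  have hN' : ∃ n ∈ N, ρ n ≠ 1 := by
    obtain ⟨n, hn, hne⟩ := hN
    refine ⟨n, hn, fun h1 => hne ?_⟩
    rw [Representation.char_one, char_eq_finrank_iff ρ n (isOfFinOrder_of_finite n)]
    exact h1
  have h0 := sum_rep_normal_eq_zero ρ hirr N hN'
  have h1 : ∑ n : N, ρ (g * n) = 0 := by
    simp_rw [map_mul]
    rw [← Finset.mul_sum, h0, mul_zero]
  have h2 := congrArg (LinearMap.trace ℂ (Fin k → ℂ)) h1
  rw [map_sum, map_zero] at h2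
  exact h2

end normalsum

end Cfsg.Agent.Helper80
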