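import Mathlib
import Cfsg.Agent.S4808
import Cfsg.Agent.Helper80.NormalSum
import Cfsg.Agent.Helper80.Degree
import Cfsg.Agent.Helper79.CharComplete

set_option autoImplicit false

/-!
# Irreducible characters that are nonzero on exactly two conjugacy classes (Gagola)
-/

namespace Cfsg.Agent.Helper80

open Cfsg Cfsg.Agent.Helper79
open scoped ComplexConjugate

universe u

section twoclasses

/-- Sum of `χ * a` when `χ` is supported on `{1} ∪ cl(g)`. -/
theorem sum_mul_of_support {G : Type u} [Group G] [Fintype G] {χ a : G → ℂ} (g : G) (hg : g ≠ 1)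
    (hsupp : ∀ x, χ x ≠ 0 → x = 1 ∨ IsConj g x)
    (hχ : ∀ x, IsConj g x → χ x = χ g) (ha : ∀ x, IsConj g x → a x = a g) :
    ∑ x, χ x * a x = χ 1 * a 1 + ((classFinset g).card : ℂ) * (χ g * a g) := by
  classical
  have h1 : (1 : G) ∉ classFinset g := by
    rw [mem_classFinset]
    intro h
    exact hg (isConj_one_left.mp h)
  rw [← Finset.sum_subset (Finset.subset_univ (insert 1 (classFinset g)))]
  · rw [Finset.sum_insert h1]
    congr 1
    rw [Finset.sum_congr rfl (fun y hy => by
      rw [hχ y (mem_classFinset.mp hy), ha y (mem_classFinset.mp hy)])]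
    rw [Finset.sum_const, nsmul_eq_mul]
  · intro x _ hx
    by_contra h
    have h0 : χ x ≠ 0 := fun h0 => h (by rw [h0, zero_mul])
    rcases hsupp x h0 with rfl | hc
    · exact hx (Finset.mem_insert_self _ _)
    · exact hx (Finset.mem_insert_of_mem (mem_classFinset.mpr hc))

/-- Gagola's lemma, core form with the numerical information: `N = {1} ∪ cl(g)` has
`k + 1` elements, where `k = |cl(g)|`, and `(k + 1) χ(1)² = k |G|`. -/
theorem two_classes_core' {G : Type u} [Group G] [Finite G] (hG : 2 < Nat.card G)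
    (χ : IrrCharacter G)
    (hχ : Nat.card {C : ConjClasses G // ∃ g ∈ C.carrier, (χ : G → ℂ) g ≠ 0} = 2) :
    ∃ g : G, g ≠ 1 ∧ (χ : G → ℂ) g ≠ 0 ∧ (χ : G → ℂ) g ≠ (χ : G → ℂ) 1 ∧
      (∀ x, (χ : G → ℂ) x ≠ 0 → x = 1 ∨ IsConj g x) ∧
      (∀ ψ : IrrCharacter G, ψ ≠ χ → (ψ : G → ℂ) g = (ψ : G → ℂ) 1) ∧
      (∀ K : Subgroup G, K.Normal → K ≠ ⊥ → g ∈ K) ∧
      (∀ x ∈ Subgroup.normalClosure {g}, x = 1 ∨ IsConj g x) ∧
      Nat.card (Subgroup.normalClosure ({g} : Set G)) =
        (Subgroup.centralizer ({g} : Set G)).index + 1 ∧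
      ((Subgroup.centralizer ({g} : Set G)).index + 1) * charDegree (χ : G → ℂ) ^ 2 =
        (Subgroup.centralizer ({g} : Set G)).index * Nat.card G := by
  classical
  have := Fintype.ofFinite G
  have hfin : Finite (IrrCharacter G) := irr_finite'
  have := Fintype.ofFinite (IrrCharacter G)
  have hirr := χ.2
  have hχc := IsIrrCharacter.isCharacter hirr
  have hcf : ∀ x y, IsConj x y → (χ : G → ℂ) x = (χ : G → ℂ) y :=
    fun x y h => IsCharacter.eq_of_isConj hχc h
  have hχ1 : (χ : G → ℂ) 1 ≠ 0 := irr_one_ne_zero χ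
  -- Step 0: extract g
  obtain ⟨g, hg1, hg0, hsupp⟩ : ∃ g : G, g ≠ 1 ∧ (χ : G → ℂ) g ≠ 0 ∧
      ∀ x, (χ : G → ℂ) x ≠ 0 → x = 1 ∨ IsConj g x := by
    obtain ⟨C, D, hCD, huniv⟩ := Nat.card_eq_two_iff.mp hχ
    let c1 : {C : ConjClasses G // ∃ g ∈ C.carrier, (χ : G → ℂ) g ≠ 0} :=
      ⟨ConjClasses.mk 1, 1, ConjClasses.mem_carrier_mk, hχ1⟩
    obtain ⟨E, hE1, hEall⟩ : ∃ E : {C : ConjClasses G // ∃ g ∈ C.carrier, (χ : G → ℂ) g ≠ 0},
        E ≠ c1 ∧ ∀ F, F = c1 ∨ F = E := by
      have hc1 : c1 ∈ ({C, D} : Set _) := by rw [huniv]; trivial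
      rcases hc1 with h | h
      · refine ⟨D, ?_, ?_⟩
        · rw [h]; exact hCD.symm
        · intro F
          have hF : F ∈ ({C, D} : Set _) := by rw [huniv]; trivial
          rcases hF with h' | h'
          · left; rw [h', h]
          · right; exact h'
      · refine ⟨C, ?_, ?_⟩
        · rw [h]; exact hCD
        · intro F
          have hF : F ∈ ({C, D} : Set _) := by rw [huniv]; trivial
          rcases hF with h' | h'
          · right; exact h'
          · left; rw [h', h]
    obtain ⟨g, hgE, hg0⟩ := E.2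
    have hEg : ConjClasses.mk g = E.1 := ConjClasses.mem_carrier_iff_mk_eq.mp hgE
    refine ⟨g, ?_, hg0, ?_⟩
    · rintro rfl
      apply hE1
      exact Subtype.ext hEg.symm
    · intro x hx
      let F : {C : ConjClasses G // ∃ g ∈ C.carrier, (χ : G → ℂ) g ≠ 0} :=
        ⟨ConjClasses.mk x, x, ConjClasses.mem_carrier_mk, hx⟩
      rcases hEall F with h | h
      · left
        have h2 : ConjClasses.mk x = ConjClasses.mk 1 := congrArg Subtype.val h
        rw [ConjClasses.mk_eq_mk_iff_isConj] at h2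
        exact isConj_one_left.mp h2
      · right
        have h2 : ConjClasses.mk x = ConjClasses.mk g := by
          rw [hEg]; exact congrArg Subtype.val h
        rw [ConjClasses.mk_eq_mk_iff_isConj] at h2
        exact h2.symm
  refine ⟨g, hg1, hg0, ?_⟩
  set k := (classFinset g).card with hk
  have hkpos : 0 < k := Finset.card_pos.mpr ⟨g, mem_classFinset.mpr (IsConj.refl g)⟩
  have hkdvd : k ∣ Nat.card G := by
    rw [hk, card_classFinset]; exact Subgroup.index_dvd_card _
  have h1c : (1 : G) ∉ classFinset g := by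
    rw [mem_classFinset]
    intro h
    exact hg1 (isConj_one_left.mp h)
  -- Step 1: there is a third class
  have hex : ∃ x : G, x ≠ 1 ∧ ¬ IsConj g x := by
    by_contra hcon
    push Not at hcon
    have huniv : (Finset.univ : Finset G) = insert 1 (classFinset g) := by
      ext x
      simp only [Finset.mem_univ, true_iff, Finset.mem_insert, mem_classFinset]
      by_cases hx : x = 1
      · left; exact hx
      · right; exact hcon x hx
    have hcard : Nat.card G = k + 1 := by
      rw [Nat.card_eq_fintype_card, ← Finset.card_univ, huniv, Finset.card_insert_of_notMem h1c]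
    rw [hcard] at hkdvd hG
    have h1 : k ∣ 1 := (Nat.dvd_add_right (dvd_refl k)).mp hkdvd
    have h2 : k = 1 := Nat.dvd_one.mp h1
    omega
  -- Step 2: the sum of χ vanishes
  have hsum0 : ∑ x : G, (χ : G → ℂ) x = 0 := by
    obtain ⟨x, hx1, hxg⟩ := hex
    have hx0 : (χ : G → ℂ) x = 0 := by
      by_contra h
      rcases hsupp x h with h | h
      · exact hx1 h
      · exact hxg h
    have h3 := IsIrrCharacter.sum_mul_normal_eq_zero hirr (⊤ : Subgroup G)
      ⟨x, Subgroup.mem_top x, by rw [hx0]; exact hχ1.symm⟩ 1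
    simp only [one_mul] at h3
    rw [← h3]
    exact (Fintype.sum_equiv Subgroup.topEquiv.toEquiv _ _ (fun n => rfl)).symm
  -- Step 3
  have hrel : (χ : G → ℂ) 1 + (k : ℂ) * (χ : G → ℂ) g = 0 := by
    have h3 := sum_mul_of_support (χ := (χ : G → ℂ)) (a := fun _ => 1) g hg1 hsupp
      (fun x hx => (hcf g x hx).symm) (fun _ _ => rfl)
    simp only [mul_one] at h3
    rw [← h3]; exact hsum0
  -- Step 4
  have hgne : (χ : G → ℂ) g ≠ (χ : G → ℂ) 1 := by
    intro h
    rw [h] at hrel
    have h3 : ((1 : ℂ) + k) * (χ : G → ℂ) 1 = 0 := by linear_combination hrel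
    rcases mul_eq_zero.mp h3 with h | h
    · have h4 : ((1 + k : ℕ) : ℂ) = 0 := by push_cast; exact h
      exact absurd (Nat.cast_eq_zero.mp h4) (by omega)
    · exact hχ1 h
  -- Step 5
  have hother : ∀ ψ : IrrCharacter G, ψ ≠ χ → (ψ : G → ℂ) g = (ψ : G → ℂ) 1 := by
    intro ψ hψ
    have hin := classInner_irr_ne (Ne.symm hψ)
    unfold classInner at hin
    have hs : ∑ x : G, (χ : G → ℂ) x * conj ((ψ : G → ℂ) x) = 0 := by
      rcases mul_eq_zero.mp hin with h | h
      · exact absurd (inv_eq_zero.mp h) card_ne_zero_complex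
      · exact h
    have hψc := IsIrrCharacter.isCharacter ψ.2
    rw [sum_mul_of_support (χ := (χ : G → ℂ)) (a := fun x => conj ((ψ : G → ℂ) x)) g hg1 hsupp
      (fun x hx => (hcf g x hx).symm)
      (fun x hx => by rw [IsCharacter.eq_of_isConj hψc hx])] at hs
    have h3 : (χ : G → ℂ) 1 * (conj ((ψ : G → ℂ) 1) - conj ((ψ : G → ℂ) g)) = 0 := by
      linear_combination hs - (conj ((ψ : G → ℂ) g)) * hrel
    rcases mul_eq_zero.mp h3 with h | h
    · exact absurd h hχ1
    · exact ((starRingEnd ℂ).injective (sub_eq_zero.mp h)).symm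
  -- Step 6
  have hmin : ∀ K : Subgroup G, K.Normal → K ≠ ⊥ → g ∈ K := by
    intro K hKn hKb
    by_contra hgK
    have hKc : ∀ n ∈ K, n ≠ 1 → (χ : G → ℂ) n = 0 := by
      intro n hn hn1
      by_contra h0
      rcases hsupp n h0 with h | h
      · exact hn1 h
      · obtain ⟨c, hc⟩ := isConj_iff.mp h.symm
        apply hgK
        rw [← hc]
        exact hKn.conj_mem n hn c
    obtain ⟨n, hn1⟩ := (Subgroup.ne_bot_iff_exists_ne_one.mp hKb)
    have hn1' : (n : G) ≠ 1 := fun h => hn1 (Subtype.ext h)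
    have hne : ∃ n ∈ K, (χ : G → ℂ) n ≠ (χ : G → ℂ) 1 :=
      ⟨n, n.2, by rw [hKc n n.2 hn1']; exact hχ1.symm⟩
    have h3 := IsIrrCharacter.sum_mul_normal_eq_zero hirr K hne 1
    simp only [one_mul] at h3
    have h4 : ∑ n : K, (χ : G → ℂ) n = (χ : G → ℂ) 1 := by
      rw [Finset.sum_eq_single (1 : K)]
      · rfl
      · intro b _ hb
        exact hKc b b.2 (fun h => hb (Subtype.ext h))
      · intro h
        exact absurd (Finset.mem_univ _) h
    rw [h4] at h3
    exact hχ1 h3
  -- Step 7: counting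
  set N := Subgroup.normalClosure ({g} : Set G) with hN
  have hNn : N.Normal := Subgroup.normalClosure_normal
  have hgN : g ∈ N := Subgroup.subset_normalClosure (Set.mem_singleton g)
  set d := charDegree (χ : G → ℂ) with hd
  have hd1 : (d : ℂ) = (χ : G → ℂ) 1 := IsCharacter.charDegree_cast hχc
  -- (B): (k+1) d² = k |G|
  have hB : (k + 1) * d ^ 2 = k * Nat.card G := by
    have h3 := IsIrrCharacter.sum_mul_conj hirr
    rw [sum_mul_of_support (χ := (χ : G → ℂ)) (a := fun x => conj ((χ : G → ℂ) x)) g hg1 hsupp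
      (fun x hx => (hcf g x hx).symm)
      (fun x hx => by rw [hcf g x hx])] at h3
    have hkne : (k : ℂ) ≠ 0 := by exact_mod_cast hkpos.ne'
    have hg' : (χ : G → ℂ) g = - (d : ℂ) / k := by
      rw [hd1]; field_simp; linear_combination hrel
    rw [← hd1, hg'] at h3
    simp only [map_div₀, map_neg, Complex.conj_natCast] at h3
    have h4 : ((k + 1 : ℕ) : ℂ) * (d : ℂ) ^ 2 = (k : ℂ) * (Nat.card G : ℂ) := by
      rw [Nat.card_eq_fintype_card, ← h3]
      push_cast
      field_simp
      ring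
    exact_mod_cast h4
  -- (C): d² + [G:N] = |G|
  have hC : d ^ 2 + N.index = Nat.card G := by
    have h3 := Cfsg.Agent.S4808.sum_sq_filter_ker N
    have h4 := sum_charDegree_sq (G := G)
    have hfilter : Finset.univ.filter
        (fun ψ : IrrCharacter G => ∀ n ∈ N, (ψ : G → ℂ) n = (ψ : G → ℂ) 1) =
        Finset.univ.erase χ := by
      ext ψ
      simp only [Finset.mem_filter, Finset.mem_univ, true_and, Finset.mem_erase, and_true]
      constructor
      · intro h hψχ
        rw [hψχ] at h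
        exact hgne (h g hgN)
      · intro hψχ n hn
        have hψc := IsIrrCharacter.isCharacter ψ.2
        have hle : N ≤ kerChar (ψ : G → ℂ) hψc := by
          apply Subgroup.normalClosure_le_normal
          intro x hx
          rw [Set.mem_singleton_iff.mp hx]
          exact (mem_kerChar hψc g).mpr (hother ψ hψχ)
        exact (mem_kerChar hψc n).mp (hle hn)
    rw [hfilter] at h3
    rw [← h4, ← h3]
    exact Finset.add_sum_erase Finset.univ (fun ψ : IrrCharacter G => charDegree (ψ : G → ℂ) ^ 2)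
      (Finset.mem_univ χ)
  have hD : Nat.card N * N.index = Nat.card G := Subgroup.card_mul_index N
  have hNcard : Nat.card N = k + 1 := by
    have hipos : 0 < N.index := Nat.pos_of_ne_zero Subgroup.index_ne_zero_of_finite
    have h5 : (k + 1) * N.index = Nat.card N * N.index := by
      zify at hB hC hD ⊢
      linear_combination ((k : ℤ) + 1) * hC - hB - hD
    exact (Nat.eq_of_mul_eq_mul_right hipos h5).symm
  -- Step 8
  have hTsub : insert 1 (classFinset g) ⊆ Finset.univ.filter (· ∈ N) := by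
    intro x hx
    rw [Finset.mem_filter]
    refine ⟨Finset.mem_univ _, ?_⟩
    rcases Finset.mem_insert.mp hx with rfl | hx
    · exact N.one_mem
    · obtain ⟨c, hc⟩ := isConj_iff.mp (mem_classFinset.mp hx)
      rw [← hc]
      exact hNn.conj_mem g hgN c
  have hcardF : (Finset.univ.filter (· ∈ N)).card = k + 1 := by
    rw [← hNcard, Nat.card_eq_fintype_card, Fintype.card_subtype]
  have hTeq := Finset.eq_of_subset_of_card_le hTsub
    (by rw [hcardF, Finset.card_insert_of_notMem h1c])
  have hkidx : k = (Subgroup.centralizer ({g} : Set G)).index := card_classFinset g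
  refine ⟨hgne, hsupp, hother, hmin, ?_, ?_, ?_⟩
  · intro x hx
    have hxT : x ∈ insert 1 (classFinset g) := by
      rw [hTeq]; simp [hx]
    rcases Finset.mem_insert.mp hxT with h | h
    · left; exact h
    · right; exact mem_classFinset.mp h
  · rw [← hkidx]; exact hNcard
  · rw [← hkidx]; exact hB

/-- Gagola's lemma, core form. -/
theorem two_classes_core {G : Type u} [Group G] [Finite G] (hG : 2 < Nat.card G)
    (χ : IrrCharacter G)
    (hχ : Nat.card {C : ConjClasses G // ∃ g ∈ C.carrier, (χ : G → ℂ) g ≠ 0} = 2) :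
    ∃ g : G, g ≠ 1 ∧ (χ : G → ℂ) g ≠ 0 ∧ (χ : G → ℂ) g ≠ (χ : G → ℂ) 1 ∧
      (∀ x, (χ : G → ℂ) x ≠ 0 → x = 1 ∨ IsConj g x) ∧
      (∀ ψ : IrrCharacter G, ψ ≠ χ → (ψ : G → ℂ) g = (ψ : G → ℂ) 1) ∧
      (∀ K : Subgroup G, K.Normal → K ≠ ⊥ → g ∈ K) ∧
      (∀ x ∈ Subgroup.normalClosure {g}, x = 1 ∨ IsConj g x) := by
  obtain ⟨g, h1, h2, h3, h4, h5, h6, h7, -, -⟩ := two_classes_core' hG χ hχ
  exact ⟨g, h1, h2, h3, h4, h5, h6, h7⟩

end twoclasses

end Cfsg.Agent.Helper80
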