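import Mathlib
import Cfsg.Agent.Helper80.TwoClasses
import Cfsg.Agent.Helper80.Induced

set_option autoImplicit false

/-!
# Two-class characters: arithmetic consequences (Gagola)
-/

namespace Cfsg.Agent.Helper80

open Cfsg Cfsg.Agent.Helper79
open scoped ComplexConjugate

universe u

section sylowpart

/-- The trivial character is irreducible. -/
theorem isIrrCharacter_one (G : Type u) [Group G] : IsIrrCharacter G (fun _ => (1 : ℂ)) := by
  have h := isIrrCharacter_of_monoidHom (1 : G →* ℂˣ)
  simpa using h

/-- If a character vanishes on the nonidentity elements of a subgroup `Q`, then `|Q|` divides its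
degree. -/
theorem IsCharacter.card_dvd_charDegree_of_vanish {G : Type u} [Group G] [Finite G] {χ : G → ℂ}
    (hχ : IsCharacter G χ) (Q : Subgroup G) (hQ : ∀ y ∈ Q, y ≠ 1 → χ y = 0) :
    Nat.card Q ∣ charDegree χ := by
  classical
  have := Fintype.ofFinite G
  have : Fintype Q := Fintype.ofFinite Q
  have hres : IsCharacter Q (fun y : Q => χ y) := IsCharacter.comp_hom hχ Q.subtype
  let triv : IrrCharacter Q := ⟨fun _ => (1 : ℂ), isIrrCharacter_one Q⟩
  have h1 := mult_spec (fun y : Q => χ y) hres triv
  unfold classInner at h1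
  have h2 : ∑ y : Q, χ y * conj ((triv : Q → ℂ) y) = χ 1 := by
    rw [Finset.sum_eq_single (1 : Q)]
    · simp [triv]
    · intro b _ hb
      rw [hQ b b.2 (fun h => hb (Subtype.ext h)), zero_mul]
    · intro h
      exact absurd (Finset.mem_univ _) h
  rw [h2] at h1
  have hQne : (Nat.card Q : ℂ) ≠ 0 := by
    have : Nat.card Q ≠ 0 := Nat.card_pos.ne'
    exact_mod_cast this
  have h3 : ((charDegree χ : ℕ) : ℂ) = ((Nat.card Q * mult (fun y : Q => χ y) hres triv : ℕ) : ℂ) := by
    rw [IsCharacter.charDegree_cast hχ]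
    push_cast
    rw [← h1]
    field_simp
  have h4 : charDegree χ = Nat.card Q * mult (fun y : Q => χ y) hres triv := by exact_mod_cast h3
  exact ⟨_, h4⟩

/-- The arithmetic heart of Gagola's Sylow statement. -/
theorem eq_prime_pow_of_two_classes_arith {n c k d a p : ℕ} (hp : p.Prime) (ha : 0 < a)
    (hk : k + 1 = p ^ a) (hn : c * k = n) (hn0 : n ≠ 0) (hB : (k + 1) * d ^ 2 = k * n)
    (hq : ∀ q : ℕ, q.Prime → q ≠ p → q ^ (n.factorization q) ∣ d) :
    c = p ^ (n.factorization p) := by
  have hc0 : c ≠ 0 := by rintro rfl; simp at hn; exact hn0 hn.symm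
  have hk0 : k ≠ 0 := by rintro rfl; simp at hn; exact hn0 hn.symm
  have hd0 : d ≠ 0 := by
    rintro rfl
    simp at hB
    rcases hB with h | h
    · exact hk0 h
    · exact hn0 h
  have hpk : ¬ p ∣ k := by
    intro h
    have h1 : p ∣ k + 1 := by rw [hk]; exact dvd_pow_self p ha.ne'
    have h2 : p ∣ 1 := (Nat.dvd_add_right h).mp h1
    exact hp.one_lt.ne' (Nat.dvd_one.mp h2)
  have hfac : ∀ q : ℕ, n.factorization q = c.factorization q + k.factorization q := by
    intro q
    rw [← hn, Nat.factorization_mul hc0 hk0]; rfl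
  apply Nat.eq_of_factorization_eq hc0 (pow_ne_zero _ hp.ne_zero)
  intro q
  by_cases hqp : q = p
  · subst hqp
    rw [Nat.factorization_pow, hp.factorization]
    simp only [Finsupp.smul_single, smul_eq_mul, mul_one, Finsupp.single_eq_same]
    rw [hfac, Nat.factorization_eq_zero_of_not_dvd hpk, add_zero]
  · rw [Nat.factorization_pow, hp.factorization]
    simp only [Finsupp.smul_single, smul_eq_mul, mul_one, Finsupp.single_apply,
      if_neg (Ne.symm hqp)]
    by_cases hqprime : q.Prime
    · have h1 := hq q hqprime hqp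
      have h2 : n.factorization q ≤ d.factorization q :=
        (hqprime.pow_dvd_iff_le_factorization hd0).mp h1
      have h3 := congrArg (fun m => m.factorization q) hB
      rw [hk] at h3
      rw [Nat.factorization_mul (pow_ne_zero a hp.ne_zero) (pow_ne_zero 2 hd0),
        Nat.factorization_mul hk0 hn0, Nat.factorization_pow, Nat.factorization_pow,
        hp.factorization] at h3
      simp only [Finsupp.coe_add, Pi.add_apply, Finsupp.smul_apply, smul_eq_mul,
        Finsupp.single_apply, if_neg (Ne.symm hqp), mul_zero, zero_add] at h3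
      have h4 := hfac q
      omega
    · exact Nat.factorization_eq_zero_of_not_prime c hqprime

/-- Conjugate elements have centralizers of the same order. -/
theorem card_centralizer_eq_of_isConj {G : Type u} [Group G] [Finite G] {g x : G}
    (h : IsConj g x) :
    Nat.card (Subgroup.centralizer ({x} : Set G)) = Nat.card (Subgroup.centralizer ({g} : Set G)) := by
  classical
  have := Fintype.ofFinite G
  have h1 : classFinset x = classFinset g := by
    ext y
    rw [mem_classFinset, mem_classFinset]
    exact ⟨fun hy => h.trans hy, fun hy => h.symm.trans hy⟩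
  have h2 : (Subgroup.centralizer ({x} : Set G)).index = (Subgroup.centralizer ({g} : Set G)).index := by
    rw [← card_classFinset, ← card_classFinset, h1]
  have h3 := Subgroup.card_mul_index (Subgroup.centralizer ({x} : Set G))
  have h4 := Subgroup.card_mul_index (Subgroup.centralizer ({g} : Set G))
  rw [h2, ← h4] at h3
  exact Nat.eq_of_mul_eq_mul_right (Nat.pos_of_ne_zero Subgroup.index_ne_zero_of_finite) h3

/-- Gagola's setup: all the basic facts about a two-class character `χ` relative to the normal
`p`-subgroup `N` on which it does not vanish. -/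
theorem two_classes_setup {G : Type u} [Group G] [Finite G] (hG : 2 < Nat.card G)
    (χ : IrrCharacter G)
    (hχ : Nat.card {C : ConjClasses G // ∃ g ∈ C.carrier, (χ : G → ℂ) g ≠ 0} = 2) (p : ℕ)
    [Fact p.Prime] (N : Subgroup G) [N.Normal] (hN : ∀ g : G, g ∈ N ↔ (χ : G → ℂ) g ≠ 0)
    (hNp : IsPGroup p N) (hN1 : N ≠ ⊥) :
    ∃ g : G, g ∈ N ∧ g ≠ 1 ∧ (∀ x ∈ N, x = 1 ∨ IsConj g x) ∧
      (∀ ψ : IrrCharacter G, ψ ≠ χ → ∀ n ∈ N, (ψ : G → ℂ) n = (ψ : G → ℂ) 1) ∧
      (∀ K : Subgroup G, K.Normal → K ≠ ⊥ → N ≤ K) ∧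
      (∀ x ∈ N, x ≠ 1 →
        Nat.card (Subgroup.centralizer ({x} : Set G)) = p ^ (Nat.card G).factorization p) ∧
      Nat.card N = (Subgroup.centralizer ({g} : Set G)).index + 1 ∧
      ((Subgroup.centralizer ({g} : Set G)).index + 1) * charDegree (χ : G → ℂ) ^ 2 =
        (Subgroup.centralizer ({g} : Set G)).index * Nat.card G := by
  classical
  have hp : p.Prime := Fact.out
  obtain ⟨g, hg1, hg0, hgne, hsupp, hother, hmin, hcl, hNcard, hB⟩ := two_classes_core' hG χ hχ
  have hχc := IsIrrCharacter.isCharacter χ.2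
  have hNeq : N = Subgroup.normalClosure ({g} : Set G) := by
    have hNn : (Subgroup.normalClosure ({g} : Set G)).Normal := Subgroup.normalClosure_normal
    have hgN : g ∈ Subgroup.normalClosure ({g} : Set G) :=
      Subgroup.subset_normalClosure (Set.mem_singleton g)
    ext x
    rw [hN]
    constructor
    · intro hx
      rcases hsupp x hx with rfl | h
      · exact Subgroup.one_mem _
      · obtain ⟨c, hc⟩ := isConj_iff.mp h
        rw [← hc]; exact hNn.conj_mem g hgN c
    · intro hx
      rcases hcl x hx with rfl | h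
      · exact irr_one_ne_zero χ
      · rw [← IsCharacter.eq_of_isConj hχc h]; exact hg0
  have hgN : g ∈ N := (hN g).mpr hg0
  have hclN : ∀ x ∈ N, x = 1 ∨ IsConj g x := by
    intro x hx
    rw [hNeq] at hx
    exact hcl x hx
  have hotherN : ∀ ψ : IrrCharacter G, ψ ≠ χ → ∀ n ∈ N, (ψ : G → ℂ) n = (ψ : G → ℂ) 1 := by
    intro ψ hψ n hn
    have hψc := IsIrrCharacter.isCharacter ψ.2
    have hle : N ≤ kerChar (ψ : G → ℂ) hψc := by
      rw [hNeq]
      apply Subgroup.normalClosure_le_normal
      intro x hx
      rw [Set.mem_singleton_iff.mp hx]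
      exact (mem_kerChar hψc g).mpr (hother ψ hψ)
    exact (mem_kerChar hψc n).mp (hle hn)
  have hminN : ∀ K : Subgroup G, K.Normal → K ≠ ⊥ → N ≤ K := by
    intro K hK hKb
    haveI := hK
    rw [hNeq]
    apply Subgroup.normalClosure_le_normal
    intro x hx
    rw [Set.mem_singleton_iff.mp hx]
    exact hmin K hK hKb
  have hNcard' : Nat.card N = (Subgroup.centralizer ({g} : Set G)).index + 1 := by
    rw [← hNcard, hNeq]
  refine ⟨g, hgN, hg1, hclN, hotherN, hminN, ?_, hNcard', hB⟩
  -- the centralizer order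
  obtain ⟨a, ha⟩ := (IsPGroup.iff_card.mp hNp)
  have ha0 : 0 < a := by
    rcases Nat.eq_zero_or_pos a with h | h
    · rw [h, pow_zero] at ha
      exact absurd (Subgroup.card_eq_one.mp ha) hN1
    · exact h
  have hcg : Nat.card (Subgroup.centralizer ({g} : Set G)) = p ^ (Nat.card G).factorization p := by
    apply eq_prime_pow_of_two_classes_arith hp ha0 (k := (Subgroup.centralizer ({g} : Set G)).index)
      (d := charDegree (χ : G → ℂ)) (by rw [← hNcard', ha])
      (Subgroup.card_mul_index _) Nat.card_pos.ne' hB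
    intro q hq hqp
    haveI : Fact q.Prime := ⟨hq⟩
    obtain Q : Sylow q G := default
    rw [← Sylow.card_eq_multiplicity Q]
    apply IsCharacter.card_dvd_charDegree_of_vanish hχc
    intro y hy hy1
    by_contra hy0
    have hyN : y ∈ N := (hN y).mpr hy0
    have hdisj := IsPGroup.disjoint_of_ne p q (Ne.symm hqp) N (Q : Subgroup G) hNp Q.2
    have : y ∈ N ⊓ (Q : Subgroup G) := ⟨hyN, hy⟩
    rw [hdisj.eq_bot, Subgroup.mem_bot] at this
    exact hy1 this
  intro x hx hx1
  rw [card_centralizer_eq_of_isConj ((hclN x hx).resolve_left hx1), hcg]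

end sylowpart

end Cfsg.Agent.Helper80
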