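import Mathlib
import Cfsg.Agent.Helper80.TwoClassesSylow
import Cfsg.Agent.Helper80.Inertia
import Cfsg.Agent.S4835

set_option autoImplicit false

/-!
# Two-class characters: inertia groups of the characters of `N` (Gagola)
-/

namespace Cfsg.Agent.Helper80

open Cfsg
open scoped ComplexConjugate

universe u

section inertiapart

/-- In Gagola's situation the subgroup `N` is commutative. -/
theorem two_classes_comm {G : Type u} [Group G] [Finite G] (hG : 2 < Nat.card G)
    (χ : IrrCharacter G)
    (hχ : Nat.card {C : ConjClasses G // ∃ g ∈ C.carrier, (χ : G → ℂ) g ≠ 0} = 2)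
    (N : Subgroup G) (hN : ∀ g : G, g ∈ N ↔ (χ : G → ℂ) g ≠ 0) :
    IsMulCommutative N := by
  obtain ⟨N', -, -, -, ⟨q, -, hea⟩, hN', -⟩ := Cfsg.Agent.S4835.result hG χ hχ
  have : N = N' := by
    ext x
    rw [hN, hN']
  rw [this]
  exact hea.1

/-- Irreducible characters of a commutative group are linear. -/
theorem IsIrrCharacter.charDegree_eq_one_of_comm {A : Type u} [Group A] [Finite A]
    [hA : IsMulCommutative A] {μ : A → ℂ} (hμ : IsIrrCharacter A μ) : charDegree μ = 1 := by
  have hcen : Subgroup.center A = ⊤ := by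
    rw [eq_top_iff]
    intro g _
    rw [Subgroup.mem_center_iff]
    intro h
    exact (isMulCommutative_iff.mp hA) h g
  have h1 := IsIrrCharacter.charDegree_sq_le_index_center hμ
  rw [hcen, Subgroup.index_top] at h1
  have h2 := IsIrrCharacter.charDegree_pos hμ
  nlinarith

/-- In Gagola's situation, the inertia group of a nontrivial irreducible character of `N` has
the order of a Sylow `p`-subgroup. -/
theorem two_classes_inertia_card {G : Type u} [Group G] [Fintype G] (hG : 2 < Nat.card G)
    (χ : IrrCharacter G)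
    (hχ : Nat.card {C : ConjClasses G // ∃ g ∈ C.carrier, (χ : G → ℂ) g ≠ 0} = 2) (p : ℕ)
    [Fact p.Prime] (N : Subgroup G) [N.Normal] [Fintype N]
    (hN : ∀ g : G, g ∈ N ↔ (χ : G → ℂ) g ≠ 0)
    (hNp : IsPGroup p N) (hN1 : N ≠ ⊥) (μ : IrrCharacter N)
    (hμ : (μ : N → ℂ) ≠ (fun _ => (1 : ℂ))) :
    (inertiaFinset N (μ : N → ℂ)).card = p ^ (Nat.card G).factorization p := by
  classical
  have hfin : Finite (IrrCharacter G) := Helper79.irr_finite'
  have := Fintype.ofFinite (IrrCharacter G)
  obtain ⟨g, hgN, hg1, hclN, hotherN, hminN, hcent, hNcard, hB⟩ :=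
    two_classes_setup hG χ hχ p N hN hNp hN1
  have hχc := IsIrrCharacter.isCharacter χ.2
  have hcomm : IsMulCommutative N := two_classes_comm hG χ hχ N hN
  have hμ1 : (μ : N → ℂ) 1 = 1 := by
    have h1 := IsIrrCharacter.charDegree_eq_one_of_comm μ.2
    rw [← IsCharacter.charDegree_cast (IsIrrCharacter.isCharacter μ.2), h1, Nat.cast_one]
  -- expansion of the induced class function
  have hIcf : IsClassFunction G (indFun N (μ : N → ℂ)) := Helper15.isClassFunction_indFun N _
  have hexp := Helper79.classFunction_expansion hIcf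
  let triv : IrrCharacter N := ⟨fun _ => (1 : ℂ), isIrrCharacter_one N⟩
  have hμtriv : μ ≠ triv := fun h => hμ (congrArg Subtype.val h)
  have hzero : ∀ ψ : IrrCharacter G, ψ ≠ χ →
      classInner (indFun N (μ : N → ℂ)) (ψ : G → ℂ) = 0 := by
    intro ψ hψ
    have hψcf : IsClassFunction G (ψ : G → ℂ) :=
      IsCharacter.isClassFunction (IsIrrCharacter.isCharacter ψ.2)
    rw [Helper15.frobenius_reciprocity N _ _ hψcf]
    have h1 : (fun n : N => (ψ : G → ℂ) n) = ((ψ : G → ℂ) 1) • (triv : N → ℂ) := by
      funext n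
      simp only [Pi.smul_apply, smul_eq_mul, triv, mul_one]
      exact hotherN ψ hψ n n.2
    rw [h1, Helper79.classInner_smul_right, Helper79.classInner_irr_ne hμtriv, mul_zero]
  set e := classInner (indFun N (μ : N → ℂ)) (χ : G → ℂ) with he
  have hIe : indFun N (μ : N → ℂ) = e • (χ : G → ℂ) := by
    conv_lhs => rw [hexp]
    rw [Finset.sum_eq_single χ]
    · intro ψ _ hψ
      rw [hzero ψ hψ, zero_smul]
    · intro h
      exact absurd (Finset.mem_univ _) h
  -- evaluate at 1
  set d := charDegree (χ : G → ℂ) with hd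
  have hd1 : (d : ℂ) = (χ : G → ℂ) 1 := IsCharacter.charDegree_cast hχc
  have hev : (N.index : ℂ) = e * (d : ℂ) := by
    have h1 := congrFun hIe 1
    rw [Helper15.indFun_apply_one, hμ1, mul_one, Pi.smul_apply, smul_eq_mul, ← hd1] at h1
    exact h1
  have hev' : (N.index : ℂ) = conj e * (d : ℂ) := by
    have h1 := congrArg (starRingEnd ℂ) hev
    rw [map_mul, Complex.conj_natCast, Complex.conj_natCast] at h1
    exact h1
  -- the norm of the induced class function
  have hnorm := classInner_indFun_self N μ.2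
  rw [hIe, Helper79.classInner_smul_left, Helper79.classInner_smul_right,
    Helper79.classInner_irr_self, mul_one] at hnorm
  have hNne : (Nat.card N : ℂ) ≠ 0 := by
    have : Nat.card N ≠ 0 := Nat.card_pos.ne'
    exact_mod_cast this
  have h1 : ((inertiaFinset N (μ : N → ℂ)).card : ℂ) * (d : ℂ) ^ 2 =
      (Nat.card N : ℂ) * (N.index : ℂ) ^ 2 := by
    have h2 : ((inertiaFinset N (μ : N → ℂ)).card : ℂ) = (Nat.card N : ℂ) * (e * conj e) := by
      rw [hnorm]; field_simp
    rw [h2, sq, sq]
    calc (Nat.card N : ℂ) * (e * conj e) * ((d : ℂ) * (d : ℂ))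
        = (Nat.card N : ℂ) * ((e * (d : ℂ)) * (conj e * (d : ℂ))) := by ring
      _ = (Nat.card N : ℂ) * ((N.index : ℂ) * (N.index : ℂ)) := by rw [← hev, ← hev']
  have h1' : (inertiaFinset N (μ : N → ℂ)).card * d ^ 2 = Nat.card N * N.index ^ 2 := by
    exact_mod_cast h1
  have h3 : Nat.card N * N.index = Nat.card G := Subgroup.card_mul_index N
  have h4 : Nat.card (Subgroup.centralizer ({g} : Set G)) *
      (Subgroup.centralizer ({g} : Set G)).index = Nat.card G := Subgroup.card_mul_index _
  have hkpos : 0 < (Subgroup.centralizer ({g} : Set G)).index :=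
    Nat.pos_of_ne_zero Subgroup.index_ne_zero_of_finite
  have hGpos : 0 < Nat.card G := Nat.card_pos
  set k := (Subgroup.centralizer ({g} : Set G)).index with hk
  have h5 : (inertiaFinset N (μ : N → ℂ)).card * k * Nat.card G = Nat.card G * Nat.card G := by
    zify at hB h1' hNcard h3 ⊢
    linear_combination (-((inertiaFinset N (μ : N → ℂ)).card : ℤ)) * hB + ((k : ℤ) + 1) * h1' -
      ((Nat.card N : ℤ) * (N.index : ℤ) ^ 2) * hNcard +
      ((Nat.card N : ℤ) * (N.index : ℤ) + (Nat.card G : ℤ)) * h3
  have h6 : (inertiaFinset N (μ : N → ℂ)).card * k = Nat.card G :=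
    Nat.eq_of_mul_eq_mul_right hGpos h5
  rw [← h4] at h6
  have h7 := Nat.eq_of_mul_eq_mul_right hkpos h6
  rw [h7]
  exact hcent g hgN hg1

end inertiapart

end Cfsg.Agent.Helper80
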