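import Mathlib
import Cfsg.Agent.Helper80.TwoClassesInertia
import Cfsg.Agent.Helper81.LinTwist

set_option autoImplicit false

/-!
# Linear characters, twists, and groups with a single character of degree divisible by `p`
-/

namespace Cfsg.Agent.Helper80

open Cfsg
open scoped ComplexConjugate commutatorElement

universe u

section linear

variable {G : Type u} [Group G] [Finite G]

/-- If `G ⧸ N` is commutative and `g ∉ N`, some linear character is trivial on `N` and not at
`g`. -/
theorem exists_hom_ne_one_of_not_mem (N : Subgroup G) [N.Normal]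
    (hcomm : ∀ a b : G ⧸ N, a * b = b * a) (g : G) (hg : g ∉ N) :
    ∃ ν : G →* ℂˣ, (∀ n ∈ N, ν n = 1) ∧ ν g ≠ 1 := by
  classical
  letI : CommGroup (G ⧸ N) := { (inferInstance : Group (G ⧸ N)) with mul_comm := hcomm }
  have hne : NeZero (Monoid.exponent (G ⧸ N)) := ⟨Monoid.exponent_ne_zero_of_finite⟩
  have hne' : NeZero ((Monoid.exponent (G ⧸ N) : ℕ) : ℂ) := NeZero.charZero
  have hER : HasEnoughRootsOfUnity ℂ (Monoid.exponent (G ⧸ N)) := inferInstance
  have hg1 : (g : G ⧸ N) ≠ 1 := fun h => hg ((QuotientGroup.eq_one_iff g).mp h)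
  obtain ⟨φ, hφ⟩ := CommGroup.exists_apply_ne_one_of_hasEnoughRootsOfUnity (G ⧸ N) ℂ hg1
  refine ⟨φ.comp (QuotientGroup.mk' N), ?_, ?_⟩
  · intro n hn
    rw [MonoidHom.comp_apply, QuotientGroup.mk'_apply, (QuotientGroup.eq_one_iff n).mpr hn,
      map_one]
  · exact hφ

/-- Elements outside the derived subgroup are detected by linear characters. -/
theorem exists_hom_ne_one_of_not_mem_commutator (g : G) (hg : g ∉ commutator G) :
    ∃ ν : G →* ℂˣ, ν g ≠ 1 := by
  obtain ⟨ν, -, h⟩ := exists_hom_ne_one_of_not_mem (commutator G)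
    (fun a b => by
      induction a using QuotientGroup.induction_on with
      | H a =>
        induction b using QuotientGroup.induction_on with
        | H b =>
          rw [← QuotientGroup.mk_mul, ← QuotientGroup.mk_mul, QuotientGroup.eq]
          have : (a * b)⁻¹ * (b * a) = ⁅b⁻¹, a⁻¹⁆ := by
            rw [commutatorElement_def]; group
          rw [this]
          exact Subgroup.commutator_mem_commutator (Subgroup.mem_top _) (Subgroup.mem_top _)) g hg
  exact ⟨ν, h⟩

/-- A linear irreducible character is trivial on the derived subgroup. -/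
theorem IsCharacter.eq_one_of_mem_commutator {χ : G → ℂ} (h : IsCharacter G χ)
    (h1 : charDegree χ = 1) {g : G} (hg : g ∈ commutator G) : χ g = χ 1 := by
  have h1' : χ 1 = 1 := by rw [← IsCharacter.charDegree_cast h, h1, Nat.cast_one]
  obtain ⟨φ, hφ⟩ := IsCharacter.exists_monoidHom h h1'
  have hker : g ∈ φ.ker := Abelianization.commutator_subset_ker φ hg
  rw [hφ g, hφ 1, MonoidHom.mem_ker.mp hker, _root_.map_one]

/-- An irreducible character with the derived subgroup in its kernel is linear. -/
theorem IsIrrCharacter.charDegree_eq_one_of_commutator_le {χ : G → ℂ} (h : IsIrrCharacter G χ)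
    (hk : ∀ g ∈ commutator G, χ g = χ 1) : charDegree χ = 1 := by
  obtain ⟨ψ, hψ, hχψ⟩ := IsIrrCharacter.exists_descend h (QuotientGroup.mk' (commutator G))
    (QuotientGroup.mk'_surjective _) (fun g hg => hk g ((QuotientGroup.eq_one_iff g).mp hg))
  have hcomm : IsMulCommutative (G ⧸ commutator G) := by
    rw [isMulCommutative_iff]
    intro a b
    induction a using QuotientGroup.induction_on with
    | H a =>
      induction b using QuotientGroup.induction_on with
      | H b =>
        rw [← QuotientGroup.mk_mul, ← QuotientGroup.mk_mul, QuotientGroup.eq]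
        have : (a * b)⁻¹ * (b * a) = ⁅b⁻¹, a⁻¹⁆ := by
          rw [commutatorElement_def]; group
        rw [this]
        exact Subgroup.commutator_mem_commutator (Subgroup.mem_top _) (Subgroup.mem_top _)
  have h1 := IsIrrCharacter.charDegree_eq_one_of_comm hψ
  unfold charDegree at h1 ⊢
  rw [hχψ 1, _root_.map_one]
  exact h1

/-- A non-commutative finite group has a non-linear irreducible character. -/
theorem exists_irr_charDegree_ne_one (h : ¬ IsMulCommutative G) :
    ∃ χ : IrrCharacter G, charDegree (χ : G → ℂ) ≠ 1 := by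
  classical
  have := Fintype.ofFinite G
  by_contra hcon
  push Not at hcon
  apply h
  rw [isMulCommutative_iff]
  intro a b
  have hc : IsConj (a * b * a⁻¹ * b⁻¹) 1 := by
    rw [Helper79.isConj_iff_forall_irr_eq]
    intro χ
    exact IsCharacter.eq_one_of_mem_commutator (IsIrrCharacter.isCharacter χ.2) (hcon χ)
      (by
        rw [← commutatorElement_def]
        exact Subgroup.commutator_mem_commutator (Subgroup.mem_top _) (Subgroup.mem_top _))
  have h1 : a * b * a⁻¹ * b⁻¹ = 1 := isConj_one_left.mp hc
  calc a * b = (a * b * a⁻¹ * b⁻¹) * (b * a) := by group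
    _ = b * a := by rw [h1, one_mul]

/-- **Twist argument**: if every linear twist of `χ` equals `χ`, then `χ` vanishes off the
derived subgroup. -/
theorem mem_commutator_of_twist_invariant {χ : G → ℂ}
    (htw : ∀ ν : G →* ℂˣ, (fun g => ((ν g : ℂˣ) : ℂ) * χ g) = χ) {g : G} (hg : χ g ≠ 0) :
    g ∈ commutator G := by
  by_contra hgc
  obtain ⟨ν, hν⟩ := exists_hom_ne_one_of_not_mem_commutator g hgc
  have h1 := congrFun (htw ν) g
  have h2 : (((ν g : ℂˣ) : ℂ) - 1) * χ g = 0 := by linear_combination h1
  rcases mul_eq_zero.mp h2 with h | h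
  · apply hν
    apply Units.ext
    rw [Units.val_one]
    linear_combination h
  · exact hg h

end linear

end Cfsg.Agent.Helper80
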