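import Mathlib
import Cfsg.Prelude.Def_Blocks
import Cfsg.Prelude.Def_Local
import Cfsg.Agent.Helper80.CharLevel
import Cfsg.Agent.Helper80.Pullback
import Cfsg.Agent.Helper80.Degree
import Cfsg.Agent.Helper80.Integrality
import Cfsg.Agent.Helper80.OneChar
import Cfsg.Agent.Helper15.CliffordCorr
import Cfsg.Agent.Helper81.CliffordInd
import Cfsg.Agent.Helper79.CharComplete
import Cfsg.Agent.Helper74.CharBasic
import Cfsg.Agent.Helper67.Conj
import Cfsg.Agent.Helper76.ClassSizeSylow
import Cfsg.Agent.Helper11.PSolvable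
import Cfsg.Agent.Helper91.PSolvNorm
import Cfsg.Agent.Lib.Cores

/-!
# Converse of Ito's theorem for `p`-solvable groups

If `G` is `p`-solvable and no irreducible character degree of `G` is divisible by `p`, then
`G` has a normal abelian Sylow `p`-subgroup.
-/

set_option autoImplicit false

namespace Cfsg.Agent.Helper80

open Cfsg

universe u

section clifford

variable {G : Type u} [Group G] [Fintype G] (N : Subgroup G) [hN : N.Normal] [Fintype N]

/-- Every irreducible character of a normal subgroup lies under an irreducible character. -/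
theorem exists_irr_over {θ : N → ℂ} (hθ : IsIrrCharacter N θ) :
    ∃ χ : G → ℂ, IsIrrCharacter G χ ∧ classInner (fun n : N => χ n) θ ≠ 0 := by
  have hind : IsCharacter G (indFun N θ) := Helper15.isCharacter_indFun N (IsIrrCharacter.isCharacter hθ)
  have h1 : indFun N θ 1 ≠ 0 := by
    rw [Helper15.indFun_apply_one]
    refine mul_ne_zero ?_ (IsIrrCharacter.map_one_ne_zero hθ)
    exact_mod_cast N.index_ne_zero_of_finite
  obtain ⟨χ, hχ⟩ := Helper81.exists_irr_constituent hind h1
  refine ⟨χ, χ.2, ?_⟩
  rw [Helper15.frobenius_reciprocity N θ χ (IsCharacter.isClassFunction (IsIrrCharacter.isCharacter χ.2))] at hχ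
  intro h0
  apply hχ
  rw [← Helper15.classInner_conj_symm, h0, map_zero]

/-- Degree formula from Clifford's theorem: `χ(1) = e · [G : I_G(θ)] · θ(1)`. -/
theorem clifford_degree {χ : G → ℂ} (hχ : IsIrrCharacter G χ) {θ : N → ℂ}
    (hθ : IsIrrCharacter N θ) (hθχ : classInner (fun n : N => χ n) θ ≠ 0) :
    ∃ e : ℕ, charDegree χ = e * (Helper15.inertia N θ).index * charDegree θ := by
  have h := Helper15.clifford_restrict N hχ hθ hθχ
  have hres : IsCharacter N (fun n : N => χ n) := IsCharacter.comp_hom (IsIrrCharacter.isCharacter hχ) N.subtype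
  obtain ⟨e, he⟩ := Helper74.isCharacter_inner_irr_nat hres ⟨θ, hθ⟩
  refine ⟨e, ?_⟩
  have h1 := congrFun h 1
  simp only [Pi.smul_apply, Finset.sum_apply, smul_eq_mul] at h1
  have h2 : ∀ φ ∈ Helper15.conjOrbit N θ, φ 1 = θ 1 := by
    intro φ hφ
    obtain ⟨g, rfl⟩ := (Helper15.mem_conjOrbit N).1 hφ
    rw [Helper15.conjFun_apply]
    congr 1
    apply Subtype.ext
    simp
  rw [Finset.sum_congr rfl h2, Finset.sum_const, Helper15.card_conjOrbit, nsmul_eq_mul] at h1
  have he' : classInner (fun n : N => χ n) θ = e := he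
  rw [he'] at h1
  have h3 : (χ ((1 : N) : G)) = χ 1 := by simp
  rw [h3, ← IsCharacter.charDegree_cast (IsIrrCharacter.isCharacter hχ),
    ← IsCharacter.charDegree_cast (IsIrrCharacter.isCharacter hθ)] at h1
  have : ((charDegree χ : ℕ) : ℂ) = ((e * (Helper15.inertia N θ).index * charDegree θ : ℕ) : ℂ) := by
    push_cast
    rw [h1]; ring
  exact_mod_cast this

end clifford

section centralize

variable {G : Type u} [Group G] [Finite G]

/-- If a `p`-subgroup `S` fixes every irreducible character of the normal `p'`-subgroup `N`,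
then `S` centralizes `N`. -/
theorem centralizes_of_invariant (p : ℕ) [Fact p.Prime] (N : Subgroup G) [hN : N.Normal]
    (hNp : (Nat.card N).Coprime p) (S : Subgroup G) (hS : IsPGroup p S)
    (hinv : ∀ θ : N → ℂ, IsIrrCharacter N θ → ∀ s ∈ S, Helper15.conjFun N s θ = θ) :
    ∀ s ∈ S, ∀ n ∈ N, s * n = n * s := by
  classical
  have hp : p.Prime := Fact.out
  have := Fintype.ofFinite N
  -- conjugation by `s ∈ S` preserves `N`-classes
  have step1 : ∀ s ∈ S, ∀ x : N,
      IsConj (⟨s * x * s⁻¹, hN.conj_mem (x : G) x.2 s⟩ : N) x := by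
    intro s hs x
    rw [Helper79.isConj_iff_forall_irr_eq]
    intro χ
    have := congrFun (hinv χ χ.2 s hs) x
    rwa [Helper15.conjFun_apply] at this
  -- every `N`-class contains an `S`-fixed point
  have step2 : ∀ n₀ : N, ∃ k : N, IsConj n₀ k ∧ ∀ s ∈ S, s * (k : G) * s⁻¹ = k := by
    intro n₀
    let K := {x : N // IsConj n₀ x}
    let _ : MulAction S K :=
      { smul := fun s x => ⟨⟨(s : G) * (x.1 : G) * (s : G)⁻¹, hN.conj_mem _ x.1.2 _⟩,
          x.2.trans (step1 s s.2 x.1).symm⟩
        one_smul := fun x => by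
          apply Subtype.ext; apply Subtype.ext
          show ((1 : S) : G) * (x.1 : G) * ((1 : S) : G)⁻¹ = x.1
          simp
        mul_smul := fun s t x => by
          apply Subtype.ext; apply Subtype.ext
          show ((s * t : S) : G) * (x.1 : G) * ((s * t : S) : G)⁻¹ =
            (s : G) * ((t : G) * (x.1 : G) * (t : G)⁻¹) * (s : G)⁻¹
          simp [mul_assoc] }
    have hcard : Nat.card K = (Subgroup.centralizer ({n₀} : Set N)).index := by
      rw [← card_classFinset, ← Set.ncard_coe_finset]
      rw [← Nat.card_coe_set_eq]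
      apply Nat.card_congr
      refine Equiv.subtypeEquivRight ?_
      intro x
      rw [Finset.mem_coe, mem_classFinset]
    have hnd : ¬ p ∣ Nat.card K := by
      intro hdvd
      rw [hcard] at hdvd
      have h2 : p ∣ Nat.card N := hdvd.trans (Subgroup.index_dvd_card _)
      exact (Nat.Prime.coprime_iff_not_dvd hp).1 hNp.symm h2
    obtain ⟨k, hk⟩ := hS.nonempty_fixed_point_of_prime_not_dvd_card K hnd
    refine ⟨k.1, k.2, ?_⟩
    intro s hs
    have := hk ⟨s, hs⟩
    have h3 := congrArg (fun y : K => ((y.1 : N) : G)) this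
    exact h3
  -- the centralizer of `S` in `N` meets every class, hence is all of `N`
  have step3 : (Subgroup.centralizer (S : Set G)).subgroupOf N = ⊤ := by
    apply Helper67.eq_top_of_forall_exists_conj_mem
    intro x
    obtain ⟨k, hk, hfix⟩ := step2 x
    obtain ⟨c, hc⟩ := isConj_iff.1 hk
    refine ⟨c, ?_⟩
    rw [hc, Subgroup.mem_subgroupOf, Subgroup.mem_centralizer_iff]
    intro s hs
    have := hfix s hs
    calc s * (k : G) = s * (k : G) * s⁻¹ * s := by group
      _ = (k : G) * s := by rw [this]
  intro s hs n hn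
  have hmem : (⟨n, hn⟩ : N) ∈ (Subgroup.centralizer (S : Set G)).subgroupOf N := by
    rw [step3]; exact Subgroup.mem_top _
  rw [Subgroup.mem_subgroupOf, Subgroup.mem_centralizer_iff] at hmem
  exact hmem s hs

end centralize

section steps

variable {G : Type u} [Group G] [Finite G]

/-- Lifting normality of the Sylow `p`-subgroup through a normal `p`-subgroup. -/
theorem sylow_normal_of_quotient_pGroup (p : ℕ) [Fact p.Prime] (N : Subgroup G) [hN : N.Normal]
    (hNp : IsPGroup p N)
    (hQ : ∀ Q : Sylow p (G ⧸ N), (Q : Subgroup (G ⧸ N)).Normal)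
    (P : Sylow p G) : (P : Subgroup G).Normal := by
  have hsurj := QuotientGroup.mk'_surjective N
  have hQn := hQ (P.mapSurjective hsurj)
  have hNP : N ≤ P := Lib.normal_pGroup_le_sylow hN hNp P
  have hLeq : (P : Subgroup G) =
      ((P.mapSurjective hsurj : Sylow p (G ⧸ N)) : Subgroup (G ⧸ N)).comap
        (QuotientGroup.mk' N) := by
    rw [Sylow.coe_mapSurjective, Subgroup.comap_map_eq, QuotientGroup.ker_mk', sup_eq_left.2 hNP]
  rw [hLeq]
  exact hQn.comap _

/-- Lifting normality of the Sylow `p`-subgroup through a normal `p'`-subgroup all of whose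
irreducible characters have inertia group of index prime to `p`. -/
theorem sylow_normal_of_quotient_pPrime (p : ℕ) [Fact p.Prime] (N : Subgroup G) [hN : N.Normal]
    (hNp : (Nat.card N).Coprime p)
    (hQ : ∀ Q : Sylow p (G ⧸ N), (Q : Subgroup (G ⧸ N)).Normal)
    (hI : ∀ θ : N → ℂ, IsIrrCharacter N θ → ¬ p ∣ (Helper15.inertia N θ).index)
    (P : Sylow p G) : (P : Subgroup G).Normal := by
  classical
  have hp : p.Prime := Fact.out
  have hsurj := QuotientGroup.mk'_surjective N
  have hQn := hQ (P.mapSurjective hsurj)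
  obtain ⟨L, hL⟩ : ∃ L : Subgroup G, L = (P : Subgroup G) ⊔ N := ⟨_, rfl⟩
  have hLeq : L = ((P.mapSurjective hsurj : Sylow p (G ⧸ N)) : Subgroup (G ⧸ N)).comap
        (QuotientGroup.mk' N) := by
    rw [Sylow.coe_mapSurjective, Subgroup.comap_map_eq, QuotientGroup.ker_mk', hL]
  have hLn : L.Normal := by rw [hLeq]; exact hQn.comap _
  have hPL : (P : Subgroup G) ≤ L := hL ▸ le_sup_left
  have hNL : N ≤ L := hL ▸ le_sup_right
  -- `[L : N]` is a power of `p`
  have hrel : ∃ k, N.relIndex L = p ^ k := by
    have h1 : N.relIndex L = N.relIndex P := by rw [hL, Subgroup.relIndex_sup_right]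
    have h2 : N.relIndex P ∣ Nat.card P := Subgroup.relIndex_dvd_card _ _
    obtain ⟨m, hm⟩ := IsPGroup.iff_card.1 P.2
    rw [hm] at h2
    obtain ⟨k, _, hk⟩ := (Nat.dvd_prime_pow hp).1 h2
    exact ⟨k, h1.trans hk⟩
  -- `L` lies in every inertia group
  have hLI : ∀ θ : N → ℂ, IsIrrCharacter N θ → L ≤ Helper15.inertia N θ := by
    intro θ hθ
    have hNI : N ≤ Helper15.inertia N θ :=
      Helper15.le_inertia N (IsCharacter.isClassFunction (IsIrrCharacter.isCharacter hθ))
    have h1 : (Helper15.inertia N θ).relIndex L ∣ N.relIndex L :=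
      Subgroup.relIndex_dvd_of_le_left L hNI
    have h2 : (Helper15.inertia N θ).relIndex L ∣ (Helper15.inertia N θ).index := by
      have h3 := Helper76.relIndex_sup_eq_of_normal (Helper15.inertia N θ) L
      rw [Subgroup.inf_relIndex_right] at h3
      rw [← h3]
      exact Subgroup.relIndex_dvd_index_of_le le_sup_left
    obtain ⟨k, hk⟩ := hrel
    rw [hk] at h1
    obtain ⟨j, _, hj⟩ := (Nat.dvd_prime_pow hp).1 h1
    have hj0 : j = 0 := by
      by_contra hne
      apply hI θ hθ
      refine dvd_trans ?_ h2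
      rw [hj]
      exact dvd_pow_self p hne
    rw [hj0, pow_zero] at hj
    exact Subgroup.relIndex_eq_one.1 hj
  -- `P` centralizes `N`
  have hcent := centralizes_of_invariant p N hNp (P : Subgroup G) P.2
    (fun θ hθ s hs => (Helper15.mem_inertia N θ s).1 (hLI θ hθ (hPL hs)))
  -- `L` normalizes `P`
  have hLnorm : L ≤ Subgroup.normalizer ((P : Subgroup G) : Set G) := by
    rw [hL]
    refine sup_le Subgroup.le_normalizer ?_
    intro n hn
    rw [Subgroup.mem_normalizer_iff]
    intro s
    constructor
    · intro hs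
      have h1 : n * s * n⁻¹ = s := by
        rw [← hcent s hs n hn]; group
      rw [h1]; exact hs
    · intro hs
      have h1 := hcent _ hs n hn
      have h2 : s = n * s * n⁻¹ := by
        have : n * s * n⁻¹ * n = n * (n * s * n⁻¹) := h1
        have h3 : n * s = n * (n * s * n⁻¹) := by
          rw [← this]; group
        exact mul_left_cancel h3
      rw [h2]; exact hs
  -- `P` is a normal, hence characteristic, Sylow subgroup of `L`
  have hP'n : ((P.subtype hPL : Sylow p L) : Subgroup L).Normal := by
    rw [Sylow.coe_subtype]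
    exact (Subgroup.normal_subgroupOf_iff_le_normalizer hPL).2 hLnorm
  have hchar : ((P.subtype hPL : Sylow p L) : Subgroup L).Characteristic :=
    Sylow.characteristic_of_normal _ hP'n
  have hfin := ConjAct.normal_of_characteristic_of_normal (H := L)
    (K := ((P.subtype hPL : Sylow p L) : Subgroup L))
  have hmap : ((P.subtype hPL : Sylow p L) : Subgroup L).map L.subtype = (P : Subgroup G) := by
    rw [Sylow.coe_subtype, Subgroup.subgroupOf_map_subtype, inf_eq_left.2 hPL]
  rwa [hmap] at hfin

end steps

section main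

/-- Irreducible character degrees of a quotient are irreducible character degrees of the group. -/
theorem degrees_quotient {G : Type u} [Group G] (p : ℕ) (N : Subgroup G) [N.Normal]
    (h : ∀ χ : G → ℂ, IsIrrCharacter G χ → ¬ p ∣ charDegree χ) :
    ∀ ψ : G ⧸ N → ℂ, IsIrrCharacter (G ⧸ N) ψ → ¬ p ∣ charDegree ψ := by
  intro ψ hψ
  have h1 := IsIrrCharacter.comp_surjective hψ (QuotientGroup.mk' N)
    (QuotientGroup.mk'_surjective N)
  have h2 := h _ h1
  have h3 : charDegree (fun g : G => ψ (QuotientGroup.mk' N g)) = charDegree ψ := by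
    unfold charDegree
    show ⌊(ψ ((QuotientGroup.mk' N) 1)).re⌋₊ = ⌊(ψ 1).re⌋₊
    rw [map_one]
  rwa [h3] at h2

/-- In a `p`-solvable group whose irreducible character degrees are all prime to `p`, the
Sylow `p`-subgroups are normal. -/
theorem sylow_normal_aux (p : ℕ) [Fact p.Prime] : ∀ (n : ℕ) (G : Type u) [Group G] [Finite G],
    Nat.card G = n → IsPSolvable p G →
    (∀ χ : G → ℂ, IsIrrCharacter G χ → ¬ p ∣ charDegree χ) →
    ∀ P : Sylow p G, (P : Subgroup G).Normal := by
  intro n
  induction n using Nat.strong_induction_on with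
  | _ n ih =>
    intro G _ _ hn hps hdeg P
    rcases subsingleton_or_nontrivial G with hG | hG
    · have : (P : Subgroup G) = ⊥ := Subsingleton.elim _ _
      rw [this]; infer_instance
    · have hIH : ∀ (N : Subgroup G) [N.Normal], N ≠ ⊥ →
          ∀ Q : Sylow p (G ⧸ N), (Q : Subgroup (G ⧸ N)).Normal := by
        intro N _ hN1 Q
        refine ih (Nat.card (G ⧸ N)) ?_ (G ⧸ N) rfl (Helper11.isPSolvable_quotient N hps)
          (degrees_quotient p N hdeg) Q
        rw [← hn, ← Subgroup.index_eq_card, ← Subgroup.index_mul_card N]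
        have h1 : 1 < Nat.card N := by
          rw [Finite.one_lt_card_iff_nontrivial]
          exact (Subgroup.nontrivial_iff_ne_bot N).2 hN1
        have h2 : 0 < N.index := Nat.pos_of_ne_zero N.index_ne_zero_of_finite
        calc N.index = N.index * 1 := (mul_one _).symm
          _ < N.index * Nat.card N := Nat.mul_lt_mul_of_pos_left h1 h2
      rcases Helper91.pCore_ne_bot_or_pPrimeCore_ne_bot hps with h | h
      · exact sylow_normal_of_quotient_pGroup p (pCore p G) (Lib.isPGroup_pCore p) (hIH _ h) P
      · refine sylow_normal_of_quotient_pPrime p (pPrimeCore p G) (Lib.card_pPrimeCore_coprime p)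
          (hIH _ h) ?_ P
        intro θ hθ hdvd
        have := Fintype.ofFinite G
        have := Fintype.ofFinite (pPrimeCore p G)
        obtain ⟨χ, hχ, hne⟩ := exists_irr_over (pPrimeCore p G) hθ
        obtain ⟨e, he⟩ := clifford_degree (pPrimeCore p G) hχ hθ hne
        apply hdeg χ hχ
        rw [he]
        exact Dvd.dvd.mul_right (Dvd.dvd.mul_left hdvd e) _

/-- In a `p`-solvable group whose irreducible character degrees are all prime to `p`, the
Sylow `p`-subgroups are normal. -/
theorem sylow_normal_of_degrees {G : Type u} [Group G] [Finite G] (p : ℕ) [Fact p.Prime]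
    (hps : IsPSolvable p G)
    (hdeg : ∀ χ : G → ℂ, IsIrrCharacter G χ → ¬ p ∣ charDegree χ) (P : Sylow p G) :
    (P : Subgroup G).Normal :=
  sylow_normal_aux p (Nat.card G) G rfl hps hdeg P

/-- A normal Sylow `p`-subgroup of a group all of whose irreducible character degrees are prime
to `p` is abelian. -/
theorem sylow_comm_of_normal {G : Type u} [Group G] [Finite G] (p : ℕ) [Fact p.Prime]
    (hdeg : ∀ χ : G → ℂ, IsIrrCharacter G χ → ¬ p ∣ charDegree χ) (P : Sylow p G)
    (hP : (P : Subgroup G).Normal) : IsMulCommutative (P : Subgroup G) := by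
  have hp : p.Prime := Fact.out
  by_contra hnc
  obtain ⟨φ, hφ⟩ := exists_irr_charDegree_ne_one hnc
  have h1 : charDegree (φ : ↥(P : Subgroup G) → ℂ) ∣ Nat.card (P : Subgroup G) :=
    IsIrrCharacter.charDegree_dvd_card φ.2
  obtain ⟨k, hk⟩ := IsPGroup.iff_card.1 P.2
  rw [hk] at h1
  obtain ⟨j, _, hj⟩ := (Nat.dvd_prime_pow hp).1 h1
  have hj0 : j ≠ 0 := by
    rintro rfl
    exact hφ (by simpa using hj)
  have hpd : p ∣ charDegree (φ : ↥(P : Subgroup G) → ℂ) := by
    rw [hj]; exact dvd_pow_self p hj0
  have := Fintype.ofFinite G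
  have := Fintype.ofFinite (P : Subgroup G)
  obtain ⟨χ, hχ, hne⟩ := exists_irr_over (P : Subgroup G) φ.2
  obtain ⟨e, he⟩ := clifford_degree (P : Subgroup G) hχ φ.2 hne
  apply hdeg χ hχ
  rw [he]
  exact Dvd.dvd.mul_left hpd _

end main

end Cfsg.Agent.Helper80
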