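-- helper80: pieces (W3), (W4) of #4500 for helper86 (S5293). Pure Mathlib.
import Mathlib

set_option autoImplicit false

namespace Cfsg.Agent.Helper80

/-- (W3) A `q`-element `z` whose conjugation preserves the coset `aK` of a `p`-group `K` (`q ≠ p`) centralizes some
element of that coset. -/
theorem exists_commute_of_coset {A : Type*} [Group A] [Finite A] {p q : ℕ} [Fact p.Prime] [Fact q.Prime]
    (hpq : q ≠ p) (K : Subgroup A) (hK : IsPGroup p K) (a z : A) (k : ℕ) (hz : orderOf z = q ^ k)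
    (hcos : ∀ x ∈ K, ∃ y ∈ K, z * (a * x) * z⁻¹ = a * y) : ∃ x ∈ K, z * (a * x) * z⁻¹ = a * x := by
  classical
  let T : Submonoid A :=
    { carrier := {w | ∀ b : A, a⁻¹ * b ∈ K → a⁻¹ * (w * b * w⁻¹) ∈ K}
      one_mem' := by
        intro b hb
        simpa using hb
      mul_mem' := by
        intro w1 w2 h1 h2 b hb
        have h3 := h1 _ (h2 b hb)
        have e : w1 * w2 * b * (w1 * w2)⁻¹ = w1 * (w2 * b * w2⁻¹) * w1⁻¹ := by group
        rw [e]
        exact h3 }
  have hzT : z ∈ T := by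
    intro b hb
    obtain ⟨y, hy, hzy⟩ := hcos _ hb
    have e : a * (a⁻¹ * b) = b := by group
    rw [e] at hzy
    rw [hzy]
    simpa using hy
  have hZT : ∀ w ∈ Subgroup.zpowers z, w ∈ T := by
    intro w hw
    rw [← mem_powers_iff_mem_zpowers] at hw
    obtain ⟨n, rfl⟩ := hw
    exact T.pow_mem hzT n
  let α := {b : A // a⁻¹ * b ∈ K}
  let _inst : MulAction (Subgroup.zpowers z) α :=
    { smul := fun w b => ⟨(w : A) * b.1 * (w : A)⁻¹, hZT w w.2 b.1 b.2⟩
      one_smul := by
        rintro ⟨b, hb⟩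
        apply Subtype.ext
        show ((1 : Subgroup.zpowers z) : A) * b * ((1 : Subgroup.zpowers z) : A)⁻¹ = b
        simp
      mul_smul := by
        rintro w1 w2 ⟨b, hb⟩
        apply Subtype.ext
        show ((w1 * w2 : Subgroup.zpowers z) : A) * b * ((w1 * w2 : Subgroup.zpowers z) : A)⁻¹ =
          (w1 : A) * ((w2 : A) * b * (w2 : A)⁻¹) * (w1 : A)⁻¹
        rw [Subgroup.coe_mul]
        group }
  have hZq : IsPGroup q (Subgroup.zpowers z) := by
    apply IsPGroup.of_card (n := k)
    rw [Nat.card_zpowers, hz]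
  have hcardα : Nat.card α = Nat.card K := by
    apply Nat.card_congr
    exact
      { toFun := fun b => ⟨a⁻¹ * b.1, b.2⟩
        invFun := fun x => ⟨a * x.1, by simp⟩
        left_inv := by
          rintro ⟨b, hb⟩
          apply Subtype.ext
          show a * (a⁻¹ * b) = b
          group
        right_inv := by
          rintro ⟨x, hx⟩
          apply Subtype.ext
          show a⁻¹ * (a * x) = x
          group }
  obtain ⟨m, hm⟩ := IsPGroup.iff_card.mp hK
  have hnd : ¬ q ∣ Nat.card α := by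
    rw [hcardα, hm]
    intro h
    have h1 := (Nat.prime_dvd_prime_iff_eq (Fact.out : q.Prime) (Fact.out : p.Prime)).mp
      ((Fact.out : q.Prime).dvd_of_dvd_pow h)
    exact hpq h1
  obtain ⟨⟨b, hb⟩, hfix⟩ := hZq.nonempty_fixed_point_of_prime_not_dvd_card α hnd
  refine ⟨a⁻¹ * b, hb, ?_⟩
  have h1 := hfix ⟨z, Subgroup.mem_zpowers z⟩
  have h2 : z * b * z⁻¹ = b := congrArg Subtype.val h1
  have e : a * (a⁻¹ * b) = b := by group
  rw [e, h2]

/-- (W4) An element of order prime to `p` lies in the subgroup generated by the elements of prime power order `q ^ k`,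
`q ≠ p`. -/
theorem mem_closure_primePow {G : Type*} [Group G] [Finite G] (p : ℕ) (g : G) (hg : (orderOf g).Coprime p) :
    g ∈ Subgroup.closure {h : G | ∃ q k : ℕ, q.Prime ∧ q ≠ p ∧ orderOf h = q ^ k} := by
  set H := Subgroup.closure {h : G | ∃ q k : ℕ, q.Prime ∧ q ≠ p ∧ orderOf h = q ^ k} with hH
  have key : ∀ n : ℕ, ∀ g : G, orderOf g = n → n.Coprime p → g ∈ H := by
    intro n
    induction n using Nat.strong_induction_on with
    | _ n ih =>
      intro g hgn hcop
      by_cases h1 : n = 1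
      · have hg1 : g = 1 := orderOf_eq_one_iff.mp (hgn.trans h1)
        rw [hg1]
        exact H.one_mem
      have hn0 : n ≠ 0 := by
        rw [← hgn]
        exact (orderOf_pos g).ne'
      have hqp : (n.minFac).Prime := Nat.minFac_prime h1
      have hqn : n.minFac ∣ n := Nat.minFac_dvd n
      have hqne : n.minFac ≠ p := by
        intro h
        have h2 : n.minFac ∣ Nat.gcd n p := Nat.dvd_gcd hqn (h ▸ dvd_rfl)
        rw [hcop] at h2
        exact hqp.one_lt.ne' (Nat.dvd_one.mp h2)
      obtain ⟨a, m, hqm, hnm⟩ := Nat.exists_eq_pow_mul_and_not_dvd hn0 n.minFac hqp.ne_one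
      generalize n.minFac = q at hqp hqn hqne hqm hnm
      have ha : a ≠ 0 := by
        rintro rfl
        rw [pow_zero, one_mul] at hnm
        exact hqm (hnm ▸ hqn)
      have hm0 : m ≠ 0 := by
        rintro rfl
        rw [mul_zero] at hnm
        exact hn0 hnm
      have hqa0 : q ^ a ≠ 0 := pow_ne_zero _ hqp.ne_zero
      have hcopqm : Nat.Coprime (q ^ a) m :=
        Nat.Coprime.pow_left _ ((Nat.Prime.coprime_iff_not_dvd hqp).mpr hqm)
      have ho1 : orderOf (g ^ m) = q ^ a := by
        rw [orderOf_pow_of_dvd hm0 (by rw [hgn, hnm]; exact Dvd.intro_left _ rfl), hgn, hnm]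
        exact Nat.mul_div_cancel _ (Nat.pos_of_ne_zero hm0)
      have ho2 : orderOf (g ^ (q ^ a)) = m := by
        rw [orderOf_pow_of_dvd hqa0 (by rw [hgn, hnm]; exact Dvd.intro _ rfl), hgn, hnm]
        exact Nat.mul_div_cancel_left _ (Nat.pos_of_ne_zero hqa0)
      have hm_lt : m < n := by
        have h2 : 2 ≤ q ^ a := by
          calc 2 ≤ q := hqp.two_le
            _ = q ^ 1 := (pow_one q).symm
            _ ≤ q ^ a := Nat.pow_le_pow_right hqp.pos (Nat.one_le_iff_ne_zero.mpr ha)
        have hm1 : 1 ≤ m := Nat.one_le_iff_ne_zero.mpr hm0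
        rw [hnm]
        nlinarith
      have h_in1 : g ^ m ∈ H := Subgroup.subset_closure ⟨q, a, hqp, hqne, ho1⟩
      have h_in2 : g ^ (q ^ a) ∈ H :=
        ih m hm_lt _ ho2 (Nat.Coprime.coprime_dvd_left ⟨q ^ a, by rw [hnm]; ring⟩ hcop)
      have hbez := Nat.gcd_eq_gcd_ab (q ^ a) m
      rw [hcopqm] at hbez
      have hgeq : g = (g ^ (q ^ a)) ^ (Nat.gcdA (q ^ a) m) * (g ^ m) ^ (Nat.gcdB (q ^ a) m) := by
        rw [← zpow_natCast g (q ^ a), ← zpow_natCast g m, ← zpow_mul, ← zpow_mul, ← zpow_add, ← hbez]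
        simp
      rw [hgeq]
      exact H.mul_mem (H.zpow_mem h_in2 _) (H.zpow_mem h_in1 _)
  exact key _ g rfl hg

end Cfsg.Agent.Helper80
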