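import Mathlib
import Cfsg.Agent.S0887
import Cfsg.Agent.Helper80.Degree

/-!
# (GEN1a) for helper19's S2548: constituents of the restriction of a `p`-defect zero character of
prime power degree to a normal subgroup have degree the order of a Sylow `p`-subgroup
-/

set_option autoImplicit false

namespace Cfsg.Agent.Helper80.OpBN

open Cfsg

/-- (GEN1a) the constituents of the restriction of a `p`-defect zero character of prime power degree to a
normal subgroup have degree the order of a Sylow `p`-subgroup -/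
theorem constituent_degree {G : Type*} [Group G] [Fintype G] (p : ℕ) [Fact p.Prime]
    (N : Subgroup G) [N.Normal] [Fintype N] (χ : G → ℂ) (hχ : Cfsg.IsIrrCharacter G χ)
    (hdeg : ∀ Q : Sylow p G, χ 1 = Nat.card Q) (θ : N → ℂ) (hθ : Cfsg.IsIrrCharacter N θ)
    (hcon : Cfsg.classInner (fun n : N => χ n) θ ≠ 0) :
    ∀ Q : Sylow p N, θ 1 = Nat.card Q := by
  intro Q
  have hp : p.Prime := Fact.out
  obtain ⟨Q₀⟩ : Nonempty (Sylow p G) := inferInstance
  have hc : χ 1 = ((Nat.card Q₀ : ℕ) : ℂ) := hdeg Q₀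
  have hd : θ 1 = ((Cfsg.charDegree θ : ℕ) : ℂ) :=
    (Cfsg.Agent.Helper80.IsCharacter.charDegree_cast
      (Cfsg.Agent.Helper80.IsIrrCharacter.isCharacter hθ)).symm
  have hdN : Cfsg.charDegree θ ∣ Nat.card N :=
    Cfsg.Agent.Helper80.IsIrrCharacter.charDegree_dvd_card hθ
  obtain ⟨h1, h2⟩ := Cfsg.Agent.S0887.result N χ hχ θ hθ hcon _ _ hc hd
  have hQ₀ : Nat.card Q₀ = p ^ (Nat.card G).factorization p := Sylow.card_eq_multiplicity Q₀
  have hQ : Nat.card Q = p ^ (Nat.card N).factorization p := Sylow.card_eq_multiplicity Q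
  rw [hQ₀] at h1 h2
  obtain ⟨b, hb, hdb⟩ := (Nat.dvd_prime_pow hp).1 h1
  rw [hdb] at h2 hdN
  rw [hd, hdb, hQ]
  have hN0 : Nat.card N ≠ 0 := Nat.card_pos.ne'
  have hi0 : N.index ≠ 0 := Subgroup.index_ne_zero_of_finite
  have hb1 : b ≤ (Nat.card N).factorization p :=
    (hp.pow_dvd_iff_le_factorization hN0).1 hdN
  have hdiv : p ^ (Nat.card G).factorization p / p ^ b = p ^ ((Nat.card G).factorization p - b) :=
    Nat.pow_div hb hp.pos
  rw [hdiv] at h2
  have hb2 : (Nat.card G).factorization p - b ≤ N.index.factorization p :=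
    (hp.pow_dvd_iff_le_factorization hi0).1 h2
  have hG : Nat.card G = Nat.card N * N.index := (Subgroup.card_mul_index N).symm
  have hfac : (Nat.card G).factorization p
      = (Nat.card N).factorization p + N.index.factorization p := by
    rw [hG, Nat.factorization_mul hN0 hi0]
    rfl
  have : b = (Nat.card N).factorization p := by omega
  rw [this]

end Cfsg.Agent.Helper80.OpBN
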