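import Mathlib
import Cfsg.Prelude.Def_Characters
import Cfsg.Agent.Helper80.CharLevel
import Cfsg.Agent.Helper80.Pullback
import Cfsg.Agent.Helper81.IndTrans

/-!
# Group-theoretic lemmas for relative M-groups (Isaacs 6.22)
-/

set_option autoImplicit false

namespace Cfsg.Agent.Helper80

open Cfsg

universe u

section grp

variable {G : Type u} [Group G]

/-- If `G/N` is solvable then so is `T/(N ∩ T)` for every subgroup `T`. -/
theorem isSolvable_quotient_subgroupOf (N : Subgroup G) [N.Normal]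
    (hs : Group.IsSolvable (G ⧸ N)) (T : Subgroup G) :
    Group.IsSolvable (T ⧸ N.subgroupOf T) := by
  let f : T →* G ⧸ N := (QuotientGroup.mk' N).comp T.subtype
  have hker : f.ker = N.subgroupOf T := by
    ext x
    rw [MonoidHom.mem_ker, Subgroup.mem_subgroupOf]
    show QuotientGroup.mk' N (x : G) = 1 ↔ _
    exact QuotientGroup.eq_one_iff _
  have h1 : Group.IsSolvable (T ⧸ f.ker) :=
    solvable_of_solvable_injective (QuotientGroup.kerLift_injective f)
  exact solvable_of_solvable_injective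
    (f := (QuotientGroup.quotientMulEquivOfEq hker.symm).toMonoidHom)
    (QuotientGroup.quotientMulEquivOfEq hker.symm).injective

/-- A chief factor `K/L` of `G` above `N` with `G/N` solvable is abelian. -/
theorem commutator_le_of_chief_of_solvable (N K L : Subgroup G) [N.Normal] [hK : K.Normal]
    [hL : L.Normal] (hs : Group.IsSolvable (G ⧸ N)) (hNL : N ≤ L) (hLK : L < K)
    (hchief : ∀ M : Subgroup G, M.Normal → L ≤ M → M ≤ K → M = L ∨ M = K) :
    ⁅K, K⁆ ≤ L := by
  have hsL : Group.IsSolvable (G ⧸ L) := by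
    have hsurj : Function.Surjective (QuotientGroup.map N L (MonoidHom.id G)
        (by intro x hx; exact hNL hx)) := by
      intro q
      obtain ⟨g, rfl⟩ := QuotientGroup.mk'_surjective L q
      exact ⟨QuotientGroup.mk' N g, rfl⟩
    exact Group.isSolvable_of_surjective hsurj
  have hn : (⁅K, K⁆ ⊔ L).Normal := inferInstance
  rcases hchief (⁅K, K⁆ ⊔ L) hn le_sup_right
    (sup_le (Subgroup.commutator_le_left K K) hLK.le) with h | h
  · rw [← h]; exact le_sup_left
  · exfalso
    have hM : K.map (QuotientGroup.mk' L) ≠ ⊥ := by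
      intro h0
      rw [Subgroup.map_eq_bot_iff, QuotientGroup.ker_mk'] at h0
      exact not_le_of_gt hLK h0
    have hlt := Group.IsSolvable.commutator_lt_of_ne_bot hM
    have h2 : (⁅K, K⁆ ⊔ L).map (QuotientGroup.mk' L) =
        ⁅K.map (QuotientGroup.mk' L), K.map (QuotientGroup.mk' L)⁆ := by
      rw [Subgroup.map_sup, Subgroup.map_commutator]
      have : L.map (QuotientGroup.mk' L) = ⊥ := by
        rw [Subgroup.map_eq_bot_iff, QuotientGroup.ker_mk']
      rw [this, sup_bot_eq]
    rw [h] at h2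
    exact hlt.ne h2.symm

/-- The hypothesis of Isaacs 6.22: chief factors of subgroups above `N` have non-square order. -/
def NonsquareChief (G : Type u) [Group G] (N : Subgroup G) : Prop :=
  ∀ (H K L : Subgroup G), N ≤ L → L < K → K ≤ H → (∀ h ∈ H, ∀ k ∈ K, h * k * h⁻¹ ∈ K) →
    (∀ h ∈ H, ∀ l ∈ L, h * l * h⁻¹ ∈ L) →
    (∀ M : Subgroup G, L ≤ M → M ≤ K → (∀ h ∈ H, ∀ m ∈ M, h * m * h⁻¹ ∈ M) → M = L ∨ M = K) →
    ¬ IsSquare (L.relIndex K)

theorem nonsquareChief_subgroupOf (N T : Subgroup G) (hNT : N ≤ T) (h : NonsquareChief G N) :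
    NonsquareChief T (N.subgroupOf T) := by
  intro H' K' L' hNL hLK hKH hHK hHL hmin
  have hinj : Function.Injective T.subtype := T.subtype_injective
  rw [← Subgroup.relIndex_map_map_of_injective L' K' hinj]
  apply h (H'.map T.subtype) (K'.map T.subtype) (L'.map T.subtype)
  · intro x hx
    exact Subgroup.mem_map.2 ⟨⟨x, hNT hx⟩, hNL (Subgroup.mem_subgroupOf.2 hx), rfl⟩
  · refine lt_of_le_of_ne (Subgroup.map_mono hLK.le) ?_
    intro heq
    exact hLK.ne (Subgroup.map_injective hinj heq)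
  · exact Subgroup.map_mono hKH
  · rintro _ ⟨h', hh', rfl⟩ _ ⟨k', hk', rfl⟩
    exact Subgroup.mem_map.2 ⟨h' * k' * h'⁻¹, hHK h' hh' k' hk', rfl⟩
  · rintro _ ⟨h', hh', rfl⟩ _ ⟨l', hl', rfl⟩
    exact Subgroup.mem_map.2 ⟨h' * l' * h'⁻¹, hHL h' hh' l' hl', rfl⟩
  · intro M hLM hMK hHM
    have hMT : M ≤ T := hMK.trans (Subgroup.map_subtype_le K')
    have hMeq : (M.comap T.subtype).map T.subtype = M := by
      rw [Subgroup.map_comap_eq, Subgroup.range_subtype, inf_eq_right.2 hMT]
    have h1 : L' ≤ M.comap T.subtype := by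
      intro x hx
      exact hLM (Subgroup.mem_map_of_mem T.subtype hx)
    have h2 : M.comap T.subtype ≤ K' := by
      intro x hx
      obtain ⟨k', hk', hkx⟩ := Subgroup.mem_map.1 (hMK hx)
      have : k' = x := hinj hkx
      rwa [← this]
    have h3 : ∀ h' ∈ H', ∀ m ∈ M.comap T.subtype, h' * m * h'⁻¹ ∈ M.comap T.subtype := by
      intro h' hh' m hm
      exact hHM _ (Subgroup.mem_map_of_mem T.subtype hh') _ hm
    rcases hmin (M.comap T.subtype) h1 h2 h3 with h4 | h4
    · left; rw [← hMeq, h4]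
    · right; rw [← hMeq, h4]

section transport

variable [Fintype G]

/-- Transport of a relative-M-group witness from a subgroup `T` to `G`. -/
theorem relM_transport (N T : Subgroup G) [Fintype T] (hNT : N ≤ T) (H' : Subgroup T)
    (hNH' : N.subgroupOf T ≤ H') (ψ' : H' → ℂ) (hψ' : IsIrrCharacter H' ψ')
    (hres : IsIrrCharacter (N.subgroupOf T)
      (fun n : N.subgroupOf T => ψ' ⟨(n : T), hNH' n.2⟩)) :
    ∃ (H : Subgroup G) (hNH : N ≤ H) (ξ : H → ℂ), IsIrrCharacter H ξ ∧
      indFun H ξ = indFun T (indFun H' ψ') ∧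
      IsIrrCharacter N (fun n : N => ξ ⟨(n : G), hNH n.2⟩) := by
  have hNH : N ≤ H'.map T.subtype := by
    intro x hx
    exact Subgroup.mem_map.2 ⟨⟨x, hNT hx⟩, hNH' (Subgroup.mem_subgroupOf.2 hx), rfl⟩
  refine ⟨H'.map T.subtype, hNH, Helper81.mapFun T H' ψ', ?_, (Helper81.indFun_trans T H' ψ').symm,
    ?_⟩
  · exact IsIrrCharacter.comp_surjective hψ'
      (H'.equivMapOfInjective T.subtype T.subtype_injective).symm.toMonoidHom
      (H'.equivMapOfInjective T.subtype T.subtype_injective).symm.surjective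
  · have h1 : (fun n : N => Helper81.mapFun T H' ψ' ⟨(n : G), hNH n.2⟩) =
        fun n : N => (fun n' : N.subgroupOf T => ψ' ⟨(n' : T), hNH' n'.2⟩)
          ((Subgroup.subgroupOfEquivOfLe hNT).symm n) := by
      funext n
      exact Helper81.mapFun_apply T H' ψ'
        ⟨⟨(n : G), hNT n.2⟩, hNH' (Subgroup.mem_subgroupOf.2 n.2)⟩
    rw [h1]
    exact IsIrrCharacter.comp_surjective hres
      (Subgroup.subgroupOfEquivOfLe hNT).symm.toMonoidHom
      (Subgroup.subgroupOfEquivOfLe hNT).symm.surjective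

end transport

end grp

end Cfsg.Agent.Helper80
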