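import Mathlib
import Cfsg.Prelude.Def_Characters
import Cfsg.Agent.Helper74.LinTwist
import Cfsg.Agent.Helper15.CliffordCorr
import Cfsg.Agent.Helper81.CliffordInd
import Cfsg.Agent.Helper25.AbelianInertia
import Cfsg.Agent.Helper80.CharLevel

/-!
# The going-down theorem (Isaacs 6.18), pure form

`N ⊴ T` with `T/N` abelian and `ϑ ∈ Irr(T)`.  The number of linear characters `μ` of `T/N`
with `μ ϑ = ϑ` equals `⟨ϑ_N, ϑ_N⟩`.
-/

set_option autoImplicit false

namespace Cfsg.Agent.Helper80

open Cfsg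
open scoped ComplexConjugate

universe u

section goingdown

variable {T : Type u} [Group T] [Fintype T] (N : Subgroup T) [hN : N.Normal]

/-- `Ind (ψ_N) = ∑_μ μ ψ`, `μ` running over the linear characters of the abelian group `T/N`. -/
theorem indFun_restrict_eq_sum_twist (hab : ∀ x y : T, x * y * x⁻¹ * y⁻¹ ∈ N)
    [Fintype ((T ⧸ N) →* ℂˣ)] (ψ : IrrCharacter T) :
    indFun N (fun n : N => (ψ : T → ℂ) n) =
      ∑ μ : (T ⧸ N) →* ℂˣ,
        ((Helper74.twist (μ.comp (QuotientGroup.mk' N)) ψ : IrrCharacter T) : T → ℂ) := by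
  have hψcf : IsClassFunction T (ψ : T → ℂ) := Helper74.irr_isClassFunction ψ
  have h1 : (fun n : N => (ψ : T → ℂ) n) =
      (fun _ : N => (1 : ℂ)) * fun n : N => (ψ : T → ℂ) n := by
    funext n; simp
  rw [h1, Helper15.indFun_mul_restrict N (fun _ : N => (1 : ℂ)) (ψ : T → ℂ) hψcf]
  funext t
  rw [Pi.mul_apply, Helper25.indFun_one_eq_sum N hab t, Finset.sum_apply, Finset.sum_mul]
  refine Finset.sum_congr rfl (fun μ _ => ?_)
  rw [Helper74.twist_apply]
  rfl

/-- `⟨ϑ_N, ϑ_N⟩` counts the linear characters of `T/N` fixing `ϑ`. -/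
theorem inner_restrict_eq_card_stab (hab : ∀ x y : T, x * y * x⁻¹ * y⁻¹ ∈ N)
    [Fintype N] [Fintype ((T ⧸ N) →* ℂˣ)] [DecidableEq (IrrCharacter T)] (ψ : IrrCharacter T) :
    classInner (fun n : N => (ψ : T → ℂ) n) (fun n : N => (ψ : T → ℂ) n) =
      ((Finset.univ.filter (fun μ : (T ⧸ N) →* ℂˣ =>
        Helper74.twist (μ.comp (QuotientGroup.mk' N)) ψ = ψ)).card : ℂ) := by
  have hψcf : IsClassFunction T (ψ : T → ℂ) := Helper74.irr_isClassFunction ψ
  rw [← Helper15.frobenius_reciprocity N _ (ψ : T → ℂ) hψcf,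
    indFun_restrict_eq_sum_twist N hab ψ, Helper74.classInner_sum_left]
  rw [Finset.card_filter]
  push_cast
  refine Finset.sum_congr rfl (fun μ _ => ?_)
  by_cases h : Helper74.twist (μ.comp (QuotientGroup.mk' N)) ψ = ψ
  · rw [if_pos h, h, Helper74.irr_inner_self]
  · rw [if_neg h, Helper74.irr_inner_ne h]

/-- The number of linear characters of the abelian quotient `T/N`. -/
theorem card_hom_quotient (hab : ∀ x y : T, x * y * x⁻¹ * y⁻¹ ∈ N)
    [Fintype ((T ⧸ N) →* ℂˣ)] : Fintype.card ((T ⧸ N) →* ℂˣ) = N.index := by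
  letI : CommGroup (T ⧸ N) :=
    { (inferInstance : Group (T ⧸ N)) with
      mul_comm := by
        intro a b
        obtain ⟨x, rfl⟩ := QuotientGroup.mk'_surjective N a
        obtain ⟨y, rfl⟩ := QuotientGroup.mk'_surjective N b
        have h1 : QuotientGroup.mk' N (x * y * x⁻¹ * y⁻¹) = 1 :=
          (QuotientGroup.eq_one_iff _).mpr (hab x y)
        rw [map_mul, map_mul, map_mul, map_inv, map_inv] at h1
        have h2 := mul_inv_eq_one.mp h1
        exact mul_inv_eq_iff_eq_mul.mp h2 }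
  have : NeZero (Monoid.exponent (T ⧸ N)) := ⟨Monoid.exponent_ne_zero_of_finite⟩
  rw [← Nat.card_eq_fintype_card, CommGroup.card_monoidHom_of_hasEnoughRootsOfUnity (T ⧸ N) ℂ,
    Subgroup.index_eq_card]

/-- **Going down** (Isaacs 6.18), pure form.  `H1`: every irreducible constituent of `ϑ_N` has
inertia group `N` or `T`.  `H2`: if `ϑ` is fixed by a nontrivial linear character of `T/N`
then `ϑ` vanishes off `N`. -/
theorem going_down_pure [Fintype N] (hab : ∀ x y : T, x * y * x⁻¹ * y⁻¹ ∈ N) {ϑ : T → ℂ}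
    (hϑ : IsIrrCharacter T ϑ)
    (H1 : ∀ φ : N → ℂ, IsIrrCharacter N φ → classInner (fun n : N => ϑ n) φ ≠ 0 →
      Helper15.inertia N φ = N ∨ Helper15.inertia N φ = ⊤)
    (H2 : ∀ μ : (T ⧸ N) →* ℂˣ, μ ≠ 1 →
      (∀ x : T, μ (QuotientGroup.mk' N x) ≠ 1 → ϑ x = 0) → ∀ x : T, x ∉ N → ϑ x = 0) :
    IsIrrCharacter N (fun n : N => ϑ n) ∨
    (∃ (φ : N → ℂ) (e : ℕ), IsIrrCharacter N φ ∧ (fun n : N => ϑ n) = (e : ℂ) • φ ∧
      e ^ 2 = N.index) ∨
    (∃ F : Finset (N → ℂ), (∀ φ ∈ F, IsIrrCharacter N φ) ∧ F.card = N.index ∧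
      (fun n : N => ϑ n) = ∑ φ ∈ F, φ) := by
  classical
  let _ : Fintype ((T ⧸ N) →* ℂˣ) := Fintype.ofFinite _
  obtain ⟨ψ, hψ⟩ : ∃ ψ : IrrCharacter T, (ψ : T → ℂ) = ϑ := ⟨⟨ϑ, hϑ⟩, rfl⟩
  have hres : IsCharacter N (fun n : N => ϑ n) :=
    Helper74.isCharacter_restrict N (Helper74.isCharacter_of_isIrr hϑ)
  have hres1 : (fun n : N => ϑ n) 1 ≠ 0 := by
    show ϑ ((1 : N) : T) ≠ 0
    simpa using IsIrrCharacter.map_one_ne_zero hϑ
  obtain ⟨φ, hφ⟩ := Helper81.exists_irr_constituent hres hres1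
  obtain ⟨e, he⟩ := Helper74.isCharacter_inner_irr_nat hres φ
  have he0 : e ≠ 0 := by
    rintro rfl
    apply hφ
    rw [he]; simp
  rcases H1 φ φ.2 hφ with hI | hI
  · -- inertia group `N`
    right; right
    obtain ⟨ψ', hψ'irr, -, hinner⟩ :=
      Helper15.clifford_correspondence_exists N φ.2 N hI.symm le_rfl hϑ hφ
    have hψ'eq : ∀ h : N ≤ N, (fun n : N => ψ' ⟨(n : T), h n.2⟩) = ψ' := by
      intro h; funext n; rfl
    rw [hψ'eq, he] at hinner
    have he1 : e = 1 := by
      by_cases hpp : (⟨ψ', hψ'irr⟩ : IrrCharacter N) = φ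
      · have h1 := Helper74.irr_inner_self φ
        have h2 : ψ' = (φ : N → ℂ) := congrArg Subtype.val hpp
        rw [h2, h1] at hinner
        exact_mod_cast hinner.symm
      · have h1 := Helper74.irr_inner_ne hpp
        have h2 : classInner ψ' (φ : N → ℂ) = 0 := h1
        rw [h2] at hinner
        exact absurd (by exact_mod_cast hinner.symm) he0
    have hcl := Helper15.clifford_restrict N hϑ φ.2 hφ
    refine ⟨Helper15.conjOrbit N (φ : N → ℂ), fun φ' h =>
      Helper15.isIrrCharacter_of_mem_conjOrbit N φ.2 h, ?_, ?_⟩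
    · rw [Helper15.card_conjOrbit, hI]
    · rw [hcl, he, he1]; simp
  · -- `φ` is invariant
    have hinv : ∀ g : T, Helper15.conjFun N g (φ : N → ℂ) = φ := fun g =>
      (Helper15.mem_inertia N _ g).1 (hI ▸ Subgroup.mem_top g)
    have hsm := Helper15.restrict_eq_smul_of_invariant N hϑ φ.2 hφ hinv
    rw [he] at hsm
    have hcount := inner_restrict_eq_card_stab N hab ψ
    rw [hψ] at hcount
    have hL : classInner (fun n : N => ϑ n) (fun n : N => ϑ n) = (e : ℂ) ^ 2 := by
      rw [hsm, Helper74.classInner_smul_left, Helper74.classInner_smul_right,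
        Helper74.irr_inner_self]
      simp; ring
    by_cases hstab : ∀ μ : (T ⧸ N) →* ℂˣ,
        Helper74.twist (μ.comp (QuotientGroup.mk' N)) ψ = ψ → μ = 1
    · left
      have hcard : (Finset.univ.filter (fun μ : (T ⧸ N) →* ℂˣ =>
          Helper74.twist (μ.comp (QuotientGroup.mk' N)) ψ = ψ)) = {1} := by
        ext μ
        simp only [Finset.mem_filter, Finset.mem_univ, true_and, Finset.mem_singleton]
        constructor
        · exact hstab μ
        · rintro rfl
          have : (1 : (T ⧸ N) →* ℂˣ).comp (QuotientGroup.mk' N) = 1 := rfl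
          rw [this, Helper74.twist_one]
      rw [hcard, Finset.card_singleton, hL] at hcount
      have he1 : e = 1 := by
        have h1 : ((e ^ 2 : ℕ) : ℂ) = ((1 : ℕ) : ℂ) := by push_cast; simpa using hcount
        have h2 : e ^ 2 = 1 := by exact_mod_cast h1
        rcases Nat.pow_eq_one.1 h2 with h | h
        · exact h
        · exact absurd h two_ne_zero
      rw [hsm, he1]
      simpa using φ.2
    · push Not at hstab
      obtain ⟨μ, hμ, hμ1⟩ := hstab
      right; left
      have hvan : ∀ x : T, x ∉ N → ϑ x = 0 := by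
        refine H2 μ hμ1 (fun x hx => ?_)
        have h1 := congrArg (fun χ : IrrCharacter T => (χ : T → ℂ) x) hμ
        simp only [Helper74.twist_apply, MonoidHom.comp_apply] at h1
        rw [hψ] at h1
        by_contra h0
        apply hx
        have h2 : ((μ (QuotientGroup.mk' N x) : ℂˣ) : ℂ) = 1 := by
          have := mul_right_cancel₀ h0 (h1.trans (one_mul _).symm)
          exact this
        exact Units.ext h2
      have hall : ∀ μ' : (T ⧸ N) →* ℂˣ,
          Helper74.twist (μ'.comp (QuotientGroup.mk' N)) ψ = ψ := by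
        intro μ'
        apply Subtype.ext
        funext x
        rw [Helper74.twist_apply, hψ, MonoidHom.comp_apply]
        by_cases hx : x ∈ N
        · have : QuotientGroup.mk' N x = 1 := (QuotientGroup.eq_one_iff x).2 hx
          rw [this, map_one]; simp
        · rw [hvan x hx, mul_zero]
      have hcard : (Finset.univ.filter (fun μ : (T ⧸ N) →* ℂˣ =>
          Helper74.twist (μ.comp (QuotientGroup.mk' N)) ψ = ψ)).card = N.index := by
        rw [Finset.filter_true_of_mem (fun μ' _ => hall μ'), Finset.card_univ,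
          card_hom_quotient N hab]
      rw [hcard, hL] at hcount
      refine ⟨φ, e, φ.2, hsm, ?_⟩
      have h1 : ((e ^ 2 : ℕ) : ℂ) = ((N.index : ℕ) : ℂ) := by push_cast; exact hcount
      exact_mod_cast h1

end goingdown

end Cfsg.Agent.Helper80
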