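import Mathlib
import Cfsg.Prelude.Def_Characters
import Cfsg.Agent.Helper74.LinTwist
import Cfsg.Agent.Helper74.FSCount
import Cfsg.Agent.Helper15.CliffordCorr
import Cfsg.Agent.Helper15.IndChar
import Cfsg.Agent.Helper80.Inertia
import Cfsg.Agent.Helper80.GoingDown
import Cfsg.Agent.Helper80.ItoConv
import Cfsg.Agent.Helper74.ThompsonDeg
import Cfsg.Agent.Helper80.Linear
import Cfsg.Agent.Helper15.LinChar
import Cfsg.Agent.Helper79.ClassMult
import Cfsg.Agent.Helper81.CliffordInd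

/-!
# Isaacs 12.4 (variant): characters over a Frobenius-like section

`K ≤ N` normal subgroups of `G`, `G/N` and `N/K` abelian, and every `g ∉ N` acts fixed point
freely on `N/K`.  For `ψ ∈ Irr(N)`: either some twist `λψ` (`λ` a linear character of `N/K`)
induces irreducibly to `G`, or every such twist fixes `ψ`.
-/

set_option autoImplicit false
set_option linter.unusedSectionVars false

namespace Cfsg.Agent.Helper80

open Cfsg
open scoped ComplexConjugate

universe u

section frobtwist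

variable {G : Type u} [Group G] [Fintype G] (N : Subgroup G) [hN : N.Normal] [Fintype N]

/-- The conjugate `λ^g : n ↦ λ (g n g⁻¹)` of a linear character of a normal subgroup. -/
def conjLin (g : G) (lam : N →* ℂˣ) : N →* ℂˣ :=
  lam.comp (MulAut.conjNormal g : N ≃* N).toMonoidHom

theorem conjLin_apply (g : G) (lam : N →* ℂˣ) (n : N) :
    conjLin N g lam n = lam ⟨g * n * g⁻¹, hN.conj_mem (n : G) n.2 g⟩ := by
  unfold conjLin
  rw [MonoidHom.comp_apply]
  congr 1

theorem conjLin_mul (g : G) (a b : N →* ℂˣ) :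
    conjLin N g (a * b) = conjLin N g a * conjLin N g b := by
  ext n
  simp [conjLin_apply]

theorem conjLin_inv (g : G) (a : N →* ℂˣ) :
    conjLin N g a⁻¹ = (conjLin N g a)⁻¹ := by
  ext n
  simp [conjLin_apply]

theorem conjLin_one (g : G) : conjLin N g (1 : N →* ℂˣ) = 1 := by
  ext n
  simp [conjLin_apply]

/-- The conjugate of an irreducible character of a normal subgroup, as an irreducible character. -/
noncomputable def conjIrr (g : G) (ψ : IrrCharacter N) : IrrCharacter N :=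
  ⟨Helper15.conjFun N g (ψ : N → ℂ), Helper15.isIrrCharacter_conjFun N ψ.2 g⟩

theorem conjIrr_coe (g : G) (ψ : IrrCharacter N) :
    ((conjIrr N g ψ : IrrCharacter N) : N → ℂ) = Helper15.conjFun N g (ψ : N → ℂ) := rfl

theorem conjIrr_twist (g : G) (lam : N →* ℂˣ) (ψ : IrrCharacter N) :
    conjIrr N g (Helper74.twist lam ψ) = Helper74.twist (conjLin N g lam) (conjIrr N g ψ) := by
  apply Subtype.ext
  funext n
  rw [conjIrr_coe, Helper15.conjFun_apply, Helper74.twist_apply, Helper74.twist_apply,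
    conjLin_apply, conjIrr_coe, Helper15.conjFun_apply]

theorem conjIrr_mul (g h : G) (ψ : IrrCharacter N) :
    conjIrr N (g * h) ψ = conjIrr N h (conjIrr N g ψ) := by
  apply Subtype.ext
  rw [conjIrr_coe, conjIrr_coe, conjIrr_coe, Helper15.conjFun_mul]

theorem conjIrr_of_mem {g : G} (hg : g ∈ N) (ψ : IrrCharacter N) : conjIrr N g ψ = ψ := by
  apply Subtype.ext
  rw [conjIrr_coe]
  exact Helper15.conjFun_of_mem N (Helper74.irr_isClassFunction ψ) hg

/-- If `g` acts fixed point freely on the abelian section `N/K`, then no nontrivial linear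
character of `N/K` is fixed by `g`. -/
theorem eq_one_of_conjLin_eq (K : Subgroup G) [hK : K.Normal]
    (hab : ∀ x y : N, ((x * y * x⁻¹ * y⁻¹ : N) : G) ∈ K)
    {g : G} (hfpf : ∀ n : N, g * (n : G) * g⁻¹ * (n : G)⁻¹ ∈ K → (n : G) ∈ K)
    {lam : N →* ℂˣ} (hlam : ∀ n : N, (n : G) ∈ K → lam n = 1)
    (hfix : conjLin N g lam = lam) : lam = 1 := by
  classical
  have hKn : (K.subgroupOf N).Normal := inferInstance
  letI : CommGroup (N ⧸ K.subgroupOf N) :=
    { (inferInstance : Group (N ⧸ K.subgroupOf N)) with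
      mul_comm := by
        intro a b
        obtain ⟨x, rfl⟩ := QuotientGroup.mk'_surjective (K.subgroupOf N) a
        obtain ⟨y, rfl⟩ := QuotientGroup.mk'_surjective (K.subgroupOf N) b
        have h1 : QuotientGroup.mk' (K.subgroupOf N) (x * y * x⁻¹ * y⁻¹) = 1 :=
          (QuotientGroup.eq_one_iff _).mpr (Subgroup.mem_subgroupOf.mpr (hab x y))
        rw [map_mul, map_mul, map_mul, map_inv, map_inv] at h1
        have h2 := mul_inv_eq_one.mp h1
        exact mul_inv_eq_iff_eq_mul.mp h2 }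
  have hle : K.subgroupOf N ≤ (K.subgroupOf N).comap (MulAut.conjNormal g : N ≃* N).toMonoidHom := by
    intro k hk
    rw [Subgroup.mem_comap, Subgroup.mem_subgroupOf]
    rw [Subgroup.mem_subgroupOf] at hk
    have : ((MulAut.conjNormal g : N ≃* N) k : G) = g * (k : G) * g⁻¹ := by
      simp
    rw [MulEquiv.coe_toMonoidHom, this]
    exact hK.conj_mem _ hk g
  let cQ : (N ⧸ K.subgroupOf N) →* (N ⧸ K.subgroupOf N) :=
    QuotientGroup.map (K.subgroupOf N) (K.subgroupOf N)
      (MulAut.conjNormal g : N ≃* N).toMonoidHom hle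
  let F : (N ⧸ K.subgroupOf N) →* (N ⧸ K.subgroupOf N) := cQ * (MonoidHom.id _)⁻¹
  have hF : ∀ n : N, F (QuotientGroup.mk n) =
      QuotientGroup.mk ((MulAut.conjNormal g : N ≃* N) n * n⁻¹) := by
    intro n
    show cQ (QuotientGroup.mk n) * (QuotientGroup.mk n)⁻¹ = _
    rw [QuotientGroup.map_mk]
    rfl
  have hinj : Function.Injective F := by
    rw [injective_iff_map_eq_one]
    intro q hq
    obtain ⟨n, rfl⟩ := QuotientGroup.mk_surjective q
    rw [hF, QuotientGroup.eq_one_iff, Subgroup.mem_subgroupOf] at hq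
    rw [QuotientGroup.eq_one_iff, Subgroup.mem_subgroupOf]
    apply hfpf
    have : (((MulAut.conjNormal g : N ≃* N) n * n⁻¹ : N) : G) = g * (n : G) * g⁻¹ * (n : G)⁻¹ := by
      simp
    rwa [this] at hq
  have hsurj : Function.Surjective F := Finite.surjective_of_injective hinj
  ext n
  obtain ⟨q, hq⟩ := hsurj (QuotientGroup.mk n)
  obtain ⟨n', rfl⟩ := QuotientGroup.mk_surjective q
  rw [hF, QuotientGroup.eq, Subgroup.mem_subgroupOf] at hq
  set c : N := (MulAut.conjNormal g : N ≃* N) n' * n'⁻¹ with hc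
  have h1 : lam (c⁻¹ * n) = 1 := hlam _ hq
  have h2 : lam c = 1 := by
    rw [hc, map_mul, map_inv]
    have h3 := congrArg (fun f : N →* ℂˣ => f n') hfix
    simp only [conjLin_apply] at h3
    have h4 : (MulAut.conjNormal g : N ≃* N) n' = ⟨g * (n' : G) * g⁻¹, hN.conj_mem (n' : G) n'.2 g⟩ := by
      apply Subtype.ext; simp
    rw [h4, h3, mul_inv_cancel]
  have h5 : lam n = lam c * lam (c⁻¹ * n) := by
    rw [← map_mul, mul_inv_cancel_left]
  rw [h5, h1, h2, mul_one]
  simp

omit [Fintype G] hN [Fintype N] in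
theorem commGroup_aux {A : Type*} [CommGroup A] (x y a b : A) (h : x * a⁻¹ = y * b⁻¹) :
    x * y⁻¹ = a * b⁻¹ := by
  have h3 : x = y * b⁻¹ * a := mul_inv_eq_iff_eq_mul.mp h
  rw [h3, mul_right_comm (y * b⁻¹) a, mul_right_comm y b⁻¹, mul_inv_cancel, one_mul, mul_comm]

/-- Injectivity of `μ ↦ μ^g μ⁻¹` on the linear characters of `N/K`. -/
theorem eq_of_conjLin_div_eq (K : Subgroup G) [hK : K.Normal]
    (hab : ∀ x y : N, ((x * y * x⁻¹ * y⁻¹ : N) : G) ∈ K)
    {g : G} (hfpf : ∀ n : N, g * (n : G) * g⁻¹ * (n : G)⁻¹ ∈ K → (n : G) ∈ K)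
    {a b : N →* ℂˣ} (ha : ∀ n : N, (n : G) ∈ K → a n = 1)
    (hb : ∀ n : N, (n : G) ∈ K → b n = 1)
    (h : conjLin N g a * a⁻¹ = conjLin N g b * b⁻¹) : a = b := by
  have h2 : conjLin N g (a * b⁻¹) = a * b⁻¹ := by
    rw [conjLin_mul, conjLin_inv]
    exact commGroup_aux (A := ↥N →* ℂˣ) _ _ _ _ h
  have h3 := eq_one_of_conjLin_eq N K hab hfpf (lam := a * b⁻¹) ?_ h2
  · exact mul_inv_eq_one.mp h3
  · intro n hn
    rw [MonoidHom.mul_apply, MonoidHom.inv_apply, ha n hn, hb n hn]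
    simp

/-- **Claim 1.** If `ψ` and its twist `λψ` are both fixed by `g`, which acts fixed point freely
on `N/K`, then `λψ = ψ`. -/
theorem twist_eq_of_conj_fixed (K : Subgroup G) [hK : K.Normal]
    (hab : ∀ x y : N, ((x * y * x⁻¹ * y⁻¹ : N) : G) ∈ K)
    {g : G} (hfpf : ∀ n : N, g * (n : G) * g⁻¹ * (n : G)⁻¹ ∈ K → (n : G) ∈ K)
    (ψ : IrrCharacter N) (hψ : conjIrr N g ψ = ψ)
    {lam : N →* ℂˣ} (hlam : ∀ n : N, (n : G) ∈ K → lam n = 1)
    (hfix : conjIrr N g (Helper74.twist lam ψ) = Helper74.twist lam ψ) :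
    Helper74.twist lam ψ = ψ := by
  classical
  let Λ : Subgroup (N →* ℂˣ) :=
    { carrier := {μ | (∀ n : N, (n : G) ∈ K → μ n = 1) ∧ Helper74.twist μ ψ = ψ}
      one_mem' := ⟨fun n _ => rfl, Helper74.twist_one ψ⟩
      mul_mem' := by
        rintro a b ⟨ha1, ha2⟩ ⟨hb1, hb2⟩
        refine ⟨fun n hn => by rw [MonoidHom.mul_apply, ha1 n hn, hb1 n hn, one_mul], ?_⟩
        rw [Helper74.twist_mul, hb2, ha2]
      inv_mem' := by
        rintro a ⟨ha1, ha2⟩
        refine ⟨fun n hn => by rw [MonoidHom.inv_apply, ha1 n hn, inv_one], ?_⟩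
        conv_lhs => rw [← ha2]
        rw [← Helper74.twist_mul, inv_mul_cancel, Helper74.twist_one] }
  have hconjK : ∀ μ : N →* ℂˣ, (∀ n : N, (n : G) ∈ K → μ n = 1) →
      ∀ n : N, (n : G) ∈ K → conjLin N g μ n = 1 := by
    intro μ hμ n hn
    rw [conjLin_apply]
    exact hμ _ (hK.conj_mem _ hn g)
  have hFΛ : ∀ μ ∈ Λ, conjLin N g μ * μ⁻¹ ∈ Λ := by
    rintro μ ⟨hμ1, hμ2⟩
    have h1 : conjLin N g μ ∈ Λ := by
      refine ⟨hconjK μ hμ1, ?_⟩
      have := congrArg (conjIrr N g) hμ2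
      rw [conjIrr_twist, hψ] at this
      exact this
    exact Λ.mul_mem h1 (Λ.inv_mem ⟨hμ1, hμ2⟩)
  let F : Λ → Λ := fun μ => ⟨conjLin N g μ.1 * μ.1⁻¹, hFΛ μ.1 μ.2⟩
  have hFinj : Function.Injective F := by
    intro a b hab'
    have h1 : conjLin N g a.1 * a.1⁻¹ = conjLin N g b.1 * b.1⁻¹ := congrArg Subtype.val hab'
    exact Subtype.ext (eq_of_conjLin_div_eq N K hab hfpf a.2.1 b.2.1 h1)
  have hFsurj : Function.Surjective F := Finite.surjective_of_injective hFinj
  have hmem : conjLin N g lam * lam⁻¹ ∈ Λ := by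
    refine ⟨?_, ?_⟩
    · intro n hn
      rw [MonoidHom.mul_apply, MonoidHom.inv_apply, hconjK lam hlam n hn, hlam n hn]
      simp
    · rw [conjIrr_twist, hψ] at hfix
      have e1 : lam⁻¹ * lam = 1 := inv_mul_cancel lam
      rw [mul_comm (conjLin N g lam) lam⁻¹, Helper74.twist_mul, hfix, ← Helper74.twist_mul,
        e1, Helper74.twist_one]
  obtain ⟨ν, hν⟩ := hFsurj ⟨_, hmem⟩
  have h1 : conjLin N g ν.1 * ν.1⁻¹ = conjLin N g lam * lam⁻¹ := congrArg Subtype.val hν
  have h2 : ν.1 = lam := eq_of_conjLin_div_eq N K hab hfpf ν.2.1 hlam h1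
  rw [← h2]
  exact ν.2.2

/-- **Isaacs 12.4 (variant).**  `K ≤ N` normal in `G`, `G/N` and `N/K` abelian, and every
`g ∉ N` acts fixed point freely on `N/K`.  For `ψ ∈ Irr(N)`, either `[G:N] ψ(1)` is a character
degree of `G`, or `ψ` is fixed by the twist with every linear character of `N/K`. -/
theorem exists_irr_index_mul_or_twist_fixed (K : Subgroup G) [hK : K.Normal]
    (hGN : ∀ x y : G, x⁻¹ * y⁻¹ * x * y ∈ N)
    (hab : ∀ x y : N, ((x * y * x⁻¹ * y⁻¹ : N) : G) ∈ K)
    (hfpf : ∀ g : G, g ∉ N → ∀ n : N, g * (n : G) * g⁻¹ * (n : G)⁻¹ ∈ K → (n : G) ∈ K)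
    (ψ : IrrCharacter N) :
    (∃ χ : IrrCharacter G, (χ : G → ℂ) 1 = (N.index : ℂ) * (ψ : N → ℂ) 1) ∨
    (∀ lam : N →* ℂˣ, (∀ n : N, (n : G) ∈ K → lam n = 1) → Helper74.twist lam ψ = ψ) := by
  classical
  by_cases hex : ∃ lam : N →* ℂˣ, (∀ n : N, (n : G) ∈ K → lam n = 1) ∧
      ∀ g : G, conjIrr N g (Helper74.twist lam ψ) = Helper74.twist lam ψ → g ∈ N
  · left
    obtain ⟨lam, hlam, hin⟩ := hex
    obtain ⟨φ, hφ⟩ : ∃ φ : IrrCharacter N, φ = Helper74.twist lam ψ := ⟨_, rfl⟩
    rw [← hφ] at hin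
    have hnorm : classInner (indFun N (φ : N → ℂ)) (indFun N (φ : N → ℂ)) = 1 := by
      rw [classInner_indFun_self N φ.2]
      have h1 : inertiaFinset N (φ : N → ℂ) = Finset.univ.filter (fun g : G => g ∈ N) := by
        ext g
        rw [mem_inertiaFinset]
        simp only [Finset.mem_filter, Finset.mem_univ, true_and]
        constructor
        · intro h
          exact hin g (Subtype.ext h)
        · intro h
          exact congrArg Subtype.val (conjIrr_of_mem N h φ)
      rw [h1, ← Fintype.card_subtype, Nat.card_eq_fintype_card]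
      have h2 : Fintype.card {x // x ∈ N} = Fintype.card N := Fintype.card_congr (Equiv.refl _)
      rw [h2]
      have h3 : (Fintype.card N : ℂ) ≠ 0 := by
        exact_mod_cast Fintype.card_ne_zero
      exact inv_mul_cancel₀ h3
    refine ⟨⟨indFun N (φ : N → ℂ), Helper74.isIrrCharacter_of_norm_one
      (Helper15.isCharacter_indFun N (Helper74.irr_isCharacter φ)) hnorm⟩, ?_⟩
    show indFun N (φ : N → ℂ) 1 = _
    rw [Helper15.indFun_apply_one, hφ, Helper74.twist_apply, map_one]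
    simp
  · right
    have hall : ∀ lam : N →* ℂˣ, (∀ n : N, (n : G) ∈ K → lam n = 1) →
        ∃ g : G, g ∉ N ∧ conjIrr N g (Helper74.twist lam ψ) = Helper74.twist lam ψ := by
      intro lam hlam
      by_contra hcon
      apply hex
      refine ⟨lam, hlam, fun g hg => ?_⟩
      by_contra hgN
      exact hcon ⟨g, hgN, hg⟩
    obtain ⟨g₀, hg₀N, hg₀⟩ := hall 1 (fun _ _ => rfl)
    rw [Helper74.twist_one] at hg₀
    intro lam hlam
    obtain ⟨h, hhN, hh⟩ := hall lam hlam
    obtain ⟨φ, hφ⟩ : ∃ φ : IrrCharacter N, φ = Helper74.twist lam ψ := ⟨_, rfl⟩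
    rw [← hφ] at hh
    obtain ⟨μ, hμ⟩ : ∃ μ : N →* ℂˣ, μ = conjLin N g₀ lam * lam⁻¹ := ⟨_, rfl⟩
    have hμK : ∀ n : N, (n : G) ∈ K → μ n = 1 := by
      intro n hn
      rw [hμ, MonoidHom.mul_apply, MonoidHom.inv_apply, conjLin_apply, hlam n hn,
        hlam _ (hK.conj_mem _ hn g₀)]
      simp
    have hconj : conjIrr N g₀ φ = Helper74.twist μ φ := by
      rw [hφ, conjIrr_twist, hg₀, ← Helper74.twist_mul]
      congr 1
      rw [hμ]
      exact (inv_mul_cancel_right (conjLin N g₀ lam) lam).symm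
    have hfixh : conjIrr N h (Helper74.twist μ φ) = Helper74.twist μ φ := by
      rw [← hconj, ← conjIrr_mul]
      obtain ⟨c, hc⟩ : ∃ c : G, c = g₀⁻¹ * h⁻¹ * g₀ * h := ⟨_, rfl⟩
      have hcN : c ∈ N := hc ▸ hGN g₀ h
      have hc' : g₀ * h = h * g₀ * c := by rw [hc]; group
      rw [hc', conjIrr_mul N (h * g₀) c, conjIrr_mul N h g₀, hh, conjIrr_of_mem N hcN]
    have h1 := twist_eq_of_conj_fixed N K hab (hfpf h hhN) φ hh hμK hfixh
    have hg₀φ : conjIrr N g₀ φ = φ := hconj.trans h1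
    rw [hφ] at hg₀φ
    exact twist_eq_of_conj_fixed N K hab (hfpf g₀ hg₀N) ψ hg₀ hlam hg₀φ

end frobtwist

section cliffordnorm

variable {T : Type u} [Group T] [Fintype T] (M : Subgroup T) [hM : M.Normal] [Fintype M]

/-- Clifford: `⟨ψ_M, ψ_M⟩ = e² t` and `ψ(1) = e t θ(1)`. -/
theorem inner_restrict_self_clifford {ψ : T → ℂ} (hψ : IsIrrCharacter T ψ) :
    ∃ e t d : ℕ, classInner (fun m : M => ψ m) (fun m : M => ψ m) = ((e ^ 2 * t : ℕ) : ℂ) ∧
      charDegree ψ = e * t * d := by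
  classical
  have hres : IsCharacter M (fun m : M => ψ m) :=
    Helper74.isCharacter_restrict M (Helper74.isCharacter_of_isIrr hψ)
  have hres1 : (fun m : M => ψ m) 1 ≠ 0 := by
    show ψ ((1 : M) : T) ≠ 0
    simpa using IsIrrCharacter.map_one_ne_zero hψ
  obtain ⟨θ, hθ⟩ := Helper81.exists_irr_constituent hres hres1
  obtain ⟨e, he⟩ := Helper74.isCharacter_inner_irr_nat hres θ
  have hcl := Helper15.clifford_restrict M hψ θ.2 hθ
  rw [he] at hcl
  refine ⟨e, (Helper15.conjOrbit M (θ : M → ℂ)).card, charDegree (θ : M → ℂ), ?_, ?_⟩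
  · have hS : classInner (∑ φ ∈ Helper15.conjOrbit M (θ : M → ℂ), φ)
        (∑ φ ∈ Helper15.conjOrbit M (θ : M → ℂ), φ) =
        ((Helper15.conjOrbit M (θ : M → ℂ)).card : ℂ) := by
      rw [Helper15.classInner_finset_sum_left]
      have h1 : ∀ φ ∈ Helper15.conjOrbit M (θ : M → ℂ),
          classInner φ (∑ φ' ∈ Helper15.conjOrbit M (θ : M → ℂ), φ') = 1 := by
        intro φ hφ
        rw [Helper15.classInner_finset_sum_right]
        have hφi := Helper15.isIrrCharacter_of_mem_conjOrbit M θ.2 hφ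
        rw [Finset.sum_eq_single_of_mem φ hφ]
        · exact Helper74.irr_inner_self (⟨φ, hφi⟩ : IrrCharacter M)
        · intro φ' hφ' hne
          have hφ'i := Helper15.isIrrCharacter_of_mem_conjOrbit M θ.2 hφ'
          have : (⟨φ, hφi⟩ : IrrCharacter M) ≠ ⟨φ', hφ'i⟩ := by
            intro h
            exact hne (congrArg Subtype.val h).symm
          exact Helper74.irr_inner_ne this
      rw [Finset.sum_congr rfl h1]
      simp
    rw [hcl, Helper74.classInner_smul_left, Helper74.classInner_smul_right, hS,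
      Complex.conj_natCast]
    push_cast
    ring
  · have h1 := congrFun hcl 1
    simp only [Pi.smul_apply, Finset.sum_apply, smul_eq_mul] at h1
    have h2 : ∀ φ ∈ Helper15.conjOrbit M (θ : M → ℂ), φ 1 = (θ : M → ℂ) 1 := by
      intro φ hφ
      obtain ⟨g, rfl⟩ := (Helper15.mem_conjOrbit M).1 hφ
      rw [Helper15.conjFun_apply]
      have h5 : (⟨g * ((1 : M) : T) * g⁻¹, hM.conj_mem _ (1 : M).2 g⟩ : M) = 1 := by
        apply Subtype.ext
        simp
      rw [h5]
    rw [Finset.sum_congr rfl h2, Finset.sum_const, nsmul_eq_mul] at h1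
    have h3 : (ψ ((1 : M) : T)) = ψ 1 := by simp
    rw [h3, ← Helper74.charDegree_cast (Helper74.isCharacter_of_isIrr hψ),
      ← Helper74.charDegree_cast (Helper74.irr_isCharacter θ)] at h1
    have : ((charDegree ψ : ℕ) : ℂ) =
        ((e * (Helper15.conjOrbit M (θ : M → ℂ)).card * charDegree (θ : M → ℂ) : ℕ) : ℂ) := by
      push_cast
      rw [h1]; ring
    exact_mod_cast this

end cliffordnorm

section alllinear

variable {T : Type u} [Group T] [Finite T]

/-- A group all of whose irreducible characters are linear is abelian. -/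
theorem comm_of_forall_irr_linear (h : ∀ χ : IrrCharacter T, (χ : T → ℂ) 1 = 1) (x y : T) :
    x * y = y * x := by
  classical
  have := Fintype.ofFinite T
  let _ := Helper74.irrFintype T
  have hc : ∀ χ : IrrCharacter T, (χ : T → ℂ) (x * y * x⁻¹ * y⁻¹) = 1 := by
    intro χ
    have hχ := Helper74.irr_isCharacter χ
    rw [Helper15.linChar_mul hχ (h χ), Helper15.linChar_mul hχ (h χ),
      Helper15.linChar_mul hχ (h χ), Helper15.linChar_inv hχ (h χ), Helper15.linChar_inv hχ (h χ)]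
    have h1 := Helper15.linChar_ne_zero hχ (h χ) x
    have h2 := Helper15.linChar_ne_zero hχ (h χ) y
    field_simp
  by_contra hxy
  have hne : x * y * x⁻¹ * y⁻¹ ≠ 1 := by
    intro h1
    apply hxy
    have h2 : x * y = (x * y * x⁻¹ * y⁻¹) * (y * x) := by group
    rw [h2, h1, one_mul]
  have h1 := Helper79.sum_irr_one_mul (G := T) (x * y * x⁻¹ * y⁻¹)
  rw [if_neg hne] at h1
  have h2 : ∑ χ : IrrCharacter T, (χ : T → ℂ) 1 * (χ : T → ℂ) (x * y * x⁻¹ * y⁻¹) =
      (Fintype.card (IrrCharacter T) : ℂ) := by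
    rw [Finset.sum_congr rfl (fun χ _ => by rw [h χ, hc χ, one_mul])]
    simp
  rw [h2] at h1
  have h3 : Fintype.card (IrrCharacter T) ≠ 0 := by
    have : Nonempty (IrrCharacter T) :=
      ⟨⟨fun _ => 1, Helper80.isIrrCharacter_of_monoidHom (1 : T →* ℂˣ)⟩⟩
    exact Fintype.card_ne_zero
  exact h3 (by exact_mod_cast h1)

end alllinear

section application

variable {G : Type u} [Group G] [Fintype G] (N : Subgroup G) [hN : N.Normal] [Fintype N]

/-- Application of Isaacs 12.4: if `cd(G) ⊆ {1, m}`, `[G:N] = m`, `G/N` abelian, and `N/K` is a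
nontrivial abelian section of order prime to `m` on which every `g ∉ N` acts fixed point freely,
then `N` is abelian. -/
theorem comm_of_frobenius_section (K : Subgroup G) [hK : K.Normal]
    (hGN : ∀ x y : G, x⁻¹ * y⁻¹ * x * y ∈ N)
    (hab : ∀ x y : N, ((x * y * x⁻¹ * y⁻¹ : N) : G) ∈ K)
    (hfpf : ∀ g : G, g ∉ N → ∀ n : N, g * (n : G) * g⁻¹ * (n : G)⁻¹ ∈ K → (n : G) ∈ K)
    (m : ℕ) (hm : 2 ≤ m)
    (hcd : ∀ χ : IrrCharacter G, charDegree (χ : G → ℂ) = 1 ∨ charDegree (χ : G → ℂ) = m)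
    (hidx : N.index = m) (hcop : Nat.Coprime (K.relIndex N) m) (hKN : ¬ N ≤ K) :
    ∀ a b : N, a * b = b * a := by
  classical
  apply comm_of_forall_irr_linear
  intro ψ
  have hψc := Helper74.irr_isCharacter ψ
  -- ψ(1) divides m
  have hdvd : charDegree (ψ : N → ℂ) ∣ m := by
    obtain ⟨χ, hχ, hcon⟩ := exists_irr_over N ψ.2
    have h1 := Helper74.charDegree_dvd_of_constituent N hχ ψ.2 hcon
    rcases hcd ⟨χ, hχ⟩ with h2 | h2
    · rw [h2] at h1
      exact h1.trans (one_dvd m)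
    · rwa [h2] at h1
  suffices hdeg : charDegree (ψ : N → ℂ) = 1 by
    rw [← Helper74.charDegree_cast hψc, hdeg]
    simp
  rcases exists_irr_index_mul_or_twist_fixed N K hGN hab hfpf ψ with ⟨χ, hχ⟩ | hfix
  · have h1 : charDegree (χ : G → ℂ) = m * charDegree (ψ : N → ℂ) := by
      have h2 : ((charDegree (χ : G → ℂ) : ℕ) : ℂ) = ((m * charDegree (ψ : N → ℂ) : ℕ) : ℂ) := by
        rw [Helper74.charDegree_cast (Helper74.irr_isCharacter χ), hχ, hidx]
        push_cast
        rw [Helper74.charDegree_cast hψc]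
      exact_mod_cast h2
    have hpos : 0 < charDegree (ψ : N → ℂ) := IsIrrCharacter.charDegree_pos ψ.2
    rcases hcd χ with h2 | h2
    · rw [h1] at h2
      have : m = 1 := Nat.eq_one_of_mul_eq_one_right h2
      omega
    · rw [h1] at h2
      have h3 : m * charDegree (ψ : N → ℂ) = m * 1 := by rw [h2, mul_one]
      exact Nat.eq_of_mul_eq_mul_left (by omega) h3
  · exfalso
    have hKn : (K.subgroupOf N).Normal := inferInstance
    let _ : Fintype ((N ⧸ K.subgroupOf N) →* ℂˣ) := Fintype.ofFinite _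
    have hab' : ∀ x y : N, x * y * x⁻¹ * y⁻¹ ∈ K.subgroupOf N := fun x y =>
      Subgroup.mem_subgroupOf.mpr (hab x y)
    have hcount := inner_restrict_eq_card_stab (K.subgroupOf N) hab' ψ
    have hall : Finset.univ.filter (fun μ : (N ⧸ K.subgroupOf N) →* ℂˣ =>
        Helper74.twist (μ.comp (QuotientGroup.mk' (K.subgroupOf N))) ψ = ψ) = Finset.univ := by
      apply Finset.filter_true_of_mem
      intro μ _
      apply hfix
      intro n hn
      have : QuotientGroup.mk' (K.subgroupOf N) n = 1 :=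
        (QuotientGroup.eq_one_iff _).mpr (Subgroup.mem_subgroupOf.mpr hn)
      rw [MonoidHom.comp_apply, this, map_one]
    rw [hall, Finset.card_univ, card_hom_quotient (K.subgroupOf N) hab'] at hcount
    obtain ⟨e, t, d, h1, h2⟩ := inner_restrict_self_clifford (K.subgroupOf N) ψ.2
    rw [hcount] at h1
    have h3 : (K.subgroupOf N).index = e ^ 2 * t := by exact_mod_cast h1
    have h4 : K.relIndex N = e ^ 2 * t := h3
    have hcop' : Nat.Coprime (e ^ 2 * t) m := h4 ▸ hcop
    have he : e ∣ m := dvd_trans (⟨t * d, by rw [h2]; ring⟩ : e ∣ charDegree (ψ : N → ℂ)) hdvd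
    have ht : t ∣ m := dvd_trans (⟨e * d, by rw [h2]; ring⟩ : t ∣ charDegree (ψ : N → ℂ)) hdvd
    have he1 : e = 1 :=
      Nat.eq_one_of_dvd_coprimes hcop' (⟨e * t, by ring⟩ : e ∣ e ^ 2 * t) he
    have ht1 : t = 1 :=
      Nat.eq_one_of_dvd_coprimes hcop' (⟨e ^ 2, by ring⟩ : t ∣ e ^ 2 * t) ht
    rw [he1, ht1] at h4
    apply hKN
    exact Subgroup.relIndex_eq_one.mp (by simpa using h4)

end application

end Cfsg.Agent.Helper80
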