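import Mathlib
import Cfsg.Prelude.Def_DegreeGraph
import Cfsg.Agent.Helper80.FrobTwist
import Cfsg.Agent.Helper80.OneChar
import Cfsg.Agent.Helper80.Pullback
import Cfsg.Agent.Helper80.Induced
import Cfsg.Agent.Helper80.Degree
import Cfsg.Agent.Helper74.DegreeRatio
import Cfsg.Agent.Helper15.Gallagher
import Cfsg.Agent.Helper81.CliffordInd

set_option autoImplicit false
set_option linter.unusedSectionVars false

/-!
# Character degrees over a `p`-quotient and over a Frobenius-like section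

Two lemmas on the primes dividing character degrees:

* if `G/K` is a nonabelian `p`-group, every prime dividing a character degree of `G` is `p` or
  divides a degree together with `p`;
* if `K ≤ N` with `G/N`, `N/K` abelian, `N/K` a nontrivial `p`-group on which every element outside
  `N` acts fixed point freely, then `[G:N]` is a degree, and every prime `q` dividing a degree `χ(1)`
  divides `[G:N]`, or `q [G:N]` divides a degree, or `p` divides `χ(1)`.
-/

namespace Cfsg.Agent.Helper80.DegGraph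

open Cfsg
open scoped ComplexConjugate

universe u

section general

variable {G : Type u} [Group G] [Fintype G]

/-- A character with an irreducible constituent of at least its own degree equals it. -/
theorem eq_of_constituent_of_degree_le {Ψ : G → ℂ} (hΨ : IsCharacter G Ψ) (θ : IrrCharacter G)
    (hne : classInner Ψ (θ : G → ℂ) ≠ 0) (hdeg : charDegree Ψ ≤ charDegree (θ : G → ℂ)) :
    Ψ = (θ : G → ℂ) := by
  classical
  let _ : Fintype (IrrCharacter G) := Helper74.irrFintype G
  have hm : (mult Ψ hΨ θ : ℂ) ≠ 0 := by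
    rw [← mult_spec]
    exact hne
  have hm1 : 1 ≤ mult Ψ hΨ θ := Nat.one_le_iff_ne_zero.mpr (by exact_mod_cast hm)
  have hdegI := charDegree_eq_sum_mult Ψ hΨ
  rw [← Finset.add_sum_erase _ _ (Finset.mem_univ θ)] at hdegI
  have hθpos : 0 < charDegree (θ : G → ℂ) := IsIrrCharacter.charDegree_pos θ.2
  have hge : charDegree (θ : G → ℂ) ≤ mult Ψ hΨ θ * charDegree (θ : G → ℂ) :=
    Nat.le_mul_of_pos_left _ hm1
  have hrest : ∑ ψ' ∈ Finset.univ.erase θ, mult Ψ hΨ ψ' * charDegree (ψ' : G → ℂ) = 0 := by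
    omega
  have hmX : mult Ψ hΨ θ * charDegree (θ : G → ℂ) = charDegree (θ : G → ℂ) := by omega
  have hmX1 : mult Ψ hΨ θ = 1 :=
    Nat.eq_of_mul_eq_mul_right hθpos (by rw [hmX, one_mul])
  have hzero : ∀ ψ' ∈ Finset.univ.erase θ, mult Ψ hΨ ψ' = 0 := by
    intro ψ' hψ'
    have := (Finset.sum_eq_zero_iff.mp hrest) ψ' hψ'
    rcases Nat.mul_eq_zero.mp this with h | h
    · exact h
    · exact absurd h (IsIrrCharacter.charDegree_pos ψ'.2).ne'
  have hexp := eq_sum_mult Ψ hΨ
  rw [← Finset.add_sum_erase _ _ (Finset.mem_univ θ), hmX1] at hexp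
  rw [Finset.sum_eq_zero (fun ψ' hψ' => by rw [hzero ψ' hψ']; simp)] at hexp
  rw [hexp]
  simp

/-- Restriction to a normal subgroup: a constituent together with the degree ratio. -/
theorem exists_constituent_ratio (N : Subgroup G) [hN : N.Normal] [Fintype N]
    (χ : IrrCharacter G) :
    ∃ (ψ : IrrCharacter N) (b : ℕ),
      classInner (fun n : N => (χ : G → ℂ) n) (ψ : N → ℂ) ≠ 0 ∧
      charDegree (χ : G → ℂ) = b * charDegree (ψ : N → ℂ) ∧ b ∣ N.index := by
  have hres : IsCharacter N (fun n : N => (χ : G → ℂ) n) :=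
    Helper74.isCharacter_restrict N (Helper74.irr_isCharacter χ)
  have h1 : (fun n : N => (χ : G → ℂ) n) 1 ≠ 0 := IsIrrCharacter.map_one_ne_zero χ.2
  obtain ⟨ψ, hψ⟩ := Helper81.exists_irr_constituent hres h1
  obtain ⟨b, hb, hbd⟩ := Helper74.degree_ratio_dvd N χ.2 ψ.2 hψ
  refine ⟨ψ, b, hψ, ?_, hbd⟩
  have h2 : (charDegree (χ : G → ℂ) : ℂ) = ((b * charDegree (ψ : N → ℂ) : ℕ) : ℂ) := by
    rw [IsCharacter.charDegree_cast (IsIrrCharacter.isCharacter χ.2), hb]
    push_cast
    rw [IsCharacter.charDegree_cast (IsIrrCharacter.isCharacter ψ.2)]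
  exact_mod_cast h2

theorem charDegree_mul {α β : G → ℂ} (hα : IsCharacter G α) (hβ : IsCharacter G β) :
    charDegree (α * β) = charDegree α * charDegree β := by
  have hαβ : IsCharacter G (α * β) := Helper74.isCharacter_mul hα hβ
  have h : (charDegree (α * β) : ℂ) = ((charDegree α * charDegree β : ℕ) : ℂ) := by
    rw [IsCharacter.charDegree_cast hαβ]
    push_cast
    rw [IsCharacter.charDegree_cast hα, IsCharacter.charDegree_cast hβ]
    rfl
  exact_mod_cast h

end general

section pquotient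

variable {G : Type u} [Group G] [Fintype G]

/-- If `G/K` is a nonabelian `p`-group, then `p` divides a character degree, and every other prime
dividing a degree divides a degree together with `p`. -/
theorem pquotient_case (K : Subgroup G) [hK : K.Normal] [Fintype K] {p a : ℕ} (hp : p.Prime)
    (hidx : K.index = p ^ a) (hKc : ¬ commutator G ≤ K) :
    (∃ β : IrrCharacter G, p ∣ charDegree (β : G → ℂ)) ∧
    ∀ (χ : IrrCharacter G) (q : ℕ), q.Prime → q ∣ charDegree (χ : G → ℂ) → q ≠ p →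
      ∃ ξ : IrrCharacter G, p * q ∣ charDegree (ξ : G → ℂ) := by
  classical
  -- a nonlinear character of the quotient
  have hnc : ¬ IsMulCommutative (G ⧸ K) := fun h =>
    hKc (Subgroup.Normal.quotient_commutative_iff_commutator_le.mp h)
  obtain ⟨β', hβ'⟩ := exists_irr_charDegree_ne_one hnc
  obtain ⟨β, hβ⟩ : ∃ β : IrrCharacter G, ∀ g, (β : G → ℂ) g = (β' : G ⧸ K → ℂ) (g : G ⧸ K) :=
    ⟨⟨fun g => (β' : G ⧸ K → ℂ) (QuotientGroup.mk' K g),
      IsIrrCharacter.comp_surjective β'.2 (QuotientGroup.mk' K) (QuotientGroup.mk'_surjective K)⟩,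
      fun g => rfl⟩
  have hβdeg : charDegree (β : G → ℂ) = charDegree (β' : G ⧸ K → ℂ) := by
    unfold charDegree
    rw [hβ 1]
    rfl
  have hβp : p ∣ charDegree (β : G → ℂ) := by
    rw [hβdeg]
    have h1 : charDegree (β' : G ⧸ K → ℂ) ∣ Nat.card (G ⧸ K) :=
      IsIrrCharacter.charDegree_dvd_card β'.2
    have h2 : Nat.card (G ⧸ K) = p ^ a := by
      rw [← hidx]
      rfl
    rw [h2] at h1
    obtain ⟨k, -, hk⟩ := (Nat.dvd_prime_pow hp).mp h1
    rw [hk]
    rcases Nat.eq_zero_or_pos k with h0 | h0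
    · exfalso
      apply hβ'
      rw [hk, h0, pow_zero]
    · exact dvd_pow_self p h0.ne'
  refine ⟨⟨β, hβp⟩, ?_⟩
  intro χ q hq hqχ hqp
  have hcop : Nat.Coprime p q := (Nat.coprime_primes hp hq).mpr (Ne.symm hqp)
  by_cases hpχ : p ∣ charDegree (χ : G → ℂ)
  · exact ⟨χ, hcop.mul_dvd_of_dvd_of_dvd hpχ hqχ⟩
  · obtain ⟨ψ, b, hψ, hdeg, hbd⟩ := exists_constituent_ratio K χ
    rw [hidx] at hbd
    obtain ⟨k, -, hk⟩ := (Nat.dvd_prime_pow hp).mp hbd
    have hk0 : k = 0 := by
      by_contra hk0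
      apply hpχ
      rw [hdeg, hk]
      exact Dvd.dvd.mul_right (dvd_pow_self p hk0) _
    rw [hk, hk0, pow_zero, one_mul] at hdeg
    have hres : IsCharacter K (fun n : K => (χ : G → ℂ) n) :=
      Helper74.isCharacter_restrict K (Helper74.irr_isCharacter χ)
    have hdeg' : charDegree (fun n : K => (χ : G → ℂ) n) ≤ charDegree (ψ : K → ℂ) := by
      rw [← hdeg]
      exact le_of_eq rfl
    have hχK : (fun n : K => (χ : G → ℂ) n) = (ψ : K → ℂ) :=
      eq_of_constituent_of_degree_le hres ψ hψ hdeg'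
    have hχKirr : IsIrrCharacter K (fun n : K => (χ : G → ℂ) n) := hχK ▸ ψ.2
    have hG := Helper15.gallagher_bijOn K χ.2 hχKirr
    have hβmem : (β : G → ℂ) ∈ {β : G → ℂ | IsIrrCharacter G β ∧
        classInner (indFun K (fun _ => (1 : ℂ))) β ≠ 0} := by
      refine ⟨β.2, ?_⟩
      rw [Helper15.frobenius_reciprocity K _ _
        (Helper74.isClassFunction_of_isCharacter (Helper74.irr_isCharacter β))]
      have h1 : ∀ k : K, (β : G → ℂ) k = (β : G → ℂ) 1 := by
        intro k
        rw [hβ, hβ]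
        have : ((k : G) : G ⧸ K) = ((1 : G) : G ⧸ K) := by
          rw [QuotientGroup.eq]
          simp
        rw [this]
      rw [Helper74.classInner_def]
      simp only [h1, one_mul]
      rw [Finset.sum_const, Finset.card_univ, nsmul_eq_mul, Nat.card_eq_fintype_card,
        ← mul_assoc, inv_mul_cancel₀ (by exact_mod_cast Fintype.card_ne_zero), one_mul]
      intro h0
      have := IsIrrCharacter.map_one_ne_zero β.2
      apply this
      have h2 := congrArg conj h0
      rwa [Complex.conj_conj, map_zero] at h2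
    have hξ := hG.mapsTo hβmem
    refine ⟨⟨(β : G → ℂ) * (χ : G → ℂ), hξ.1⟩, ?_⟩
    show p * q ∣ charDegree ((β : G → ℂ) * (χ : G → ℂ))
    rw [charDegree_mul (Helper74.irr_isCharacter β) (Helper74.irr_isCharacter χ)]
    exact Nat.mul_dvd_mul hβp hqχ

end pquotient

section frobenius

variable {G : Type u} [Group G] [Fintype G] (N : Subgroup G) [hN : N.Normal] [Fintype N]

/-- If every twist of `ψ ∈ Irr(N)` by a linear character of `N/K` equals `ψ`, and `N/K` is a
nontrivial `p`-group, then `p` divides `ψ(1)`. -/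
theorem prime_dvd_of_twist_fixed (K : Subgroup G) [hK : K.Normal]
    (hab : ∀ x y : N, ((x * y * x⁻¹ * y⁻¹ : N) : G) ∈ K)
    {p a : ℕ} (hp : p.Prime) (hidx : (K.subgroupOf N).index = p ^ a)
    (hne : ∃ n : N, (n : G) ∉ K) (ψ : IrrCharacter N)
    (hfix : ∀ lam : N →* ℂˣ, (∀ n : N, (n : G) ∈ K → lam n = 1) → Helper74.twist lam ψ = ψ) :
    p ∣ charDegree (ψ : N → ℂ) := by
  classical
  have hKN : (K.subgroupOf N).Normal := inferInstance
  let _ : Fintype (K.subgroupOf N) := Fintype.ofFinite _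
  -- `ψ` vanishes off `K`
  have hvan : ∀ n : N, (n : G) ∉ K → (ψ : N → ℂ) n = 0 := by
    intro n hn
    have hcomm : ∀ a b : N ⧸ K.subgroupOf N, a * b = b * a := by
      intro a b
      induction a using QuotientGroup.induction_on with
      | H a =>
        induction b using QuotientGroup.induction_on with
        | H b =>
          rw [← QuotientGroup.mk_mul, ← QuotientGroup.mk_mul, QuotientGroup.eq]
          have h1 : (a * b)⁻¹ * (b * a) = b⁻¹ * a⁻¹ * b⁻¹⁻¹ * a⁻¹⁻¹ := by group
          rw [h1, Subgroup.mem_subgroupOf]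
          exact hab b⁻¹ a⁻¹
    have hn' : n ∉ K.subgroupOf N := fun h => hn (Subgroup.mem_subgroupOf.mp h)
    obtain ⟨lam, hlam, hlamn⟩ := exists_hom_ne_one_of_not_mem (K.subgroupOf N) hcomm n hn'
    have h1 := hfix lam (fun m hm => hlam m (Subgroup.mem_subgroupOf.mpr hm))
    have h2 := congrFun (congrArg Subtype.val h1) n
    rw [Helper74.twist_apply] at h2
    have h3 : (((lam n : ℂˣ) : ℂ) - 1) * (ψ : N → ℂ) n = 0 := by
      rw [sub_mul, h2, one_mul, sub_self]
    rcases mul_eq_zero.mp h3 with h4 | h4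
    · exfalso
      apply hlamn
      exact Units.ext (sub_eq_zero.mp h4)
    · exact h4
  obtain ⟨θ, b, hθ, hdeg, hbd⟩ := exists_constituent_ratio (K.subgroupOf N) ψ
  rw [hidx] at hbd
  obtain ⟨k, -, hk⟩ := (Nat.dvd_prime_pow hp).mp hbd
  have hk0 : k ≠ 0 := by
    intro hk0
    rw [hk, hk0, pow_zero, one_mul] at hdeg
    have hres : IsCharacter (K.subgroupOf N) (fun n : K.subgroupOf N => (ψ : N → ℂ) n) :=
      Helper74.isCharacter_restrict (K.subgroupOf N) (Helper74.irr_isCharacter ψ)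
    have hψK : (fun n : K.subgroupOf N => (ψ : N → ℂ) n) = (θ : K.subgroupOf N → ℂ) :=
      eq_of_constituent_of_degree_le hres θ hθ (le_of_eq hdeg)
    have hirr : IsIrrCharacter (K.subgroupOf N) (fun n : K.subgroupOf N => (ψ : N → ℂ) n) :=
      hψK ▸ θ.2
    have h1 := IsIrrCharacter.sum_normSq hirr
    have h2 := IsIrrCharacter.sum_normSq ψ.2
    have h3 : ∑ g : N, ‖(ψ : N → ℂ) g‖ ^ 2 =
        ∑ g : K.subgroupOf N, ‖(ψ : N → ℂ) g‖ ^ 2 := by
      have h4 : ∑ g : N, ‖(ψ : N → ℂ) g‖ ^ 2 =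
          ∑ g ∈ Finset.univ.filter (fun y : N => y ∈ K.subgroupOf N),
            ‖(ψ : N → ℂ) g‖ ^ 2 := by
        rw [Finset.sum_filter]
        refine Finset.sum_congr rfl fun y _ => ?_
        split_ifs with hy
        · rfl
        · rw [hvan y (fun h => hy (Subgroup.mem_subgroupOf.mpr h))]
          simp
      rw [h4, Finset.sum_subtype (Finset.univ.filter (fun y : N => y ∈ K.subgroupOf N))
        (p := fun y => y ∈ K.subgroupOf N) (by simp)]
    rw [h2, h1] at h3
    have h5 : Fintype.card N = Fintype.card (K.subgroupOf N) := by exact_mod_cast h3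
    have h6 : K.subgroupOf N = ⊤ := by
      apply (Subgroup.card_eq_iff_eq_top _).mp
      rw [Nat.card_eq_fintype_card, Nat.card_eq_fintype_card, h5]
    obtain ⟨n, hn⟩ := hne
    apply hn
    have : n ∈ K.subgroupOf N := by rw [h6]; trivial
    exact Subgroup.mem_subgroupOf.mp this
  rw [hdeg, hk]
  exact Dvd.dvd.mul_right (dvd_pow_self p hk0) _

/-- The Frobenius-like case. -/
theorem frobenius_case (K : Subgroup G) [hK : K.Normal]
    (hGN : ∀ x y : G, x⁻¹ * y⁻¹ * x * y ∈ N)
    (hab : ∀ x y : N, ((x * y * x⁻¹ * y⁻¹ : N) : G) ∈ K)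
    (hfpf : ∀ g : G, g ∉ N → ∀ n : N, g * (n : G) * g⁻¹ * (n : G)⁻¹ ∈ K → (n : G) ∈ K)
    {p a : ℕ} (hp : p.Prime) (hidx : (K.subgroupOf N).index = p ^ a)
    (hne : ∃ n : N, (n : G) ∉ K) :
    (∃ β : IrrCharacter G, charDegree (β : G → ℂ) = N.index) ∧
    ∀ (χ : IrrCharacter G) (q : ℕ), q.Prime → q ∣ charDegree (χ : G → ℂ) →
      q ∣ N.index ∨ (∃ ξ : IrrCharacter G, q * N.index ∣ charDegree (ξ : G → ℂ)) ∨
        p ∣ charDegree (χ : G → ℂ) := by
  classical
  have key : ∀ ψ : IrrCharacter N,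
      (∃ ξ : IrrCharacter G, charDegree (ξ : G → ℂ) = N.index * charDegree (ψ : N → ℂ)) ∨
      p ∣ charDegree (ψ : N → ℂ) := by
    intro ψ
    rcases exists_irr_index_mul_or_twist_fixed N K hGN hab hfpf ψ with ⟨ξ, hξ⟩ | hfix
    · left
      refine ⟨ξ, ?_⟩
      have h : (charDegree (ξ : G → ℂ) : ℂ) = ((N.index * charDegree (ψ : N → ℂ) : ℕ) : ℂ) := by
        rw [IsCharacter.charDegree_cast (IsIrrCharacter.isCharacter ξ.2), hξ]
        push_cast
        rw [IsCharacter.charDegree_cast (IsIrrCharacter.isCharacter ψ.2)]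
      exact_mod_cast h
    · right
      exact prime_dvd_of_twist_fixed N K hab hp hidx hne ψ hfix
  constructor
  · -- the trivial character of `N`
    let ψ₁ : IrrCharacter N := ⟨fun _ => (1 : ℂ), Helper15.isIrrCharacter_one N⟩
    have hψ₁ : charDegree (ψ₁ : N → ℂ) = 1 := by
      unfold charDegree
      show ⌊((1 : ℂ)).re⌋₊ = 1
      simp
    rcases key ψ₁ with ⟨ξ, hξ⟩ | h
    · exact ⟨ξ, by rw [hξ, hψ₁, mul_one]⟩
    · exfalso
      rw [hψ₁] at h
      exact hp.one_lt.ne' (Nat.dvd_one.mp h)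
  · intro χ q hq hqχ
    obtain ⟨ψ, b, -, hdeg, hbd⟩ := exists_constituent_ratio N χ
    rw [hdeg] at hqχ
    rcases (Nat.Prime.dvd_mul hq).mp hqχ with h | h
    · exact Or.inl (h.trans hbd)
    · rcases key ψ with ⟨ξ, hξ⟩ | hpψ
      · right; left
        refine ⟨ξ, ?_⟩
        rw [hξ, mul_comm q]
        exact Nat.mul_dvd_mul_left _ h
      · right; right
        rw [hdeg]
        exact Dvd.dvd.mul_left hpψ _

end frobenius

end Cfsg.Agent.Helper80.DegGraph
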