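import Mathlib
import Cfsg.Prelude.Def_Characters
import Cfsg.Prelude.Def_Transfer
import Cfsg.Agent.Lib.Nilpotent
import Cfsg.Agent.Helper34.Tate
import Cfsg.Agent.Helper88.CoprimeAbelian
import Cfsg.Agent.Helper74.ThompsonDeg
import Cfsg.Agent.Helper80.FrobTwist

/-!
# Non-nilpotent groups all of whose proper quotients are nilpotent, with two character degrees

Group-theoretic part of the structure theorem used for Isaacs 12.5.
-/

set_option autoImplicit false
set_option linter.unusedSectionVars false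

namespace Cfsg.Agent.Helper80

open Cfsg
open scoped commutatorElement

universe u

section minnonnilp

variable {X : Type u} [Group X] [Finite X]

/-- Two nontrivial normal subgroups of a non-nilpotent group with nilpotent proper quotients
intersect nontrivially. -/
theorem inf_ne_bot_of_quotients_nilpotent (hX : ¬ Group.IsNilpotent X)
    (hq : ∀ W : Subgroup X, ∀ _ : W.Normal, W ≠ ⊥ → Group.IsNilpotent (X ⧸ W))
    (W₁ W₂ : Subgroup X) [h1 : W₁.Normal] [h2 : W₂.Normal] (hW₁ : W₁ ≠ ⊥) (hW₂ : W₂ ≠ ⊥) :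
    W₁ ⊓ W₂ ≠ ⊥ := by
  intro hbot
  apply hX
  have n1 := hq W₁ h1 hW₁
  have n2 := hq W₂ h2 hW₂
  let f : X →* (X ⧸ W₁) × (X ⧸ W₂) := (QuotientGroup.mk' W₁).prod (QuotientGroup.mk' W₂)
  have hker : f.ker = ⊥ := by
    rw [MonoidHom.ker_prod, QuotientGroup.ker_mk', QuotientGroup.ker_mk', hbot]
  exact Subgroup.isNilpotent_of_ker_le_center f (by rw [hker]; exact bot_le)

/-- The unique minimal normal subgroup. -/
theorem exists_unique_minimal_normal (hX : ¬ Group.IsNilpotent X)
    (hq : ∀ W : Subgroup X, ∀ _ : W.Normal, W ≠ ⊥ → Group.IsNilpotent (X ⧸ W)) :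
    ∃ V : Subgroup X, V.Normal ∧ V ≠ ⊥ ∧ ∀ W : Subgroup X, W.Normal → W ≠ ⊥ → V ≤ W := by
  classical
  have htop : (⊤ : Subgroup X) ≠ ⊥ := by
    intro h
    apply hX
    have : Subsingleton X := ⟨fun a b => by
      have ha : a ∈ (⊥ : Subgroup X) := h ▸ Subgroup.mem_top a
      have hb : b ∈ (⊥ : Subgroup X) := h ▸ Subgroup.mem_top b
      rw [Subgroup.mem_bot] at ha hb
      rw [ha, hb]⟩
    infer_instance
  have hne : {W : Subgroup X | W.Normal ∧ W ≠ ⊥}.Nonempty := ⟨⊤, inferInstance, htop⟩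
  obtain ⟨V, ⟨hVn, hV1⟩, hVmin⟩ := (wellFounded_lt (α := Subgroup X)).has_min _ hne
  refine ⟨V, hVn, hV1, fun W hWn hW1 => ?_⟩
  have h1 : V ⊓ W ≠ ⊥ := inf_ne_bot_of_quotients_nilpotent hX hq V W hV1 hW1
  have h2 : (V ⊓ W).Normal := inferInstance
  have h3 : ¬ V ⊓ W < V := hVmin (V ⊓ W) ⟨h2, h1⟩
  have h4 : V ⊓ W = V := by
    by_contra hne'
    exact h3 (lt_of_le_of_ne inf_le_left hne')
  rw [← h4]
  exact inf_le_right

/-- A normal subgroup whose irreducible characters all have degree dividing a number prime to its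
order is abelian. -/
theorem comm_of_normal_coprime_degrees (H : Subgroup X) [hH : H.Normal] (m : ℕ)
    (hcd : ∀ χ : IrrCharacter X, charDegree (χ : X → ℂ) = 1 ∨ charDegree (χ : X → ℂ) = m)
    (hcop : Nat.Coprime (Nat.card H) m) : ∀ a b : H, a * b = b * a := by
  classical
  have := Fintype.ofFinite X
  have := Fintype.ofFinite H
  apply comm_of_forall_irr_linear
  intro θ
  have hθc := Helper74.irr_isCharacter θ
  have h1 : charDegree (θ : H → ℂ) ∣ Nat.card H := IsIrrCharacter.charDegree_dvd_card θ.2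
  have h2 : charDegree (θ : H → ℂ) ∣ m := by
    obtain ⟨χ, hχ, hcon⟩ := exists_irr_over H θ.2
    have h3 := Helper74.charDegree_dvd_of_constituent H hχ θ.2 hcon
    rcases hcd ⟨χ, hχ⟩ with h4 | h4
    · rw [h4] at h3
      exact h3.trans (one_dvd m)
    · rwa [h4] at h3
  have h3 : charDegree (θ : H → ℂ) = 1 := Nat.eq_one_of_dvd_coprimes hcop h1 h2
  rw [← Helper74.charDegree_cast hθc, h3]
  simp

/-- The structure of a non-nilpotent group with nilpotent proper quotients and character degrees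
`{1, m}`: there is an abelian normal Hall subgroup `H`, of order prime to `m`, contained in every
nontrivial normal subgroup. -/
theorem exists_abelian_hall_minimal (hX : ¬ Group.IsNilpotent X)
    (hq : ∀ W : Subgroup X, ∀ _ : W.Normal, W ≠ ⊥ → Group.IsNilpotent (X ⧸ W))
    (m : ℕ) (hm : 2 ≤ m)
    (hcd : ∀ χ : IrrCharacter X, charDegree (χ : X → ℂ) = 1 ∨ charDegree (χ : X → ℂ) = m) :
    ∃ H : Subgroup X, H.Normal ∧ H ≠ ⊥ ∧ (∀ a ∈ H, ∀ b ∈ H, a * b = b * a) ∧
      Nat.Coprime (Nat.card H) m ∧ Nat.Coprime (Nat.card H) H.index ∧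
      ∀ W : Subgroup X, W.Normal → W ≠ ⊥ → H ≤ W := by
  classical
  obtain ⟨V, hVn, hV1, hVmin⟩ := exists_unique_minimal_normal hX hq
  -- the residuals
  have hR : ∀ p : ℕ, p.Prime → p ∣ m →
      (Cfsg.pResidual p X).Normal ∧ (Nat.card (Cfsg.pResidual p X)).Coprime p ∧
        IsPGroup p (X ⧸ Cfsg.pResidual p X) ∧ Cfsg.pResidual p X ≠ ⊥ := by
    intro p hp hpm
    have : Fact p.Prime := ⟨hp⟩
    have hn := Helper34.pResidual_normal p X
    have hpg : IsPGroup p (X ⧸ Cfsg.pResidual p X) := Helper34.pResidual_quotient_isPGroup p X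
    refine ⟨hn, ?_, hpg, ?_⟩
    · apply Helper74.coprime_card_pResidual_of_degrees
      intro χ hχ
      rcases hcd χ with h | h
      · exact absurd h hχ
      · rw [h]; exact hpm
    · intro hbot
      apply hX
      have hpX : IsPGroup p X := by
        intro x
        obtain ⟨k, hk⟩ := hpg (QuotientGroup.mk x)
        refine ⟨k, ?_⟩
        rw [← QuotientGroup.mk_pow, QuotientGroup.eq_one_iff, hbot, Subgroup.mem_bot] at hk
        exact hk
      exact hpX.isNilpotent
  obtain ⟨H, hHdef⟩ : ∃ H : Subgroup X,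
      H = ⨅ p : {p : ℕ // p.Prime ∧ p ∣ m}, Cfsg.pResidual p.1 X := ⟨_, rfl⟩
  have hHle : ∀ p : ℕ, p.Prime → p ∣ m → H ≤ Cfsg.pResidual p X := by
    intro p hp hpm
    rw [hHdef]
    exact iInf_le (fun p : {p : ℕ // p.Prime ∧ p ∣ m} => Cfsg.pResidual p.1 X) ⟨p, hp, hpm⟩
  have hHn : H.Normal := by
    rw [hHdef]
    exact Subgroup.normal_iInf_normal (fun p => (hR p.1 p.2.1 p.2.2).1)
  have hVH : V ≤ H := by
    rw [hHdef]
    exact le_iInf (fun p => hVmin _ (hR p.1 p.2.1 p.2.2).1 (hR p.1 p.2.1 p.2.2).2.2.2)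
  have hH1 : H ≠ ⊥ := by
    intro h
    apply hV1
    rw [eq_bot_iff, ← h]
    exact hVH
  have hcopm : Nat.Coprime (Nat.card H) m := by
    by_contra hcon
    obtain ⟨p, hp, hpd⟩ := Nat.exists_prime_and_dvd hcon
    have h1 : p ∣ Nat.card H := hpd.trans (Nat.gcd_dvd_left _ _)
    have h2 : p ∣ m := hpd.trans (Nat.gcd_dvd_right _ _)
    have h3 : Nat.card H ∣ Nat.card (Cfsg.pResidual p X) := Subgroup.card_dvd_of_le (hHle p hp h2)
    have h4 := (hR p hp h2).2.1
    exact hp.one_lt.ne' (Nat.eq_one_of_dvd_coprimes h4 (h1.trans h3) dvd_rfl)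
  have hab : ∀ a b : H, a * b = b * a := comm_of_normal_coprime_degrees H m hcd hcopm
  have hprime_idx : ∀ r : ℕ, r.Prime → r ∣ H.index → r ∣ m := by
    intro r hr hrd
    by_contra hrm
    have : Fact r.Prime := ⟨hr⟩
    rw [Subgroup.index_eq_card] at hrd
    obtain ⟨xb, hxb⟩ := exists_prime_orderOf_dvd_card' r hrd
    obtain ⟨x, rfl⟩ := QuotientGroup.mk_surjective xb
    have hxH : x ∈ H := by
      rw [hHdef, Subgroup.mem_iInf]
      rintro ⟨p, hp, hpm⟩
      have hn := (hR p hp hpm).1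
      have hpg := (hR p hp hpm).2.2.1
      rw [← QuotientGroup.eq_one_iff]
      obtain ⟨k, hk⟩ := hpg (QuotientGroup.mk x)
      have h1 : (QuotientGroup.mk x : X ⧸ Cfsg.pResidual p X) ^ r = 1 := by
        rw [← QuotientGroup.mk_pow, QuotientGroup.eq_one_iff]
        apply hHle p hp hpm
        rw [← QuotientGroup.eq_one_iff, QuotientGroup.mk_pow, ← hxb, pow_orderOf_eq_one]
      have h2 : orderOf (QuotientGroup.mk x : X ⧸ Cfsg.pResidual p X) ∣ r :=
        orderOf_dvd_of_pow_eq_one h1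
      have h3 : orderOf (QuotientGroup.mk x : X ⧸ Cfsg.pResidual p X) ∣ p ^ k :=
        orderOf_dvd_of_pow_eq_one hk
      have hrp : r ≠ p := fun h => hrm (h ▸ hpm)
      have h4 : Nat.Coprime r (p ^ k) :=
        Nat.Coprime.pow_right k ((Nat.coprime_primes hr hp).mpr hrp)
      have h5 := Nat.eq_one_of_dvd_coprimes h4 h2 h3
      exact orderOf_eq_one_iff.mp h5
    have h6 : (QuotientGroup.mk x : X ⧸ H) = 1 := (QuotientGroup.eq_one_iff x).mpr hxH
    rw [h6, orderOf_one] at hxb
    exact hr.one_lt.ne hxb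
  have hcopidx : Nat.Coprime (Nat.card H) H.index := by
    by_contra hcon
    obtain ⟨r, hr, hrd⟩ := Nat.exists_prime_and_dvd hcon
    have h1 : r ∣ Nat.card H := hrd.trans (Nat.gcd_dvd_left _ _)
    have h2 : r ∣ H.index := hrd.trans (Nat.gcd_dvd_right _ _)
    have h3 : r ∣ m := hprime_idx r hr h2
    exact hr.one_lt.ne' (Nat.eq_one_of_dvd_coprimes hcopm h1 h3)
  -- `H ∩ Z(X) = 1`
  have hHZ : H ⊓ Subgroup.center X = ⊥ := by
    by_contra hne
    apply hX
    have hn : (H ⊓ Subgroup.center X).Normal := inferInstance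
    have hnil := hq _ hn hne
    refine Subgroup.isNilpotent_of_ker_le_center (QuotientGroup.mk' (H ⊓ Subgroup.center X)) ?_
    rw [QuotientGroup.ker_mk']
    exact inf_le_right
  -- coprime decomposition
  have hHcomm : H ≤ ⁅H, (⊤ : Subgroup X)⁆ := by
    let A : Subgroup (MulAut H) := (MulAut.conjNormal : X →* MulAut H).range
    have hcopA : (Nat.card A).Coprime (Nat.card H) := by
      have h1 : Nat.card A = (MulAut.conjNormal : X →* MulAut H).ker.index :=
        (Subgroup.index_ker _).symm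
      have h2 : H ≤ (MulAut.conjNormal : X →* MulAut H).ker := by
        intro h hh
        rw [MonoidHom.mem_ker]
        ext y
        rw [MulAut.conjNormal_apply, MulAut.one_apply]
        have := hab ⟨h, hh⟩ y
        have h3 : h * (y : X) = (y : X) * h := congrArg Subtype.val this
        rw [h3, mul_inv_cancel_right]
      rw [h1]
      exact (Nat.Coprime.coprime_dvd_right (Subgroup.index_dvd_of_le h2) hcopidx).symm
    obtain ⟨hdisj, hsup⟩ := Helper88.coprime_action_abelian (G := H) hab A hcopA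
      ((H ⊓ Subgroup.center X).subgroupOf H)
      (Subgroup.closure {y : H | ∃ α ∈ A, ∃ g : H, y = g⁻¹ * α g}) (by
        intro g
        rw [Subgroup.mem_subgroupOf, Subgroup.mem_inf, Subgroup.mem_center_iff]
        constructor
        · rintro ⟨-, hg⟩ α ⟨x, rfl⟩
          apply Subtype.ext
          rw [MulAut.conjNormal_apply, hg x, mul_inv_cancel_right]
        · intro hg
          refine ⟨g.2, fun x => ?_⟩
          have := congrArg Subtype.val (hg _ ⟨x, rfl⟩)
          rw [MulAut.conjNormal_apply] at this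
          exact mul_inv_eq_iff_eq_mul.mp this) rfl
    rw [hHZ, Subgroup.bot_subgroupOf, bot_sup_eq] at hsup
    intro h hh
    have h1 : (⟨h, hh⟩ : H) ∈ Subgroup.closure {y : H | ∃ α ∈ A, ∃ g : H, y = g⁻¹ * α g} := by
      rw [hsup]; exact Subgroup.mem_top _
    have h2 : Subgroup.closure {y : H | ∃ α ∈ A, ∃ g : H, y = g⁻¹ * α g} ≤
        (⁅H, (⊤ : Subgroup X)⁆).comap H.subtype := by
      rw [Subgroup.closure_le]
      rintro y ⟨α, ⟨x, rfl⟩, g, rfl⟩
      rw [SetLike.mem_coe, Subgroup.mem_comap]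
      have h3 : H.subtype (g⁻¹ * (MulAut.conjNormal x) g) = ⁅(g : X)⁻¹, x⁆ := by
        rw [map_mul, map_inv, Subgroup.subtype_apply, Subgroup.subtype_apply,
          MulAut.conjNormal_apply, commutatorElement_def]
        group
      rw [h3]
      exact Subgroup.commutator_mem_commutator (H.inv_mem g.2) (Subgroup.mem_top x)
    exact h2 h1
  have hlcs : ∀ n : ℕ, H ≤ (⊤ : Subgroup X).lowerCentralSeries n := by
    intro n
    induction n with
    | zero => exact le_top
    | succ n ih =>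
      rw [Subgroup.lowerCentralSeries_succ]
      exact hHcomm.trans (Subgroup.commutator_mono ih le_rfl)
  refine ⟨H, hHn, hH1, fun a ha b hb => congrArg Subtype.val (hab ⟨a, ha⟩ ⟨b, hb⟩), hcopm, hcopidx,
    fun W hWn hW1 => ?_⟩
  have hnil := hq W hWn hW1
  obtain ⟨n, hn⟩ := Subgroup.nilpotent_iff_lowerCentralSeries.mp hnil
  have h1 : ((⊤ : Subgroup X).lowerCentralSeries n).map (QuotientGroup.mk' W) = ⊥ := by
    rw [Subgroup.map_lowerCentralSeries, ← MonoidHom.range_eq_map,
      MonoidHom.range_eq_top.mpr (QuotientGroup.mk'_surjective W), hn]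
  have h2 : (⊤ : Subgroup X).lowerCentralSeries n ≤ W := by
    have := (Subgroup.map_eq_bot_iff _).mp h1
    rwa [QuotientGroup.ker_mk'] at this
  exact (hlcs n).trans h2

end minnonnilp

end Cfsg.Agent.Helper80
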