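import Mathlib
import Cfsg.Prelude.Def_Blocks
import Cfsg.Agent.Helper80.Induced
import Cfsg.Agent.Helper80.Pullback
import Cfsg.Agent.Helper80.CharLevel
import Cfsg.Agent.Helper81.NilpotentMonomial
import Cfsg.Agent.Helper15.CliffordCorr
import Cfsg.Agent.S4075

/-!
# Characters restricting irreducibly to a normal subgroup with abelian Sylow subgroups

Isaacs, Theorem 6.23: if `H` is solvable, `N ⊴ H` has abelian Sylow subgroups and `ψ ∈ Irr(H)`
restricts irreducibly to `N`, then `ψ` is monomial.
-/

set_option autoImplicit false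
set_option linter.unusedSectionVars false

namespace Cfsg.Agent.Helper80

open Cfsg Cfsg.Agent.Helper15
open scoped commutatorElement

universe u

/-- All `p`-subgroups of `N` are commutative (equivalently the Sylow subgroups of `N` are). -/
def AbPSub {H : Type u} [Group H] (N : Subgroup H) : Prop :=
  ∀ (p : ℕ) [Fact p.Prime] (Q : Subgroup H), IsPGroup p Q → Q ≤ N →
    ∀ a ∈ Q, ∀ b ∈ Q, a * b = b * a

theorem abPSub_of_sylow {H : Type u} [Group H] [Finite H] (N : Subgroup H)
    (hab : ∀ (p : ℕ) [Fact p.Prime] (P : Sylow p N), ∀ a ∈ P, ∀ b ∈ P, a * b = b * a) :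
    AbPSub N := by
  intro p _ Q hQ hQN a ha b hb
  have hQ' : IsPGroup p (Q.subgroupOf N) := hQ.comap_subtype
  obtain ⟨P, hP⟩ := hQ'.exists_le_sylow
  have h := hab p P ⟨a, hQN ha⟩ (hP (Subgroup.mem_subgroupOf.mpr ha)) ⟨b, hQN hb⟩
    (hP (Subgroup.mem_subgroupOf.mpr hb))
  exact congrArg Subtype.val h

theorem AbPSub.subgroupOf {H : Type u} [Group H] {N : Subgroup H} (h : AbPSub N)
    (T : Subgroup H) : AbPSub (N.subgroupOf T) := by
  intro p _ Q hQ hQN a ha b hb
  have hQ' : IsPGroup p (Q.map T.subtype) := hQ.map _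
  have hle : Q.map T.subtype ≤ N := by
    rintro x ⟨y, hy, rfl⟩
    exact Subgroup.mem_subgroupOf.mp (hQN hy)
  have := h p (Q.map T.subtype) hQ' hle (a : H) (Subgroup.mem_map_of_mem _ ha) (b : H)
    (Subgroup.mem_map_of_mem _ hb)
  exact Subtype.ext this

theorem AbPSub.map_mk' {H : Type u} [Group H] [Finite H] {N : Subgroup H} (h : AbPSub N)
    (K : Subgroup H) [K.Normal] : AbPSub (N.map (QuotientGroup.mk' K)) := by
  intro p _ Q hQ hQN a ha b hb
  set R : Subgroup H := N ⊓ Q.comap (QuotientGroup.mk' K) with hR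
  let f : R →* Q := ((QuotientGroup.mk' K).comp R.subtype).codRestrict Q (fun x => x.2.2)
  have hf : Function.Surjective f := by
    rintro ⟨q, hq⟩
    obtain ⟨n, hn, rfl⟩ := hQN hq
    exact ⟨⟨n, hn, hq⟩, rfl⟩
  let P : Sylow p R := Classical.arbitrary _
  have hQp : IsPGroup p (⊤ : Subgroup Q) := by
    intro x
    obtain ⟨k, hk⟩ := hQ x.1
    exact ⟨k, Subtype.ext hk⟩
  have htop : ((P.mapSurjective hf : Sylow p Q) : Subgroup Q) = ⊤ :=
    ((P.mapSurjective hf).is_maximal' hQp le_top).symm
  have hmem : ∀ q : Q, ∃ x : R, x ∈ (P : Subgroup R) ∧ f x = q := by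
    intro q
    have : q ∈ ((P.mapSurjective hf : Sylow p Q) : Subgroup Q) := by rw [htop]; trivial
    rw [Sylow.coe_mapSurjective] at this
    obtain ⟨x, hx, rfl⟩ := this
    exact ⟨x, hx, rfl⟩
  obtain ⟨x, hx, hxa⟩ := hmem ⟨a, ha⟩
  obtain ⟨y, hy, hyb⟩ := hmem ⟨b, hb⟩
  have hP' : IsPGroup p ((P : Subgroup R).map R.subtype) := P.2.map _
  have hle : (P : Subgroup R).map R.subtype ≤ N := by
    rintro z ⟨w, -, rfl⟩
    exact w.2.1
  have hcomm := h p _ hP' hle (x : H) (Subgroup.mem_map_of_mem _ hx) (y : H)
    (Subgroup.mem_map_of_mem _ hy)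
  have ha' : a = QuotientGroup.mk' K (x : H) := (congrArg Subtype.val hxa).symm
  have hb' : b = QuotientGroup.mk' K (y : H) := (congrArg Subtype.val hyb).symm
  rw [ha', hb', ← map_mul, ← map_mul, hcomm]

/-- In a solvable group, a non-commutative normal subgroup all of whose `p`-subgroups are
commutative contains a commutative normal subgroup of the whole group that is not central. -/
theorem exists_normal_abelian_le_not_le_center {H : Type u} [Group H] [Finite H]
    [hsolv : Group.IsSolvable H] (N : Subgroup H) [hN : N.Normal] (hab : AbPSub N)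
    (hnc : ∃ a ∈ N, ∃ b ∈ N, a * b ≠ b * a) :
    ∃ A : Subgroup H, A.Normal ∧ (∀ a ∈ A, ∀ b ∈ A, a * b = b * a) ∧ A ≤ N ∧
      ¬ A ≤ Subgroup.center H := by
  classical
  obtain ⟨E, hE0, hEs⟩ : ∃ E : ℕ → Subgroup H, E 0 = N ∧ ∀ k, E (k + 1) = ⁅E k, E k⁆ :=
    ⟨fun k => Nat.rec N (fun _ F => ⁅F, F⁆) k, rfl, fun k => rfl⟩
  have hEn : ∀ k, (E k).Normal := by
    intro k
    induction k with
    | zero => rw [hE0]; exact hN
    | succ k ih =>
      rw [hEs]
      exact @Subgroup.commutator_normal _ _ (E k) (E k) ih ih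
  have hEanti : ∀ k, E (k + 1) ≤ E k := by
    intro k
    rw [hEs]
    exact @Subgroup.commutator_le_right _ _ (E k) (E k) (hEn k)
  have hEN : ∀ k, E k ≤ N := by
    intro k
    induction k with
    | zero => rw [hE0]
    | succ k ih => exact (hEanti k).trans ih
  have hEder : ∀ k, E k ≤ derivedSeries H k := by
    intro k
    induction k with
    | zero => exact le_top
    | succ k ih =>
      rw [hEs, derivedSeries_succ]
      exact Subgroup.commutator_mono ih ih
  have hex : ∃ n, E n = ⊥ := by
    obtain ⟨n, hn⟩ := hsolv.solvable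
    exact ⟨n, le_bot_iff.mp (hn ▸ hEder n)⟩
  -- commutativity of `F` from `⁅F, F⁆ = ⊥`
  have hcomm_of : ∀ F : Subgroup H, ⁅F, F⁆ = ⊥ → ∀ a ∈ F, ∀ b ∈ F, a * b = b * a := by
    intro F hF a ha b hb
    have h1 : ⁅a, b⁆ ∈ ⁅F, F⁆ := Subgroup.commutator_mem_commutator ha hb
    rw [hF, Subgroup.mem_bot, commutatorElement_eq_one_iff_commute] at h1
    exact h1
  obtain ⟨a0, ha0, b0, hb0, hab0⟩ := hnc
  obtain ⟨n0, hn0spec, hn0min⟩ : ∃ n0, E n0 = ⊥ ∧ ∀ m, m < n0 → E m ≠ ⊥ := by
    have hdec : DecidablePred fun n => E n = ⊥ := fun _ => Classical.propDecidable _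
    exact ⟨Nat.find hex, Nat.find_spec hex, fun m hm => Nat.find_min hex hm⟩
  have hn0_ne0 : n0 ≠ 0 := by
    intro h0
    rw [h0, hE0] at hn0spec
    apply hab0
    have ha1 : a0 = 1 := by rw [hn0spec] at ha0; exact Subgroup.mem_bot.mp ha0
    have hb1 : b0 = 1 := by rw [hn0spec] at hb0; exact Subgroup.mem_bot.mp hb0
    rw [ha1, hb1]
  have hn0_ne1 : n0 ≠ 1 := by
    intro h1
    rw [h1, hEs 0, hE0] at hn0spec
    exact hab0 (hcomm_of N hn0spec a0 ha0 b0 hb0)
  obtain ⟨m, hm⟩ : ∃ m, n0 = m + 2 := ⟨n0 - 2, by omega⟩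
  have hAne : E (m + 1) ≠ ⊥ := hn0min (m + 1) (by omega)
  have hAA : ⁅E (m + 1), E (m + 1)⁆ = ⊥ := by rw [← hEs, ← hm]; exact hn0spec
  refine ⟨E (m + 1), hEn _, hcomm_of _ hAA, hEN _, ?_⟩
  intro hcen
  apply hAne
  -- `B = E m` is nilpotent with commutative Sylow subgroups
  set B := E m with hB
  have hBB : ⁅B, B⁆ ≤ Subgroup.center H := by rw [← hEs]; exact hcen
  have hnil : Group.IsNilpotent B :=
    Subgroup.isNilpotent_of_lowerCentralSeries_eq_bot
      (Subgroup.lowerCentralSeries_succ_eq_bot B (n := 1) hBB)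
  have hBcomm : IsMulCommutative B := by
    apply Cfsg.Agent.S4075.comm_of_sylow_comm
    intro p _ P
    refine ⟨⟨fun x y => ?_⟩⟩
    have hP' : IsPGroup p (((P : Subgroup B).map B.subtype)) := P.2.map _
    have hle : (P : Subgroup B).map B.subtype ≤ N := by
      rintro z ⟨w, -, rfl⟩
      exact hEN m w.2
    have := hab p _ hP' hle ((x : B) : H) (Subgroup.mem_map_of_mem _ x.2) ((y : B) : H)
      (Subgroup.mem_map_of_mem _ y.2)
    exact Subtype.ext (Subtype.ext this)
  rw [hEs, eq_bot_iff, Subgroup.commutator_le]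
  intro x hx y hy
  rw [Subgroup.mem_bot, commutatorElement_eq_one_iff_commute]
  have := hBcomm.is_comm.comm (⟨x, hx⟩ : B) ⟨y, hy⟩
  exact congrArg Subtype.val this

section restrict

variable {K : Type u} [Group K] [Fintype K]

/-- If `ν` is a constituent of the restriction of `φ ∈ Irr(K)` to `M`, then
`φ(1) ≤ [K:M] ν(1)`. -/
theorem charDegree_le_of_restrict_constituent (M : Subgroup K) [Fintype M] {φ : K → ℂ}
    (hφ : IsIrrCharacter K φ) {ν : M → ℂ} (hν : IsCharacter M ν)
    (hne : classInner (fun m : M => φ m) ν ≠ 0) :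
    charDegree φ ≤ M.index * charDegree ν := by
  classical
  let _ : Fintype (IrrCharacter K) := Helper74.irrFintype K
  have hI := Helper15.isCharacter_indFun M hν
  set I := indFun M ν with hIdef
  set X : IrrCharacter K := ⟨φ, hφ⟩ with hX
  have hcf : IsClassFunction K φ := IsCharacter.isClassFunction (IsIrrCharacter.isCharacter hφ)
  have hm : (mult I hI X : ℂ) ≠ 0 := by
    rw [← mult_spec, hIdef, Helper15.frobenius_reciprocity M ν φ hcf,
      ← Helper15.classInner_conj_symm]
    simpa using hne
  have hm1 : 1 ≤ mult I hI X := Nat.one_le_iff_ne_zero.mpr (by exact_mod_cast hm)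
  have hdegI := charDegree_eq_sum_mult I hI
  rw [charDegree_indFun M hν] at hdegI
  rw [hdegI]
  calc charDegree φ = 1 * charDegree (X : K → ℂ) := by rw [one_mul]
    _ ≤ mult I hI X * charDegree (X : K → ℂ) := Nat.mul_le_mul_right _ hm1
    _ ≤ ∑ ψ' : IrrCharacter K, mult I hI ψ' * charDegree (ψ' : K → ℂ) :=
        Finset.single_le_sum (f := fun ψ' : IrrCharacter K =>
          mult I hI ψ' * charDegree (ψ' : K → ℂ)) (fun _ _ => Nat.zero_le _) (Finset.mem_univ X)

/-- Transitivity of "is a constituent of the restriction". -/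
theorem inner_restrict_ne_zero_trans (M : Subgroup K) [Fintype M] {Ψ : K → ℂ}
    (hΨ : IsCharacter K Ψ) {η : K → ℂ} (hη : IsIrrCharacter K η) (h1 : classInner Ψ η ≠ 0)
    {ν : M → ℂ} (hν : IsIrrCharacter M ν) (h2 : classInner (fun m : M => η m) ν ≠ 0) :
    classInner (fun m : M => Ψ m) ν ≠ 0 := by
  have hΨcf : IsClassFunction K Ψ := IsCharacter.isClassFunction hΨ
  have hηcf : IsClassFunction K η := IsCharacter.isClassFunction (IsIrrCharacter.isCharacter hη)
  rw [← Helper15.frobenius_reciprocity' M ν Ψ hΨcf]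
  have hI := Helper15.isCharacter_indFun M (IsIrrCharacter.isCharacter hν)
  refine Helper15.inner_ne_zero_of_common_constituent hΨ hI ⟨η, hη⟩ h1 ?_
  show classInner (indFun M ν) η ≠ 0
  rw [Helper15.frobenius_reciprocity M ν η hηcf, ← Helper15.classInner_conj_symm]
  simpa using h2

end restrict

/-- The two incarnations of `N ∩ T`. -/
def infSubgroupEquiv {H : Type u} [Group H] (N T : Subgroup H) :
    T.subgroupOf N ≃* N.subgroupOf T where
  toFun x := ⟨⟨(x : N), Subgroup.mem_subgroupOf.mp x.2⟩, Subgroup.mem_subgroupOf.mpr (x : N).2⟩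
  invFun y := ⟨⟨(y : T), Subgroup.mem_subgroupOf.mp y.2⟩, Subgroup.mem_subgroupOf.mpr (y : T).2⟩
  left_inv x := rfl
  right_inv y := rfl
  map_mul' x y := rfl

theorem infSubgroupEquiv_coe {H : Type u} [Group H] (N T : Subgroup H) (x : T.subgroupOf N) :
    (((infSubgroupEquiv N T x : N.subgroupOf T) : T) : H) = ((x : N) : H) := rfl

/-- Key step: if `ψ = η^H` restricts irreducibly to `N`, then `η` restricts irreducibly to
`N ∩ T`. -/
theorem isIrr_restrict_inf_of_indFun {H : Type u} [Group H] [Fintype H] (N T : Subgroup H)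
    {η : T → ℂ} (hη : IsIrrCharacter T η) (hψ : IsIrrCharacter H (indFun T η))
    (hψN : IsIrrCharacter N (fun n : N => indFun T η n)) :
    IsIrrCharacter (N.subgroupOf T) (fun x : N.subgroupOf T => η x) := by
  classical
  have : Fintype T := Fintype.ofFinite T
  have : Fintype N := Fintype.ofFinite N
  have : Fintype (N.subgroupOf T) := Fintype.ofFinite _
  have : Fintype (T.subgroupOf N) := Fintype.ofFinite _
  set ψ := indFun T η with hψdef
  have hψc : IsCharacter H ψ := IsIrrCharacter.isCharacter hψ
  have hψcf : IsClassFunction H ψ := IsCharacter.isClassFunction hψc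
  have hηc : IsCharacter T η := IsIrrCharacter.isCharacter hη
  set M' : Subgroup T := N.subgroupOf T with hM'
  set M : Subgroup N := T.subgroupOf N with hM
  -- `η` is a constituent of `ψ_T`
  have hψT : IsCharacter T (fun t : T => ψ t) := Helper74.isCharacter_restrict T hψc
  have h1 : classInner (fun t : T => ψ t) η ≠ 0 := by
    rw [← Helper15.frobenius_reciprocity' T η ψ hψcf, ← hψdef, Helper74.irr_inner_self ⟨ψ, hψ⟩]
    exact one_ne_zero
  -- a constituent `ν` of `η` restricted to `M'`
  have hμ : IsCharacter M' (fun x : M' => η x) := Helper74.isCharacter_restrict M' hηc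
  have hη1 : η 1 ≠ 0 := IsIrrCharacter.map_one_ne_zero hη
  obtain ⟨ν, hν⟩ := Helper81.exists_irr_constituent hμ (by simpa using hη1)
  have h2 : classInner (fun x : M' => ψ ((x : T) : H)) (ν : M' → ℂ) ≠ 0 :=
    inner_restrict_ne_zero_trans M' hψT hη h1 ν.2 hν
  -- transport to `M`
  let e := infSubgroupEquiv N T
  have hν' : IsIrrCharacter M (fun x : M => (ν : M' → ℂ) (e x)) :=
    IsIrrCharacter.comp_surjective ν.2 e.toMonoidHom e.surjective
  have h3 : classInner (fun x : M => (fun n : N => ψ n) x) (fun x : M => (ν : M' → ℂ) (e x))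
      ≠ 0 := by
    have := Helper15.classInner_comp_mulEquiv e (fun x : M' => ψ ((x : T) : H)) (ν : M' → ℂ)
    rw [← this] at h2
    exact h2
  have hle := charDegree_le_of_restrict_constituent M hψN (IsIrrCharacter.isCharacter hν') h3
  -- degrees
  have hd1 : charDegree (fun n : N => ψ n) = charDegree ψ := rfl
  have hd2 : charDegree ψ = T.index * charDegree η := charDegree_indFun T hηc
  have hd3 : charDegree (fun x : M => (ν : M' → ℂ) (e x)) = charDegree (ν : M' → ℂ) := by
    unfold charDegree
    show ⌊((ν : M' → ℂ) (e 1)).re⌋₊ = _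
    rw [map_one]
  have hidx : M.index ≤ T.index := by
    have h := Subgroup.relIndex_le_of_le_right (H := T) (le_top : N ≤ ⊤)
      (by rw [Subgroup.relIndex_top_right]; exact Subgroup.index_ne_zero_of_finite)
    rwa [Subgroup.relIndex_top_right] at h
  have hTpos : 0 < T.index := Nat.pos_of_ne_zero Subgroup.index_ne_zero_of_finite
  rw [hd1, hd2, hd3] at hle
  have hdeg : charDegree η ≤ charDegree (ν : M' → ℂ) := by
    have : T.index * charDegree η ≤ T.index * charDegree (ν : M' → ℂ) :=
      hle.trans (Nat.mul_le_mul_right _ hidx)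
    exact Nat.le_of_mul_le_mul_left this hTpos
  have heq := Helper15.eq_of_constituent_of_degree_le hμ ν.2 hν (charDegree η)
    (charDegree (ν : M' → ℂ)) (by
      show η 1 = _
      exact (IsCharacter.charDegree_cast hηc).symm)
    (IsCharacter.charDegree_cast (IsIrrCharacter.isCharacter ν.2)).symm hdeg
  rw [heq]
  exact ν.2

/-- **Isaacs 6.23, main step.**  If `H` is solvable, `N ⊴ H` has commutative Sylow subgroups and
`ψ ∈ Irr(H)` restricts irreducibly to `N`, then `ψ` is monomial. -/
theorem isMonomial_of_restrict_irr : ∀ (n : ℕ) (H : Type u) [Group H] [Fintype H]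
    [Group.IsSolvable H] (N : Subgroup H) [N.Normal], Nat.card H = n → AbPSub N →
    ∀ ψ : H → ℂ, IsIrrCharacter H ψ → IsIrrCharacter N (fun x : N => ψ x) →
    Helper81.IsMonomial H ψ := by
  intro n
  induction n using Nat.strong_induction_on with
  | _ n ih =>
    intro H _ _ _ N hNn hn hab χ hχ hχN
    classical
    have hχc : IsCharacter H χ := Helper74.isCharacter_of_isIrr hχ
    by_cases hlin : χ 1 = 1
    · exact Helper81.isMonomial_of_linear hχc hlin
    by_cases hfaith : ∀ g : H, χ g = χ 1 → g = 1
    · -- faithful, nonlinear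
      -- `N` is not commutative
      have hnc : ∃ a ∈ N, ∃ b ∈ N, a * b ≠ b * a := by
        by_contra hcomm
        push Not at hcomm
        apply hlin
        have : IsMulCommutative N :=
          ⟨⟨fun a b => Subtype.ext (hcomm a.1 a.2 b.1 b.2)⟩⟩
        obtain ⟨d, ρ, hρ, hρχ⟩ := hχN
        have := hρ
        have h1 : χ 1 = ρ.character 1 := (congrFun hρχ 1).symm
        rw [h1, Representation.char_one,
          Representation.IsIrreducible.finrank_eq_one_of_isMulCommutative ρ]
        simp
      obtain ⟨A, hAn, hAab, hAN, hAZ⟩ := exists_normal_abelian_le_not_le_center N hab hnc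
      have := hAn
      have : Fintype A := Fintype.ofFinite A
      have hAcomm : IsMulCommutative A :=
        ⟨⟨fun a b => Subtype.ext (hAab a.1 a.2 b.1 b.2)⟩⟩
      -- a linear constituent of `χ_A`
      have hχA : IsCharacter A (fun a : A => χ a) := Helper74.isCharacter_restrict A hχc
      have hχ1 : χ 1 ≠ 0 := Helper80.IsIrrCharacter.map_one_ne_zero hχ
      obtain ⟨lam0, hcon⟩ := Helper81.exists_irr_constituent hχA (by simpa using hχ1)
      have hlam1 : (lam0 : A → ℂ) 1 = 1 := by
        obtain ⟨d, ρ, hρ, hρl⟩ := lam0.2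
        have := hρ
        rw [← hρl, Representation.char_one,
          Representation.IsIrreducible.finrank_eq_one_of_isMulCommutative ρ]
        simp
      have hlamc : IsCharacter A (lam0 : A → ℂ) := Helper74.irr_isCharacter lam0
      set T : Subgroup H := inertia A (lam0 : A → ℂ) with hT
      have : Fintype T := Fintype.ofFinite T
      have hAT : A ≤ T := le_inertia A (Helper74.isClassFunction_of_isCharacter hlamc)
      obtain ⟨ψ, hψ, hind, -⟩ := clifford_correspondence_exists A lam0.2 T rfl hAT hχ hcon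
      by_cases hTtop : T = ⊤
      · -- `lam0` is invariant, so `A` is central: contradiction
        exfalso
        apply hAZ
        have hinv : ∀ g : H, conjFun A g (lam0 : A → ℂ) = lam0 := by
          intro g
          have : g ∈ T := by rw [hTtop]; trivial
          exact (mem_inertia A _ g).mp this
        have hres := restrict_eq_smul_of_invariant A hχ lam0.2 hcon hinv
        set e := classInner (fun a : A => χ a) (lam0 : A → ℂ) with he
        have he1 : χ 1 = e := by
          have := congrFun hres 1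
          simp only [Pi.smul_apply, smul_eq_mul, hlam1, mul_one] at this
          exact this
        intro a ha
        rw [Subgroup.mem_center_iff]
        intro g
        -- `ρ a` is scalar
        obtain ⟨d, ρ, hρ, hρχ⟩ := hχ
        have hnorm : ‖ρ.character a‖ = (Module.finrank ℂ (Fin d → ℂ) : ℝ) := by
          have h1 := congrFun hres ⟨a, ha⟩
          simp only [Pi.smul_apply, smul_eq_mul] at h1
          rw [hρχ, h1, norm_mul, linChar_norm hlamc hlam1, mul_one, ← he1, ← hρχ,
            Representation.char_one]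
          simp
        obtain ⟨ω, hω⟩ := (Helper3.norm_char_eq_iff ρ a (isOfFinOrder_of_finite a)).mp hnorm
        have hcomm : ρ (a * g * a⁻¹ * g⁻¹) = 1 := by
          have hinv' : ρ a * ρ a⁻¹ = 1 := by rw [← map_mul, mul_inv_cancel, map_one]
          rw [map_mul, map_mul, map_mul]
          have h5 : ρ a * ρ g = ρ g * ρ a := by
            rw [hω]
            ext v
            simp
          rw [h5, mul_assoc (ρ g), hinv', mul_one, ← map_mul, mul_inv_cancel, map_one]
        have h6 : χ (a * g * a⁻¹ * g⁻¹) = χ 1 := by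
          rw [← hρχ]
          simp only [Representation.character, hcomm, map_one]
        have h7 := hfaith _ h6
        calc g * a = (a * g * a⁻¹ * g⁻¹)⁻¹ * (a * g) := by group
          _ = a * g := by rw [h7, inv_one, one_mul]
      · -- proper inertia group: induct
        have hlt : Nat.card T < n := by
          rw [← hn]
          have hle := Subgroup.card_le_card_group T
          have hne : Nat.card T ≠ Nat.card H := fun h =>
            hTtop ((Subgroup.card_eq_iff_eq_top T).mp h)
          omega
        have hχ' : IsIrrCharacter H (indFun T ψ) := by rw [hind]; exact hχ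
        have hχN' : IsIrrCharacter N (fun n : N => indFun T ψ n) := by rw [hind]; exact hχN
        have hψN := isIrr_restrict_inf_of_indFun N T hψ hχ' hχN'
        have hψmon := ih (Nat.card T) hlt T (N.subgroupOf T) rfl (hab.subgroupOf T) ψ hψ hψN
        rw [← hind]
        exact Helper81.isMonomial_of_indFun T hψmon
    · -- not faithful: pass to the quotient by the kernel
      push Not at hfaith
      obtain ⟨g0, hg0, hg01⟩ := hfaith
      set K : Subgroup H := Helper80.kerChar χ hχc with hK
      have : Fintype (H ⧸ K) := Fintype.ofFinite _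
      have hg0K : g0 ∈ K := (Helper80.mem_kerChar hχc g0).mpr hg0
      obtain ⟨ψ, hψ, hχψ⟩ := Helper80.IsIrrCharacter.exists_descend hχ (QuotientGroup.mk' K)
        (QuotientGroup.mk'_surjective K)
        (fun g hg => (Helper80.mem_kerChar hχc g).mp ((QuotientGroup.eq_one_iff g).mp hg))
      have hlt : Nat.card (H ⧸ K) < n := by
        rw [← hn, ← Subgroup.card_mul_index K]
        have hK1 : 1 < Nat.card K := by
          rw [Finite.one_lt_card_iff_nontrivial]
          exact ⟨⟨⟨g0, hg0K⟩, 1, fun h => hg01 (congrArg Subtype.val h)⟩⟩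
        have hpos : 0 < K.index := Nat.pos_of_ne_zero Subgroup.index_ne_zero_of_finite
        show K.index < Nat.card K * K.index
        nlinarith
      -- the image of `N`
      have hNbar : (N.map (QuotientGroup.mk' K)).Normal :=
        Subgroup.Normal.map hNn _ (QuotientGroup.mk'_surjective K)
      let f : N →* N.map (QuotientGroup.mk' K) :=
        ((QuotientGroup.mk' K).comp N.subtype).codRestrict _
          (fun x => Subgroup.mem_map_of_mem _ x.2)
      have hf : Function.Surjective f := by
        rintro ⟨q, x, hx, rfl⟩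
        exact ⟨⟨x, hx⟩, rfl⟩
      have hψN : IsIrrCharacter (N.map (QuotientGroup.mk' K))
          (fun x : N.map (QuotientGroup.mk' K) => ψ x) := by
        apply Helper80.IsIrrCharacter.of_comp_surjective f hf
        have : (fun g : N => (fun x : N.map (QuotientGroup.mk' K) => ψ x) (f g))
            = fun x : N => χ x := by
          funext g
          exact (hχψ g).symm
        rw [this]
        exact hχN
      have hψmon := ih (Nat.card (H ⧸ K)) hlt (H ⧸ K) (N.map (QuotientGroup.mk' K)) rfl
        (hab.map_mk' K) ψ hψ hψN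
      exact Helper81.isMonomial_of_quotient K hψmon hχψ

end Cfsg.Agent.Helper80
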