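import Mathlib
import Cfsg.Prelude.Def_Characters
import Cfsg.Agent.Helper80.MinNonNilp
import Cfsg.Agent.Helper80.RelMAb
import Cfsg.Agent.Helper80.TwoClassesInertia
import Cfsg.Agent.Helper81.CliffordInd
import Cfsg.Agent.Helper82.CoprimeExt

/-!
# Character-theoretic part of the structure theorem for Isaacs 12.5

A non-nilpotent group `X` with nilpotent proper quotients and `cd(X) ⊆ {1, m}` is a Frobenius-like
group: it has an abelian normal subgroup `H` of index `m` with `X/H` abelian such that every element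
outside `H` acts fixed point freely on `H`.
-/

set_option autoImplicit false
set_option linter.unusedSectionVars false

namespace Cfsg.Agent.Helper80

open Cfsg

universe u

section coprimeInertia

variable {G : Type u} [Group G] [Fintype G] (N : Subgroup G) [hN : N.Normal] [Fintype N]

theorem conjFun_linFun (g : G) (lam : N →* ℂˣ) :
    Helper15.conjFun N g (Helper74.linFun lam) = Helper74.linFun (conjLin N g lam) := by
  funext n
  rw [Helper15.conjFun_apply, Helper74.linFun_apply, Helper74.linFun_apply, conjLin_apply]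

theorem mem_inertia_linFun_iff (g : G) (lam : N →* ℂˣ) :
    g ∈ Helper15.inertia N (Helper74.linFun lam) ↔ conjLin N g lam = lam := by
  rw [Helper15.mem_inertia, conjFun_linFun]
  exact ⟨fun h => Helper74.linFun_injective h, fun h => by rw [h]⟩

/-- For a linear character `lam` of a normal Hall subgroup `N` with inertia group `T`: for each
`β ∈ Irr(T/N)` there is `χ ∈ Irr(G)` of degree `|G:T| β(1)`. -/
theorem exists_irr_degree_index_inertia_mul (hcop : (Nat.card N).Coprime N.index)
    (lam : N →* ℂˣ) (T : Subgroup G) (hT : T = Helper15.inertia N (Helper74.linFun lam))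
    (β : IrrCharacter (T ⧸ N.subgroupOf T)) :
    ∃ χ : IrrCharacter G, charDegree (χ : G → ℂ) =
      T.index * charDegree (β : T ⧸ N.subgroupOf T → ℂ) := by
  classical
  have hlamirr : IsIrrCharacter N (Helper74.linFun lam) := isIrrCharacter_of_monoidHom lam
  have hlamcf : IsClassFunction N (Helper74.linFun lam) :=
    IsCharacter.isClassFunction (IsIrrCharacter.isCharacter hlamirr)
  have hNT : N ≤ T := by rw [hT]; exact Helper15.le_inertia N hlamcf
  have e : N.subgroupOf T ≃* N := Subgroup.subgroupOfEquivOfLe hNT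
  have he : ∀ x : N.subgroupOf T, ((Subgroup.subgroupOfEquivOfLe hNT x : N) : G) = ((x : T) : G) :=
    fun x => rfl
  have hcopT : (Nat.card (N.subgroupOf T)).Coprime (N.subgroupOf T).index := by
    have h1 : Nat.card (N.subgroupOf T) = Nat.card N :=
      Nat.card_congr (Subgroup.subgroupOfEquivOfLe hNT).toEquiv
    have h2 : (N.subgroupOf T).index ∣ N.index := Subgroup.relIndex_dvd_index_of_normal N T
    rw [h1]
    exact Nat.Coprime.coprime_dvd_right h2 hcop
  obtain ⟨μ, hμ⟩ := Helper82.exists_hom_extension_of_coprime (N.subgroupOf T) hcopT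
    (lam.comp (Subgroup.subgroupOfEquivOfLe hNT).toMonoidHom) (by
      intro t n
      have ht : (t : G) ∈ Helper15.inertia N (Helper74.linFun lam) := hT ▸ t.2
      rw [mem_inertia_linFun_iff] at ht
      have h1 := DFunLike.congr_fun ht (Subgroup.subgroupOfEquivOfLe hNT n)
      rw [conjLin_apply] at h1
      rw [MonoidHom.comp_apply, MonoidHom.comp_apply]
      refine Eq.trans ?_ h1
      congr 1)
  have hμ' : ∀ n : N, μ ⟨(n : G), hNT n.2⟩ = lam n := by
    intro n
    have h1 := hμ ⟨⟨(n : G), hNT n.2⟩, by rw [Subgroup.mem_subgroupOf]; exact n.2⟩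
    rw [MonoidHom.comp_apply] at h1
    rw [h1]
    congr 1
  -- inflation of `β` twisted by `μ`
  have hβ' : IsIrrCharacter T (fun t : T => (β : T ⧸ N.subgroupOf T → ℂ)
      (QuotientGroup.mk' (N.subgroupOf T) t)) :=
    IsIrrCharacter.comp_surjective β.2 (QuotientGroup.mk' (N.subgroupOf T))
      (QuotientGroup.mk'_surjective _)
  obtain ⟨ψ, hψdef⟩ : ∃ ψ : IrrCharacter T, ψ = Helper74.twist μ ⟨_, hβ'⟩ := ⟨_, rfl⟩
  have hψapp : ∀ t : T, (ψ : T → ℂ) t = ((μ t : ℂˣ) : ℂ) *
      (β : T ⧸ N.subgroupOf T → ℂ) (QuotientGroup.mk' (N.subgroupOf T) t) := by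
    intro t
    rw [hψdef, Helper74.twist_apply]
  have hres : Helper15.resTo N T hNT (ψ : T → ℂ) =
      ((β : T ⧸ N.subgroupOf T → ℂ) 1) • Helper74.linFun lam := by
    funext n
    rw [Helper15.resTo_apply, hψapp, Pi.smul_apply, smul_eq_mul, Helper74.linFun_apply, hμ']
    have h2 : QuotientGroup.mk' (N.subgroupOf T) ⟨(n : G), hNT n.2⟩ = 1 := by
      rw [QuotientGroup.mk'_apply, QuotientGroup.eq_one_iff, Subgroup.mem_subgroupOf]
      exact n.2
    rw [h2, mul_comm]
  have hβ1 : (β : T ⧸ N.subgroupOf T → ℂ) 1 ≠ 0 := IsIrrCharacter.map_one_ne_zero β.2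
  have hinner : classInner (Helper15.resTo N T hNT (ψ : T → ℂ)) (Helper74.linFun lam) ≠ 0 := by
    rw [hres, Helper74.classInner_smul_left]
    have h1 : classInner (Helper74.linFun lam) (Helper74.linFun lam) = 1 :=
      Helper74.irr_inner_self ⟨_, hlamirr⟩
    rw [h1, mul_one]
    exact hβ1
  obtain ⟨hirr, -⟩ := Helper81.isIrrCharacter_indFun_inertia N hlamirr T hT hNT ψ.2 hinner
  refine ⟨⟨_, hirr⟩, ?_⟩
  have hc1 := Helper74.charDegree_cast (IsIrrCharacter.isCharacter hirr)
  have hc2 := Helper74.charDegree_cast (IsIrrCharacter.isCharacter β.2)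
  apply Nat.cast_injective (R := ℂ)
  rw [hc1, Helper15.indFun_apply_one, hψapp, map_one, Units.val_one, one_mul, map_one,
    Nat.cast_mul, hc2]

end coprimeInertia

section abelianIndex

variable {Q : Type u} [Group Q] [Finite Q]

/-- An irreducible character has degree at most the index of any abelian subgroup. -/
theorem charDegree_le_index_of_comm (A : Subgroup Q) (hA : ∀ a ∈ A, ∀ b ∈ A, a * b = b * a)
    {χ : Q → ℂ} (hχ : IsIrrCharacter Q χ) : charDegree χ ≤ A.index := by
  classical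
  have := Fintype.ofFinite Q
  have := Fintype.ofFinite A
  have hcomm : IsMulCommutative A :=
    isMulCommutative_iff.mpr (fun a b => Subtype.ext (hA a a.2 b b.2))
  have hres : IsCharacter A (fun a : A => χ a) :=
    Helper74.isCharacter_restrict A (IsIrrCharacter.isCharacter hχ)
  have h1 : (fun a : A => χ a) 1 ≠ 0 := IsIrrCharacter.map_one_ne_zero hχ
  obtain ⟨θ, hθ⟩ := Helper81.exists_irr_constituent hres h1
  have h2 := charDegree_le_of_restrict_constituent A hχ (Helper74.irr_isCharacter θ) hθ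
  rw [IsIrrCharacter.charDegree_eq_one_of_comm θ.2, mul_one] at h2
  exact h2

theorem isNilpotent_of_forall_comm (h : ∀ a b : Q, a * b = b * a) : Group.IsNilpotent Q := by
  letI : CommGroup Q := { (inferInstance : Group Q) with mul_comm := h }
  infer_instance

end abelianIndex

section main

variable {X : Type u} [Group X] [Finite X]

/-- The centralizer of the abelian normal Hall subgroup `H` is `H` itself. -/
theorem centralizer_le_of_hall_minimal (H : Subgroup X) [hHn : H.Normal] (hH1 : H ≠ ⊥)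
    (hHab : ∀ a ∈ H, ∀ b ∈ H, a * b = b * a)
    (hcopidx : Nat.Coprime (Nat.card H) H.index)
    (hHmin : ∀ W : Subgroup X, W.Normal → W ≠ ⊥ → H ≤ W) :
    ∀ c : X, (∀ h ∈ H, c * h = h * c) → c ∈ H := by
  obtain ⟨L, hL⟩ := Subgroup.exists_right_complement'_of_coprime hcopidx
  have hdisj : H ⊓ L = ⊥ := hL.disjoint.eq_bot
  have hdec : ∀ x : X, ∃ h ∈ H, ∃ l ∈ L, x = h * l := by
    intro x
    obtain ⟨⟨h, l⟩, hx⟩ := hL.2 x
    exact ⟨h, h.2, l, l.2, hx.symm⟩
  have hCn : (Subgroup.centralizer (H : Set X)).Normal := inferInstance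
  obtain ⟨D, hDdef⟩ : ∃ D : Subgroup X, D = Subgroup.centralizer (H : Set X) ⊓ L := ⟨_, rfl⟩
  have hDn : D.Normal := by
    constructor
    intro d hd x
    rw [hDdef] at hd ⊢
    obtain ⟨h, hh, l, hl, rfl⟩ := hdec x
    have hd1 : l * d * l⁻¹ ∈ Subgroup.centralizer (H : Set X) := hCn.conj_mem d hd.1 l
    have hd2 : l * d * l⁻¹ ∈ L := L.mul_mem (L.mul_mem hl hd.2) (L.inv_mem hl)
    have hcomm : h * (l * d * l⁻¹) = (l * d * l⁻¹) * h :=
      Subgroup.mem_centralizer_iff.mp hd1 h hh
    have h3 : h * l * d * (h * l)⁻¹ = l * d * l⁻¹ := by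
      calc h * l * d * (h * l)⁻¹ = h * (l * d * l⁻¹) * h⁻¹ := by group
        _ = l * d * l⁻¹ := by rw [hcomm, mul_inv_cancel_right]
    rw [h3]
    exact ⟨hd1, hd2⟩
  have hD : D = ⊥ := by
    by_contra hD
    have h1 : H ≤ D := hHmin D hDn hD
    apply hH1
    rw [eq_bot_iff, ← hdisj]
    refine le_inf le_rfl (h1.trans ?_)
    rw [hDdef]
    exact inf_le_right
  intro c hc
  obtain ⟨h, hh, l, hl, rfl⟩ := hdec c
  have hlC : l ∈ Subgroup.centralizer (H : Set X) := by
    rw [Subgroup.mem_centralizer_iff]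
    intro k hk
    have h1 := hc k hk
    have h2 := hHab h hh k hk
    calc k * l = h⁻¹ * (h * k) * l := by group
      _ = h⁻¹ * (k * h) * l := by rw [h2]
      _ = h⁻¹ * (k * (h * l)) := by group
      _ = h⁻¹ * (h * l * k) := by rw [h1]
      _ = l * k := by group
  have hlD : l ∈ D := by rw [hDdef]; exact ⟨hlC, hl⟩
  rw [hD, Subgroup.mem_bot] at hlD
  rw [hlD, mul_one]
  exact hh

/-- Elements of `X` central modulo `H` but outside `H` act fixed point freely on `H`. -/
theorem fpf_of_central_mod (H : Subgroup X) [hHn : H.Normal]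
    (hHab : ∀ a ∈ H, ∀ b ∈ H, a * b = b * a)
    (hHmin : ∀ W : Subgroup X, W.Normal → W ≠ ⊥ → H ≤ W)
    (hCH : ∀ c : X, (∀ h ∈ H, c * h = h * c) → c ∈ H)
    (z : X) (hz : ∀ x : X, z⁻¹ * x⁻¹ * z * x ∈ H) (hzH : z ∉ H) :
    ∀ v ∈ H, z * v = v * z → v = 1 := by
  obtain ⟨E, hEdef⟩ : ∃ E : Subgroup X, E = H ⊓ Subgroup.centralizer {z} := ⟨_, rfl⟩
  have hmemE : ∀ v : X, v ∈ E ↔ v ∈ H ∧ z * v = v * z := by
    intro v
    rw [hEdef, Subgroup.mem_inf, Subgroup.mem_centralizer_iff]
    constructor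
    · rintro ⟨h1, h2⟩
      exact ⟨h1, h2 z (Set.mem_singleton z)⟩
    · rintro ⟨h1, h2⟩
      refine ⟨h1, fun w hw => ?_⟩
      rw [Set.mem_singleton_iff] at hw
      rw [hw]
      exact h2
  have hEn : E.Normal := by
    constructor
    intro v hv x
    rw [hmemE] at hv ⊢
    obtain ⟨hvH, e3⟩ := hv
    refine ⟨hHn.conj_mem v hvH x, ?_⟩
    have hh := hz x
    obtain ⟨h, hhdef⟩ : ∃ h : X, h = z⁻¹ * x⁻¹ * z * x := ⟨_, rfl⟩
    rw [← hhdef] at hh
    have hh' : x⁻¹ * z * x = z * h := by rw [hhdef]; group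
    have e1 : z * x = x * (z * h) := by rw [← hh']; group
    have e2 : h * v = v * h := hHab h hh v hvH
    calc z * (x * v * x⁻¹) = (z * x) * v * x⁻¹ := by group
      _ = x * (z * h) * v * x⁻¹ := by rw [e1]
      _ = x * z * (h * v) * x⁻¹ := by group
      _ = x * z * (v * h) * x⁻¹ := by rw [e2]
      _ = x * (z * v) * h * x⁻¹ := by group
      _ = x * (v * z) * h * x⁻¹ := by rw [e3]
      _ = x * v * (z * h) * x⁻¹ := by group
      _ = x * v * (x⁻¹ * z * x) * x⁻¹ := by rw [hh']
      _ = x * v * x⁻¹ * z := by group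
  have hE : E = ⊥ := by
    by_contra hE
    have h1 : H ≤ E := hHmin E hEn hE
    apply hzH
    apply hCH
    intro h hh
    exact ((hmemE h).mp (h1 hh)).2
  intro v hv hvz
  have : v ∈ E := (hmemE v).mpr ⟨hv, hvz⟩
  rw [hE, Subgroup.mem_bot] at this
  exact this

/-- **Structure theorem.** A non-nilpotent group with nilpotent proper quotients and character
degrees in `{1, m}` has an abelian normal subgroup `H` of index `m` with abelian quotient, on which
every element outside `H` acts fixed point freely. -/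
theorem structure_two_degrees (hX : ¬ Group.IsNilpotent X)
    (hq : ∀ W : Subgroup X, ∀ _ : W.Normal, W ≠ ⊥ → Group.IsNilpotent (X ⧸ W))
    (m : ℕ) (hm : 2 ≤ m)
    (hcd : ∀ χ : IrrCharacter X, charDegree (χ : X → ℂ) = 1 ∨ charDegree (χ : X → ℂ) = m) :
    ∃ H : Subgroup X, H.Normal ∧ H ≠ ⊥ ∧ (∀ a ∈ H, ∀ b ∈ H, a * b = b * a) ∧
      Nat.Coprime (Nat.card H) m ∧ H.index = m ∧ (∀ x y : X, x⁻¹ * y⁻¹ * x * y ∈ H) ∧
      (∀ g : X, g ∉ H → ∀ v ∈ H, g * v * g⁻¹ * v⁻¹ = 1 → v = 1) := by
  classical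
  have := Fintype.ofFinite X
  obtain ⟨H, hHn, hH1, hHab, hcopm, hcopidx, hHmin⟩ := exists_abelian_hall_minimal hX hq m hm hcd
  have := Fintype.ofFinite H
  have hCH := centralizer_le_of_hall_minimal H hH1 hHab hcopidx hHmin
  have hQnil : Group.IsNilpotent (X ⧸ H) := hq H hHn hH1
  obtain ⟨Zt, hZtdef⟩ : ∃ Zt : Subgroup X,
      Zt = (Subgroup.center (X ⧸ H)).comap (QuotientGroup.mk' H) := ⟨_, rfl⟩
  have hZt : ∀ z ∈ Zt, ∀ x : X, z⁻¹ * x⁻¹ * z * x ∈ H := by
    intro z hz x
    rw [hZtdef, Subgroup.mem_comap, Subgroup.mem_center_iff] at hz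
    have h1 := hz (QuotientGroup.mk' H x)
    rw [← map_mul, ← map_mul, QuotientGroup.mk'_apply, QuotientGroup.mk'_apply,
      QuotientGroup.eq] at h1
    have h2 : (x * z)⁻¹ * (z * x) = z⁻¹ * x⁻¹ * z * x := by group
    rwa [h2] at h1
  have hfpf : ∀ z ∈ Zt, z ∉ H → ∀ v ∈ H, z * v = v * z → v = 1 :=
    fun z hz hzH => fpf_of_central_mod H hHab hHmin hCH z (hZt z hz) hzH
  have hHtop : ∃ x : X, x ∉ H := by
    by_contra hcon
    push Not at hcon
    apply hX
    exact isNilpotent_of_forall_comm (fun a b => hHab a (hcon a) b (hcon b))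
  have hexz : ∃ z ∈ Zt, z ∉ H := by
    have htop : (⊤ : Subgroup (X ⧸ H)) ≠ ⊥ := by
      obtain ⟨x, hx⟩ := hHtop
      intro h
      apply hx
      have h1 : (QuotientGroup.mk' H x) ∈ (⊥ : Subgroup (X ⧸ H)) := h ▸ Subgroup.mem_top _
      rw [Subgroup.mem_bot, QuotientGroup.mk'_apply, QuotientGroup.eq_one_iff] at h1
      exact h1
    have h2 := Lib.normal_inf_center_ne_bot (⊤ : Subgroup (X ⧸ H)) htop
    rw [top_inf_eq] at h2
    obtain ⟨⟨q, hq1⟩, hq2⟩ := (Subgroup.ne_bot_iff_exists_ne_one).mp h2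
    obtain ⟨z, hz⟩ := QuotientGroup.mk'_surjective H q
    refine ⟨z, ?_, ?_⟩
    · rw [hZtdef, Subgroup.mem_comap, hz]
      exact hq1
    · intro hzH
      apply hq2
      apply Subtype.ext
      change q = 1
      rw [← hz, QuotientGroup.mk'_apply]
      exact (QuotientGroup.eq_one_iff z).mpr hzH
  -- a nontrivial linear character of `H`
  obtain ⟨lam, hlam⟩ : ∃ lam : H →* ℂˣ, lam ≠ 1 := by
    obtain ⟨⟨v, hvH⟩, hv1⟩ := (Subgroup.ne_bot_iff_exists_ne_one).mp hH1
    have hvc : (⟨v, hvH⟩ : H) ∉ commutator H := by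
      have hc : commutator H = ⊥ := by
        rw [eq_bot_iff, commutator_def, Subgroup.commutator_le]
        intro a _ b _
        have hab : a * b = b * a := Subtype.ext (hHab a a.2 b b.2)
        rw [Subgroup.mem_bot, commutatorElement_def, hab]
        group
      rw [hc, Subgroup.mem_bot]
      exact hv1
    obtain ⟨ν, hν⟩ := exists_hom_ne_one_of_not_mem_commutator _ hvc
    exact ⟨ν, fun h => hν (by rw [h]; rfl)⟩
  obtain ⟨T, hTdef⟩ : ∃ T : Subgroup X, T = Helper15.inertia H (Helper74.linFun lam) := ⟨_, rfl⟩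
  have hHT : H ≤ T := by
    rw [hTdef]
    exact Helper15.le_inertia H (IsCharacter.isClassFunction (Helper74.linFun_isCharacter lam))
  have hTZ : ∀ z ∈ T, z ∈ Zt → z ∈ H := by
    intro z hzT hzZ
    by_contra hzH
    apply hlam
    rw [hTdef, mem_inertia_linFun_iff] at hzT
    refine eq_one_of_conjLin_eq H ⊥ ?_ ?_ ?_ hzT
    · intro x y
      rw [Subgroup.mem_bot]
      have h1 : x * y = y * x := Subtype.ext (hHab x x.2 y y.2)
      rw [h1]
      simp
    · intro n hn
      rw [Subgroup.mem_bot] at hn ⊢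
      apply hfpf z hzZ hzH n n.2
      calc z * n = (z * n * z⁻¹ * (n : X)⁻¹) * (n * z) := by group
        _ = n * z := by rw [hn, one_mul]
    · intro n hn
      rw [Subgroup.mem_bot] at hn
      have h1 : n = 1 := Subtype.ext hn
      rw [h1, map_one]
  have hTidx : T.index ≠ 1 := by
    intro h
    rw [Subgroup.index_eq_one] at h
    obtain ⟨z, hzZ, hzH⟩ := hexz
    exact hzH (hTZ z (h ▸ Subgroup.mem_top z) hzZ)
  have hdeg : ∀ β : IrrCharacter (T ⧸ H.subgroupOf T),
      T.index * charDegree (β : T ⧸ H.subgroupOf T → ℂ) = m := by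
    intro β
    obtain ⟨χ, hχ⟩ := exists_irr_degree_index_inertia_mul H hcopidx lam T hTdef β
    rcases hcd χ with h | h
    · rw [hχ] at h
      exact absurd (Nat.eq_one_of_mul_eq_one_right h) hTidx
    · rw [← hχ]
      exact h
  have hTm : T.index = m := by
    have h1 := hdeg ⟨_, isIrrCharacter_of_monoidHom (1 : T ⧸ H.subgroupOf T →* ℂˣ)⟩
    have h2 : charDegree (fun g : T ⧸ H.subgroupOf T =>
        (((1 : T ⧸ H.subgroupOf T →* ℂˣ) g : ℂˣ) : ℂ)) = 1 := by
      unfold charDegree
      simp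
    simp only [h2, mul_one] at h1
    exact h1
  have hTab : ∀ a b : T ⧸ H.subgroupOf T, a * b = b * a := by
    apply comm_of_forall_irr_linear
    intro β
    have h1 := hdeg β
    rw [hTm] at h1
    have h2 : charDegree (β : T ⧸ H.subgroupOf T → ℂ) = 1 := by
      have hm0 : 0 < m := by omega
      exact Nat.eq_of_mul_eq_mul_left hm0 (by rw [h1, mul_one])
    rw [← Helper74.charDegree_cast (Helper74.irr_isCharacter β), h2, Nat.cast_one]
  have hTabX : ∀ a ∈ T, ∀ b ∈ T, (QuotientGroup.mk' H a) * (QuotientGroup.mk' H b) =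
      (QuotientGroup.mk' H b) * (QuotientGroup.mk' H a) := by
    intro a ha b hb
    have h1 := hTab (QuotientGroup.mk' _ ⟨a, ha⟩) (QuotientGroup.mk' _ ⟨b, hb⟩)
    rw [← map_mul, ← map_mul, QuotientGroup.mk'_apply, QuotientGroup.mk'_apply, QuotientGroup.eq,
      Subgroup.mem_subgroupOf] at h1
    rw [← map_mul, ← map_mul, QuotientGroup.mk'_apply, QuotientGroup.mk'_apply, QuotientGroup.eq]
    exact h1
  obtain ⟨Tb, hTbdef⟩ : ∃ Tb : Subgroup (X ⧸ H), Tb = T.map (QuotientGroup.mk' H) := ⟨_, rfl⟩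
  have hTbidx : Tb.index = m := by
    rw [hTbdef, Subgroup.index_map_eq T (QuotientGroup.mk'_surjective H)
      (by rw [QuotientGroup.ker_mk']; exact hHT)]
    exact hTm
  have hTbab : ∀ a ∈ Tb, ∀ b ∈ Tb, a * b = b * a := by
    intro a ha b hb
    rw [hTbdef, Subgroup.mem_map] at ha hb
    obtain ⟨a', ha', rfl⟩ := ha
    obtain ⟨b', hb', rfl⟩ := hb
    exact hTabX a' ha' b' hb'
  obtain ⟨z, hzZ, hzH⟩ := hexz
  have hzc : QuotientGroup.mk' H z ∈ Subgroup.center (X ⧸ H) := by
    rw [hZtdef, Subgroup.mem_comap] at hzZ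
    exact hzZ
  have hzTb : QuotientGroup.mk' H z ∉ Tb := by
    intro h
    rw [hTbdef, Subgroup.mem_map] at h
    obtain ⟨t, ht, hteq⟩ := h
    rw [QuotientGroup.mk'_apply, QuotientGroup.mk'_apply, QuotientGroup.eq] at hteq
    have hzT : z ∈ T := by
      have h1 := T.mul_mem ht (hHT hteq)
      rwa [mul_inv_cancel_left] at h1
    exact hzH (hTZ z hzT hzZ)
  obtain ⟨A, hAdef⟩ : ∃ A : Subgroup (X ⧸ H), A = Tb ⊔ Subgroup.center (X ⧸ H) := ⟨_, rfl⟩
  have hAab : ∀ a ∈ A, ∀ b ∈ A, a * b = b * a := by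
    have hmem : ∀ a ∈ A, ∃ t ∈ Tb, ∃ c ∈ Subgroup.center (X ⧸ H), a = t * c := by
      intro a ha
      rw [hAdef, ← SetLike.mem_coe, Subgroup.mul_normal] at ha
      obtain ⟨t, ht, c, hc, rfl⟩ := Set.mem_mul.mp ha
      exact ⟨t, ht, c, hc, rfl⟩
    intro a ha b hb
    obtain ⟨t, ht, c, hc, rfl⟩ := hmem a ha
    obtain ⟨t', ht', c', hc', rfl⟩ := hmem b hb
    rw [Subgroup.mem_center_iff] at hc hc'
    have htt := hTbab t ht t' ht'
    calc t * c * (t' * c') = t * (c * t') * c' := by group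
      _ = t * (t' * c) * c' := by rw [← hc t']
      _ = (t * t') * (c * c') := by group
      _ = (t' * t) * (c' * c) := by rw [htt, hc' c]
      _ = t' * (t * c') * c := by group
      _ = t' * (c' * t) * c := by rw [hc' t]
      _ = t' * c' * (t * c) := by group
  have hAidx : A.index < m := by
    have hle : Tb ≤ A := by rw [hAdef]; exact le_sup_left
    have h1 := Subgroup.relIndex_mul_index hle
    rw [hTbidx] at h1
    have h2 : Tb.relIndex A ≠ 1 := by
      rw [Ne, Subgroup.relIndex_eq_one]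
      intro h
      apply hzTb
      apply h
      rw [hAdef]
      exact Subgroup.mem_sup_right hzc
    have h3 : Tb.relIndex A ≠ 0 := by
      intro h
      rw [h, zero_mul] at h1
      omega
    have h4 : A.index ≠ 0 := by
      intro h
      rw [h, mul_zero] at h1
      omega
    have h5 : 2 ≤ Tb.relIndex A := by omega
    rw [← h1]
    have h6 : 0 < A.index := Nat.pos_of_ne_zero h4
    nlinarith
  have hQab : ∀ a b : X ⧸ H, a * b = b * a := by
    apply comm_of_forall_irr_linear
    intro β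
    have h1 := charDegree_le_index_of_comm A hAab β.2
    have hinf : IsIrrCharacter X (fun x => (β : X ⧸ H → ℂ) (QuotientGroup.mk' H x)) :=
      IsIrrCharacter.comp_surjective β.2 _ (QuotientGroup.mk'_surjective H)
    have h2 := hcd ⟨_, hinf⟩
    have h3 : charDegree (fun x => (β : X ⧸ H → ℂ) (QuotientGroup.mk' H x)) =
        charDegree (β : X ⧸ H → ℂ) := by
      unfold charDegree
      simp only [map_one]
    simp only [h3] at h2
    have h4 : charDegree (β : X ⧸ H → ℂ) = 1 := by
      rcases h2 with h | h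
      · exact h
      · omega
    rw [← Helper74.charDegree_cast (Helper74.irr_isCharacter β), h4, Nat.cast_one]
  have hZtop : ∀ x : X, x ∈ Zt := by
    intro x
    rw [hZtdef, Subgroup.mem_comap, Subgroup.mem_center_iff]
    intro g
    exact hQab g _
  have hTH : T = H := le_antisymm (fun t ht => hTZ t ht (hZtop t)) hHT
  refine ⟨H, hHn, hH1, hHab, hcopm, ?_, ?_, ?_⟩
  · rw [← hTH]
    exact hTm
  · intro x y
    have h1 := hQab (QuotientGroup.mk' H y) (QuotientGroup.mk' H x)
    rw [← map_mul, ← map_mul, QuotientGroup.mk'_apply, QuotientGroup.mk'_apply,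
      QuotientGroup.eq] at h1
    have h2 : (y * x)⁻¹ * (x * y) = x⁻¹ * y⁻¹ * x * y := by group
    rwa [h2] at h1
  · intro g hg v hv hgv
    apply hfpf g (hZtop g) hg v hv
    calc g * v = (g * v * g⁻¹ * v⁻¹) * (v * g) := by group
      _ = v * g := by rw [hgv, one_mul]

end main

end Cfsg.Agent.Helper80
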