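import Mathlib
import Cfsg.Prelude.Def_Characters
import Cfsg.Agent.Helper80.MinNonNilpChar
import Cfsg.Agent.Helper81.Taketa
import Cfsg.Agent.Helper81.NilpotentMonomial
import Cfsg.Agent.Helper74.Ito

/-!
# Groups with two character degrees (Isaacs 12.5, 12.6)
-/

set_option autoImplicit false
set_option linter.unusedSectionVars false

namespace Cfsg.Agent.Helper80

open Cfsg
open scoped commutatorElement

universe u

section nonnilpotent

variable {G : Type u} [Group G] [Finite G]

/-- A non-nilpotent group with `cd(G) ⊆ {1, m}` has an abelian normal subgroup of index `m` with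
abelian quotient. -/
theorem exists_abelian_normal_of_not_nilpotent (hG : ¬ Group.IsNilpotent G) (m : ℕ) (hm : 2 ≤ m)
    (hcd : ∀ χ : IrrCharacter G, charDegree (χ : G → ℂ) = 1 ∨ charDegree (χ : G → ℂ) = m) :
    ∃ A : Subgroup G, A.Normal ∧ (∀ a ∈ A, ∀ b ∈ A, a * b = b * a) ∧ A.index = m ∧
      ∀ x y : G, x⁻¹ * y⁻¹ * x * y ∈ A := by
  classical
  have := Fintype.ofFinite G
  have hne : {K : Subgroup G | ∃ _ : K.Normal, ¬ Group.IsNilpotent (G ⧸ K)}.Nonempty := by
    refine ⟨⊥, inferInstance, fun h => hG ?_⟩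
    refine Subgroup.isNilpotent_of_ker_le_center (QuotientGroup.mk' (⊥ : Subgroup G)) ?_
    rw [QuotientGroup.ker_mk']
    exact bot_le
  obtain ⟨K, ⟨hKn, hKnil⟩, hKmax⟩ := (wellFounded_gt (α := Subgroup G)).has_min _ hne
  have hq : ∀ W : Subgroup (G ⧸ K), ∀ _ : W.Normal, W ≠ ⊥ →
      Group.IsNilpotent ((G ⧸ K) ⧸ W) := by
    intro W hWn hW1
    have hW'n : (W.comap (QuotientGroup.mk' K)).Normal := inferInstance
    have hlt : K < W.comap (QuotientGroup.mk' K) := by
      refine lt_of_le_of_ne ?_ ?_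
      · intro k hk
        rw [Subgroup.mem_comap, QuotientGroup.mk'_apply, (QuotientGroup.eq_one_iff k).mpr hk]
        exact W.one_mem
      · intro heq
        apply hW1
        rw [eq_bot_iff]
        intro w hw
        obtain ⟨g, rfl⟩ := QuotientGroup.mk'_surjective K w
        have h1 : g ∈ W.comap (QuotientGroup.mk' K) := hw
        rw [← heq] at h1
        rw [Subgroup.mem_bot, QuotientGroup.mk'_apply]
        exact (QuotientGroup.eq_one_iff g).mpr h1
    have hnil' : Group.IsNilpotent (G ⧸ W.comap (QuotientGroup.mk' K)) := by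
      by_contra hcon
      exact hKmax _ ⟨hW'n, hcon⟩ hlt
    have hf : Function.Surjective (QuotientGroup.lift (W.comap (QuotientGroup.mk' K))
        ((QuotientGroup.mk' W).comp (QuotientGroup.mk' K)) (by
          intro g hg
          rw [MonoidHom.mem_ker, MonoidHom.comp_apply, QuotientGroup.mk'_apply (N := W),
            QuotientGroup.eq_one_iff]
          exact hg)) := by
      apply QuotientGroup.lift_surjective_of_surjective
      exact (QuotientGroup.mk'_surjective W).comp (QuotientGroup.mk'_surjective K)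
    exact Group.nilpotent_of_surjective _ hf
  have hcdX : ∀ β : IrrCharacter (G ⧸ K),
      charDegree (β : G ⧸ K → ℂ) = 1 ∨ charDegree (β : G ⧸ K → ℂ) = m := by
    intro β
    have hinf : IsIrrCharacter G (fun x => (β : G ⧸ K → ℂ) (QuotientGroup.mk' K x)) :=
      IsIrrCharacter.comp_surjective β.2 _ (QuotientGroup.mk'_surjective K)
    have h2 := hcd ⟨_, hinf⟩
    have h3 : charDegree (fun x => (β : G ⧸ K → ℂ) (QuotientGroup.mk' K x)) =
        charDegree (β : G ⧸ K → ℂ) := by
      unfold charDegree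
      simp only [map_one]
    simp only [h3] at h2
    exact h2
  obtain ⟨H, hHn, hH1, hHab, hcopm, hHidx, hXab, hHfpf⟩ :=
    structure_two_degrees hKnil hq m hm hcdX
  obtain ⟨N, hNdef⟩ : ∃ N : Subgroup G, N = H.comap (QuotientGroup.mk' K) := ⟨_, rfl⟩
  have hNn : N.Normal := by rw [hNdef]; infer_instance
  have hmemN : ∀ g : G, g ∈ N ↔ QuotientGroup.mk' K g ∈ H := by
    intro g
    rw [hNdef, Subgroup.mem_comap]
  have := Fintype.ofFinite N
  have hGN : ∀ x y : G, x⁻¹ * y⁻¹ * x * y ∈ N := by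
    intro x y
    rw [hmemN]
    simp only [map_mul, map_inv]
    exact hXab _ _
  have hmk1 : ∀ g : G, QuotientGroup.mk' K g = 1 ↔ g ∈ K := by
    intro g
    rw [QuotientGroup.mk'_apply, QuotientGroup.eq_one_iff]
  have habN : ∀ x y : N, ((x * y * x⁻¹ * y⁻¹ : N) : G) ∈ K := by
    intro x y
    rw [← hmk1]
    have h1 := hHab _ ((hmemN x).mp x.2) _ ((hmemN y).mp y.2)
    simp only [Subgroup.coe_mul, Subgroup.coe_inv, map_mul, map_inv]
    rw [h1]
    group
  have hfpfN : ∀ g : G, g ∉ N → ∀ n : N, g * (n : G) * g⁻¹ * (n : G)⁻¹ ∈ K → (n : G) ∈ K := by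
    intro g hg n hn
    rw [← hmk1] at hn ⊢
    rw [hmemN] at hg
    simp only [map_mul, map_inv] at hn
    exact hHfpf _ hg _ ((hmemN n).mp n.2) hn
  have hidx : N.index = m := by
    rw [hNdef, Subgroup.index_comap_of_surjective H (QuotientGroup.mk'_surjective K)]
    exact hHidx
  have hmapN : N.map (QuotientGroup.mk' K) = H := by
    rw [hNdef]
    exact Subgroup.map_comap_eq_self_of_surjective (QuotientGroup.mk'_surjective K) H
  have hcop : Nat.Coprime (K.relIndex N) m := by
    have h1 : K = (⊥ : Subgroup (G ⧸ K)).comap (QuotientGroup.mk' K) := by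
      rw [MonoidHom.comap_bot, QuotientGroup.ker_mk']
    rw [h1, Subgroup.relIndex_comap, hmapN, Subgroup.relIndex_bot_left]
    exact hcopm
  have hKN : ¬ N ≤ K := by
    intro hle
    apply hH1
    rw [eq_bot_iff, ← hmapN]
    rintro _ ⟨n, hn, rfl⟩
    rw [Subgroup.mem_bot]
    exact (hmk1 n).mpr (hle hn)
  have hcomm := comm_of_frobenius_section N K hGN habN hfpfN m hm hcd hidx hcop hKN
  exact ⟨N, hNn, fun a ha b hb => congrArg Subtype.val (hcomm ⟨a, ha⟩ ⟨b, hb⟩), hidx, hGN⟩

end nonnilpotent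

section nilpotent

variable {G : Type u} [Group G] [Finite G]

/-- A nilpotent group with `cd(G) = {1, m}` is the direct product of a `p`-group and an abelian
group, and `m` is a power of `p`. -/
theorem nilpotent_two_degrees (hG : Group.IsNilpotent G) (m : ℕ) (hm : 2 ≤ m)
    (hcd : ∀ χ : IrrCharacter G, charDegree (χ : G → ℂ) = 1 ∨ charDegree (χ : G → ℂ) = m)
    (hex : ∃ χ : IrrCharacter G, charDegree (χ : G → ℂ) = m) :
    ∃ p e : ℕ, p.Prime ∧ m = p ^ e ∧ ∃ P A : Subgroup G, P.Normal ∧ A.Normal ∧ IsPGroup p P ∧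
      (∀ a ∈ A, ∀ b ∈ A, a * b = b * a) ∧ P ⊓ A = ⊥ ∧ P ⊔ A = ⊤ := by
  classical
  have := Fintype.ofFinite G
  obtain ⟨p, hp, hpm⟩ := Nat.exists_prime_and_dvd (show m ≠ 1 by omega)
  have : Fact p.Prime := ⟨hp⟩
  have hRn : (Cfsg.pResidual p G).Normal := Helper34.pResidual_normal p G
  have hRcop : (Nat.card (Cfsg.pResidual p G)).Coprime p := by
    apply Helper74.coprime_card_pResidual_of_degrees
    intro χ hχ
    rcases hcd χ with h | h
    · exact absurd h hχ
    · rw [h]; exact hpm
  have hRpg : IsPGroup p (G ⧸ Cfsg.pResidual p G) := Helper34.pResidual_quotient_isPGroup p G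
  obtain ⟨k, hk⟩ := hRpg.exists_card_eq
  have hRidx : (Cfsg.pResidual p G).index = p ^ k := by
    rw [Subgroup.index_eq_card]
    exact hk
  obtain ⟨P⟩ : Nonempty (Sylow p G) := inferInstance
  have h03 : Group.IsNilpotent G ↔
      ∀ (p : ℕ) (_hp : Fact p.Prime) (P : Sylow p G), (↑P : Subgroup G).Normal :=
    (Group.isNilpotent_of_finite_tfae (G := G)).out 0 3
  have hPn : (P : Subgroup G).Normal := h03.mp hG p inferInstance P
  have hPidx : ¬ p ∣ (P : Subgroup G).index := P.not_dvd_index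
  obtain ⟨j, hj⟩ := (P.isPGroup').exists_card_eq
  have hinf : (P : Subgroup G) ⊓ Cfsg.pResidual p G = ⊥ := by
    refine (Subgroup.disjoint_of_coprime_natCard ?_).eq_bot
    rw [hj]
    exact Nat.Coprime.pow_left j hRcop.symm
  have hsup : (P : Subgroup G) ⊔ Cfsg.pResidual p G = ⊤ := by
    rw [← Subgroup.index_eq_one]
    have h1 : ((P : Subgroup G) ⊔ Cfsg.pResidual p G).index ∣ (P : Subgroup G).index :=
      Subgroup.index_dvd_of_le le_sup_left
    have h2 : ((P : Subgroup G) ⊔ Cfsg.pResidual p G).index ∣ p ^ k :=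
      hRidx ▸ Subgroup.index_dvd_of_le le_sup_right
    obtain ⟨i, -, hi⟩ := (Nat.dvd_prime_pow hp).mp h2
    rw [hi] at h1 ⊢
    cases i with
    | zero => rfl
    | succ i => exact absurd ((dvd_pow_self p (Nat.succ_ne_zero i)).trans h1) hPidx
  have hQab : ∀ a b : G ⧸ (P : Subgroup G), a * b = b * a := by
    apply comm_of_forall_irr_linear
    intro β
    have hinf' : IsIrrCharacter G
        (fun x => (β : G ⧸ (P : Subgroup G) → ℂ) (QuotientGroup.mk' (P : Subgroup G) x)) :=
      IsIrrCharacter.comp_surjective β.2 _ (QuotientGroup.mk'_surjective _)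
    have h2 := hcd ⟨_, hinf'⟩
    have h3 : charDegree
        (fun x => (β : G ⧸ (P : Subgroup G) → ℂ) (QuotientGroup.mk' (P : Subgroup G) x)) =
        charDegree (β : G ⧸ (P : Subgroup G) → ℂ) := by
      unfold charDegree
      simp only [map_one]
    simp only [h3] at h2
    have h5 : charDegree (β : G ⧸ (P : Subgroup G) → ℂ) ∣ Nat.card (G ⧸ (P : Subgroup G)) :=
      IsIrrCharacter.charDegree_dvd_card β.2
    have h4 : charDegree (β : G ⧸ (P : Subgroup G) → ℂ) = 1 := by
      rcases h2 with h | h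
      · exact h
      · exfalso
        rw [h] at h5
        apply hPidx
        rw [Subgroup.index_eq_card]
        exact hpm.trans h5
    rw [← Helper74.charDegree_cast (Helper74.irr_isCharacter β), h4, Nat.cast_one]
  have hRab : ∀ a ∈ Cfsg.pResidual p G, ∀ b ∈ Cfsg.pResidual p G, a * b = b * a := by
    intro a ha b hb
    have h1 : (b * a)⁻¹ * (a * b) ∈ (P : Subgroup G) :=
      QuotientGroup.eq.mp (by
        rw [QuotientGroup.mk_mul, QuotientGroup.mk_mul]
        exact hQab _ _)
    have h2 : (b * a)⁻¹ * (a * b) ∈ Cfsg.pResidual p G :=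
      mul_mem (inv_mem (mul_mem hb ha)) (mul_mem ha hb)
    have h3 : (b * a)⁻¹ * (a * b) ∈ (P : Subgroup G) ⊓ Cfsg.pResidual p G := ⟨h1, h2⟩
    rw [hinf, Subgroup.mem_bot] at h3
    exact (inv_mul_eq_one.mp h3).symm
  obtain ⟨χ₀, hχ₀⟩ := hex
  obtain ⟨n, hn1, hn2⟩ := Helper74.ito_degree_dvd_index (Cfsg.pResidual p G) hRab χ₀.2
  have hnm : n = m := by
    have h1 := Helper74.charDegree_cast (Helper74.irr_isCharacter χ₀)
    rw [hχ₀, hn1] at h1
    exact_mod_cast h1.symm
  rw [hnm, hRidx] at hn2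
  obtain ⟨e, -, he⟩ := (Nat.dvd_prime_pow hp).mp hn2
  exact ⟨p, e, hp, he, P, Cfsg.pResidual p G, hPn, hRn, P.isPGroup', hRab, hinf, hsup⟩

end nilpotent

section taketa

variable {G : Type u} [Group G] [Fintype G]

/-- Taketa's argument for two character degrees: in an M-group with `cd(G) ⊆ {1, m}` the second
derived subgroup lies in the kernel of every irreducible character. -/
theorem taketa_two_degrees
    (hM : ∀ χ : G → ℂ, IsIrrCharacter G χ →
      ∃ (H : Subgroup G) (lam : H →* ℂˣ), χ = indFun H (fun h => ((lam h : ℂˣ) : ℂ)))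
    (m : ℕ)
    (hcd : ∀ χ : IrrCharacter G, charDegree (χ : G → ℂ) = 1 ∨ charDegree (χ : G → ℂ) = m) :
    ∀ χ : IrrCharacter G, ∀ g ∈ derivedSeries G 2, (χ : G → ℂ) g = (χ : G → ℂ) 1 := by
  classical
  intro χ g hg
  have hlin : ∀ ψ : IrrCharacter G, charDegree (ψ : G → ℂ) = 1 →
      ∀ x ∈ derivedSeries G 1, (ψ : G → ℂ) x = (ψ : G → ℂ) 1 :=
    fun ψ hψ x hx => Helper81.taketa_key hM 1 ψ (by omega) x hx
  rcases hcd χ with h1 | hdeg
  · exact hlin χ h1 g (derivedSeries_antitone G (by norm_num : 1 ≤ 2) hg)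
  · obtain ⟨H, lam, hχ⟩ := hM χ χ.2
    have : Fintype H := Fintype.ofFinite H
    have hidx : H.index = m := by
      have h1 := Helper74.charDegree_cast (Helper74.irr_isCharacter χ)
      rw [hdeg] at h1
      have h2 : (χ : G → ℂ) 1 = (H.index : ℂ) := by
        rw [hχ, Helper15.indFun_apply_one]
        simp
      rw [h2] at h1
      exact_mod_cast h1.symm
    obtain ⟨π, hπ⟩ : ∃ π : G → ℂ, π = indFun H (fun _ : H => (1 : ℂ)) := ⟨_, rfl⟩
    have hπc : IsCharacter G π := by
      rw [hπ]
      exact Helper15.isCharacter_indFun H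
        (Helper74.isCharacter_of_isIrr (Helper81.isIrrCharacter_one (G := H)))
    have hπ1 : π 1 = (m : ℂ) := by
      rw [hπ, Helper15.indFun_apply_one, hidx]
      simp
    have hDH : derivedSeries G 1 ≤ H := by
      intro x hx
      apply Helper81.mem_of_indFun_one_eq H x
      rw [← hπ]
      apply Helper81.apply_eq_of_forall_constituent hπc x
      intro ψ hψcon
      apply hlin ψ ?_ x hx
      rcases hcd ψ with h | h
      · exact h
      · have hψ1 : (ψ : G → ℂ) 1 = (m : ℂ) := by
          rw [← h]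
          exact (Helper74.charDegree_cast (Helper74.irr_isCharacter ψ)).symm
        have heq := Helper15.eq_of_constituent_of_degree_le hπc ψ.2 hψcon m m hπ1 hψ1 le_rfl
        have h11 : classInner π (fun _ : G => (1 : ℂ)) = 1 := by
          rw [hπ, Helper81.inner_indFun_one_one]
        have hψtriv : ψ = Helper81.trivialIrr G := by
          by_contra hne
          have h0 := Helper74.irr_orthonormal ψ (Helper81.trivialIrr G)
          rw [if_neg hne] at h0
          rw [heq] at h11
          rw [show ((Helper81.trivialIrr G : IrrCharacter G) : G → ℂ) = fun _ => (1 : ℂ)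
            from rfl] at h0
          rw [h0] at h11
          exact zero_ne_one h11
        have h1' : (ψ : G → ℂ) 1 = 1 := by rw [hψtriv]; rfl
        have h2' := Helper74.charDegree_cast (Helper74.irr_isCharacter ψ)
        rw [h1'] at h2'
        exact_mod_cast h2'
    obtain ⟨K, hK⟩ : ∃ K : Subgroup G, K = (MonoidHom.ker lam).map H.subtype := ⟨_, rfl⟩
    have hKH : K ≤ H := by
      rw [hK]
      rintro x ⟨h, -, rfl⟩
      exact h.2
    have hNK : derivedSeries G 2 ≤ K := by
      rw [derivedSeries_succ, Subgroup.commutator_le]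
      intro a ha b hb
      rw [hK]
      refine ⟨⁅(⟨a, hDH ha⟩ : H), ⟨b, hDH hb⟩⁆, ?_, rfl⟩
      rw [SetLike.mem_coe, MonoidHom.mem_ker, map_commutatorElement]
      exact commutatorElement_eq_one_iff_commute.mpr (Commute.all _ _)
    have hnorm := derivedSeries_normal G 2
    rw [hχ]
    apply Helper81.indFun_apply_eq_of_normal H _ (derivedSeries G 2) (hNK.trans hKH) _ g hg
    intro n hn
    have hnK := hNK hn
    rw [hK] at hnK
    obtain ⟨h, hh, hhn⟩ := hnK
    have h5 : (⟨n, (hNK.trans hKH) hn⟩ : H) = h := Subtype.ext hhn.symm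
    rw [h5]
    rw [SetLike.mem_coe, MonoidHom.mem_ker] at hh
    rw [hh, map_one]

end taketa

section final

variable {G : Type u} [Group G] [Finite G]

theorem two_le_of_degree (m : ℕ) (hm : ∃ χ : IrrCharacter G, charDegree (χ : G → ℂ) = m)
    (hm1 : m ≠ 1) : 2 ≤ m := by
  obtain ⟨χ, hχ⟩ := hm
  have := IsIrrCharacter.charDegree_pos χ.2
  omega

/-- **Isaacs 12.5.** -/
theorem two_degrees_structure (m : ℕ)
    (hcd : ∀ χ : IrrCharacter G, charDegree (χ : G → ℂ) = 1 ∨ charDegree (χ : G → ℂ) = m)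
    (hm : ∃ χ : IrrCharacter G, charDegree (χ : G → ℂ) = m) (hm1 : m ≠ 1) :
    (∃ A : Subgroup G, A.Normal ∧ (∀ a ∈ A, ∀ b ∈ A, a * b = b * a) ∧ A.index = m) ∨
      ∃ p e : ℕ, p.Prime ∧ m = p ^ e ∧ ∃ P A : Subgroup G, P.Normal ∧ A.Normal ∧ IsPGroup p P ∧
        (∀ a ∈ A, ∀ b ∈ A, a * b = b * a) ∧ P ⊓ A = ⊥ ∧ P ⊔ A = ⊤ := by
  have hm2 := two_le_of_degree m hm hm1
  by_cases hG : Group.IsNilpotent G
  · right
    exact nilpotent_two_degrees hG m hm2 hcd hm
  · left
    obtain ⟨A, h1, h2, h3, -⟩ := exists_abelian_normal_of_not_nilpotent hG m hm2 hcd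
    exact ⟨A, h1, h2, h3⟩

/-- **Isaacs 12.6.** -/
theorem two_degrees_commutator_comm (m : ℕ)
    (hcd : ∀ χ : IrrCharacter G, charDegree (χ : G → ℂ) = 1 ∨ charDegree (χ : G → ℂ) = m)
    (hm : ∃ χ : IrrCharacter G, charDegree (χ : G → ℂ) = m) (hm1 : m ≠ 1) :
    ∀ a ∈ commutator G, ∀ b ∈ commutator G, a * b = b * a := by
  classical
  have hm2 := two_le_of_degree m hm hm1
  by_cases hG : Group.IsNilpotent G
  · have := Fintype.ofFinite G
    let _ := Helper74.irrFintype G
    have hM : ∀ χ : G → ℂ, IsIrrCharacter G χ →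
        ∃ (H : Subgroup G) (lam : H →* ℂˣ), χ = indFun H (fun h => ((lam h : ℂˣ) : ℂ)) :=
      fun χ hχ => Helper81.isMonomial_of_nilpotent (Nat.card G) G rfl χ hχ
    have hker := taketa_two_degrees hM m hcd
    have hbot : ∀ g ∈ derivedSeries G 2, g = 1 := by
      intro g hg
      by_contra hg1
      have h1 := Helper81.sum_irr_one_mul (G := G) g
      rw [if_neg hg1] at h1
      have h2 := Helper81.sum_irr_one_mul (G := G) 1
      rw [if_pos rfl] at h2
      have h3 : ∑ χ : IrrCharacter G, (χ : G → ℂ) 1 * (χ : G → ℂ) g =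
          ∑ χ : IrrCharacter G, (χ : G → ℂ) 1 * (χ : G → ℂ) 1 :=
        Finset.sum_congr rfl fun χ _ => by rw [hker χ g hg]
      rw [h1, h2] at h3
      have h4 : (Nat.card G : ℂ) ≠ 0 := by
        have : 0 < Nat.card G := Nat.card_pos
        exact_mod_cast this.ne'
      exact h4 h3.symm
    intro a ha b hb
    have h1 : ⁅a, b⁆ ∈ derivedSeries G 2 := by
      rw [derivedSeries_succ, derivedSeries_one]
      exact Subgroup.commutator_mem_commutator ha hb
    have h2 := hbot _ h1
    rw [commutatorElement_def] at h2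
    calc a * b = (a * b * a⁻¹ * b⁻¹) * (b * a) := by group
      _ = b * a := by rw [h2, one_mul]
  · obtain ⟨A, -, hAab, -, hGA⟩ := exists_abelian_normal_of_not_nilpotent hG m hm2 hcd
    have hle : commutator G ≤ A := by
      rw [commutator_def, Subgroup.commutator_le]
      intro x _ y _
      rw [commutatorElement_def]
      have h1 := hGA x⁻¹ y⁻¹
      rwa [inv_inv, inv_inv] at h1
    exact fun a ha b hb => hAab a (hle ha) b (hle hb)

end final

end Cfsg.Agent.Helper80
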