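import Mathlib

set_option autoImplicit false

/-!
# Solvable groups whose derived subgroup is the unique minimal normal subgroup

Let `H` be a finite solvable group in which every nontrivial normal subgroup contains the derived
subgroup `D = H'`.  Then `D` is abelian of prime exponent `p`, and either `H` is a `p`-group or
every element outside `D` acts on `D` without nontrivial fixed points.
-/

namespace Cfsg.Agent.Helper80.DegGraph

open scoped commutatorElement

variable {H : Type*} [Group H]

/-- The hypothesis: every nontrivial normal subgroup contains the derived subgroup. -/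
def DerivedMinimal (H : Type*) [Group H] : Prop :=
  ∀ M : Subgroup H, M.Normal → M ≠ ⊥ → commutator H ≤ M

theorem commutator_comm_of_derivedMinimal [Group.IsSolvable H] (hmin : DerivedMinimal H) :
    ∀ a ∈ commutator H, ∀ b ∈ commutator H, a * b = b * a := by
  have h1 : derivedSeries H 1 = commutator H := by
    rw [derivedSeries_succ, derivedSeries_zero, commutator_def]
  have h2 : derivedSeries H 2 = ⁅commutator H, commutator H⁆ := by
    rw [derivedSeries_succ, h1]
  by_cases hbot : ⁅commutator H, commutator H⁆ = ⊥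
  · intro a ha b hb
    have h3 := (Subgroup.commutator_eq_bot_iff_le_centralizer).mp hbot
    exact ((Subgroup.mem_centralizer_iff.mp (h3 ha)) b hb).symm
  · exfalso
    have hn : (⁅commutator H, commutator H⁆).Normal := by
      rw [← h2]
      exact derivedSeries_normal H 2
    have h3 : commutator H ≤ ⁅commutator H, commutator H⁆ := hmin _ hn hbot
    have h4 : ⁅commutator H, commutator H⁆ = commutator H :=
      le_antisymm (Subgroup.commutator_le_right _ _) h3
    have h5 : ∀ n : ℕ, derivedSeries H (n + 1) = commutator H := by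
      intro n
      induction n with
      | zero => exact h1
      | succ n ih => rw [derivedSeries_succ, ih, h4]
    obtain ⟨n, hn⟩ := Group.IsSolvable.solvable (G := H)
    have h6 : commutator H = ⊥ := by
      rw [← h5 n]
      exact le_bot_iff.mp (hn ▸ derivedSeries_antitone H (Nat.le_succ n))
    apply hbot
    rw [h6]
    exact Subgroup.commutator_bot_left _

variable [Finite H]

theorem exists_prime_exponent_of_derivedMinimal (hmin : DerivedMinimal H)
    (hcomm : ∀ a ∈ commutator H, ∀ b ∈ commutator H, a * b = b * a)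
    (hD : commutator H ≠ ⊥) :
    ∃ p : ℕ, p.Prime ∧ ∀ d ∈ commutator H, d ^ p = 1 := by
  classical
  have hcard : Nat.card (commutator H) ≠ 1 := by
    intro h
    exact hD ((Subgroup.card_eq_one).mp h)
  obtain ⟨p, hp, hpd⟩ := Nat.exists_prime_and_dvd hcard
  have : Fact p.Prime := ⟨hp⟩
  obtain ⟨x, hx⟩ := exists_prime_orderOf_dvd_card' p hpd
  refine ⟨p, hp, ?_⟩
  let M : Subgroup H :=
    { carrier := {d | d ∈ commutator H ∧ d ^ p = 1}
      mul_mem' := by
        intro a b ha hb
        refine ⟨mul_mem ha.1 hb.1, ?_⟩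
        rw [(show Commute a b from hcomm a ha.1 b hb.1).mul_pow, ha.2, hb.2, one_mul]
      one_mem' := ⟨one_mem _, one_pow _⟩
      inv_mem' := by
        intro a ha
        exact ⟨inv_mem ha.1, by rw [inv_pow, ha.2, inv_one]⟩ }
  have hMn : M.Normal := by
    constructor
    intro a ha g
    refine ⟨(inferInstance : (commutator H).Normal).conj_mem a ha.1 g, ?_⟩
    rw [conj_pow, ha.2, mul_one, mul_inv_cancel]
  have hMne : M ≠ ⊥ := by
    intro h
    have hxM : (x : H) ∈ M := by
      refine ⟨x.2, ?_⟩
      have : x ^ p = 1 := by rw [← hx]; exact pow_orderOf_eq_one x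
      have := congrArg Subtype.val this
      simpa using this
    rw [h, Subgroup.mem_bot] at hxM
    have hx1 : x = 1 := Subtype.ext hxM
    rw [hx1, orderOf_one] at hx
    exact hp.one_lt.ne hx
  intro d hd
  exact (hmin M hMn hMne hd).2

omit [Finite H] in
/-- Elements not centralizing the derived subgroup have no nontrivial fixed points on it. -/
theorem fpf_of_not_mem_centralizer (hmin : DerivedMinimal H)
    (hcomm : ∀ a ∈ commutator H, ∀ b ∈ commutator H, a * b = b * a)
    (g : H) (hg : g ∉ Subgroup.centralizer (commutator H : Set H)) :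
    ∀ n ∈ commutator H, g * n = n * g → n = 1 := by
  let M : Subgroup H :=
    { carrier := {n | n ∈ commutator H ∧ g * n = n * g}
      mul_mem' := by
        intro a b ha hb
        refine ⟨mul_mem ha.1 hb.1, ?_⟩
        rw [← mul_assoc, ha.2, mul_assoc, hb.2, mul_assoc]
      one_mem' := ⟨one_mem _, by rw [mul_one, one_mul]⟩
      inv_mem' := by
        intro a ha
        refine ⟨inv_mem ha.1, ?_⟩
        have := ha.2
        calc g * a⁻¹ = a⁻¹ * (a * g) * a⁻¹ := by group
          _ = a⁻¹ * (g * a) * a⁻¹ := by rw [this]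
          _ = a⁻¹ * g := by group }
  have hMn : M.Normal := by
    constructor
    intro n hn h
    have hDn : (commutator H).Normal := inferInstance
    refine ⟨hDn.conj_mem n hn.1 h, ?_⟩
    -- `h⁻¹ g h = g d` with `d ∈ D`
    obtain ⟨d, hd⟩ : ∃ d : H, d = g⁻¹ * h⁻¹ * g * h := ⟨_, rfl⟩
    have hdD : d ∈ commutator H := by
      have : d = ⁅g⁻¹, h⁻¹⁆ := by rw [hd, commutatorElement_def]; group
      rw [this]
      exact Subgroup.commutator_mem_commutator (Subgroup.mem_top _) (Subgroup.mem_top _)
    have hgh : g * h = h * g * d := by rw [hd]; group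
    have hdn : d * n = n * d := hcomm d hdD n hn.1
    have hgn : g * n = n * g := hn.2
    calc g * (h * n * h⁻¹) = (g * h) * n * h⁻¹ := by group
      _ = h * g * d * n * h⁻¹ := by rw [hgh]
      _ = h * g * (d * n) * h⁻¹ := by group
      _ = h * g * (n * d) * h⁻¹ := by rw [hdn]
      _ = h * (g * n) * d * h⁻¹ := by group
      _ = h * (n * g) * d * h⁻¹ := by rw [hgn]
      _ = h * n * h⁻¹ * (h * g * d) * h⁻¹ := by group
      _ = h * n * h⁻¹ * (g * h) * h⁻¹ := by rw [hgh]
      _ = h * n * h⁻¹ * g := by group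
  intro n hn hgn
  by_contra hn1
  have hMne : M ≠ ⊥ := by
    intro h
    have : n ∈ M := ⟨hn, hgn⟩
    rw [h, Subgroup.mem_bot] at this
    exact hn1 this
  apply hg
  rw [Subgroup.mem_centralizer_iff]
  intro d hd
  exact ((hmin M hMn hMne hd).2).symm

/-- If `H` is not a `p`-group, only the elements of the derived subgroup centralize it. -/
theorem centralizer_le_commutator_of_not_isPGroup (hmin : DerivedMinimal H)
    (hcomm : ∀ a ∈ commutator H, ∀ b ∈ commutator H, a * b = b * a)
    (hD : commutator H ≠ ⊥) {p : ℕ} (hp : p.Prime) (hexp : ∀ d ∈ commutator H, d ^ p = 1)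
    (hnp : ¬ IsPGroup p H) :
    Subgroup.centralizer (commutator H : Set H) ≤ commutator H := by
  classical
  have hDn : (commutator H).Normal := inferInstance
  -- a prime `q ≠ p` dividing the order
  obtain ⟨q, hq, hqd, hqp⟩ : ∃ q : ℕ, q.Prime ∧ q ∣ Nat.card H ∧ q ≠ p := by
    by_contra hcon
    push Not at hcon
    apply hnp
    have : Fact p.Prime := ⟨hp⟩
    rw [IsPGroup.iff_card]
    have hpos : Nat.card H ≠ 0 := Nat.card_pos.ne'
    exact ⟨_, Nat.eq_prime_pow_of_unique_prime_dvd hpos fun {r} hr hrd => hcon r hr hrd⟩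
  have : Fact q.Prime := ⟨hq⟩
  obtain ⟨y, hy⟩ := exists_prime_orderOf_dvd_card' q hqd
  have hyq : y ^ q = 1 := by rw [← hy]; exact pow_orderOf_eq_one y
  have hy1 : y ≠ 1 := by
    intro h
    rw [h, orderOf_one] at hy
    exact hq.one_lt.ne hy
  have hcop : ∀ d : H, d ^ p = 1 → d ^ q = 1 → d = 1 := by
    intro d h1 h2
    have h3 : orderOf d ∣ p := orderOf_dvd_of_pow_eq_one h1
    have h4 : orderOf d ∣ q := orderOf_dvd_of_pow_eq_one h2
    have h5 : orderOf d ∣ Nat.gcd p q := Nat.dvd_gcd h3 h4
    have h6 : Nat.gcd p q = 1 := (Nat.coprime_primes hp hq).mpr hqp.symm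
    rw [h6, Nat.dvd_one] at h5
    exact orderOf_eq_one_iff.mp h5
  obtain ⟨d₀, hd₀, hd₀1⟩ : ∃ d₀ ∈ commutator H, d₀ ≠ 1 := by
    by_contra hcon
    push Not at hcon
    apply hD
    rw [Subgroup.eq_bot_iff_forall]
    exact hcon
  -- `y` does not centralize the derived subgroup
  have hyC : y ∉ Subgroup.centralizer (commutator H : Set H) := by
    intro hyC
    have hycent : ∀ h : H, h * y * h⁻¹ = y := by
      intro h
      obtain ⟨d, hd⟩ : ∃ d : H, d = y⁻¹ * (h * y * h⁻¹) := ⟨_, rfl⟩
      have hdD : d ∈ commutator H := by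
        have : d = ⁅y⁻¹, h⁆ := by rw [hd, commutatorElement_def]; group
        rw [this]
        exact Subgroup.commutator_mem_commutator (Subgroup.mem_top _) (Subgroup.mem_top _)
      have hyd : Commute y d := ((Subgroup.mem_centralizer_iff.mp hyC) d hdD).symm
      have h1 : h * y * h⁻¹ = y * d := by rw [hd]; group
      have h2 : (h * y * h⁻¹) ^ q = 1 := by rw [conj_pow, hyq, mul_one, mul_inv_cancel]
      rw [h1, hyd.mul_pow, hyq, one_mul] at h2
      have h3 : d = 1 := hcop d (hexp d hdD) h2
      rw [h1, h3, mul_one]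
    have hZn : (Subgroup.zpowers y).Normal := by
      constructor
      intro a ha h
      obtain ⟨k, rfl⟩ := Subgroup.mem_zpowers_iff.mp ha
      rw [← conj_zpow, hycent h]
      exact Subgroup.zpow_mem_zpowers y k
    have hZne : Subgroup.zpowers y ≠ ⊥ := by
      intro h
      exact hy1 (Subgroup.zpowers_eq_bot.mp h)
    have h1 := hmin _ hZn hZne hd₀
    obtain ⟨k, hk⟩ := Subgroup.mem_zpowers_iff.mp h1
    have h2 : d₀ ^ q = 1 := by
      rw [← hk, ← zpow_natCast, ← zpow_mul, mul_comm, zpow_mul, zpow_natCast, hyq, one_zpow]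
    exact hd₀1 (hcop d₀ (hexp d₀ hd₀) h2)
  have hfpf := fpf_of_not_mem_centralizer hmin hcomm y hyC
  -- the fixed points of `y` on the centralizer
  let C : Subgroup H := Subgroup.centralizer (commutator H : Set H)
  have hCn : C.Normal := by
    constructor
    intro c hc h
    rw [Subgroup.mem_centralizer_iff]
    intro d hd
    have h1 : h⁻¹ * d * h ∈ commutator H := by
      have := hDn.conj_mem d hd h⁻¹
      rwa [inv_inv] at this
    have h2 := (Subgroup.mem_centralizer_iff.mp hc) _ h1
    calc d * (h * c * h⁻¹) = h * ((h⁻¹ * d * h) * c) * h⁻¹ := by group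
      _ = h * (c * (h⁻¹ * d * h)) * h⁻¹ := by rw [h2]
      _ = h * c * h⁻¹ * d := by group
  let M : Subgroup H :=
    { carrier := {c | c ∈ C ∧ y * c = c * y}
      mul_mem' := by
        intro a b ha hb
        refine ⟨mul_mem ha.1 hb.1, ?_⟩
        rw [← mul_assoc, ha.2, mul_assoc, hb.2, mul_assoc]
      one_mem' := ⟨one_mem _, by rw [mul_one, one_mul]⟩
      inv_mem' := by
        intro a ha
        refine ⟨inv_mem ha.1, ?_⟩
        have := ha.2
        calc y * a⁻¹ = a⁻¹ * (a * y) * a⁻¹ := by group
          _ = a⁻¹ * (y * a) * a⁻¹ := by rw [this]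
          _ = a⁻¹ * y := by group }
  have hMn : M.Normal := by
    constructor
    intro c hc h
    refine ⟨hCn.conj_mem c hc.1 h, ?_⟩
    obtain ⟨d, hd⟩ : ∃ d : H, d = y⁻¹ * h⁻¹ * y * h := ⟨_, rfl⟩
    have hdD : d ∈ commutator H := by
      have : d = ⁅y⁻¹, h⁻¹⁆ := by rw [hd, commutatorElement_def]; group
      rw [this]
      exact Subgroup.commutator_mem_commutator (Subgroup.mem_top _) (Subgroup.mem_top _)
    have hyh : y * h = h * y * d := by rw [hd]; group
    have hdc : d * c = c * d := (Subgroup.mem_centralizer_iff.mp hc.1) d hdD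
    have hyc : y * c = c * y := hc.2
    calc y * (h * c * h⁻¹) = (y * h) * c * h⁻¹ := by group
      _ = h * y * d * c * h⁻¹ := by rw [hyh]
      _ = h * y * (d * c) * h⁻¹ := by group
      _ = h * y * (c * d) * h⁻¹ := by rw [hdc]
      _ = h * (y * c) * d * h⁻¹ := by group
      _ = h * (c * y) * d * h⁻¹ := by rw [hyc]
      _ = h * c * h⁻¹ * (h * y * d) * h⁻¹ := by group
      _ = h * c * h⁻¹ * (y * h) * h⁻¹ := by rw [hyh]
      _ = h * c * h⁻¹ * y := by group
  have hMbot : M = ⊥ := by
    by_contra hMne
    have h1 := hmin M hMn hMne hd₀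
    exact hd₀1 (hfpf d₀ hd₀ h1.2)
  -- the injective map `c ↦ c y c⁻¹ y⁻¹` from the centralizer to the derived subgroup
  have hDC : commutator H ≤ C := by
    intro d hd
    rw [Subgroup.mem_centralizer_iff]
    intro e he
    exact hcomm e he d hd
  let F : C → commutator H := fun c =>
    ⟨(c : H) * y * (c : H)⁻¹ * y⁻¹, by
      have : (c : H) * y * (c : H)⁻¹ * y⁻¹ = ⁅(c : H), y⁆ := by rw [commutatorElement_def]
      rw [this]
      exact Subgroup.commutator_mem_commutator (Subgroup.mem_top _) (Subgroup.mem_top _)⟩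
  have hF : Function.Injective F := by
    intro a b hab
    have h1 : (a : H) * y * (a : H)⁻¹ * y⁻¹ = (b : H) * y * (b : H)⁻¹ * y⁻¹ :=
      congrArg Subtype.val hab
    have h2 : (a : H) * y * (a : H)⁻¹ = (b : H) * y * (b : H)⁻¹ := mul_right_cancel h1
    have h3 : ((b : H)⁻¹ * (a : H)) ∈ M := by
      refine ⟨mul_mem (inv_mem b.2) a.2, ?_⟩
      calc y * ((b : H)⁻¹ * (a : H))
          = (b : H)⁻¹ * ((b : H) * y * (b : H)⁻¹) * (a : H) := by group
        _ = (b : H)⁻¹ * ((a : H) * y * (a : H)⁻¹) * (a : H) := by rw [h2]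
        _ = (b : H)⁻¹ * (a : H) * y := by group
    rw [hMbot, Subgroup.mem_bot] at h3
    apply Subtype.ext
    calc (a : H) = (b : H) * ((b : H)⁻¹ * (a : H)) := by group
      _ = (b : H) := by rw [h3, mul_one]
  have hle : Nat.card C ≤ Nat.card (commutator H) := Nat.card_le_card_of_injective F hF
  have heq : commutator H = C :=
    Subgroup.eq_of_le_of_card_ge hDC hle
  exact heq.symm.le

/-- **Isaacs 12.3 (group-theoretic part).**  If `H` is finite solvable and nonabelian, and every
nontrivial normal subgroup contains `H'`, then `H'` is abelian of prime exponent `p`, and `H` is a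
`p`-group or every element outside `H'` acts without nontrivial fixed points on `H'`. -/
theorem derivedMinimal_dichotomy [Group.IsSolvable H] (hmin : DerivedMinimal H)
    (hD : commutator H ≠ ⊥) :
    ∃ p : ℕ, p.Prime ∧ (∀ d ∈ commutator H, d ^ p = 1) ∧
      (∀ a ∈ commutator H, ∀ b ∈ commutator H, a * b = b * a) ∧
      (IsPGroup p H ∨ ∀ g : H, g ∉ commutator H → ∀ n ∈ commutator H, g * n = n * g → n = 1) := by
  have hcomm := commutator_comm_of_derivedMinimal hmin
  obtain ⟨p, hp, hexp⟩ := exists_prime_exponent_of_derivedMinimal hmin hcomm hD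
  refine ⟨p, hp, hexp, hcomm, ?_⟩
  by_cases hpg : IsPGroup p H
  · exact Or.inl hpg
  · right
    intro g hg
    have hC := centralizer_le_commutator_of_not_isPGroup hmin hcomm hD hp hexp hpg
    exact fpf_of_not_mem_centralizer hmin hcomm g (fun h => hg (hC h))

end Cfsg.Agent.Helper80.DegGraph
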