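import Cfsg.Agent.Helper58.PsuIo.OdDefs
import Cfsg.Agent.Helper58.PsuIo.AbsDefs
import Cfsg.Agent.Helper5.SuBN.Defs
import Cfsg.Agent.Helper61.PsuM_AQ
import Cfsg.Agent.Helper55.PsuIo_OMAT
import Cfsg.Agent.Helper55.PsuIo_OQ

/-!
helper80, piece (OZ) of helper58's farm #15378 (S2089 block I-odd, model part): the subgroup `Zsub`.
The three lemmas of piece (OQS) are used through own copies `OZ_mem_Qsub_iff`, `OZ_qO_eq_mul_Z`, `OZ_exists_QP`
(same statements), so that this file only needs helper55's landed (OMAT), (OQ).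
-/

set_option autoImplicit false
set_option linter.unusedVariables false

namespace Cfsg.Agent.Helper80.PsuIo

open Matrix
open scoped commutatorElement
open Cfsg.Agent.Helper43.PsuM
open Cfsg.Agent.Helper58.PsuIo.Od
open Cfsg.Agent.Helper55.PsuIo

universe u

variable {F : Type*} [Field F] {m : ℕ} {σ : F →+* F}

/-! ### own copies of the lemmas of (OQS) -/

/-- a generator `qO σ y B` with `¬ QP σ y B` is `1` -/
theorem OZ_qO_of_not_QP (hσ : ∀ x, σ (σ x) = x) {y : Fin m → F} {B : Matrix (Fin m) (Fin m) F}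
    (h : ¬ QP σ y B) : qO σ y B = 1 := by
  unfold qO ofMat
  rw [dif_neg]
  rintro ⟨_, h2⟩
  exact h ((isUo_qM_iff hσ y B).mp h2)

/-- copy of (OQS1) -/
theorem OZ_mem_Qsub_iff (hσ : ∀ x, σ (σ x) = x) (g : SUo m σ) :
    g ∈ Qsub m σ ↔ ∃ (y : Fin m → F) (B : Matrix (Fin m) (Fin m) F), QP σ y B ∧ g = qO σ y B := by
  constructor
  · intro hg
    unfold Qsub at hg
    induction hg using Subgroup.closure_induction with
    | mem x hx =>
      obtain ⟨y, B, rfl⟩ := hx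
      by_cases h : QP σ y B
      · exact ⟨y, B, h, rfl⟩
      · exact ⟨0, 0, QP_zero, by rw [OZ_qO_of_not_QP hσ h, qO_zero hσ]⟩
    | one => exact ⟨0, 0, QP_zero, (qO_zero hσ).symm⟩
    | mul a b _ _ iha ihb =>
      obtain ⟨y, B, h, rfl⟩ := iha
      obtain ⟨y', B', h', rfl⟩ := ihb
      exact ⟨_, _, QP_mul hσ h h', qO_mul hσ h h'⟩
    | inv a _ iha =>
      obtain ⟨y, B, h, rfl⟩ := iha
      exact ⟨_, _, QP_inv hσ h, qO_inv hσ h⟩
  · rintro ⟨y, B, _, rfl⟩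
    exact Subgroup.subset_closure ⟨y, B, rfl⟩

/-- copy of (OQS2) -/
theorem OZ_qO_eq_mul_Z (hσ : ∀ x, σ (σ x) = x) {y : Fin m → F} {B B' : Matrix (Fin m) (Fin m) F}
    (h : QP σ y B) (h' : QP σ y B') :
    B - B' ∈ Ev.SkewH m σ ∧ qO σ y B = qO σ y B' * qO σ 0 (B - B') := by
  have hS : B - B' ∈ Ev.SkewH m σ := by
    change (B - B').map σ + (B - B')ᵀ = 0
    ext i j
    have h1 := OQ_QP_entry h i j
    have h2 := OQ_QP_entry h' i j
    simp only [Matrix.add_apply, Matrix.map_apply, Matrix.sub_apply, Matrix.transpose_apply,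
      Matrix.zero_apply, map_sub]
    linear_combination h1 - h2
  refine ⟨hS, ?_⟩
  have hQ0 : QP σ (0 : Fin m → F) (B - B') := by
    unfold QP
    rw [Matrix.vecMulVec_zero, add_zero]
    exact hS
  rw [qO_mul hσ h' hQ0]
  have h1 : (fun j => σ ((0 : Fin m → F) j)) = 0 := by
    funext j; simp
  rw [h1, Matrix.vecMulVec_zero, add_zero, sub_zero, add_sub_cancel]

/-- copy of (OQS3) -/
theorem OZ_exists_QP (hσ : ∀ x, σ (σ x) = x) {θ : F} (hθ : θ + σ θ = 1) (y : Fin m → F) :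
    QP σ y (-(θ • (Matrix.vecMulVec (fun i => σ (y i)) y)ᵀ)) := by
  apply OQ_QP_of_entry
  intro i j
  simp only [Matrix.neg_apply, Matrix.smul_apply, Matrix.transpose_apply, vecMulVec_apply, smul_eq_mul,
    map_neg, map_mul, hσ]
  linear_combination (-(σ (y i) * y j)) * hθ

/-- (OZ1) -/
theorem QP_zero_left (B : Matrix (Fin m) (Fin m) F) :
    QP σ (0 : Fin m → F) B ↔ B ∈ Ev.SkewH m σ := by
  unfold QP
  rw [Matrix.vecMulVec_zero, add_zero]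
  exact Iff.rfl

theorem OZ_colE_zero : colE (0 : Fin m → F) = 0 := by
  ext a b
  rcases a with a | a <;> simp [colE]

theorem OZ_rowF_zero : rowF (fun i : Fin m => -σ ((0 : Fin m → F) i)) = 0 := by
  ext a b
  rcases b with b | b <;> simp [rowF]

/-- (OZ2) compare matrices -/
theorem qO_zero_left (hσ : ∀ x, σ (σ x) = x) {B : Matrix (Fin m) (Fin m) F}
    (hB : B ∈ Ev.SkewH m σ) : qO σ 0 B = emb σ (Ev.qE σ B) := by
  apply mat_injective
  rw [mat_qO hσ ((QP_zero_left B).mpr hB), mat_emb, Cfsg.Agent.Helper61.PsuM.mat_qE hB]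
  unfold qM embM
  rw [OZ_colE_zero, OZ_rowF_zero]

/-- (OZ3) -/
theorem mem_Zsub_iff (hσ : ∀ x, σ (σ x) = x) (g : SUo m σ) :
    g ∈ Zsub m σ ↔ ∃ B ∈ Ev.SkewH m σ, g = qO σ 0 B := by
  unfold Zsub
  rw [Subgroup.mem_map]
  constructor
  · rintro ⟨x, hx, rfl⟩
    obtain ⟨B, hB, rfl⟩ := (Cfsg.Agent.Helper61.PsuM.mem_Qsub_iff x).mp hx
    exact ⟨B, hB, (qO_zero_left hσ hB).symm⟩
  · rintro ⟨B, hB, rfl⟩
    exact ⟨Ev.qE σ B, (Cfsg.Agent.Helper61.PsuM.mem_Qsub_iff _).mpr ⟨B, hB, rfl⟩,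
      (qO_zero_left hσ hB).symm⟩

/-- (OZ4) -/
theorem Zsub_le_Qsub (hσ : ∀ x, σ (σ x) = x) : Zsub m σ ≤ Qsub m σ := by
  intro g hg
  obtain ⟨B, hB, rfl⟩ := (mem_Zsub_iff hσ g).mp hg
  exact Subgroup.subset_closure ⟨0, B, rfl⟩

/-- (OZ5) `qO σ 0 C * qO σ y B = qO σ y (C + B) = qO σ y B * qO σ 0 C` -/
theorem Zsub_central (hσ : ∀ x, σ (σ x) = x) :
    ∀ z ∈ Zsub m σ, ∀ x ∈ Qsub m σ, Commute z x := by
  intro z hz x hx
  obtain ⟨C, hC, rfl⟩ := (mem_Zsub_iff hσ z).mp hz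
  obtain ⟨y, B, hyB, rfl⟩ := (OZ_mem_Qsub_iff hσ x).mp hx
  have hC' : QP σ (0 : Fin m → F) C := (QP_zero_left C).mpr hC
  change qO σ 0 C * qO σ y B = qO σ y B * qO σ 0 C
  rw [qO_mul hσ hC' hyB, qO_mul hσ hyB hC']
  have h1 : (fun j => σ ((0 : Fin m → F) j)) = 0 := by
    funext j; simp
  rw [h1, Matrix.vecMulVec_zero, Matrix.zero_vecMulVec, zero_add, add_zero, sub_zero, sub_zero,
    add_comm]

/-- (OZ6) `(y,B)(y',B') = (0, C)(y',B')(y,B)` -/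
theorem commutator_Qsub_le (hσ : ∀ x, σ (σ x) = x) : ⁅Qsub m σ, Qsub m σ⁆ ≤ Zsub m σ := by
  rw [Subgroup.commutator_le]
  intro g₁ hg₁ g₂ hg₂
  obtain ⟨y, B, hyB, rfl⟩ := (OZ_mem_Qsub_iff hσ g₁).mp hg₁
  obtain ⟨y', B', hyB', rfl⟩ := (OZ_mem_Qsub_iff hσ g₂).mp hg₂
  have h12 := qO_mul hσ hyB hyB'
  have h21 := qO_mul hσ hyB' hyB
  have hQ12 := QP_mul hσ hyB hyB'
  have hQ21 := QP_mul hσ hyB' hyB
  rw [add_comm y' y] at h21 hQ21
  obtain ⟨hS, hE⟩ := OZ_qO_eq_mul_Z hσ hQ12 hQ21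
  rw [← h12, ← h21] at hE
  -- `g₁ g₂ = g₂ g₁ z`
  set z := qO σ (0 : Fin m → F) (B + B' - Matrix.vecMulVec y (fun j => σ (y' j)) -
    (B' + B - Matrix.vecMulVec y' (fun j => σ (y j)))) with hz
  have hzZ : z ∈ Zsub m σ := (mem_Zsub_iff hσ z).mpr ⟨_, hS, rfl⟩
  have h21Q : qO σ y' B' * qO σ y B ∈ Qsub m σ :=
    (Qsub m σ).mul_mem hg₂ hg₁
  have hcomm : Commute z (qO σ y' B' * qO σ y B) := Zsub_central hσ z hzZ _ h21Q
  have h3 : ⁅qO σ y B, qO σ y' B'⁆ = z := by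
    rw [commutatorElement_def]
    have h4 : qO σ y B * qO σ y' B' * (qO σ y B)⁻¹ * (qO σ y' B')⁻¹ =
        (qO σ y B * qO σ y' B') * (qO σ y' B' * qO σ y B)⁻¹ := by
      group
    rw [h4, hE, ← hcomm.eq, mul_assoc, mul_inv_cancel, mul_one]
  rw [h3]
  exact hzZ

end Cfsg.Agent.Helper80.PsuIo
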