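-- helper80: pieces (P1a), (P1b) of #5017/#5026 for helper15 (S4018).
import Mathlib
import Cfsg.Agent.Helper15.TIInvDefs

set_option autoImplicit false
set_option linter.unusedSectionVars false

namespace Cfsg.Agent.Helper80.TIInv

open Cfsg Cfsg.Agent.Helper15.TIInv

universe u

variable {G : Type u} [Group G] [Fintype G] {C : Subgroup G} [Fintype C] {z t : G} {m : ℕ}

omit [Fintype G] [Fintype C] in
theorem t_mul_self (h : TICfg C z t m) : t * t = 1 := by
  rw [← pow_two, ← h.t_ord, pow_orderOf_eq_one]

omit [Fintype G] [Fintype C] in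
theorem t_inv_eq (h : TICfg C z t m) : t⁻¹ = t := inv_eq_of_mul_eq_one_left (t_mul_self h)

omit [Fintype G] [Fintype C] in
/-- The coset `C t` has `2m` elements. -/
theorem card_coset (h : TICfg C z t m) : Nat.card {g : G // g * t ∈ C} = 2 * m := by
  rw [← h.card]
  exact Nat.card_congr
    { toFun := fun g => ⟨g.1 * t, g.2⟩
      invFun := fun c => ⟨c.1 * t⁻¹, by simp⟩
      left_inv := fun g => Subtype.ext (by simp)
      right_inv := fun c => Subtype.ext (by simp) }

omit [Fintype G] [Fintype C] in
/-- Elements of the coset `C t` are involutions. -/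
theorem orderOf_of_mul_t_mem (h : TICfg C z t m) {u : G} (hu : u * t ∈ C) : orderOf u = 2 := by
  have htt := t_mul_self h
  have hti := t_inv_eq h
  refine orderOf_eq_prime ?_ ?_
  · -- u = c t with c = u t
    have h1 := h.t_inv (u * t) hu
    rw [hti] at h1
    -- t * (u * t) * t = (u * t)⁻¹
    have h2 : u * u = (u * t) * (t * (u * t) * t) := by
      calc u * u = u * (t * t) * u * (t * t) := by rw [htt, mul_one, mul_one]
        _ = (u * t) * (t * (u * t) * t) := by group
    rw [pow_two, h2, h1, mul_inv_cancel]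
  · intro h1
    rw [h1, one_mul] at hu
    exact h.t_not hu

/-- (P1a) -/
theorem card_invol_mul (h : TICfg C z t m) (x : G) (hx : x ∈ C) (hx1 : x ≠ 1) :
    Nat.card {u : G // orderOf u = 2 ∧ orderOf (u * x) = 2} = 2 * m := by
  rw [← card_coset h]
  have htt := t_mul_self h
  have hti := t_inv_eq h
  refine Nat.card_congr (Equiv.subtypeEquivRight (fun u => ?_))
  constructor
  · rintro ⟨hu, hux⟩
    have hu2 : u * u = 1 := by rw [← pow_two, ← hu, pow_orderOf_eq_one]
    have hux2 : (u * x) * (u * x) = 1 := by rw [← pow_two, ← hux, pow_orderOf_eq_one]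
    have huinv : u⁻¹ = u := inv_eq_of_mul_eq_one_left hu2
    have hconj : u * x * u⁻¹ = x⁻¹ := by
      rw [huinv]
      have e : u * x * u = (u * x) * (u * x) * x⁻¹ := by group
      rw [e, hux2, one_mul]
    have hmem : u * x * u⁻¹ ∈ C := by
      rw [hconj]
      exact C.inv_mem hx
    rcases h.ti u x hx hx1 hmem with huC | hut
    · exfalso
      have hu1 : u ≠ 1 := by
        intro h1
        rw [h1, orderOf_one] at hu
        norm_num at hu
      have huz : u = z := (h.z_uniq u huC hu2).resolve_left hu1
      have huxC : u * x ∈ C := C.mul_mem huC hx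
      have hux1 : u * x ≠ 1 := by
        intro h1
        rw [h1, orderOf_one] at hux
        norm_num at hux
      have huxz : u * x = z := (h.z_uniq (u * x) huxC hux2).resolve_left hux1
      apply hx1
      have e : u * x = u * 1 := by rw [huxz, mul_one, huz]
      exact mul_left_cancel e
    · exact hut
  · intro hut
    refine ⟨orderOf_of_mul_t_mem h hut, orderOf_of_mul_t_mem h ?_⟩
    -- u x t = (u t) (t x t) = (u t) x⁻¹
    have h1 := h.t_inv x hx
    rw [hti] at h1
    have e : u * x * t = (u * t) * (t * x * t) := by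
      calc u * x * t = u * (t * t) * x * t := by rw [htt, mul_one]
        _ = (u * t) * (t * x * t) := by group
    rw [e, h1]
    exact C.mul_mem hut (C.inv_mem hx)

/-- (P1b) -/
theorem card_conj_mem (h : TICfg C z t m) (x : G) (hx : x ∈ C) (hx1 : x ≠ 1) :
    Nat.card {g : G // g * x * g⁻¹ ∈ C} = 4 * m := by
  classical
  have htt := t_mul_self h
  have hti := t_inv_eq h
  have hset : {g : G | g * x * g⁻¹ ∈ C} = (C : Set G) ∪ {g : G | g * t ∈ C} := by
    ext g
    simp only [Set.mem_ofPred_eq, Set.mem_union, SetLike.mem_coe]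
    constructor
    · exact h.ti g x hx hx1
    · rintro (hg | hg)
      · exact C.mul_mem (C.mul_mem hg hx) (C.inv_mem hg)
      · have h1 := h.t_inv x hx
        rw [hti] at h1
        have e : g * x * g⁻¹ = (g * t) * (t * x * t) * (g * t)⁻¹ := by
          calc g * x * g⁻¹ = g * (t * t) * x * (t * t) * g⁻¹ := by rw [htt, mul_one, mul_one]
            _ = (g * t) * (t * x * t) * (g * t)⁻¹ := by rw [mul_inv_rev, hti]; group
        rw [e, h1]
        exact C.mul_mem (C.mul_mem hg (C.inv_mem hx)) (C.inv_mem hg)
  have hdisj : Disjoint (C : Set G) {g : G | g * t ∈ C} := by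
    rw [Set.disjoint_left]
    intro g hg hgt
    apply h.t_not
    have e : t = g⁻¹ * (g * t) := by group
    rw [e]
    exact C.mul_mem (C.inv_mem hg) hgt
  have h1 : Nat.card {g : G // g * x * g⁻¹ ∈ C} = Set.ncard {g : G | g * x * g⁻¹ ∈ C} :=
    Nat.card_coe_set_eq _
  rw [h1, hset, Set.ncard_union_eq hdisj (Set.toFinite _) (Set.toFinite _)]
  have h2 : Set.ncard (C : Set G) = 2 * m := by
    rw [← h.card]
    exact (Nat.card_coe_set_eq _).symm
  have h3 : Set.ncard {g : G | g * t ∈ C} = 2 * m := by
    rw [← card_coset h]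
    exact (Nat.card_coe_set_eq _).symm
  rw [h2, h3]
  ring

end Cfsg.Agent.Helper80.TIInv
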