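-- helper80: piece (P1) of #5017/#5026 for helper15 (S4018): the pair sum over the class of involutions.
import Mathlib
import Cfsg.Agent.Helper15.TIInvDefs
import Cfsg.Agent.Helper80.TIInvP1ab

set_option autoImplicit false
set_option linter.unusedSectionVars false

namespace Cfsg.Agent.Helper80.TIInv

open Cfsg Cfsg.Agent.Helper15.TIInv

universe u

variable {G : Type u} [Group G] [Fintype G] {C : Subgroup G} [Fintype C] {z t : G} {m : ℕ}

theorem sum_ite_const {α : Type*} [Fintype α] (P : α → Prop) [DecidablePred P] (c : ℂ) :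
    ∑ a, (if P a then c else 0) = (Nat.card {a // P a} : ℂ) * c := by
  rw [Finset.sum_ite, Finset.sum_const_zero, add_zero, Finset.sum_const, nsmul_eq_mul,
    Nat.card_eq_fintype_card, Fintype.card_subtype]

theorem orderOf_conj' (g y : G) : orderOf (g * y * g⁻¹) = orderOf y :=
  (MulAut.conj g).orderOf_eq y

/-- fibres of `a ↦ a z a⁻¹`. -/
theorem card_conj_fibre (h : TICfg C z t m) (u : G) :
    Nat.card {a : G // a * z * a⁻¹ = u} = if orderOf u = 2 then 4 * m else 0 := by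
  split_ifs with hu
  · obtain ⟨a₀, ha₀⟩ := isConj_iff.mp (h.invol u hu)
    rw [← h.cent_z]
    refine Nat.card_congr
      { toFun := fun a => ⟨a₀⁻¹ * a.1, ?_⟩
        invFun := fun k => ⟨a₀ * k.1, ?_⟩
        left_inv := fun a => Subtype.ext (by simp)
        right_inv := fun k => Subtype.ext (by simp) }
    · rw [Subgroup.mem_centralizer_singleton_iff]
      have h1 : a.1 * z * a.1⁻¹ = a₀ * z * a₀⁻¹ := a.2.trans ha₀.symm
      have h2 : a₀⁻¹ * a.1 * z = a₀⁻¹ * (a.1 * z * a.1⁻¹) * a.1 := by group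
      rw [h2, h1]
      group
    · have h1 := Subgroup.mem_centralizer_singleton_iff.mp k.2
      have h2 : a₀ * k.1 * z * (a₀ * k.1)⁻¹ = a₀ * (k.1 * z) * k.1⁻¹ * a₀⁻¹ := by group
      rw [h2, h1, ← ha₀]
      group
  · rw [Nat.card_eq_zero]
    left
    constructor
    rintro ⟨a, ha⟩
    apply hu
    rw [← ha, orderOf_conj', h.z_ord]

open Classical in
/-- sums over the class of `z` are `4m` times sums over the involutions. -/
theorem conj_sum (h : TICfg C z t m) (φ : G → ℂ) :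
    ∑ a, φ (a * z * a⁻¹) = (4 * (m : ℂ)) * ∑ u, (if orderOf u = 2 then φ u else 0) := by
  have h1 : ∀ a : G, φ (a * z * a⁻¹) = ∑ u, (if a * z * a⁻¹ = u then φ u else 0) := by
    intro a
    rw [Finset.sum_ite_eq]
    simp
  simp_rw [h1]
  rw [Finset.sum_comm, Finset.mul_sum]
  refine Finset.sum_congr rfl (fun u _ => ?_)
  rw [sum_ite_const (fun a => a * z * a⁻¹ = u) (φ u), card_conj_fibre h u]
  split_ifs with hu
  · push_cast
    ring
  · simp

theorem card_beta_conj (g w : G) :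
    Nat.card {u : G // orderOf u = 2 ∧ orderOf (u * (g * w * g⁻¹)) = 2} =
      Nat.card {u : G // orderOf u = 2 ∧ orderOf (u * w) = 2} := by
  refine Nat.card_congr
    { toFun := fun u => ⟨g⁻¹ * u.1 * g, ?_, ?_⟩
      invFun := fun u => ⟨g * u.1 * g⁻¹, ?_, ?_⟩
      left_inv := fun u => Subtype.ext (by group)
      right_inv := fun u => Subtype.ext (by group) }
  · have h1 := orderOf_conj' g⁻¹ u.1
    rw [inv_inv] at h1
    rw [h1]
    exact u.2.1
  · have e : g⁻¹ * u.1 * g * w = g⁻¹ * (u.1 * (g * w * g⁻¹)) * g⁻¹⁻¹ := by group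
    rw [e, orderOf_conj']
    exact u.2.2
  · rw [orderOf_conj']
    exact u.2.1
  · have e : g * u.1 * g⁻¹ * (g * w * g⁻¹) = g * (u.1 * w) * g⁻¹ := by group
    rw [e, orderOf_conj']
    exact u.2.2

open Classical in
theorem card_beta (h : TICfg C z t m) (w : G) (hw : w ≠ 1) :
    Nat.card {u : G // orderOf u = 2 ∧ orderOf (u * w) = 2} =
      if (∃ g : G, g * w * g⁻¹ ∈ C) then 2 * m else 0 := by
  split_ifs with hW
  · obtain ⟨g, hg⟩ := hW
    rw [← card_beta_conj g w]
    refine card_invol_mul h (g * w * g⁻¹) hg (fun h1 => hw ?_)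
    have e : w = g⁻¹ * (g * w * g⁻¹) * g := by group
    rw [e, h1]
    group
  · rw [Nat.card_eq_zero]
    left
    constructor
    rintro ⟨u, hu, huw⟩
    apply hW
    have hne : u ≠ u * w := by
      intro e
      apply hw
      have e2 : u * w = u * 1 := by rw [mul_one]; exact e.symm
      exact mul_left_cancel e2
    obtain ⟨g, hg⟩ := h.sreal u (u * w) hu huw hne
    have huu : u * u = 1 := by rw [← pow_two, ← hu, pow_orderOf_eq_one]
    have e : u * (u * w) = w := by rw [← mul_assoc, huu, one_mul]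
    rw [e] at hg
    exact ⟨g, hg⟩

open Classical in
theorem card_gamma (h : TICfg C z t m) (w : G) :
    Nat.card {p : G × C // (p.2 : G) ≠ 1 ∧ p.1 * (p.2 : G) * p.1⁻¹ = w} =
      if (w ≠ 1 ∧ ∃ g : G, g * w * g⁻¹ ∈ C) then 4 * m else 0 := by
  split_ifs with hW
  · obtain ⟨hw, g₀, hg₀⟩ := hW
    have hx₀ : g₀ * w * g₀⁻¹ ≠ 1 := by
      intro h1
      apply hw
      have e : w = g₀⁻¹ * (g₀ * w * g₀⁻¹) * g₀ := by group
      rw [e, h1]
      group
    rw [← card_conj_mem h (g₀ * w * g₀⁻¹) hg₀ hx₀]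
    refine Nat.card_congr
      { toFun := fun p => ⟨p.1.1⁻¹ * g₀⁻¹, ?_⟩
        invFun := fun k => ⟨(g₀⁻¹ * k.1⁻¹, ⟨k.1 * (g₀ * w * g₀⁻¹) * k.1⁻¹, k.2⟩), ?_, ?_⟩
        left_inv := ?_
        right_inv := fun k => Subtype.ext (by simp) }
    · obtain ⟨⟨g, x⟩, hx1, hgx⟩ := p
      show g⁻¹ * g₀⁻¹ * (g₀ * w * g₀⁻¹) * (g⁻¹ * g₀⁻¹)⁻¹ ∈ C
      have hgx' : g * (x : G) * g⁻¹ = w := hgx
      have e : g⁻¹ * g₀⁻¹ * (g₀ * w * g₀⁻¹) * (g⁻¹ * g₀⁻¹)⁻¹ = g⁻¹ * w * g := by group
      have e2 : g⁻¹ * w * g = (x : G) := by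
        rw [← hgx']
        group
      rw [e, e2]
      exact x.2
    · show k.1 * (g₀ * w * g₀⁻¹) * k.1⁻¹ ≠ 1
      intro h1
      apply hx₀
      have e : g₀ * w * g₀⁻¹ = k.1⁻¹ * (k.1 * (g₀ * w * g₀⁻¹) * k.1⁻¹) * k.1 := by group
      rw [e, h1]
      group
    · show g₀⁻¹ * k.1⁻¹ * (k.1 * (g₀ * w * g₀⁻¹) * k.1⁻¹) * (g₀⁻¹ * k.1⁻¹)⁻¹ = w
      group
    · rintro ⟨⟨g, x⟩, hx1, hgx⟩
      apply Subtype.ext
      apply Prod.ext
      · show g₀⁻¹ * (g⁻¹ * g₀⁻¹)⁻¹ = g
        group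
      · apply Subtype.ext
        show g⁻¹ * g₀⁻¹ * (g₀ * w * g₀⁻¹) * (g⁻¹ * g₀⁻¹)⁻¹ = (x : G)
        have hgx' : g * (x : G) * g⁻¹ = w := hgx
        rw [← hgx']
        group
  · rw [Nat.card_eq_zero]
    left
    constructor
    rintro ⟨⟨g, x⟩, hx1, hgx⟩
    apply hW
    have hgx' : g * (x : G) * g⁻¹ = w := hgx
    have hx1' : (x : G) ≠ 1 := hx1
    refine ⟨?_, g⁻¹, ?_⟩
    · intro h1
      apply hx1'
      have e : (x : G) = g⁻¹ * (g * (x : G) * g⁻¹) * g := by group
      rw [e, hgx', h1]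
      group
    · rw [← hgx']
      have e : g⁻¹ * (g * (x : G) * g⁻¹) * g⁻¹⁻¹ = (x : G) := by group
      rw [e]
      exact x.2

open Classical in
/-- (P1) -/
theorem pair_sum (h : TICfg C z t m) (f : G → ℂ) (hf : ∀ g x : G, f (g * x * g⁻¹) = f x) :
    ∑ a : G, ∑ b : G, f (a * z * a⁻¹ * (b * z * b⁻¹)) =
      (Nat.card G : ℂ) * (4 * (m : ℂ)) * (f 1 + 2 * (m : ℂ) * ((∑ x : C, f (x : G)) - f 1)) := by
  -- LHS = 4m * (4m * T)
  have hL : ∑ a : G, ∑ b : G, f (a * z * a⁻¹ * (b * z * b⁻¹)) = (4 * (m : ℂ)) * ((4 * (m : ℂ)) *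
      ∑ u : G, ∑ v : G, (if orderOf u = 2 then (if orderOf v = 2 then f (u * v) else 0) else 0)) := by
    have h1 : ∀ a : G, ∑ b : G, f (a * z * a⁻¹ * (b * z * b⁻¹)) =
        (4 * (m : ℂ)) * ∑ v, (if orderOf v = 2 then f (a * z * a⁻¹ * v) else 0) :=
      fun a => conj_sum h (fun v => f (a * z * a⁻¹ * v))
    simp_rw [h1]
    rw [← Finset.mul_sum, Finset.sum_comm]
    congr 1
    have h2 : ∀ v : G, ∑ a : G, (if orderOf v = 2 then f (a * z * a⁻¹ * v) else 0) =
        (4 * (m : ℂ)) * ∑ u, (if orderOf u = 2 then (if orderOf v = 2 then f (u * v) else 0) else 0) :=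
      fun v => conj_sum h (fun u => if orderOf v = 2 then f (u * v) else 0)
    simp_rw [h2]
    rw [← Finset.mul_sum, Finset.sum_comm]
  -- 4m * #involutions = |G|
  have hI : (4 * (m : ℂ)) * (∑ u : G, (if orderOf u = 2 then (1 : ℂ) else 0)) = (Nat.card G : ℂ) := by
    have h1 := conj_sum h (fun _ => (1 : ℂ))
    rw [Finset.sum_const, Finset.card_univ, nsmul_eq_mul, mul_one] at h1
    rw [Nat.card_eq_fintype_card, h1]
  -- T = f 1 * #involutions + 2m * SW
  have hTT : ∑ u : G, ∑ v : G, (if orderOf u = 2 then (if orderOf v = 2 then f (u * v) else 0) else 0) =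
      f 1 * (∑ u : G, (if orderOf u = 2 then (1 : ℂ) else 0)) + (2 * (m : ℂ)) *
        ∑ w : G, (if (w ≠ 1 ∧ ∃ g : G, g * w * g⁻¹ ∈ C) then f w else 0) := by
    have h1 : ∀ u : G, ∑ v : G, (if orderOf u = 2 then (if orderOf v = 2 then f (u * v) else 0) else 0) =
        ∑ w : G, (if orderOf u = 2 ∧ orderOf (u * w) = 2 then f w else 0) := by
      intro u
      have h0 := Equiv.sum_comp (Equiv.mulLeft u)
        (fun v => if orderOf u = 2 then (if orderOf v = 2 then f (u * v) else 0) else 0)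
      rw [← h0]
      refine Finset.sum_congr rfl (fun w _ => ?_)
      show (if orderOf u = 2 then (if orderOf (u * w) = 2 then f (u * (u * w)) else 0) else 0) = _
      by_cases hu : orderOf u = 2
      · have huu : u * u = 1 := by rw [← pow_two, ← hu, pow_orderOf_eq_one]
        have e : u * (u * w) = w := by rw [← mul_assoc, huu, one_mul]
        rw [e]
        simp [hu]
      · simp [hu]
    simp_rw [h1]
    rw [Finset.sum_comm]
    have h2 : ∀ w : G, ∑ u : G, (if orderOf u = 2 ∧ orderOf (u * w) = 2 then f w else 0) =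
        (if w = 1 then f 1 * (∑ u : G, (if orderOf u = 2 then (1 : ℂ) else 0)) else 0) +
          (2 * (m : ℂ)) * (if (w ≠ 1 ∧ ∃ g : G, g * w * g⁻¹ ∈ C) then f w else 0) := by
      intro w
      by_cases hw : w = 1
      · subst hw
        rw [if_pos rfl, if_neg (fun hh => hh.1 rfl), mul_zero, add_zero, Finset.mul_sum]
        refine Finset.sum_congr rfl (fun u _ => ?_)
        rw [mul_one]
        by_cases hu : orderOf u = 2
        · rw [if_pos ⟨hu, hu⟩, if_pos hu, mul_one]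
        · rw [if_neg (fun hh => hu hh.1), if_neg hu, mul_zero]
      · rw [if_neg hw, zero_add, sum_ite_const (fun u => orderOf u = 2 ∧ orderOf (u * w) = 2) (f w),
          card_beta h w hw]
        by_cases hW : ∃ g : G, g * w * g⁻¹ ∈ C
        · rw [if_pos hW, if_pos ⟨hw, hW⟩]
          push_cast
          ring
        · rw [if_neg hW, if_neg (fun hh => hW hh.2)]
          simp
    simp_rw [h2]
    rw [Finset.sum_add_distrib, ← Finset.mul_sum, Finset.sum_ite_eq']
    simp
  -- 4m * SW = |G| * (∑_C f - f 1)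
  have hW : (4 * (m : ℂ)) * (∑ w : G, (if (w ≠ 1 ∧ ∃ g : G, g * w * g⁻¹ ∈ C) then f w else 0)) =
      (Nat.card G : ℂ) * ((∑ x : C, f (x : G)) - f 1) := by
    have h1 : ∑ g : G, ∑ x : C, (if (x : G) ≠ 1 then f (g * (x : G) * g⁻¹) else 0) =
        (Nat.card G : ℂ) * ((∑ x : C, f (x : G)) - f 1) := by
      simp_rw [hf]
      rw [Finset.sum_const, Finset.card_univ, nsmul_eq_mul, Nat.card_eq_fintype_card]
      congr 1
      have h4 : ∀ x : C, (if (x : G) ≠ 1 then f (x : G) else 0) = f (x : G) - (if x = 1 then f 1 else 0) := by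
        intro x
        by_cases hx : x = 1
        · subst hx
          simp
        · have hx' : (x : G) ≠ 1 := fun hh => hx (Subtype.ext hh)
          rw [if_pos hx', if_neg hx, sub_zero]
      simp_rw [h4]
      rw [Finset.sum_sub_distrib, Finset.sum_ite_eq']
      simp
    have h2 : ∑ g : G, ∑ x : C, (if (x : G) ≠ 1 then f (g * (x : G) * g⁻¹) else 0) =
        (4 * (m : ℂ)) * (∑ w : G, (if (w ≠ 1 ∧ ∃ g : G, g * w * g⁻¹ ∈ C) then f w else 0)) := by
      have h3 : ∀ (g : G) (x : C), (if (x : G) ≠ 1 then f (g * (x : G) * g⁻¹) else 0) =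
          ∑ w : G, (if ((x : G) ≠ 1 ∧ g * (x : G) * g⁻¹ = w) then f w else 0) := by
        intro g x
        by_cases hx : (x : G) ≠ 1
        · rw [if_pos hx]
          have h5 : ∀ w : G, (if ((x : G) ≠ 1 ∧ g * (x : G) * g⁻¹ = w) then f w else 0) =
              (if g * (x : G) * g⁻¹ = w then f w else 0) := by
            intro w
            by_cases hw : g * (x : G) * g⁻¹ = w
            · rw [if_pos ⟨hx, hw⟩, if_pos hw]
            · rw [if_neg (fun hh => hw hh.2), if_neg hw]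
          simp_rw [h5]
          rw [Finset.sum_ite_eq]
          simp
        · rw [if_neg hx]
          symm
          apply Finset.sum_eq_zero
          intro w _
          rw [if_neg (fun hh => hx hh.1)]
      simp_rw [h3]
      calc ∑ g : G, ∑ x : C, ∑ w : G, (if ((x : G) ≠ 1 ∧ g * (x : G) * g⁻¹ = w) then f w else 0)
          = ∑ g : G, ∑ w : G, ∑ x : C, (if ((x : G) ≠ 1 ∧ g * (x : G) * g⁻¹ = w) then f w else 0) :=
            Finset.sum_congr rfl (fun g _ => Finset.sum_comm)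
        _ = ∑ w : G, ∑ g : G, ∑ x : C, (if ((x : G) ≠ 1 ∧ g * (x : G) * g⁻¹ = w) then f w else 0) :=
            Finset.sum_comm
        _ = ∑ w : G, ∑ p : G × C, (if ((p.2 : G) ≠ 1 ∧ p.1 * (p.2 : G) * p.1⁻¹ = w) then f w else 0) :=
            Finset.sum_congr rfl (fun w _ => (Fintype.sum_prod_type'
              (fun (g : G) (x : C) => if ((x : G) ≠ 1 ∧ g * (x : G) * g⁻¹ = w) then f w else 0)).symm)
        _ = (4 * (m : ℂ)) * (∑ w : G, (if (w ≠ 1 ∧ ∃ g : G, g * w * g⁻¹ ∈ C) then f w else 0)) := by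
            rw [Finset.mul_sum]
            refine Finset.sum_congr rfl (fun w _ => ?_)
            rw [sum_ite_const (fun p : G × C => (p.2 : G) ≠ 1 ∧ p.1 * (p.2 : G) * p.1⁻¹ = w) (f w),
              card_gamma h w]
            by_cases hW : w ≠ 1 ∧ ∃ g : G, g * w * g⁻¹ ∈ C
            · rw [if_pos hW, if_pos hW]
              push_cast
              ring
            · rw [if_neg hW, if_neg hW]
              simp
    rw [← h2, h1]
  rw [hL, hTT]
  linear_combination (4 * (m : ℂ) * f 1) * hI + (4 * (m : ℂ) * (2 * (m : ℂ))) * hW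

end Cfsg.Agent.Helper80.TIInv
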