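import Cfsg.Agent.Helper57.BH.Defs
import Cfsg.Agent.Helper70.DefOneXG

/-!
# Piece (W2) of helper57's WANTED #6661 (S4503, Brauer's `(p-1)/2` theorem)

A character of `C = C_G(P)` (`|P| = p`) is determined by its canonical character and its central
character on `P`: every `c ∈ C` is `u * v` with `u ∈ P` (central in `C`) and `v` `p`-regular.
-/

set_option autoImplicit false

namespace Cfsg.Agent.Helper80.BH

open Cfsg Cfsg.Agent.Helper16 Cfsg.Agent.Helper16.DefOne Cfsg.Agent.Helper82.DefOne
  Cfsg.Agent.Helper77.DefOne Cfsg.Agent.Helper57.BH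
open scoped ComplexConjugate

universe u

variable {G : Type u} [Group G] [Fintype G] {p : ℕ} [Fact p.Prime] (P : Sylow p G)

/-- every element of `C_G(P)` is the product of an element of `P` and a `p`-regular element -/
theorem exists_decomp_cen (c : cen P) :
    ∃ u v : cen P, (u : G) ∈ (P : Subgroup G) ∧ ¬ p ∣ orderOf v ∧ u * v = c := by
  obtain ⟨u, y, hu, hy, huy, ⟨k, hk⟩, hyn⟩ :=
    Cfsg.Agent.Helper70.DefOneXG.exists_pPart_decomp (p := p) (c : G)
  have hz : Subgroup.zpowers (c : G) ≤ cen P := by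
    rw [Subgroup.zpowers_le]
    exact c.2
  have huC : u ∈ cen P := hz hu
  have hyC : y ∈ cen P := hz hy
  have huN : u ∈ Subgroup.normalizer ((P : Subgroup G) : Set G) :=
    Subgroup.centralizer_le_normalizer _ huC
  have huP : u ∈ (P : Subgroup G) := Cfsg.Agent.Helper70.DefOneXG.mem_sylow_of_pow P hk huN
  refine ⟨⟨u, huC⟩, ⟨y, hyC⟩, huP, ?_, Subtype.ext huy⟩
  rwa [Subgroup.orderOf_mk]

/-- (W-b) a character of `C` is determined by its canonical character and its central character
on `P` -/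
theorem eq_of_can_eq_of_sameP (hP : Nat.card P = p) {φ φ' : IrrCharacter (cen P)}
    (hcan : can P φ = can P φ') (h : SameP P φ φ') : φ = φ' := by
  have : Fintype (cen P) := Fintype.ofFinite _
  apply Subtype.ext
  funext c
  obtain ⟨u, v, huP, hv, rfl⟩ := exists_decomp_cen P c
  have huZ : u ∈ Subgroup.center (cen P) :=
    subgroupOf_cen_le_center P hP (Subgroup.mem_subgroupOf.mpr huP)
  obtain ⟨a, ha⟩ := irr_central_mul φ huZ
  obtain ⟨a', ha'⟩ := irr_central_mul φ' huZ
  have h1 := ha 1
  have h1' := ha' 1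
  rw [mul_one] at h1 h1'
  have hne := Cfsg.Agent.Helper79.irr_one_ne_zero φ
  have hne' := Cfsg.Agent.Helper79.irr_one_ne_zero φ'
  have hs := h u huP
  rw [h1, h1'] at hs
  have haa : a = a' := by
    have h2 : a * ((φ : cen P → ℂ) 1 * (φ' : cen P → ℂ) 1) =
        a' * ((φ : cen P → ℂ) 1 * (φ' : cen P → ℂ) 1) := by
      linear_combination hs
    exact mul_right_cancel₀ (mul_ne_zero hne hne') h2
  have hv1 : (φ : cen P → ℂ) v = (φ' : cen P → ℂ) v := by
    rw [can_apply_regular P hP φ v hv, can_apply_regular P hP φ' v hv, hcan]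
  rw [ha v, ha' v, haa, hv1]

end Cfsg.Agent.Helper80.BH
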