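import Cfsg.Agent.Helper2.SC3R.Defs

/-!
helper80, piece (BURN) of helper2's farm #15653 (S3331 block R): Burnside transfer for a self-centralizing
element of order 3 that is not inverted.  Self-contained (own copies of the two basic facts it needs).
-/

set_option autoImplicit false
set_option linter.unusedVariables false
set_option linter.style.haveILetI false

namespace Cfsg.Agent.Helper80.SC3R

open Cfsg.Agent.Helper62.SC3 Cfsg.Agent.Helper2.SC3R

universe u v

variable {G : Type u} [Group G]

/-- elements of `⟨x⟩` for `x` of order 3 -/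
theorem BURN_mem_zpowers {x y : G} (hx : orderOf x = 3) (hy : y ∈ Subgroup.zpowers x) :
    y = 1 ∨ y = x ∨ y = x⁻¹ := by
  obtain ⟨k, rfl⟩ := Subgroup.mem_zpowers_iff.mp hy
  have h3 : x ^ 3 = 1 := by rw [← hx]; exact pow_orderOf_eq_one x
  have h1 : x ^ k = x ^ (k % 3) := by
    have := (zpow_mod_orderOf x k).symm
    rw [hx] at this
    exact_mod_cast this
  have h2 : 0 ≤ k % 3 := Int.emod_nonneg k (by norm_num)
  have h4 : k % 3 < 3 := Int.emod_lt_of_pos k (by norm_num)
  rw [h1]
  have h5 : k % 3 = 0 ∨ k % 3 = 1 ∨ k % 3 = 2 := by omega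
  rcases h5 with h | h | h
  · left; rw [h, zpow_zero]
  · right; left; rw [h, zpow_one]
  · right; right
    rw [h]
    have : x ^ (2 : ℤ) * x = 1 := by
      have : x ^ (2 : ℤ) * x = x ^ 3 := by
        rw [show (2 : ℤ) = ((2 : ℕ) : ℤ) by norm_num, zpow_natCast, ← pow_succ]
      rw [this, h3]
    exact eq_inv_of_mul_eq_one_left this

/-- own copy of (SYL3): `⟨x⟩` is a Sylow 3-subgroup -/
theorem BURN_exists_sylow [Finite G] {x : G} (hx : SC G x) :
    ∃ P : Sylow 3 G, (P : Subgroup G) = Subgroup.zpowers x := by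
  haveI : Fact (Nat.Prime 3) := ⟨by norm_num⟩
  obtain ⟨hx3, hxC⟩ := hx
  have hcard : Nat.card (Subgroup.zpowers x) = 3 := by rw [Nat.card_zpowers, hx3]
  have hpg : IsPGroup 3 (Subgroup.zpowers x) := IsPGroup.of_card (n := 1) (by rw [hcard, pow_one])
  obtain ⟨S, hS⟩ := hpg.exists_le_sylow
  refine ⟨S, ?_⟩
  have hxS : x ∈ (S : Subgroup G) := hS (Subgroup.mem_zpowers x)
  -- the centre of `S` is nontrivial and lies in `C(x) = ⟨x⟩`
  haveI : Nontrivial (S : Subgroup G) := by
    refine ⟨⟨⟨x, hxS⟩, 1, ?_⟩⟩
    intro h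
    have h1 : x = 1 := congrArg Subtype.val h
    rw [h1, orderOf_one] at hx3
    omega
  haveI := S.2.center_nontrivial
  obtain ⟨z, hz⟩ := exists_ne (1 : Subgroup.center (S : Subgroup G))
  have hzc : ((z : (S : Subgroup G)) : G) ∈ Subgroup.centralizer ({x} : Set G) := by
    rw [Subgroup.mem_centralizer_singleton_iff]
    have h1 := Subgroup.mem_center_iff.mp z.2 ⟨x, hxS⟩
    have h2 := congrArg Subtype.val h1
    simpa using h2.symm
  rw [hxC] at hzc
  have hz1 : ((z : (S : Subgroup G)) : G) ≠ 1 := by
    intro h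
    apply hz
    apply Subtype.ext
    apply Subtype.ext
    simpa using h
  -- so `x` is a power of `z`, hence central in `S`
  have hxz : ∀ s ∈ (S : Subgroup G), s * x = x * s := by
    intro s hs
    have h1 := Subgroup.mem_center_iff.mp z.2 ⟨s, hs⟩
    have h2 : s * ((z : (S : Subgroup G)) : G) = ((z : (S : Subgroup G)) : G) * s := by
      simpa using congrArg Subtype.val h1
    rcases BURN_mem_zpowers hx3 hzc with h | h | h
    · exact absurd h hz1
    · rw [h] at h2; exact h2
    · rw [h] at h2
      have h3 : x * s * x⁻¹ = s := by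
        calc x * s * x⁻¹ = x * (s * x⁻¹) := by group
          _ = x * (x⁻¹ * s) := by rw [h2]
          _ = s := by group
      calc s * x = (x * s * x⁻¹) * x := by rw [h3]
        _ = x * s := by group
  apply le_antisymm
  · intro s hs
    rw [← hxC, Subgroup.mem_centralizer_singleton_iff]
    exact hxz s hs
  · exact hS

/-- (BURN) Burnside transfer: no element inverts `x` ⇒ normal 3-complement. -/
theorem normal_complement_of_no_inverter [Finite G] {x : G} (hx : SC G x)
    (hno : ∀ g : G, g * x * g⁻¹ ≠ x⁻¹) :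
    ∃ L : Subgroup G, L.Normal ∧ (Nat.card L).Coprime 3 ∧ Nat.card G = 3 * Nat.card L := by
  haveI : Fact (Nat.Prime 3) := ⟨by norm_num⟩
  obtain ⟨P, hP⟩ := BURN_exists_sylow hx
  obtain ⟨hx3, hxC⟩ := hx
  have hcardP : Nat.card (P : Subgroup G) = 3 := by rw [hP, Nat.card_zpowers, hx3]
  have hNC : Subgroup.normalizer ((P : Subgroup G) : Set G) ≤ Subgroup.centralizer ((P : Subgroup G) : Set G) := by
    intro g hg
    have h1 : g * x * g⁻¹ ∈ (P : Subgroup G) := by
      apply (Subgroup.mem_normalizer_iff.mp hg x).mp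
      rw [hP]; exact Subgroup.mem_zpowers x
    rw [hP] at h1
    have h2 : g * x * g⁻¹ = x := by
      rcases BURN_mem_zpowers hx3 h1 with h | h | h
      · exfalso
        have : x = 1 := by
          have := congrArg (fun y => g⁻¹ * y * g) h
          simpa [mul_assoc] using this
        rw [this, orderOf_one] at hx3
        omega
      · exact h
      · exact absurd h (hno g)
    have h3 : g * x = x * g := by
      calc g * x = (g * x * g⁻¹) * g := by group
        _ = x * g := by rw [h2]
    rw [Subgroup.mem_centralizer_iff]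
    intro y hy
    rw [SetLike.mem_coe, hP] at hy
    obtain ⟨k, rfl⟩ := Subgroup.mem_zpowers_iff.mp hy
    exact ((Commute.zpow_right (show Commute g x from h3) k).eq).symm
  have hcompl := MonoidHom.ker_transferSylow_isComplement' P hNC
  refine ⟨(MonoidHom.transferSylow P hNC).ker, inferInstance, ?_, ?_⟩
  · have h1 := P.card_coprime_index
    have h2 : (P : Subgroup G).index = Nat.card (MonoidHom.transferSylow P hNC).ker := by
      have h3 := hcompl.card_mul_card
      have h4 := (P : Subgroup G).card_mul_index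
      rw [← h4, mul_comm] at h3
      have hpos : 0 < Nat.card (P : Subgroup G) := Nat.card_pos
      exact (Nat.eq_of_mul_eq_mul_left hpos h3).symm
    rw [h2, hcardP] at h1
    exact h1.symm
  · have h3 := hcompl.card_mul_card
    rw [hcardP] at h3
    rw [← h3, mul_comm]

end Cfsg.Agent.Helper80.SC3R
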