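-- helper80: piece (A2) of #5149 for helper54 (S3592): a group of order 7920 with 144 Sylow 11-subgroups is simple.
import Mathlib
import Cfsg.Agent.Helper82.S2490A
import Cfsg.Agent.Helper17.CountOrder

set_option autoImplicit false

namespace Cfsg.Agent.Helper80.Ord7920N11

open Subgroup Cfsg.Agent.Helper17

/-- **(A2)** a group of order `7920` with `144` Sylow `11`-subgroups is simple. -/
theorem simple_of_card_sylow11 {G : Type*} [Group G] [Finite G] (hG : Nat.card G = 7920)
    [Fact (Nat.Prime 11)] (h144 : Nat.card (Sylow 11 G) = 144) : IsSimpleGroup G := by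
  classical
  have f2 : Fact (Nat.Prime 2) := ⟨by norm_num⟩
  have hcard11 : Nat.card G = 11 ^ 1 * 720 := hG.trans (by norm_num)
  have hP11 : ∀ P : Sylow 11 G, Nat.card (P : Subgroup G) = 11 := by
    intro P
    have h1 := card_sylow_subgroup_of_card_eq (p := 11) (k := 1) (m := 720) hcard11 (by norm_num) P
    simpa using h1
  have hNP : ∀ P : Sylow 11 G, Nat.card (normalizer ((P : Subgroup G) : Set G)) = 55 := by
    intro P
    have h1 := card_normalizer_mul_card_sylow P
    rw [h144, hG] at h1
    omega
  -- an element normalises the Sylow `11`-subgroup generated by one of its powers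
  have hnorm : ∀ (g : G) (k : ℕ) (Q : Sylow 11 G), (Q : Subgroup G) = zpowers (g ^ k) →
      g ∈ normalizer ((Q : Subgroup G) : Set G) := by
    intro g k Q hQ
    apply Subgroup.centralizer_le_normalizer
    rw [Subgroup.mem_centralizer_iff]
    intro y hy
    have hy' : y ∈ zpowers (g ^ k) := by
      have : y ∈ (Q : Subgroup G) := hy
      rwa [hQ] at this
    obtain ⟨n, rfl⟩ := Subgroup.mem_zpowers_iff.1 hy'
    have h1 : Commute g (g ^ k) := (Commute.refl g).pow_right k
    exact ((h1.zpow_right n).eq).symm
  -- elements of order divisible by 11 have order dividing 55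
  have hkey : ∀ g : G, 11 ∣ orderOf g → orderOf g ∣ 55 := by
    intro g hg
    obtain ⟨k, hk⟩ := hg
    have hk0 : k ≠ 0 := by
      rintro rfl
      rw [mul_zero] at hk
      exact (orderOf_pos g).ne' hk
    have ho : orderOf (g ^ k) = 11 := by
      rw [orderOf_pow_of_dvd hk0 (Dvd.intro_left _ hk.symm), hk]
      exact Nat.mul_div_cancel _ (Nat.pos_of_ne_zero hk0)
    obtain ⟨Q, hQ⟩ := exists_sylow_eq_zpowers hP11 (g ^ k) ho
    have hgN : g ∈ normalizer ((Q : Subgroup G) : Set G) := hnorm g k Q hQ
    have h1 := Subgroup.orderOf_dvd_natCard _ hgN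
    rwa [hNP Q] at h1
  have h22 : ∀ g : G, orderOf g ≠ 22 := by
    intro g hg
    have := hkey g (by rw [hg]; norm_num)
    rw [hg] at this
    revert this
    norm_num
  have h33 : ∀ g : G, orderOf g ≠ 33 := by
    intro g hg
    have := hkey g (by rw [hg]; norm_num)
    rw [hg] at this
    revert this
    norm_num
  have h55 : ∀ g : G, orderOf g ≠ 55 := by
    intro g hg
    have ho : orderOf (g ^ 5) = 11 := by
      rw [orderOf_pow_of_dvd (by norm_num) (by rw [hg]; norm_num), hg]
    obtain ⟨Q, hQ⟩ := exists_sylow_eq_zpowers hP11 (g ^ 5) ho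
    have hgN : g ∈ normalizer ((Q : Subgroup G) : Set G) := hnorm g 5 Q hQ
    have hle : zpowers g ≤ normalizer ((Q : Subgroup G) : Set G) := by
      rw [Subgroup.zpowers_le]
      exact hgN
    have hcz : Nat.card (zpowers g) = 55 := by rw [Nat.card_zpowers, hg]
    have hNeq : normalizer ((Q : Subgroup G) : Set G) = zpowers g :=
      (Subgroup.eq_of_le_of_card_ge hle (by rw [hcz, hNP Q])).symm
    have hP : normalizer ((Q : Subgroup G) : Set G) ≤ centralizer ((Q : Subgroup G) : Set G) := by
      rw [hNeq]
      intro x hx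
      rw [Subgroup.mem_centralizer_iff]
      intro y hy
      have hy' : y ∈ zpowers g := by
        have h1 : y ∈ (Q : Subgroup G) := hy
        rw [hQ] at h1
        exact (Subgroup.zpowers_le.2 (Subgroup.pow_mem _ (Subgroup.mem_zpowers g) 5)) h1
      obtain ⟨n, rfl⟩ := Subgroup.mem_zpowers_iff.1 hx
      obtain ⟨m, rfl⟩ := Subgroup.mem_zpowers_iff.1 hy'
      exact (((Commute.refl g).zpow_zpow m n).eq)
    set L : Subgroup G := (MonoidHom.transferSylow Q hP).ker with hL
    have hcompl : IsComplement' L (Q : Subgroup G) := MonoidHom.ker_transferSylow_isComplement' Q hP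
    have hcard : Nat.card L * Nat.card (Q : Subgroup G) = Nat.card G := hcompl.card_mul_card
    rw [hP11 Q, hG] at hcard
    have hLc : Nat.card L = 2 ^ 4 * 45 := by omega
    have hidx : L.index = 11 := by
      have h1 := L.card_mul_index
      rw [hLc, hG] at h1
      omega
    have hdvd := Cfsg.Agent.Helper20.Fpf.frat_pow_dvd L (q := 11) (r := 2) (by norm_num) h22 1
      (by rw [hidx, pow_one]) 4 45 hLc (by norm_num)
    revert hdvd
    norm_num
  exact Cfsg.Agent.Helper82.S2490.simple_of_no22 hG h22 (Or.inr h33) (Or.inr h55)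

end Cfsg.Agent.Helper80.Ord7920N11
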