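import Cfsg.Agent.Helper75.CAFam
import Cfsg.Agent.Helper25.CohChief
import Cfsg.Agent.Helper25.IndIrrAbove

/-!
# (W5) for S0885: a relevant character of degree `|N_G(K) : K|` when `K` is nilpotent
-/

set_option autoImplicit false

namespace Cfsg.Agent.Helper80.FeitW

open Cfsg Cfsg.Agent.Helper75

universe u

/-- The derived subgroup of a nontrivial nilpotent subgroup is a proper subgroup. -/
theorem commutator_ne_self_of_nilpotent {N : Type*} [Group N] (K₀ : Subgroup N)
    (hnil : Group.IsNilpotent K₀) (hne : K₀ ≠ ⊥) : ¬ K₀ ≤ ⁅K₀, K₀⁆ := by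
  intro hle
  have hnt : Nontrivial K₀ := (Subgroup.nontrivial_iff_ne_bot K₀).2 hne
  have hnil' : Group.IsNilpotent K₀ := hnil
  have hsol : Group.IsSolvable K₀ := inferInstance
  have hlt := Group.IsSolvable.commutator_lt_top_of_nontrivial K₀
  have hmap : (_root_.commutator K₀).map K₀.subtype = ⁅K₀, K₀⁆ := Subgroup.map_subtype_commutator K₀
  apply hlt.ne
  rw [eq_top_iff]
  intro x _
  have hx : (x : N) ∈ ⁅K₀, K₀⁆ := hle x.2
  rw [← hmap] at hx
  obtain ⟨y, hy, hyx⟩ := hx
  have : y = x := Subtype.ext hyx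
  rw [← this]
  exact hy

theorem exists_tfS_degree_caE {G : Type u} [Group G] [Fintype G] {K : Subgroup G}
    [Fintype ↥(Subgroup.normalizer (K : Set G))]
    (hC : ∀ k ∈ K, k ≠ 1 → Subgroup.centralizer ({k} : Set G) ≤ K) (hK1 : K ≠ ⊥)
    (hnil : Group.IsNilpotent K) : ∃ χ₁ ∈ tfS K, χ₁ 1 = (caE K : ℂ) := by
  classical
  set K₀ : Subgroup ↥(Subgroup.normalizer (K : Set G)) :=
    K.subgroupOf (Subgroup.normalizer (K : Set G)) with hK₀
  have hK₀n : K₀.Normal := Subgroup.normal_in_normalizer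
  set X : Subgroup ↥(Subgroup.normalizer (K : Set G)) := ⁅K₀, K₀⁆ with hX
  have hXn : X.Normal := Subgroup.commutator_normal K₀ K₀
  have hXle : X ≤ K₀ := Subgroup.commutator_le_right K₀ K₀
  let e : K₀ ≃* K := Subgroup.subgroupOfEquivOfLe Subgroup.le_normalizer
  have hnil₀ : Group.IsNilpotent K₀ := by
    have := hnil
    exact Group.nilpotent_of_mulEquiv e.symm
  have hne₀ : K₀ ≠ ⊥ := by
    intro h
    apply hK1
    rw [eq_bot_iff]
    intro k hk
    have : (⟨k, Subgroup.le_normalizer hk⟩ : ↥(Subgroup.normalizer (K : Set G))) ∈ K₀ :=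
      Subgroup.mem_subgroupOf.2 hk
    rw [h, Subgroup.mem_bot] at this
    rw [Subgroup.mem_bot]
    exact congrArg Subtype.val this
  have hnotle := commutator_ne_self_of_nilpotent K₀ hnil₀ hne₀
  have : Fintype K₀ := Fintype.ofFinite _
  have : Fintype (IrrCharacter K₀) := Helper74.irrFintype _
  have hsum := Helper25.sum_charDegree_sq_above K₀ X
  -- the relative index is at least two
  have hrel : X.relIndex K₀ ≠ 1 := by
    intro h1
    rw [Subgroup.relIndex_eq_one] at h1
    exact hnotle h1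
  -- there is a non-principal character trivial on `X`
  have hex : ∃ θ : IrrCharacter K₀,
      (∀ a : K₀, (a : ↥(Subgroup.normalizer (K : Set G))) ∈ X → (θ : K₀ → ℂ) a = (θ : K₀ → ℂ) 1) ∧
        θ ≠ Helper25.prinIrr K₀ := by
    by_contra hcon
    push Not at hcon
    have hfil : Finset.univ.filter (fun θ : IrrCharacter K₀ =>
        ∀ a : K₀, (a : ↥(Subgroup.normalizer (K : Set G))) ∈ X →
          (θ : K₀ → ℂ) a = (θ : K₀ → ℂ) 1) = {Helper25.prinIrr K₀} := by
      ext θ
      rw [Finset.mem_filter, Finset.mem_singleton]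
      constructor
      · rintro ⟨-, h⟩
        exact hcon θ h
      · rintro rfl
        refine ⟨Finset.mem_univ _, ?_⟩
        intro a _
        rfl
    rw [hfil, Finset.sum_singleton] at hsum
    have hd1 : charDegree ((Helper25.prinIrr K₀ : IrrCharacter K₀) : K₀ → ℂ) = 1 := by
      simp [charDegree, Helper25.prinIrr]
    rw [hd1] at hsum
    apply hrel
    rw [← hsum]
    norm_num
  obtain ⟨θ, hθker, hθne⟩ := hex
  have hθ1 : (θ : K₀ → ℂ) ≠ fun _ => 1 := by
    intro h
    apply hθne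
    apply Subtype.ext
    exact h
  have hdeg : (θ : K₀ → ℂ) 1 = 1 :=
    Helper25.apply_one_eq_one_of_commutator_le K₀ X le_rfl (θ : K₀ → ℂ) θ.2 hθker
  obtain ⟨hirr, k, hk, hkne⟩ := tf_ind_relevant (tf_hC' hC) θ.2 hθ1
  refine ⟨indFun K₀ (θ : K₀ → ℂ), ⟨hirr, k, Subgroup.mem_subgroupOf.1 hk, hkne⟩, ?_⟩
  rw [Helper15.indFun_apply_one, hdeg, mul_one]
  rfl

end Cfsg.Agent.Helper80.FeitW
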