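import Cfsg.Agent.S1534
import Cfsg.Agent.Helper79.FeitData
import Cfsg.Agent.Helper9.FP3
import Cfsg.Prelude.Def_LieExceptional

/-!
# (T) for S0885: assembly of Feit's theorem from the coherence theorems S1535 / S1534
-/

set_option autoImplicit false

namespace Cfsg.Agent.Helper80.FeitW

open Cfsg Cfsg.Agent.Helper75 Cfsg.Agent.Helper9.FP Cfsg.Agent.Helper79.Feit
open scoped commutatorElement

universe u

/-- Under `FeitData`, if `tfS K` is never coherent then `K` is a nonabelian `2`-group with
`[K : K'] ≤ 4e² + 1`. -/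
theorem feit_T_core {G : Type u} [Group G] [Fintype G] {K : Subgroup G}
    [Fintype ↥(Subgroup.normalizer (K : Set G))] {e h : ℕ} (D : FeitData K e h)
    (hcore : ∀ star : (↥(Subgroup.normalizer (K : Set G)) → ℂ) → (G → ℂ),
      CohStar K star → False) :
    IsPGroup 2 K ∧ (∃ u v : K, u * v ≠ v * u) ∧ (commutator K).index ≤ 4 * e ^ 2 + 1 := by
  classical
  have hC := D.hC
  have hle : K ≤ Subgroup.normalizer (K : Set G) := Subgroup.le_normalizer
  set K' : Subgroup ↥(Subgroup.normalizer (K : Set G)) :=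
    K.subgroupOf (Subgroup.normalizer (K : Set G)) with hK'
  have hK'n : K'.Normal := inferInstance
  have hmap : K'.map (Subgroup.normalizer (K : Set G)).subtype = K :=
    Subgroup.map_subgroupOf_eq_of_le hle
  have hcardK' : Nat.card K' = Nat.card K :=
    Nat.card_congr (Subgroup.subgroupOfEquivOfLe hle).toEquiv
  have hidxe : K'.index = e := D.he
  have hcardh : Nat.card K = h := D.hh
  have hlt := D.hlt
  have he1 := D.he1
  have hK1 : K ≠ ⊥ := by
    intro hb
    rw [hb, Subgroup.card_bot] at hcardh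
    omega
  have hK'1 : K' ≠ ⊥ := by
    intro hb
    apply hK1
    rw [← hmap, hb, Subgroup.map_bot]
  have hK'top : K' ≠ ⊤ := by
    intro ht
    rw [ht, Subgroup.index_top] at hidxe
    omega
  have hC' := tf_hC' hC
  have hcase : Nat.card K ≠ K'.index + 1 := by
    rw [hcardh, hidxe]
    omega
  have hTI : IsTISubset (K : Set G) := D.hTI
  have hTI' : ∀ g : G, g ∉ Subgroup.normalizer (K : Set G) →
      ∀ k ∈ K'.map (Subgroup.normalizer (K : Set G)).subtype,
        g * k * g⁻¹ ∈ K'.map (Subgroup.normalizer (K : Set G)).subtype → k = 1 := by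
    rw [hmap]
    exact fun g hg k hk hgk => hTI g hg k hk hgk
  have hiso := Helper25.isLinearIsometryOn_indFun_of_ti (Subgroup.normalizer (K : Set G)) K' hTI'
  have hτ1 : ∀ α ∈ zspanOn (inducedIrrAbove K' ⊥)
      ({1}ᶜ : Set ↥(Subgroup.normalizer (K : Set G))),
      indFun (Subgroup.normalizer (K : Set G)) α 1 = 0 :=
    fun α hα => Helper25.indFun_apply_one_of_mem (Subgroup.normalizer (K : Set G)) K' hα
  have hSeq := Cfsg.Agent.S1535.relevant_eq_induced K' hC'
  have hcoh_false : IsCoherent (inducedIrrAbove K' ⊥)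
      ({1}ᶜ : Set ↥(Subgroup.normalizer (K : Set G)))
      (fun α : ↥(Subgroup.normalizer (K : Set G)) → ℂ =>
        indFun (Subgroup.normalizer (K : Set G)) α) → False := by
    intro hc
    obtain ⟨star, hS⟩ := fp_cohStar_of_isCoherent K hC hc
    exact hcore star hS
  have h35 := Cfsg.Agent.S1535.result K' hK'1 hK'top hC' (by rw [hcardK']; exact hcase)
    (fun α => indFun (Subgroup.normalizer (K : Set G)) α) (by rw [hSeq]; exact hiso)
    (by rw [hSeq]; exact hτ1)
  rcases h35 with hcoh | ⟨p, hp, ⟨m, hm⟩, hnab, hidx⟩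
  · rw [hSeq] at hcoh
    exact (hcoh_false hcoh).elim
  obtain ⟨hnil', -⟩ := fp_frob_type K' hK'top hC'
  have hnil : Group.IsNilpotent K :=
    Group.nilpotent_of_mulEquiv (Subgroup.subgroupOfEquivOfLe hle)
  have hlt' : K < Subgroup.normalizer (K : Set G) := by
    refine lt_of_le_of_ne hle ?_
    intro heq
    apply hK'top
    rw [hK', Subgroup.subgroupOf_eq_top]
    exact heq.symm.le
  have h34 := Cfsg.Agent.S1534.result K hK1 hnil hTI hlt' hC
  rcases h34 with ⟨-, hc1, -⟩ | ⟨hc2, -⟩ | hcoh
  · exact absurd hc1 hcase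
  · refine ⟨IsPGroup.of_card hc2, ?_, ?_⟩
    · by_contra hcon
      push Not at hcon
      apply hnab
      refine ⟨⟨fun x y => ?_⟩⟩
      have hxy := hcon ⟨(x : ↥(Subgroup.normalizer (K : Set G))).1, Subgroup.mem_subgroupOf.mp x.2⟩
        ⟨(y : ↥(Subgroup.normalizer (K : Set G))).1, Subgroup.mem_subgroupOf.mp y.2⟩
      have hxy' := congrArg Subtype.val hxy
      apply Subtype.ext
      apply Subtype.ext
      exact hxy'
    · have hidx' : (⁅K, K⁆.subgroupOf K).index = (⁅K', K'⁆.subgroupOf K').index := by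
        show (⁅K, K⁆).relIndex K = (⁅K', K'⁆).relIndex K'
        rw [← Subgroup.relIndex_map_map_of_injective ⁅K', K'⁆ K'
          (Subgroup.normalizer (K : Set G)).subtype_injective, Subgroup.map_commutator, hmap]
      have hcomm : ⁅K, K⁆.subgroupOf K = commutator K := by
        rw [← Subgroup.map_subtype_commutator K]
        exact Subgroup.comap_map_eq_self_of_injective K.subtype_injective _
      rw [← hcomm, hidx', ← hidxe]
      exact hidx
  · exfalso
    apply hcoh_false
    rw [fp_tfS_eq K hC]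
    exact hcoh

theorem feit_simple_case {G Ω : Type*} [Group G] [Fintype G] [MulAction G Ω] [Fintype Ω]
    (hZ : Cfsg.IsZassenhausGroup G Ω) {a b : Ω} (hab : a ≠ b) [IsSimpleGroup G] (h e : ℕ)
    (hh : Fintype.card Ω = h + 1)
    (he : Nat.card ↥(MulAction.stabilizer G a ⊓ MulAction.stabilizer G b : Subgroup G) = e)
    (hodd : Odd e) (H : Subgroup G) (hHa : H ≤ MulAction.stabilizer G a)
    (hHcard : Nat.card H + 1 = Fintype.card Ω)
    (hHfix : ∀ u ∈ H, u ≠ 1 → ∀ c : Ω, u • c = c → c = a)
    [Fintype ↥(Subgroup.normalizer (H : Set G))]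
    (hdata : 2 * e < h - 1 → FeitData H e h)
    (hcore : ∀ star : (↥(Subgroup.normalizer (H : Set G)) → ℂ) → (G → ℂ),
      FeitData H e h → CohStar H star → False) :
    h - 1 ≤ 2 * e ∨ (IsPGroup 2 H ∧ (∃ u v : H, u * v ≠ v * u) ∧
      (commutator H).index ≤ 4 * e ^ 2 + 1) := by
  by_cases hlt : 2 * e < h - 1
  · right
    have D := hdata hlt
    exact feit_T_core D (fun star hS => hcore star D hS)
  · left
    omega

end Cfsg.Agent.Helper80.FeitW
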