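import Mathlib
import Cfsg.Agent.Helper80.Degree
import Cfsg.Agent.Helper80.OneChar
import Cfsg.Agent.Helper80.Pullback

set_option autoImplicit false

/-!
# Characters of groups with derived subgroup of prime order

* `IsIrrCharacter.exists_central_scalar`: central elements act as scalars.
* `IsIrrCharacter.eq_zero_of_not_mem_center`: if `G' ≤ Z(G)` has prime order, nonlinear irreducible
  characters vanish off the centre and `χ(1)² = |G : Z(G)|`.
* `GalConj G`: nonlinear irreducible characters of equal degree are Galois conjugate; it passes to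
  quotients, and Galois conjugate characters have the same kernel.
-/

namespace Cfsg.Agent.Helper80

open Cfsg
open scoped commutatorElement

universe u

section gal1

variable {G : Type u} [Group G] [Finite G]

omit [Finite G] in
/-- A central element acts as a scalar. -/
theorem IsIrrCharacter.exists_central_scalar {χ : G → ℂ} (h : IsIrrCharacter G χ) {z : G}
    (hz : z ∈ Subgroup.center G) : ∃ ω : ℂ, ∀ g, χ (g * z) = ω * χ g := by
  obtain ⟨n, ρ, hirr, rfl⟩ := h
  obtain ⟨c, hc⟩ := exists_scalar_of_commute ρ hirr (ρ z) fun g => by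
    rw [← map_mul, ← map_mul, Subgroup.mem_center_iff.mp hz g]
  refine ⟨c, fun g => ?_⟩
  simp only [Representation.character, map_mul, hc]
  rw [mul_smul_comm, mul_one, map_smul, smul_eq_mul]

/-- Powers of kernel elements are in the kernel. -/
theorem IsCharacter.pow_mem_ker {χ : G → ℂ} (h : IsCharacter G χ) {g : G} (hg : χ g = χ 1)
    (k : ℕ) : χ (g ^ k) = χ 1 :=
  (mem_kerChar h (g ^ k)).mp (Subgroup.pow_mem _ ((mem_kerChar h g).mpr hg) k)

/-- If `G' ≤ Z(G)` has prime order, nonlinear irreducible characters vanish off the centre. -/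
theorem IsIrrCharacter.eq_zero_of_not_mem_center {p : ℕ} (hp : p.Prime)
    (hc : Nat.card (commutator G) = p) (hcz : commutator G ≤ Subgroup.center G) {χ : G → ℂ}
    (h : IsIrrCharacter G χ) (hχ : charDegree χ ≠ 1) {x : G} (hx : x ∉ Subgroup.center G) :
    χ x = 0 := by
  have hχc := IsIrrCharacter.isCharacter h
  rw [Subgroup.mem_center_iff] at hx
  push Not at hx
  obtain ⟨y, hy⟩ := hx
  set c := x⁻¹ * y⁻¹ * x * y with hcdef
  have hcm : c ∈ commutator G := by
    have : c = ⁅x⁻¹, y⁻¹⁆ := by rw [commutatorElement_def]; simp [hcdef]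
    rw [this]
    exact Subgroup.commutator_mem_commutator (Subgroup.mem_top _) (Subgroup.mem_top _)
  have hc1 : c ≠ 1 := by
    intro h1
    apply hy
    have h2 : x * y = y * x * c := by rw [hcdef]; group
    rw [h2, h1, mul_one]
  obtain ⟨ω, hω⟩ := IsIrrCharacter.exists_central_scalar h (hcz hcm)
  have h1 : χ x = ω * χ x := by
    rw [← hω x]
    have h2 := IsCharacter.conj_mem hχc x y⁻¹
    rw [inv_inv] at h2
    rw [← h2]
    congr 1
    rw [hcdef]
    group
  by_contra hne
  have hω1 : ω = 1 := by
    have h3 : (1 : ℂ) * χ x = ω * χ x := by rw [one_mul]; exact h1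
    exact (mul_right_cancel₀ hne h3).symm
  -- then `c` lies in the kernel
  have hck : χ c = χ 1 := by
    have := hω 1
    rwa [one_mul, hω1, one_mul] at this
  apply hχ
  apply IsIrrCharacter.charDegree_eq_one_of_commutator_le h
  -- the kernel contains the derived subgroup
  set K := kerChar χ hχc ⊓ commutator G with hK
  have hcK : c ∈ K := ⟨(mem_kerChar hχc c).mpr hck, hcm⟩
  have hKd : Nat.card K ∣ p := by
    rw [← hc]
    exact Subgroup.card_dvd_of_le inf_le_right
  have hKp : Nat.card K = p := by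
    rcases (Nat.dvd_prime hp).mp hKd with h1 | h1
    · exfalso
      have := Subgroup.card_eq_one.mp h1
      rw [this, Subgroup.mem_bot] at hcK
      exact hc1 hcK
    · exact h1
  have hKeq : K = commutator G :=
    Subgroup.eq_of_le_of_card_ge inf_le_right (by rw [hKp, hc])
  intro g hg
  rw [← hKeq] at hg
  exact (mem_kerChar hχc g).mp hg.1

/-- If `G' ≤ Z(G)` has prime order, nonlinear irreducible characters have degree
`√|G : Z(G)|`. -/
theorem IsIrrCharacter.charDegree_sq_eq_index_center {p : ℕ} (hp : p.Prime)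
    (hc : Nat.card (commutator G) = p) (hcz : commutator G ≤ Subgroup.center G) {χ : G → ℂ}
    (h : IsIrrCharacter G χ) (hχ : charDegree χ ≠ 1) :
    charDegree χ ^ 2 = (Subgroup.center G).index := by
  classical
  cases nonempty_fintype G
  have h1 := IsIrrCharacter.sum_normSq h
  have h2 : ∑ g ∈ (Finset.univ.filter fun g : G => g ∈ Subgroup.center G), ‖χ g‖ ^ 2 =
      ∑ g : G, ‖χ g‖ ^ 2 := by
    apply Finset.sum_subset (Finset.filter_subset _ _)
    intro g _ hg
    have hg' : g ∉ Subgroup.center G := by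
      intro hgc
      exact hg (Finset.mem_filter.mpr ⟨Finset.mem_univ _, hgc⟩)
    rw [IsIrrCharacter.eq_zero_of_not_mem_center hp hc hcz h hχ hg']
    simp
  have h3 : ∑ g ∈ (Finset.univ.filter fun g : G => g ∈ Subgroup.center G), ‖χ g‖ ^ 2 =
      ((Finset.univ.filter fun g : G => g ∈ Subgroup.center G).card : ℝ) *
        (Cfsg.charDegree χ : ℝ) ^ 2 := by
    rw [← nsmul_eq_mul, ← Finset.sum_const]
    refine Finset.sum_congr rfl fun g hg => ?_
    rw [IsIrrCharacter.norm_eq_of_mem_center h (Finset.mem_filter.mp hg).2]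
  have h4 : (Finset.univ.filter fun g : G => g ∈ Subgroup.center G).card =
      Nat.card (Subgroup.center G) := by
    rw [Nat.card_eq_fintype_card, Fintype.card_subtype]
  rw [h3, h1, h4] at h2
  have h5 : Nat.card (Subgroup.center G) * Cfsg.charDegree χ ^ 2 = Nat.card G := by
    rw [Nat.card_eq_fintype_card (α := G)]
    exact_mod_cast h2
  have h6 := Subgroup.card_mul_index (Subgroup.center G)
  rw [← h6] at h5
  exact Nat.eq_of_mul_eq_mul_left Nat.card_pos h5

end gal1

section galconj

/-- Nonlinear irreducible characters of equal degree are Galois conjugate. -/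
def GalConj (P : Type u) [Group P] : Prop :=
  ∀ χ ψ : IrrCharacter P, charDegree (χ : P → ℂ) ≠ 1 →
    charDegree (χ : P → ℂ) = charDegree (ψ : P → ℂ) →
    ∃ k : ℕ, Nat.Coprime k (Nat.card P) ∧ ∀ g : P, (ψ : P → ℂ) g = (χ : P → ℂ) (g ^ k)

variable {P : Type u} [Group P] [Finite P]

/-- Under `GalConj`, nonlinear irreducible characters of equal degree have the same kernel. -/
theorem GalConj.ker_le (h : GalConj P) (χ ψ : IrrCharacter P)
    (hχ : charDegree (χ : P → ℂ) ≠ 1)
    (hd : charDegree (χ : P → ℂ) = charDegree (ψ : P → ℂ)) {g : P}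
    (hg : (χ : P → ℂ) g = (χ : P → ℂ) 1) : (ψ : P → ℂ) g = (ψ : P → ℂ) 1 := by
  obtain ⟨k, -, hk⟩ := h χ ψ hχ hd
  rw [hk g, IsCharacter.pow_mem_ker (IsIrrCharacter.isCharacter χ.2) hg k]
  rw [← IsCharacter.charDegree_cast (IsIrrCharacter.isCharacter χ.2),
    ← IsCharacter.charDegree_cast (IsIrrCharacter.isCharacter ψ.2), hd]

/-- `GalConj` passes to quotients. -/
theorem GalConj.quotient (h : GalConj P) (N : Subgroup P) [N.Normal] : GalConj (P ⧸ N) := by
  intro χ ψ hχ hd
  set χ' : IrrCharacter P := (irrQuotientEquiv N χ).1 with hχ'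
  set ψ' : IrrCharacter P := (irrQuotientEquiv N ψ).1 with hψ'
  have e1 : charDegree (χ' : P → ℂ) = charDegree (χ : P ⧸ N → ℂ) := by
    unfold charDegree
    rw [hχ', irrQuotientEquiv_apply]
    rfl
  have e2 : charDegree (ψ' : P → ℂ) = charDegree (ψ : P ⧸ N → ℂ) := by
    unfold charDegree
    rw [hψ', irrQuotientEquiv_apply]
    rfl
  obtain ⟨k, hk1, hk2⟩ := h χ' ψ' (by rw [e1]; exact hχ) (by rw [e1, e2]; exact hd)
  refine ⟨k, ?_, ?_⟩
  · have hdvd : Nat.card (P ⧸ N) ∣ Nat.card P := by
      rw [Subgroup.card_eq_card_quotient_mul_card_subgroup N]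
      exact Dvd.intro _ rfl
    exact Nat.Coprime.coprime_dvd_right hdvd hk1
  · intro q
    obtain ⟨g, rfl⟩ := QuotientGroup.mk_surjective q
    have := hk2 g
    rw [hψ', hχ', irrQuotientEquiv_apply, irrQuotientEquiv_apply] at this
    rw [this, QuotientGroup.mk_pow]

end galconj

end Cfsg.Agent.Helper80
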