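import Mathlib
import Cfsg.Agent.Helper80.Eigen

/-!
# Linear algebra and arithmetic for primitive linear groups of degree two
-/

set_option autoImplicit false

namespace Cfsg.Agent.Helper80

open Module

section la

variable {V : Type*} [AddCommGroup V] [Module ℂ V] [FiniteDimensional ℂ V]

/-- A line is spanned by any of its nonzero vectors. -/
theorem exists_span_singleton_of_finrank_eq_one (L : Submodule ℂ V) (hL : finrank ℂ L = 1) :
    ∃ w : V, w ≠ 0 ∧ L = Submodule.span ℂ {w} := by
  obtain ⟨v, hv, hspan⟩ := finrank_eq_one_iff'.mp hL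
  refine ⟨(v : V), fun h => hv (Subtype.ext h), ?_⟩
  apply le_antisymm
  · intro x hx
    obtain ⟨c, hc⟩ := hspan ⟨x, hx⟩
    rw [Submodule.mem_span_singleton]
    exact ⟨c, congrArg Subtype.val hc⟩
  · rw [Submodule.span_singleton_le_iff_mem]
    exact v.2

/-- A non-scalar endomorphism of finite order of a two-dimensional complex space fixes exactly two
lines. -/
theorem exists_two_fixed_lines (hV : finrank ℂ V = 2) (f : Module.End ℂ V) (n : ℕ) (hn : 0 < n)
    (hf : f ^ n = 1) (hns : ∀ c : ℂ, f ≠ c • (1 : Module.End ℂ V)) :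
    ∃ L₁ L₂ : Submodule ℂ V, L₁ ≠ L₂ ∧ finrank ℂ L₁ = 1 ∧ finrank ℂ L₂ = 1 ∧
      ∀ L : Submodule ℂ V, finrank ℂ L = 1 → (L.map f = L ↔ L = L₁ ∨ L = L₂) := by
  classical
  obtain ⟨b0, μ0, hb0, hμ0, -⟩ := exists_eigen_data f n hn hf
  obtain ⟨b, hbdef⟩ : ∃ b : Basis (Fin 2) ℂ V, b = b0.reindex (finCongr hV) := ⟨_, rfl⟩
  obtain ⟨μ, hμdef⟩ : ∃ μ : Fin 2 → ℂ, μ = fun i => μ0 ((finCongr hV).symm i) := ⟨_, rfl⟩
  have hb : ∀ i, f (b i) = μ i • b i := by
    intro i
    rw [hbdef, hμdef, Basis.reindex_apply]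
    exact hb0 _
  have hμ : ∀ i, μ i ≠ 0 := by
    intro i h
    have h1 : μ i ^ n = 1 := by rw [hμdef]; exact hμ0 _
    rw [h, zero_pow hn.ne'] at h1
    exact zero_ne_one h1
  have hac : μ 0 ≠ μ 1 := by
    intro h
    apply hns (μ 0)
    apply b.ext
    intro i
    rw [hb i, LinearMap.smul_apply, Module.End.one_apply]
    fin_cases i
    · rfl
    · simp only [Fin.mk_one, Fin.isValue]
      rw [h]
  have hrepr : ∀ w : V, w = b.repr w 0 • b 0 + b.repr w 1 • b 1 := by
    intro w
    conv_lhs => rw [← b.sum_repr w, Fin.sum_univ_two]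
  have hne01 : Submodule.span ℂ {b 0} ≠ Submodule.span ℂ {b 1} := by
    intro h
    have h1 : b 0 ∈ Submodule.span ℂ {b 1} := by
      rw [← h]
      exact Submodule.mem_span_singleton_self _
    obtain ⟨k, hk⟩ := Submodule.mem_span_singleton.mp h1
    have h2 := congrArg (fun v => b.repr v 0) hk
    simp only [map_smul, Basis.repr_self, Finsupp.smul_apply, smul_eq_mul] at h2
    rw [Finsupp.single_eq_of_ne (by decide), Finsupp.single_eq_same, mul_zero] at h2
    exact zero_ne_one h2
  refine ⟨Submodule.span ℂ {b 0}, Submodule.span ℂ {b 1}, hne01,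
    finrank_span_singleton (b.ne_zero 0), finrank_span_singleton (b.ne_zero 1), ?_⟩
  intro L hL
  have hfix : ∀ i, (Submodule.span ℂ {b i}).map f = Submodule.span ℂ {b i} := by
    intro i
    rw [Submodule.map_span, Set.image_singleton, hb i]
    exact Submodule.span_singleton_smul_eq (IsUnit.mk0 _ (hμ i)) (b i)
  constructor
  · intro hmap
    obtain ⟨w, hw0, hLw⟩ := exists_span_singleton_of_finrank_eq_one L hL
    have hfw : f w ∈ L := by
      rw [← hmap]
      exact Submodule.mem_map_of_mem (by rw [hLw]; exact Submodule.mem_span_singleton_self w)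
    rw [hLw] at hfw
    obtain ⟨t, ht⟩ := Submodule.mem_span_singleton.mp hfw
    -- coordinates
    have hw := hrepr w
    have hfw' : f w = (b.repr w 0 * μ 0) • b 0 + (b.repr w 1 * μ 1) • b 1 := by
      conv_lhs => rw [hw]
      rw [map_add, map_smul, map_smul, hb 0, hb 1, smul_smul, smul_smul]
    have h0 : t * b.repr w 0 = b.repr w 0 * μ 0 := by
      have h1 := congrArg (fun v => b.repr v 0) ht
      simp only [map_smul, Finsupp.smul_apply, smul_eq_mul] at h1
      rw [h1, hfw']
      simp only [map_add, map_smul, Basis.repr_self, Finsupp.add_apply, Finsupp.smul_apply,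
        smul_eq_mul]
      rw [Finsupp.single_eq_same, Finsupp.single_eq_of_ne (by decide)]
      ring
    have h1 : t * b.repr w 1 = b.repr w 1 * μ 1 := by
      have h1 := congrArg (fun v => b.repr v 1) ht
      simp only [map_smul, Finsupp.smul_apply, smul_eq_mul] at h1
      rw [h1, hfw']
      simp only [map_add, map_smul, Basis.repr_self, Finsupp.add_apply, Finsupp.smul_apply,
        smul_eq_mul]
      rw [Finsupp.single_eq_same, Finsupp.single_eq_of_ne (by decide)]
      ring
    by_cases hx : b.repr w 0 = 0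
    · right
      rw [hLw]
      have hy : b.repr w 1 ≠ 0 := by
        intro hy
        apply hw0
        rw [hw, hx, hy, zero_smul, zero_smul, add_zero]
      have : w = b.repr w 1 • b 1 := by
        conv_lhs => rw [hw, hx, zero_smul, zero_add]
      rw [this]
      exact Submodule.span_singleton_smul_eq (IsUnit.mk0 _ hy) (b 1)
    · by_cases hy : b.repr w 1 = 0
      · left
        rw [hLw]
        have : w = b.repr w 0 • b 0 := by
          conv_lhs => rw [hw, hy, zero_smul, add_zero]
        rw [this]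
        exact Submodule.span_singleton_smul_eq (IsUnit.mk0 _ hx) (b 0)
      · exfalso
        apply hac
        have e0 : t = μ 0 := by
          have := mul_right_cancel₀ hx (by rw [h0, mul_comm] : t * b.repr w 0 = μ 0 * b.repr w 0)
          exact this
        have e1 : t = μ 1 := by
          have := mul_right_cancel₀ hy (by rw [h1, mul_comm] : t * b.repr w 1 = μ 1 * b.repr w 1)
          exact this
        rw [← e0, ← e1]
  · rintro (h | h)
    · rw [h]; exact hfix 0
    · rw [h]; exact hfix 1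

end la

section arith

/-- Sorted case of the orbit-size equation. -/
theorem orbit_arith_sorted (N a b c : ℕ) (ha : a ∣ N) (hb : b ∣ N) (hc : c ∣ N)
    (hc0 : 0 < c) (hbc : c ≤ b) (hab : b ≤ a) (ha2 : 2 * a ≤ N)
    (hsum : a + b + c = N + 2) : c ≤ 2 ∨ N = 12 ∨ N = 24 ∨ N = 60 := by
  obtain ⟨ra, hra⟩ := ha
  obtain ⟨rb, hrb⟩ := hb
  obtain ⟨rc, hrc⟩ := hc
  have hb0 : 0 < b := lt_of_lt_of_le hc0 hbc
  have ha0 : 0 < a := lt_of_lt_of_le hb0 hab
  -- ra = 2
  have hra3 : ra < 3 := by
    by_contra h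
    push Not at h
    have : a * 3 ≤ a * ra := Nat.mul_le_mul_left a h
    omega
  have hra2 : ra = 2 := by
    have : 2 ≤ ra := by
      by_contra h
      push Not at h
      have : a * ra ≤ a * 1 := Nat.mul_le_mul_left a (by omega)
      omega
    omega
  subst hra2
  -- rb ∈ {2, 3}
  have hrb4 : rb < 4 := by
    by_contra h
    push Not at h
    have : b * 4 ≤ b * rb := Nat.mul_le_mul_left b h
    omega
  have hrb2 : 2 ≤ rb := by
    by_contra h
    push Not at h
    have : b * rb ≤ b * 1 := Nat.mul_le_mul_left b (by omega)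
    omega
  have hrb' : rb = 2 ∨ rb = 3 := by omega
  rcases hrb' with rfl | rfl
  · left; omega
  · have hrc6 : rc < 6 := by
      by_contra h
      push Not at h
      have : c * 6 ≤ c * rc := Nat.mul_le_mul_left c h
      omega
    have hrc2 : 2 ≤ rc := by
      by_contra h
      push Not at h
      have : c * rc ≤ c * 1 := Nat.mul_le_mul_left c (by omega)
      omega
    have : rc = 2 ∨ rc = 3 ∨ rc = 4 ∨ rc = 5 := by omega
    rcases this with rfl | rfl | rfl | rfl <;> omega

/-- The orbit-size equation for three orbits. -/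
theorem orbit_arith_three (N a b c : ℕ) (ha : a ∣ N) (hb : b ∣ N) (hc : c ∣ N)
    (ha0 : 0 < a) (hb0 : 0 < b) (hc0 : 0 < c) (ha2 : 2 * a ≤ N) (hb2 : 2 * b ≤ N)
    (hc2 : 2 * c ≤ N) (hsum : a + b + c = N + 2) :
    (a ≤ 2 ∨ b ≤ 2 ∨ c ≤ 2) ∨ N = 12 ∨ N = 24 ∨ N = 60 := by
  rcases le_total a b with h1 | h1 <;> rcases le_total b c with h2 | h2 <;>
    rcases le_total a c with h3 | h3
  · -- a ≤ b ≤ c
    rcases orbit_arith_sorted N c b a hc hb ha ha0 h1 h2 hc2 (by omega) with h | h
    · exact Or.inl (Or.inl h)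
    · exact Or.inr h
  · -- a ≤ b, b ≤ c, c ≤ a : all equal-ish
    rcases orbit_arith_sorted N c b a hc hb ha ha0 h1 h2 hc2 (by omega) with h | h
    · exact Or.inl (Or.inl h)
    · exact Or.inr h
  · -- a ≤ b, c ≤ b, a ≤ c : a ≤ c ≤ b
    rcases orbit_arith_sorted N b c a hb hc ha ha0 h3 h2 hb2 (by omega) with h | h
    · exact Or.inl (Or.inl h)
    · exact Or.inr h
  · -- a ≤ b, c ≤ b, c ≤ a : c ≤ a ≤ b
    rcases orbit_arith_sorted N b a c hb ha hc hc0 h3 h1 hb2 (by omega) with h | h
    · exact Or.inl (Or.inr (Or.inr h))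
    · exact Or.inr h
  · -- b ≤ a, b ≤ c, a ≤ c : b ≤ a ≤ c
    rcases orbit_arith_sorted N c a b hc ha hb hb0 h1 h3 hc2 (by omega) with h | h
    · exact Or.inl (Or.inr (Or.inl h))
    · exact Or.inr h
  · -- b ≤ a, b ≤ c, c ≤ a : b ≤ c ≤ a
    rcases orbit_arith_sorted N a c b ha hc hb hb0 h2 h3 ha2 (by omega) with h | h
    · exact Or.inl (Or.inr (Or.inl h))
    · exact Or.inr h
  · -- b ≤ a, c ≤ b, a ≤ c
    rcases orbit_arith_sorted N a b c ha hb hc hc0 h2 h1 ha2 (by omega) with h | h
    · exact Or.inl (Or.inr (Or.inr h))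
    · exact Or.inr h
  · -- c ≤ b ≤ a
    rcases orbit_arith_sorted N a b c ha hb hc hc0 h2 h1 ha2 (by omega) with h | h
    · exact Or.inl (Or.inr (Or.inr h))
    · exact Or.inr h

/-- The orbit-size equation over an arbitrary finite index set. -/
theorem orbit_arith {Ω : Type*} [Fintype Ω] (n : Ω → ℕ) (N : ℕ) (hN : 4 ≤ N)
    (hdiv : ∀ ω, n ω ∣ N) (hpos : ∀ ω, 0 < n ω) (hhalf : ∀ ω, 2 * n ω ≤ N)
    (hsum : ∑ ω, (N - n ω) = 2 * N - 2) :
    (∃ ω, n ω ≤ 2) ∨ N = 12 ∨ N = 24 ∨ N = 60 := by
  classical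
  have hk : Fintype.card Ω < 4 := by
    by_contra h
    push Not at h
    have h1 : ∑ _ω : Ω, N ≤ ∑ ω, 2 * (N - n ω) := by
      apply Finset.sum_le_sum
      intro ω _
      have := hhalf ω
      omega
    rw [Finset.sum_const, Finset.card_univ, smul_eq_mul, ← Finset.mul_sum, hsum] at h1
    have : 4 * N ≤ Fintype.card Ω * N := Nat.mul_le_mul_right N h
    omega
  have hcases : Fintype.card Ω = 0 ∨ Fintype.card Ω = 1 ∨ Fintype.card Ω = 2 ∨
      Fintype.card Ω = 3 := by omega
  rcases hcases with h0 | h1 | h2 | h3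
  · exfalso
    have : IsEmpty Ω := Fintype.card_eq_zero_iff.mp h0
    rw [Finset.univ_eq_empty, Finset.sum_empty] at hsum
    omega
  · exfalso
    obtain ⟨x, hx⟩ := Fintype.card_eq_one_iff.mp h1
    have huniv : (Finset.univ : Finset Ω) = {x} := by
      ext y; simp [hx y]
    rw [huniv, Finset.sum_singleton] at hsum
    have := hpos x
    omega
  · left
    rw [← Finset.card_univ] at h2
    obtain ⟨x, y, hxy, huniv⟩ := Finset.card_eq_two.mp h2
    rw [huniv, Finset.sum_pair hxy] at hsum
    have := hhalf x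
    have := hhalf y
    have := hpos x
    have := hpos y
    exact ⟨x, by omega⟩
  · rw [← Finset.card_univ] at h3
    obtain ⟨x, y, z, hxy, hxz, hyz, huniv⟩ := Finset.card_eq_three.mp h3
    rw [huniv, Finset.sum_insert (by simp [hxy, hxz]), Finset.sum_pair hyz] at hsum
    have hs : n x + n y + n z = N + 2 := by
      have := hhalf x
      have := hhalf y
      have := hhalf z
      omega
    rcases orbit_arith_three N (n x) (n y) (n z) (hdiv x) (hdiv y) (hdiv z) (hpos x) (hpos y)
      (hpos z) (hhalf x) (hhalf y) (hhalf z) hs with h | h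
    · rcases h with h | h | h
      · exact Or.inl ⟨x, h⟩
      · exact Or.inl ⟨y, h⟩
      · exact Or.inl ⟨z, h⟩
    · exact Or.inr h

end arith

end Cfsg.Agent.Helper80
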