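import Mathlib
import Cfsg.Prelude.Def_Characters
import Cfsg.Agent.Helper80.Deg2LA
import Cfsg.Agent.Helper80.Irr
import Cfsg.Agent.Helper80.Integrality
import Cfsg.Agent.Helper80.Induced
import Cfsg.Agent.Helper80.Degree
import Cfsg.Agent.Helper81.Gallagher
import Cfsg.Agent.Helper81.CliffordInd
import Cfsg.Agent.Helper74.ThompsonDeg

/-!
# Primitive linear groups of degree two

A finite group with a faithful primitive irreducible character of degree `2` has centre of index
`12`, `24` or `60`: count the fixed points of `G/Z(G)` on the lines of `ℂ²`.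
-/

set_option autoImplicit false
set_option linter.unusedSectionVars false

namespace Cfsg.Agent.Helper80

open Cfsg Module

universe u v

section setup

variable {G : Type u} [Group G] [Fintype G] {V : Type v} [AddCommGroup V] [Module ℂ V]
  [FiniteDimensional ℂ V] (ρ : Representation ℂ G V)

/-- The action of `G` on subspaces. -/
def lmap (g : G) (L : Submodule ℂ V) : Submodule ℂ V := L.map (ρ g)

theorem lmap_one (L : Submodule ℂ V) : lmap ρ 1 L = L := by
  unfold lmap
  rw [map_one]
  exact Submodule.map_id L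

theorem lmap_mul (g h : G) (L : Submodule ℂ V) : lmap ρ (g * h) L = lmap ρ g (lmap ρ h L) := by
  unfold lmap
  rw [map_mul]
  exact Submodule.map_comp (ρ h) (ρ g) L

theorem rho_inv_apply (g : G) (v : V) : ρ g⁻¹ (ρ g v) = v := by
  rw [← Module.End.mul_apply, ← map_mul, inv_mul_cancel, map_one, Module.End.one_apply]

theorem rho_injective (g : G) : Function.Injective (ρ g) := by
  intro v w h
  rw [← rho_inv_apply ρ g v, ← rho_inv_apply ρ g w, h]

theorem finrank_lmap (g : G) (L : Submodule ℂ V) : finrank ℂ (lmap ρ g L) = finrank ℂ L :=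
  (Submodule.equivMapOfInjective (ρ g) (rho_injective ρ g) L).finrank_eq.symm

theorem rho_hom_injective (hinj : ∀ g, ρ g = 1 → g = 1) {a b : G} (h : ρ a = ρ b) : a = b := by
  have h1 : ρ (a * b⁻¹) = 1 := by
    rw [map_mul, h, ← map_mul, mul_inv_cancel, map_one]
  have h2 := hinj _ h1
  exact mul_inv_eq_one.mp h2

theorem mem_center_iff_scalar (hirr : ρ.IsIrreducible) (hinj : ∀ g, ρ g = 1 → g = 1) (g : G) :
    g ∈ Subgroup.center G ↔ ∃ c : ℂ, ρ g = c • (1 : Module.End ℂ V) := by
  constructor
  · intro hg
    apply exists_scalar_of_commute ρ hirr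
    intro h
    rw [← map_mul, ← map_mul, Subgroup.mem_center_iff.mp hg h]
  · rintro ⟨c, hc⟩
    rw [Subgroup.mem_center_iff]
    intro h
    apply rho_hom_injective ρ hinj
    rw [map_mul, map_mul, hc, mul_smul_comm, smul_mul_assoc, mul_one, one_mul]

/-- The lines with a stabiliser bigger than the centre. -/
def lineSet : Set (Submodule ℂ V) :=
  {L | finrank ℂ L = 1 ∧ ∃ h : G, h ∉ Subgroup.center G ∧ lmap ρ h L = L}

theorem lmap_mem_lineSet (g : G) {L : Submodule ℂ V} (hL : L ∈ lineSet ρ) :
    lmap ρ g L ∈ lineSet ρ := by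
  obtain ⟨h1, h, hh, hfix⟩ := hL
  refine ⟨by rw [finrank_lmap]; exact h1, g * h * g⁻¹, ?_, ?_⟩
  · intro hc
    apply hh
    have hn : (Subgroup.center G).Normal := inferInstance
    have := hn.conj_mem _ hc g⁻¹
    simpa [mul_assoc] using this
  · rw [← lmap_mul, mul_assoc, inv_mul_cancel, mul_one, lmap_mul, hfix]

instance lineSetMulAction : MulAction G (lineSet ρ) where
  smul g L := ⟨lmap ρ g L.1, lmap_mem_lineSet ρ g L.2⟩
  one_smul L := Subtype.ext (lmap_one ρ L.1)
  mul_smul g h L := Subtype.ext (lmap_mul ρ g h L.1)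

theorem lineSet_smul_coe (g : G) (L : lineSet ρ) : ((g • L : lineSet ρ) : Submodule ℂ V) =
    lmap ρ g L.1 := rfl

end setup

section counting

variable {G : Type u} [Group G] [Fintype G] {V : Type v} [AddCommGroup V] [Module ℂ V]
  [FiniteDimensional ℂ V] (ρ : Representation ℂ G V)

theorem center_index_of_no_small_orbit (hV : finrank ℂ V = 2) (hirr : ρ.IsIrreducible)
    (hinj : ∀ g, ρ g = 1 → g = 1)
    (hprim : ∀ H : Subgroup G, H.index = 2 → ∀ L : Submodule ℂ V, finrank ℂ L = 1 →
      ¬ (∀ h ∈ H, lmap ρ h L = L))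
    (hN4 : 4 ≤ (Subgroup.center G).index) :
    (Subgroup.center G).index = 12 ∨ (Subgroup.center G).index = 24 ∨
      (Subgroup.center G).index = 60 := by
  classical
  have hnontriv : Nontrivial V := ((isIrreducible_iff ρ).mp hirr).1
  have hnoinv : ∀ L : Submodule ℂ V, finrank ℂ L = 1 → ¬ (∀ g : G, lmap ρ g L = L) := by
    intro L hL hall
    have h1 := ((isIrreducible_iff ρ).mp hirr).2 L (fun g v hv => by
      have h2 : ρ g v ∈ lmap ρ g L := Submodule.mem_map_of_mem hv
      rwa [hall g] at h2)
    rcases h1 with h | h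
    · rw [h, finrank_bot] at hL
      omega
    · rw [h, finrank_top, hV] at hL
      omega
  have hfixed : ∀ g : G, g ∉ Subgroup.center G → ∃ L₁ L₂ : Submodule ℂ V, L₁ ≠ L₂ ∧
      finrank ℂ L₁ = 1 ∧ finrank ℂ L₂ = 1 ∧
      ∀ L : Submodule ℂ V, finrank ℂ L = 1 → (lmap ρ g L = L ↔ L = L₁ ∨ L = L₂) := by
    intro g hg
    apply exists_two_fixed_lines hV (ρ g) (Fintype.card G) Fintype.card_pos
    · rw [← map_pow, pow_card_eq_one, map_one]
    · intro c hc
      exact hg ((mem_center_iff_scalar ρ hirr hinj g).mpr ⟨c, hc⟩)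
  have hcentral : ∀ g ∈ Subgroup.center G, ∀ L : Submodule ℂ V, lmap ρ g L = L := by
    intro g hg L
    obtain ⟨c, hc⟩ := (mem_center_iff_scalar ρ hirr hinj g).mp hg
    have hc0 : c ≠ 0 := by
      intro h0
      rw [h0, zero_smul] at hc
      have h1 : (1 : Module.End ℂ V) = ρ g⁻¹ * ρ g := by
        rw [← map_mul, inv_mul_cancel, map_one]
      rw [hc, mul_zero] at h1
      exact one_ne_zero h1
    unfold lmap
    rw [hc, Submodule.map_smul _ _ c hc0]
    exact Submodule.map_id L
  -- finiteness
  have hXfin : (lineSet ρ).Finite := by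
    choose! L₁ L₂ hL using hfixed
    apply Set.Finite.subset (Set.finite_iUnion (fun g : G =>
      (Set.toFinite ({L₁ g, L₂ g} : Set (Submodule ℂ V)))))
    rintro L ⟨h1, h, hh, hfix⟩
    rw [Set.mem_iUnion]
    refine ⟨h, ?_⟩
    have h2 := ((hL h hh).2.2.2 L h1).mp hfix
    simpa using h2
  have : Fintype (lineSet ρ) := hXfin.fintype
  have hburn := MulAction.sum_card_fixedBy_eq_card_orbits_mul_card_group G (lineSet ρ)
  have hfix2 : ∀ g : G, g ∉ Subgroup.center G →
      Fintype.card (MulAction.fixedBy (lineSet ρ) g) = 2 := by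
    intro g hg
    obtain ⟨L₁, L₂, hne, h1, h2, hiff⟩ := hfixed g hg
    have hf1 : lmap ρ g L₁ = L₁ := (hiff L₁ h1).mpr (Or.inl rfl)
    have hf2 : lmap ρ g L₂ = L₂ := (hiff L₂ h2).mpr (Or.inr rfl)
    have hm1 : L₁ ∈ lineSet ρ := ⟨h1, g, hg, hf1⟩
    have hm2 : L₂ ∈ lineSet ρ := ⟨h2, g, hg, hf2⟩
    rw [← Nat.card_eq_fintype_card, Nat.card_eq_two_iff]
    refine ⟨⟨⟨L₁, hm1⟩, ?_⟩, ⟨⟨L₂, hm2⟩, ?_⟩, ?_, ?_⟩
    · rw [MulAction.mem_fixedBy]
      exact Subtype.ext hf1
    · rw [MulAction.mem_fixedBy]
      exact Subtype.ext hf2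
    · intro h
      apply hne
      have h3 := congrArg (fun x : MulAction.fixedBy (lineSet ρ) g => ((x : lineSet ρ) :
        Submodule ℂ V)) h
      exact h3
    · ext ⟨⟨L, hLm⟩, hx⟩
      simp only [Set.mem_insert_iff, Set.mem_singleton_iff, Set.mem_univ, iff_true]
      rw [MulAction.mem_fixedBy] at hx
      have hx' : lmap ρ g L = L := congrArg Subtype.val hx
      rcases (hiff L hLm.1).mp hx' with h | h
      · left
        exact Subtype.ext (Subtype.ext h)
      · right
        exact Subtype.ext (Subtype.ext h)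
  have hfixZ : ∀ g : G, g ∈ Subgroup.center G →
      Fintype.card (MulAction.fixedBy (lineSet ρ) g) = Fintype.card (lineSet ρ) := by
    intro g hg
    apply Fintype.card_congr
    exact Equiv.subtypeUnivEquiv (fun x => by
      rw [MulAction.mem_fixedBy]
      exact Subtype.ext (hcentral g hg x.1))
  obtain ⟨z, hzdef⟩ : ∃ z : ℕ, z = Nat.card (Subgroup.center G) := ⟨_, rfl⟩
  obtain ⟨N, hNdef⟩ : ∃ N : ℕ, N = (Subgroup.center G).index := ⟨_, rfl⟩
  have hGNz : Fintype.card G = N * z := by
    rw [hNdef, hzdef, Subgroup.index_mul_card, Nat.card_eq_fintype_card]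
  have hz0 : 0 < z := by rw [hzdef]; exact Nat.card_pos
  have hsum1 : ∑ g : G, Fintype.card (MulAction.fixedBy (lineSet ρ) g) =
      z * Fintype.card (lineSet ρ) + 2 * (Fintype.card G - z) := by
    have h1 : ∀ g : G, Fintype.card (MulAction.fixedBy (lineSet ρ) g) =
        if g ∈ Subgroup.center G then Fintype.card (lineSet ρ) else 2 := by
      intro g
      split_ifs with h
      · exact hfixZ g h
      · exact hfix2 g h
    rw [Finset.sum_congr rfl (fun g _ => h1 g), Finset.sum_ite, Finset.sum_const, Finset.sum_const,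
      smul_eq_mul, smul_eq_mul]
    have hz : (Finset.univ.filter (fun g : G => g ∈ Subgroup.center G)).card = z := by
      rw [hzdef]
      exact (Nat.subtype_card _ (by simp)).symm
    have hnz : (Finset.univ.filter (fun g : G => ¬ g ∈ Subgroup.center G)).card =
        Fintype.card G - z := by
      have := Finset.card_filter_add_card_filter_not (s := (Finset.univ : Finset G))
        (fun g : G => g ∈ Subgroup.center G)
      rw [Finset.card_univ] at this
      omega
    rw [hz, hnz]
    ring
  -- orbit sizes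
  have hXcard : Fintype.card (lineSet ρ) =
      ∑ ω : MulAction.orbitRel.Quotient G (lineSet ρ), Nat.card ω.orbit := by
    rw [Fintype.card_congr (MulAction.selfEquivSigmaOrbits' G (lineSet ρ)), Fintype.card_sigma]
    refine Finset.sum_congr rfl fun ω _ => ?_
    rw [Nat.card_eq_fintype_card]
  have horb : ∀ ω : MulAction.orbitRel.Quotient G (lineSet ρ),
      Nat.card ω.orbit ∣ N ∧ 0 < Nat.card ω.orbit ∧ 2 * Nat.card ω.orbit ≤ N ∧
      ¬ Nat.card ω.orbit ≤ 2 := by
    intro ω
    induction ω using Quotient.inductionOn' with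
    | h x =>
      rw [MulAction.orbitRel.Quotient.orbit_mk]
      obtain ⟨S, hSdef⟩ : ∃ S : Subgroup G, S = MulAction.stabilizer G x := ⟨_, rfl⟩
      have hmemS : ∀ g : G, g ∈ S ↔ lmap ρ g x.1 = x.1 := by
        intro g
        rw [hSdef, MulAction.mem_stabilizer_iff]
        constructor
        · intro h
          exact congrArg Subtype.val h
        · intro h
          exact Subtype.ext h
      have hZS : Subgroup.center G ≤ S := fun g hg => (hmemS g).mpr (hcentral g hg x.1)
      have hSZ : ¬ S ≤ Subgroup.center G := by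
        intro hle
        obtain ⟨-, h, hh, hfix⟩ := x.2
        exact hh (hle ((hmemS h).mpr hfix))
      have hn : Nat.card (MulAction.orbit G x) = S.index := by
        rw [hSdef, MulAction.index_stabilizer, Nat.card_coe_set_eq]
      rw [hn]
      have hrel := Subgroup.relIndex_mul_index hZS
      rw [← hNdef] at hrel
      have hN0 : N ≠ 0 := by omega
      have hr1 : (Subgroup.center G).relIndex S ≠ 1 := by
        rw [Ne, Subgroup.relIndex_eq_one]
        exact hSZ
      have hr0 : (Subgroup.center G).relIndex S ≠ 0 := by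
        intro h
        rw [h, zero_mul] at hrel
        exact hN0 hrel.symm
      have hn0 : S.index ≠ 0 := by
        intro h
        rw [h, mul_zero] at hrel
        exact hN0 hrel.symm
      refine ⟨⟨_, by rw [← hrel, mul_comm]⟩, Nat.pos_of_ne_zero hn0, ?_, ?_⟩
      · have h2 : 2 ≤ (Subgroup.center G).relIndex S := by omega
        calc 2 * S.index ≤ (Subgroup.center G).relIndex S * S.index :=
              Nat.mul_le_mul_right _ h2
          _ = N := hrel
      · intro hle
        have hcases : S.index = 1 ∨ S.index = 2 := by omega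
        rcases hcases with h1 | h2
        · rw [Subgroup.index_eq_one] at h1
          apply hnoinv x.1 x.2.1
          intro g
          exact (hmemS g).mp (h1 ▸ Subgroup.mem_top g)
        · apply hprim S h2 x.1 x.2.1
          intro h hh
          exact (hmemS h).mp hh
  -- the equation
  have hkey : ∑ ω : MulAction.orbitRel.Quotient G (lineSet ρ), (N - Nat.card ω.orbit) =
      2 * N - 2 := by
    rw [Finset.sum_tsub_distrib _ (fun ω _ => by
      have := (horb ω).2.2.1
      omega), Finset.sum_const, Finset.card_univ, smul_eq_mul, ← hXcard]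
    rw [hsum1, hGNz] at hburn
    obtain ⟨N', rfl⟩ : ∃ N', N = N' + 1 := ⟨N - 1, by omega⟩
    have h1 : (N' + 1) * z - z = N' * z := by
      rw [Nat.add_mul, one_mul, Nat.add_sub_cancel]
    rw [h1] at hburn
    have h2 : z * (Fintype.card (lineSet ρ) + 2 * N') =
        z * (Fintype.card (MulAction.orbitRel.Quotient G (lineSet ρ)) * (N' + 1)) := by
      calc z * (Fintype.card (lineSet ρ) + 2 * N')
          = z * Fintype.card (lineSet ρ) + 2 * (N' * z) := by ring
        _ = Fintype.card (MulAction.orbitRel.Quotient G (lineSet ρ)) * ((N' + 1) * z) := hburn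
        _ = z * (Fintype.card (MulAction.orbitRel.Quotient G (lineSet ρ)) * (N' + 1)) := by ring
    have h3 := Nat.eq_of_mul_eq_mul_left hz0 h2
    omega
  rw [← hNdef]
  rw [← hNdef] at hN4
  rcases orbit_arith (fun ω : MulAction.orbitRel.Quotient G (lineSet ρ) => Nat.card ω.orbit) N hN4
    (fun ω => (horb ω).1) (fun ω => (horb ω).2.1) (fun ω => (horb ω).2.2.1) hkey with h | h
  · obtain ⟨ω, hω⟩ := h
    exact absurd hω (horb ω).2.2.2
  · exact h

end counting

section primitive

variable {G : Type u} [Group G] [Fintype G] {V : Type v} [AddCommGroup V] [Module ℂ V]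
  [FiniteDimensional ℂ V] (ρ : Representation ℂ G V)

/-- If the character of `ρ` is primitive of degree two, no subgroup of index two fixes a line. -/
theorem no_index_two_fixed_line (hV : finrank ℂ V = 2) (hχ : IsIrrCharacter G ρ.character)
    (hprim : ∀ H : Subgroup G, H ≠ ⊤ → ∀ θ : H → ℂ, IsCharacter H θ → ρ.character ≠ indFun H θ)
    (H : Subgroup G) (hH : H.index = 2) (L : Submodule ℂ V) (hL : finrank ℂ L = 1) :
    ¬ (∀ h ∈ H, lmap ρ h L = L) := by
  classical
  intro hfix
  have hHn : H.Normal := Subgroup.normal_of_index_eq_two hH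
  have : Fintype H := Fintype.ofFinite H
  have hHtop : H ≠ ⊤ := by
    intro h
    rw [h, Subgroup.index_top] at hH
    omega
  have hχc : IsCharacter G ρ.character := IsIrrCharacter.isCharacter hχ
  have hχ1 : ρ.character 1 = 2 := by
    rw [Representation.char_one, hV]
    norm_num
  have hdeg : charDegree ρ.character = 2 := by
    have h0 := Helper74.charDegree_cast hχc
    rw [hχ1] at h0
    exact_mod_cast h0
  have hres : IsCharacter H (fun h : H => ρ.character h) := Helper74.isCharacter_restrict H hχc
  have hres1' : (fun h : H => ρ.character h) 1 = 2 := by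
    show ρ.character ((1 : H) : G) = 2
    rw [Subgroup.coe_one, hχ1]
  have hres1 : (fun h : H => ρ.character h) 1 ≠ 0 := by
    rw [hres1']
    norm_num
  obtain ⟨θ, hθ⟩ := Helper81.exists_irr_constituent hres hres1
  have hdvd := Helper74.charDegree_dvd_of_constituent H hχ θ.2 hθ
  rw [hdeg] at hdvd
  have hθpos := IsIrrCharacter.charDegree_pos θ.2
  have hθle : charDegree (θ : H → ℂ) ≤ 2 := Nat.le_of_dvd (by norm_num) hdvd
  have hcases : charDegree (θ : H → ℂ) = 1 ∨ charDegree (θ : H → ℂ) = 2 := by omega
  rcases hcases with h1 | h2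
  · apply hprim H hHtop θ (Helper74.irr_isCharacter θ)
    apply IsIrrCharacter.eq_indFun_of_degree_le hχ H (Helper74.irr_isCharacter θ) hθ
    rw [hH, h1, hdeg]
  · have hθ1 : (θ : H → ℂ) 1 = 2 := by
      rw [← Helper74.charDegree_cast (Helper74.irr_isCharacter θ), h2]
      norm_num
    have heq := Helper15.eq_of_constituent_of_degree_le hres θ.2 hθ 2 2
      (by
        show ρ.character ((1 : H) : G) = ((2 : ℕ) : ℂ)
        rw [Subgroup.coe_one, hχ1]
        norm_num) (by rw [hθ1]; norm_num) le_rfl
    have hirrH : IsIrrCharacter H (Helper81.resRep ρ H).character := by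
      have h3 : (Helper81.resRep ρ H).character = fun h : H => ρ.character h := by
        funext h
        rfl
      rw [h3, heq]
      exact θ.2
    have hirr' := Helper81.isIrreducible_of_isIrrCharacter (Helper81.resRep ρ H) hirrH
    have h4 := ((isIrreducible_iff (Helper81.resRep ρ H)).mp hirr').2 L (fun h v hv => by
      have h5 : ρ (h : G) v ∈ lmap ρ (h : G) L := Submodule.mem_map_of_mem hv
      rw [hfix (h : G) h.2] at h5
      exact h5)
    rcases h4 with h | h
    · rw [h, finrank_bot] at hL
      omega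
    · rw [h, finrank_top, hV] at hL
      omega

end primitive

/-- A finite group with a faithful primitive irreducible character of degree two has centre of
index `12`, `24` or `60`. -/
theorem center_index_of_primitive_deg_two {G : Type u} [Group G] [Fintype G] (χ : IrrCharacter G)
    (hfaith : ∀ g : G, (χ : G → ℂ) g = (χ : G → ℂ) 1 → g = 1)
    (h2 : charDegree (χ : G → ℂ) = 2)
    (hprim : ∀ H : Subgroup G, H ≠ ⊤ → ∀ θ : H → ℂ, IsCharacter H θ →
      (χ : G → ℂ) ≠ indFun H θ) :
    (Subgroup.center G).index = 12 ∨ (Subgroup.center G).index = 24 ∨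
      (Subgroup.center G).index = 60 := by
  obtain ⟨n, ρ, hirr, hρ⟩ := χ.2
  have hχ : IsIrrCharacter G ρ.character := by
    rw [hρ]
    exact χ.2
  have hV : finrank ℂ (Fin n → ℂ) = 2 := by
    have h1 := Helper74.charDegree_cast (IsIrrCharacter.isCharacter χ.2)
    rw [h2, ← hρ, Representation.char_one] at h1
    exact_mod_cast h1.symm
  have hinj : ∀ g, ρ g = 1 → g = 1 := by
    intro g hg
    apply hfaith
    rw [← hρ]
    show LinearMap.trace ℂ _ (ρ g) = LinearMap.trace ℂ _ (ρ 1)
    rw [hg, map_one ρ]
  have hN4 : 4 ≤ (Subgroup.center G).index := by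
    have h3 := IsIrrCharacter.charDegree_sq_le_index_center χ.2
    rw [h2] at h3
    norm_num at h3
    exact h3
  exact center_index_of_no_small_orbit ρ hV hirr hinj
    (fun H hH L hL => no_index_two_fixed_line ρ hV hχ (by rw [hρ]; exact hprim) H hH L hL) hN4

end Cfsg.Agent.Helper80
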