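import Mathlib
import Cfsg.Agent.Helper88.AltNorm2
import Cfsg.Agent.Helper88.AltCrit2

/-!
# Elements of order `p` of the alternating group are `Alt`-conjugate into the base group

(helper80, for helper88's WANTED #4213 (P1), S5165.)
-/

set_option autoImplicit false
set_option linter.unusedSectionVars false

namespace Cfsg.Agent.Helper80

open Equiv Cfsg.Agent.Helper42 Cfsg.Agent.Helper88 Cfsg.Agent.Helper88.AltM

variable {β ρ : Type*} [Fintype β] [DecidableEq β] [Fintype ρ] [DecidableEq ρ] {p : ℕ}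
  [Fact p.Prime]

/-- the indicator function of a finite set of blocks -/
def indF (p : ℕ) (s : Finset β) : β → ZMod p := fun y => if y ∈ s then 1 else 0

theorem indF_ne_zero_iff (s : Finset β) (y : β) : indF p s y ≠ 0 ↔ y ∈ s := by
  unfold indF
  have h1 : (1 : ZMod p) ≠ 0 := by
    haveI : Nontrivial (ZMod p) := ZMod.nontrivial_iff.mpr (Fact.out : p.Prime).one_lt.ne'
    exact one_ne_zero
  by_cases hy : y ∈ s
  · simp [hy, h1]
  · simp [hy]

theorem support_T (f : β → ZMod p) :
    (T f : Perm (Pt β ρ p)).support =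
      ((Finset.univ.filter (fun y => f y ≠ 0)) ×ˢ (Finset.univ : Finset (ZMod p))).map
        ⟨Sum.inl, Sum.inl_injective⟩ := by
  ext z
  rw [Perm.mem_support, Finset.mem_map]
  rcases z with ⟨y, a⟩ | r
  · rw [T_inl]
    constructor
    · intro h
      refine ⟨(y, a), ?_, rfl⟩
      rw [Finset.mem_product]
      refine ⟨?_, Finset.mem_univ _⟩
      rw [Finset.mem_filter]
      refine ⟨Finset.mem_univ _, ?_⟩
      intro h0
      apply h
      rw [h0, add_zero]
    · rintro ⟨⟨y', a'⟩, hmem, heq⟩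
      have heq' : (y', a') = (y, a) := Sum.inl_injective heq
      obtain ⟨rfl, rfl⟩ := Prod.mk.inj heq'
      rw [Finset.mem_product, Finset.mem_filter] at hmem
      intro h
      have h2 : (y', a' + f y') = (y', a') := Sum.inl_injective h
      have h3 : a' + f y' = a' := (Prod.mk.inj h2).2
      exact hmem.1.2 (by simpa using h3)
  · rw [T_inr]
    constructor
    · intro h; exact absurd rfl h
    · rintro ⟨w, -, heq⟩
      exact absurd heq (by simp)

theorem card_support_T_indF (s : Finset β) :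
    (T (indF p s) : Perm (Pt β ρ p)).support.card = s.card * p := by
  rw [support_T, Finset.card_map, Finset.card_product, Finset.card_univ, ZMod.card]
  congr 2
  ext y
  rw [Finset.mem_filter]
  constructor
  · rintro ⟨-, h⟩
    exact (indF_ne_zero_iff s y).mp h
  · intro h
    exact ⟨Finset.mem_univ _, (indF_ne_zero_iff s y).mpr h⟩

theorem T_comm (f g : β → ZMod p) : (T f : Perm (Pt β ρ p)) * T g = T g * T f := by
  rw [← T_add, ← T_add, add_comm]

theorem indF_comp_swap (s : Finset β) {y y' : β} (h : y ∈ s ↔ y' ∈ s) :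
    indF p s ∘ (Equiv.swap y y').symm = indF p s := by
  funext w
  simp only [Function.comp_apply, Equiv.symm_swap]
  unfold indF
  by_cases h1 : w = y
  · subst h1
    rw [Equiv.swap_apply_left]
    by_cases hw : w ∈ s
    · simp [hw, h.mp hw]
    · have : y' ∉ s := fun h' => hw (h.mpr h')
      simp [hw, this]
  · by_cases h2 : w = y'
    · subst h2
      rw [Equiv.swap_apply_right]
      by_cases hw : w ∈ s
      · simp [hw, h.mpr hw]
      · have : y ∉ s := fun h' => hw (h.mp h')
        simp [hw, this]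
    · rw [Equiv.swap_apply_of_ne_of_ne h1 h2]

/-- two of three distinct blocks are both inside or both outside `s` -/
theorem exists_pair_same (hβ : 3 ≤ Fintype.card β) (s : Finset β) :
    ∃ y y' : β, y ≠ y' ∧ (y ∈ s ↔ y' ∈ s) := by
  obtain ⟨a, b, c, hab, hac, hbc⟩ := Fintype.two_lt_card_iff.mp hβ
  by_cases ha : a ∈ s <;> by_cases hb : b ∈ s <;> by_cases hc : c ∈ s
  · exact ⟨a, b, hab, by simp [ha, hb]⟩
  · exact ⟨a, b, hab, by simp [ha, hb]⟩
  · exact ⟨a, c, hac, by simp [ha, hc]⟩
  · exact ⟨b, c, hbc, by simp [hb, hc]⟩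
  · exact ⟨b, c, hbc, by simp [hb, hc]⟩
  · exact ⟨a, c, hac, by simp [ha, hc]⟩
  · exact ⟨a, b, hab, by simp [ha, hb]⟩
  · exact ⟨a, b, hab, by simp [ha, hb]⟩

/-- an odd permutation commuting with `T (indF p s)`, `s` nonempty -/
theorem exists_odd_commute (hβ : 3 ≤ Fintype.card β) (s : Finset β) (hs : s.Nonempty) :
    ∃ z : Perm (Pt β ρ p), Perm.sign z = -1 ∧ z * T (indF p s) * z⁻¹ = T (indF p s) := by
  rcases eq_or_ne p 2 with hp2 | hp2
  · subst hp2
    obtain ⟨y₀, hy₀⟩ := hs
    refine ⟨tcyc ρ 2 y₀, sign_tcyc_two y₀, ?_⟩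
    unfold tcyc
    rw [T_comm, mul_inv_cancel_right]
  · obtain ⟨y, y', hyy', hiff⟩ := exists_pair_same hβ s
    refine ⟨L (Equiv.swap y y'), ?_, ?_⟩
    · rw [sign_L_odd hp2, Perm.sign_swap hyy']
    · rw [L_T_conj, indF_comp_swap s hiff]

/-- **(P1)** -/
theorem exists_alt_conj_T [Subsingleton ρ] (hβ : 3 ≤ Fintype.card β) (x : Perm (Pt β ρ p))
    (hx : x ^ p = 1) (hxs : Perm.sign x = 1) :
    ∃ g : Perm (Pt β ρ p), Perm.sign g = 1 ∧ ∃ f : β → ZMod p, g * x * g⁻¹ = T f := by
  have hp : p.Prime := Fact.out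
  by_cases hx1 : x = 1
  · refine ⟨1, map_one _, 0, ?_⟩
    rw [hx1, T_zero]; simp
  have hord : orderOf x = p := orderOf_eq_prime hx hx1
  obtain ⟨n, hn⟩ := Perm.cycleType_prime_order (σ := x) (by rw [hord]; exact hp)
  rw [hord] at hn
  -- `n + 1 ≤ card β`
  have hsum : (n + 1) * p ≤ p * Fintype.card β + Fintype.card ρ := by
    have h1 := Perm.sum_cycleType_le x
    rw [hn, Multiset.sum_replicate, smul_eq_mul, card_Pt] at h1
    exact h1
  have hρ : Fintype.card ρ ≤ 1 := Fintype.card_le_one_iff_subsingleton.mpr inferInstance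
  have hn1 : n + 1 ≤ Fintype.card β := by
    by_contra hlt
    push Not at hlt
    have h2 : (Fintype.card β + 1) * p ≤ (n + 1) * p := Nat.mul_le_mul_right p hlt
    have h3 : 1 < p := hp.one_lt
    nlinarith
  obtain ⟨s, -, hscard⟩ := Finset.exists_subset_card_eq (s := (Finset.univ : Finset β))
    (n := n + 1) (by rw [Finset.card_univ]; exact hn1)
  have hsne : s.Nonempty := by
    rw [← Finset.card_pos, hscard]; exact Nat.succ_pos n
  -- the cycle type of `T (indF p s)`
  have hT1 : (T (indF p s) : Perm (Pt β ρ p)) ≠ 1 := by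
    intro h
    have hc := card_support_T_indF (ρ := ρ) (p := p) s
    rw [h, Perm.support_one, Finset.card_empty, hscard] at hc
    have : 0 < (n + 1) * p := Nat.mul_pos (Nat.succ_pos n) hp.pos
    omega
  have hordT : orderOf (T (indF p s) : Perm (Pt β ρ p)) = p :=
    orderOf_eq_prime (T_pow_p _) hT1
  obtain ⟨m, hm⟩ := Perm.cycleType_prime_order (σ := (T (indF p s) : Perm (Pt β ρ p)))
    (by rw [hordT]; exact hp)
  rw [hordT] at hm
  have hmn : m = n := by
    have h1 := Perm.sum_cycleType (T (indF p s) : Perm (Pt β ρ p))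
    rw [hm, Multiset.sum_replicate, smul_eq_mul, card_support_T_indF, hscard] at h1
    have := Nat.eq_of_mul_eq_mul_right hp.pos h1
    omega
  have hct : x.cycleType = (T (indF p s) : Perm (Pt β ρ p)).cycleType := by
    rw [hn, hm, hmn]
  obtain ⟨g₀, hg₀⟩ := isConj_iff.mp (Perm.isConj_iff_cycleType_eq.mpr hct)
  rcases Int.units_eq_one_or (Perm.sign g₀) with hs | hs
  · exact ⟨g₀, hs, indF p s, hg₀⟩
  · obtain ⟨z, hz, hzT⟩ := exists_odd_commute (ρ := ρ) (p := p) hβ s hsne
    refine ⟨z * g₀, ?_, indF p s, ?_⟩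
    · rw [map_mul, hz, hs]; rfl
    · rw [mul_inv_rev]
      calc z * g₀ * x * (g₀⁻¹ * z⁻¹) = z * (g₀ * x * g₀⁻¹) * z⁻¹ := by group
        _ = T (indF p s) := by rw [hg₀, hzT]

end Cfsg.Agent.Helper80
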