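import Mathlib
import Cfsg.Agent.Helper52.PQDefs
import Cfsg.Agent.Helper38.PQFA
import Cfsg.Agent.Helper25.PQL

/-!
# Piece (SR) of helper52's WANTED #5134 (for S4306): structure of `R` in the minimal tower (helper80)

`R0 := C_R(Q)` is a proper subgroup of `R` containing every proper `⟨σ, τ⟩`-invariant subgroup of
`R`; hence `R / R0` is elementary abelian, and either `σ` centralizes `R` and every `τ_i` is
fixed-point-free on `R / R0`, or `σ` is fixed-point-free on `R / R0`.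
-/

set_option autoImplicit false
set_option linter.unusedSectionVars false
set_option linter.style.haveILetI false

namespace Cfsg.Agent.Helper80.PQ

open Subgroup Cfsg.Agent.Helper1.Shult Cfsg.Agent.Helper52.PQ

variable {H : Type*} [Group H] [Finite H]

/-- in a finite group, `g` normalizes `X` as soon as conjugation by `g` maps `X` into itself. -/
theorem mem_normalizer_of_conj_mem {g : H} {X : Subgroup H} (h : ∀ x ∈ X, g * x * g⁻¹ ∈ X) :
    g ∈ normalizer (X : Set H) :=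
  Subgroup.mem_normalizer_fintype h

theorem conj_mem_of_mem_normalizer {g : H} {X : Subgroup H} (hg : g ∈ normalizer (X : Set H))
    {x : H} (hx : x ∈ X) : g * x * g⁻¹ ∈ X :=
  (mem_normalizer_iff.mp hg x).mp hx

theorem inv_conj_mem_of_mem_normalizer {g : H} {X : Subgroup H}
    (hg : g ∈ normalizer (X : Set H)) {x : H} (hx : x ∈ X) : g⁻¹ * x * g ∈ X := by
  have h := conj_mem_of_mem_normalizer (inv_mem hg) hx
  rwa [inv_inv] at h

/-- `N(X) ≤ N(C(X))`. -/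
theorem mem_normalizer_centralizer {g : H} {X : Subgroup H} (hg : g ∈ normalizer (X : Set H)) :
    g ∈ normalizer ((centralizer (X : Set H) : Subgroup H) : Set H) := by
  apply mem_normalizer_of_conj_mem
  intro x hx
  rw [mem_centralizer_iff] at hx ⊢
  intro y hy
  have h1 : g⁻¹ * y * g ∈ X := inv_conj_mem_of_mem_normalizer hg hy
  have h2 := hx _ h1
  calc y * (g * x * g⁻¹) = g * ((g⁻¹ * y * g) * x) * g⁻¹ := by group
    _ = g * (x * (g⁻¹ * y * g)) * g⁻¹ := by rw [h2]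
    _ = g * x * g⁻¹ * y := by group

theorem mem_normalizer_inf {g : H} {X Y : Subgroup H} (hX : g ∈ normalizer (X : Set H))
    (hY : g ∈ normalizer (Y : Set H)) : g ∈ normalizer ((X ⊓ Y : Subgroup H) : Set H) := by
  rw [mem_normalizer_iff] at hX hY ⊢
  intro h
  rw [mem_inf, mem_inf, ← hX h, ← hY h]

/-- `N(X) ≤ N([X, X])`. -/
theorem mem_normalizer_commutator {g : H} {X : Subgroup H} (hg : g ∈ normalizer (X : Set H)) :
    g ∈ normalizer ((⁅X, X⁆ : Subgroup H) : Set H) := by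
  apply mem_normalizer_of_conj_mem
  intro z hz
  have hle : X.map (MulAut.conj g).toMonoidHom ≤ X := by
    rintro _ ⟨x, hx, rfl⟩
    exact conj_mem_of_mem_normalizer hg hx
  have h1 : (MulAut.conj g).toMonoidHom z ∈ (⁅X, X⁆).map (MulAut.conj g).toMonoidHom :=
    mem_map_of_mem _ hz
  rw [map_commutator] at h1
  exact commutator_mono hle hle h1

/-- the derived subgroup of a nontrivial `p`-subgroup is proper. -/
theorem commutator_ne_self_of_pgroup {p : ℕ} [Fact p.Prime] {R : Subgroup H} (hR : IsPGroup p R)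
    (hne : R ≠ ⊥) : ⁅R, R⁆ ≠ R := by
  intro h
  haveI : Group.IsNilpotent R := hR.isNilpotent
  haveI : Nontrivial R := (Subgroup.nontrivial_iff_ne_bot R).2 hne
  have h1 := Group.IsSolvable.commutator_lt_top_of_nontrivial (G := R)
  have h2 : (commutator R).map R.subtype = (⊤ : Subgroup R).map R.subtype := by
    rw [Subgroup.map_subtype_commutator, h, ← MonoidHom.range_eq_map, Subgroup.range_subtype]
  have h3 := Subgroup.map_injective R.subtype_injective h2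
  exact h1.ne h3

/-- if `R / R0` is abelian, `x ↦ x ^ n` is multiplicative modulo `R0`. -/
theorem mul_pow_mem_of_comm {R R0 : Subgroup H} (hR0R : R0 ≤ R)
    (hRn : R ≤ normalizer (R0 : Set H)) (hcomm : ∀ x ∈ R, ∀ y ∈ R, x * y * x⁻¹ * y⁻¹ ∈ R0)
    (n : ℕ) {x y : H} (hx : x ∈ R) (hy : y ∈ R) (hxn : x ^ n ∈ R0) (hyn : y ^ n ∈ R0) :
    (x * y) ^ n ∈ R0 := by
  haveI hN : (R0.subgroupOf R).Normal := (Subgroup.normal_subgroupOf_iff_le_normalizer hR0R).2 hRn
  set π := QuotientGroup.mk' (R0.subgroupOf R) with hπ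
  have hπ1 : ∀ z : R, π z = 1 ↔ (z : H) ∈ R0 := by
    intro z
    rw [hπ, QuotientGroup.mk'_apply, QuotientGroup.eq_one_iff, Subgroup.mem_subgroupOf]
  have hc : Commute (π ⟨x, hx⟩) (π ⟨y, hy⟩) := by
    have h1 : π (⟨x, hx⟩ * ⟨y, hy⟩ * ⟨x, hx⟩⁻¹ * ⟨y, hy⟩⁻¹) = 1 := by
      rw [hπ1]
      exact hcomm x hx y hy
    rw [map_mul, map_mul, map_mul, map_inv, map_inv] at h1
    have h2 := mul_inv_eq_one.1 h1
    exact mul_inv_eq_iff_eq_mul.1 h2
  have h3 : π ((⟨x, hx⟩ * ⟨y, hy⟩ : R) ^ n) = 1 := by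
    rw [map_pow, map_mul, hc.mul_pow, ← map_pow, ← map_pow, (hπ1 _).2 hxn, (hπ1 _).2 hyn, mul_one]
  exact (hπ1 _).1 h3

variable {s t ℓ w u : ℕ} [Fact ℓ.Prime] [Fact w.Prime] [Fact u.Prime] {σ τ : H}
  {V Q R : Subgroup H}

/-- **(SR)** structure of `R`; `R0 = C_R(Q)`. -/
theorem struct_R (c : CoreCfg s t ℓ w u σ τ V Q R) :
    R ⊓ centralizer (Q : Set H) ≠ R ∧
    (∀ x ∈ R, ∀ y ∈ R, x * y * x⁻¹ * y⁻¹ ∈ R ⊓ centralizer (Q : Set H)) ∧
    (∀ x ∈ R, x ^ u ∈ R ⊓ centralizer (Q : Set H)) ∧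
    ((R ≤ centralizer {σ} ∧ ∀ i : ℕ, ∀ x ∈ R,
        x⁻¹ * ((σ ^ i * τ * (σ ^ i)⁻¹) * x * (σ ^ i * τ * (σ ^ i)⁻¹)⁻¹) ∈
          R ⊓ centralizer (Q : Set H) → x ∈ R ⊓ centralizer (Q : Set H)) ∨
      (∀ x ∈ R, x⁻¹ * (σ * x * σ⁻¹) ∈ R ⊓ centralizer (Q : Set H) →
        x ∈ R ⊓ centralizer (Q : Set H))) := by
  classical
  set R0 : Subgroup H := R ⊓ centralizer (Q : Set H) with hR0
  have hu : u.Prime := Fact.out
  have hR0R : R0 ≤ R := inf_le_left
  have hR0Q : R0 ≤ centralizer (Q : Set H) := inf_le_right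
  -- invariance of `R0`
  have hR0σ : σ ∈ normalizer (R0 : Set H) :=
    mem_normalizer_inf c.hRinv.1 (mem_normalizer_centralizer c.hQinv.1)
  have hR0τ : τ ∈ normalizer (R0 : Set H) :=
    mem_normalizer_inf c.hRinv.2 (mem_normalizer_centralizer c.hQinv.2)
  have hRn : R ≤ normalizer (R0 : Set H) := fun x hx =>
    mem_normalizer_inf (le_normalizer hx) (mem_normalizer_centralizer (c.hRQ hx))
  -- `R0` contains every proper invariant subgroup
  have hmin : ∀ R2 : Subgroup H, R2 ≤ R → Inv σ τ R2 → ¬ R2 ≤ R0 → R2 = R := by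
    intro R2 h1 h2 h3
    by_contra h4
    exact h3 (le_inf h1 (c.hminR R2 h1 h4 h2))
  -- part 1
  have hne : R0 ≠ R := by
    intro h
    have h1 : R ≤ centralizer (Q : Set H) := h ▸ hR0Q
    have h2 : ⁅R, Q⁆ = ⊥ := commutator_eq_bot_iff_le_centralizer.2 h1
    have h3 : Q ≤ ⊥ := by
      rw [← h2, commutator_comm]
      exact c.hQR
    exact c.hQne (le_bot_iff.1 h3)
  have hRne : R ≠ ⊥ := by
    intro h
    apply hne
    apply le_antisymm hR0R
    rw [h]
    exact bot_le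
  -- part 2
  have hcomm : ∀ x ∈ R, ∀ y ∈ R, x * y * x⁻¹ * y⁻¹ ∈ R0 := by
    have h1 : ⁅R, R⁆ ≤ R0 := by
      by_contra h2
      exact commutator_ne_self_of_pgroup c.hR hRne
        (hmin _ (Subgroup.commutator_le_self R)
          ⟨mem_normalizer_commutator c.hRinv.1, mem_normalizer_commutator c.hRinv.2⟩ h2)
    intro x hx y hy
    have h3 := Subgroup.commutator_mem_commutator hx hy
    rw [commutatorElement_def] at h3
    exact h1 h3
  -- part 3
  let Ω : Subgroup H :=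
    { carrier := {x | x ∈ R ∧ x ^ u ∈ R0}
      one_mem' := ⟨R.one_mem, by rw [one_pow]; exact R0.one_mem⟩
      mul_mem' := by
        rintro a b ⟨ha, hau⟩ ⟨hb, hbu⟩
        exact ⟨R.mul_mem ha hb, mul_pow_mem_of_comm hR0R hRn hcomm u ha hb hau hbu⟩
      inv_mem' := by
        rintro a ⟨ha, hau⟩
        exact ⟨R.inv_mem ha, by rw [inv_pow]; exact R0.inv_mem hau⟩ }
  have hΩR : Ω ≤ R := fun x hx => hx.1
  have hΩinv : ∀ g : H, g ∈ normalizer (R : Set H) → g ∈ normalizer (R0 : Set H) →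
      g ∈ normalizer (Ω : Set H) := by
    intro g hgR hgR0
    apply mem_normalizer_of_conj_mem
    rintro x ⟨hx, hxu⟩
    refine ⟨conj_mem_of_mem_normalizer hgR hx, ?_⟩
    rw [conj_pow]
    exact conj_mem_of_mem_normalizer hgR0 hxu
  have hΩ : ¬ Ω ≤ R0 := by
    intro hle
    obtain ⟨x, hxR, hxR0⟩ : ∃ x ∈ R, x ∉ R0 := by
      by_contra hcon
      apply hne
      apply le_antisymm hR0R
      intro y hy
      by_contra hy0
      exact hcon ⟨y, hy, hy0⟩
    obtain ⟨m, hm⟩ := c.hR ⟨x, hxR⟩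
    have hm' : x ^ (u ^ m) = 1 := by simpa using congrArg Subtype.val hm
    have hex : ∃ k, x ^ (u ^ k) ∈ R0 := ⟨m, by rw [hm']; exact R0.one_mem⟩
    have hk1 : x ^ (u ^ Nat.find hex) ∈ R0 := Nat.find_spec hex
    have hk0 : Nat.find hex ≠ 0 := by
      intro h0
      rw [h0, pow_zero, pow_one] at hk1
      exact hxR0 hk1
    obtain ⟨j, hj⟩ := Nat.exists_eq_succ_of_ne_zero hk0
    have hj1 : x ^ (u ^ j) ∉ R0 := Nat.find_min hex (by omega)
    apply hj1
    apply hle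
    refine ⟨R.pow_mem hxR _, ?_⟩
    rw [← pow_mul, ← pow_succ]
    rw [hj] at hk1
    exact hk1
  have hΩR' : Ω = R :=
    hmin Ω hΩR ⟨hΩinv σ c.hRinv.1 hR0σ, hΩinv τ c.hRinv.2 hR0τ⟩ hΩ
  have hpow : ∀ x ∈ R, x ^ u ∈ R0 := by
    intro x hx
    have h1 : x ∈ Ω := by rw [hΩR']; exact hx
    exact h1.2
  -- part 4
  let R2 : Subgroup H :=
    { carrier := {x | x ∈ R ∧ x⁻¹ * (σ * x * σ⁻¹) ∈ R0}
      one_mem' := ⟨R.one_mem, by
        have e : (1 : H)⁻¹ * (σ * 1 * σ⁻¹) = 1 := by group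
        rw [e]; exact R0.one_mem⟩
      mul_mem' := by
        rintro a b ⟨ha, haσ⟩ ⟨hb, hbσ⟩
        refine ⟨R.mul_mem ha hb, ?_⟩
        have h1 : b⁻¹ * (a⁻¹ * (σ * a * σ⁻¹)) * b ∈ R0 :=
          inv_conj_mem_of_mem_normalizer (hRn hb) haσ
        have e : (a * b)⁻¹ * (σ * (a * b) * σ⁻¹) =
            (b⁻¹ * (a⁻¹ * (σ * a * σ⁻¹)) * b) * (b⁻¹ * (σ * b * σ⁻¹)) := by group
        rw [e]
        exact R0.mul_mem h1 hbσ
      inv_mem' := by
        rintro a ⟨ha, haσ⟩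
        refine ⟨R.inv_mem ha, ?_⟩
        have h1 : a * (a⁻¹ * (σ * a * σ⁻¹))⁻¹ * a⁻¹ ∈ R0 :=
          conj_mem_of_mem_normalizer (hRn ha) (R0.inv_mem haσ)
        have e : a⁻¹⁻¹ * (σ * a⁻¹ * σ⁻¹) = a * (a⁻¹ * (σ * a * σ⁻¹))⁻¹ * a⁻¹ := by group
        rw [e]
        exact h1 }
  have hcs : ∀ x, x⁻¹ * (σ * x * σ⁻¹) ∈ R0 → ∀ a ∈ zpowers σ, x⁻¹ * (a * x * a⁻¹) ∈ R0 := by
    intro x hx a ha
    have h1 : zpowers σ ≤ cosetStab R0 x := by
      rw [zpowers_le]
      exact ⟨hR0σ, hx⟩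
    exact (h1 ha).2
  have hR2σ : σ ∈ normalizer (R2 : Set H) := by
    apply mem_normalizer_of_conj_mem
    rintro x ⟨hx, hxσ⟩
    refine ⟨conj_mem_of_mem_normalizer c.hRinv.1 hx, ?_⟩
    have h1 := conj_mem_of_mem_normalizer hR0σ hxσ
    have e : (σ * x * σ⁻¹)⁻¹ * (σ * (σ * x * σ⁻¹) * σ⁻¹) =
        σ * (x⁻¹ * (σ * x * σ⁻¹)) * σ⁻¹ := by group
    rw [e]
    exact h1
  have hR2τ : τ ∈ normalizer (R2 : Set H) := by
    apply mem_normalizer_of_conj_mem
    rintro x ⟨hx, hxσ⟩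
    refine ⟨conj_mem_of_mem_normalizer c.hRinv.2 hx, ?_⟩
    have ha : τ⁻¹ * σ * τ ∈ zpowers σ := by
      have h0 := Cfsg.Agent.Helper25.PQ.inv_conj_mem_zpowers c.hF
      rwa [inv_inv] at h0
    have h1 := hcs x hxσ _ ha
    have h2 := conj_mem_of_mem_normalizer hR0τ h1
    have e : (τ * x * τ⁻¹)⁻¹ * (σ * (τ * x * τ⁻¹) * σ⁻¹) =
        τ * (x⁻¹ * ((τ⁻¹ * σ * τ) * x * (τ⁻¹ * σ * τ)⁻¹)) * τ⁻¹ := by group
    rw [e]
    exact h2
  refine ⟨hne, hcomm, hpow, ?_⟩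
  by_cases hR2 : R2 ≤ R0
  · right
    intro x hx hxσ
    exact hR2 ⟨hx, hxσ⟩
  · left
    have hR2R : R2 = R := hmin R2 (fun x hx => hx.1) ⟨hR2σ, hR2τ⟩ hR2
    have hall : ∀ x ∈ R, x⁻¹ * (σ * x * σ⁻¹) ∈ R0 := by
      intro x hx
      have h1 : x ∈ R2 := by rw [hR2R]; exact hx
      exact h1.2
    haveI : Fact s.Prime := ⟨c.hF.hs⟩
    have hσpg : IsPGroup s (zpowers σ) := by
      apply IsPGroup.of_card (n := 1)
      rw [Nat.card_zpowers, c.hF.oσ, pow_one]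
    have hR0u : IsPGroup u R0 := c.hR.to_le hR0R
    have hsR0 : ¬ s ∣ Nat.card R0 := by
      obtain ⟨k, hk⟩ := IsPGroup.iff_card.1 hR0u
      rw [hk]
      intro hd
      have h1 := (Nat.prime_dvd_prime_iff_eq c.hF.hs hu).1 (c.hF.hs.dvd_of_dvd_pow hd)
      exact c.hus h1.symm
    set C : Subgroup H := R ⊓ centralizer ({σ} : Set H) with hC
    have hσσ : σ ∈ centralizer ({σ} : Set H) := mem_centralizer_singleton_iff.2 rfl
    have hCσ : σ ∈ normalizer (C : Set H) :=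
      mem_normalizer_inf c.hRinv.1 (le_normalizer hσσ)
    have hCτ : τ ∈ normalizer (C : Set H) := by
      apply mem_normalizer_inf c.hRinv.2
      apply mem_normalizer_of_conj_mem
      intro x hx
      rw [mem_centralizer_singleton_iff] at hx ⊢
      exact (Cfsg.Agent.Helper25.PQ.commute_conj_of_norm c.hF.hs c.hF.oσ c.hF.norm x hx.symm).symm
    have hCR0 : ¬ C ≤ R0 := by
      intro hle
      apply hne
      apply le_antisymm hR0R
      intro x hx
      obtain ⟨y, hy1, hy2⟩ := Cfsg.Agent.Helper75.ShultNil.exists_fixed_in_coset hσpg hsR0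
        (zpowers_le.2 hR0σ) x (hcs x (hall x hx))
      have hyR : y ∈ R := by
        have e : y = x * (x⁻¹ * y) := by group
        rw [e]
        exact R.mul_mem hx (hR0R hy1)
      have hyC : y ∈ C := by
        refine Subgroup.mem_inf.2 ⟨hyR, ?_⟩
        rw [mem_centralizer_singleton_iff]
        have h1 := hy2 σ (mem_zpowers σ)
        symm
        calc σ * y = (σ * y * σ⁻¹) * σ := by group
          _ = y * σ := by rw [h1]
      have hyR0 := hle hyC
      have e : x = y * (x⁻¹ * y)⁻¹ := by group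
      rw [e]
      exact R0.mul_mem hyR0 (R0.inv_mem hy1)
    have hCR : C = R := hmin C inf_le_left ⟨hCσ, hCτ⟩ hCR0
    have hRσ : R ≤ centralizer ({σ} : Set H) := by
      intro x hx
      have h1 : x ∈ C := by rw [hCR]; exact hx
      exact (Subgroup.mem_inf.1 h1).2
    refine ⟨hRσ, ?_⟩
    intro i x hx hxτ
    have hF' := Cfsg.Agent.Helper38.PQFA.frob_conj c.hF i
    have hInv' : Inv σ (σ ^ i * τ * (σ ^ i)⁻¹) R0 :=
      (Cfsg.Agent.Helper38.PQFA.inv_conj_iff σ τ i R0).2 ⟨hR0σ, hR0τ⟩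
    have hcop : (Nat.card R0).Coprime (s * t) := by
      obtain ⟨k, hk⟩ := IsPGroup.iff_card.1 hR0u
      rw [hk]
      apply Nat.Coprime.pow_left
      exact Nat.Coprime.mul_right ((Nat.coprime_primes hu c.hF.hs).2 c.hus)
        ((Nat.coprime_primes hu c.hF.ht).2 c.hut)
    obtain ⟨n, hn, hnσ, hnτ⟩ :=
      Cfsg.Agent.Helper25.PQ.pq_fixed_lift hF' R0 hInv' hcop x (hall x hx) hxτ
    have hfix : x * n ∈ Fix σ (σ ^ i * τ * (σ ^ i)⁻¹) R := by
      refine Subgroup.mem_inf.2 ⟨R.mul_mem hx (hR0R hn), ?_⟩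
      rw [mem_centralizer_iff]
      intro h hh
      rcases hh with rfl | hh
      · calc h * (x * n) = (h * (x * n) * h⁻¹) * h := by group
          _ = x * n * h := by rw [hnσ]
      · rw [Set.mem_singleton_iff] at hh
        subst hh
        calc (σ ^ i * τ * (σ ^ i)⁻¹) * (x * n)
            = ((σ ^ i * τ * (σ ^ i)⁻¹) * (x * n) * (σ ^ i * τ * (σ ^ i)⁻¹)⁻¹)
                * (σ ^ i * τ * (σ ^ i)⁻¹) := by group
          _ = x * n * (σ ^ i * τ * (σ ^ i)⁻¹) := by rw [hnτ]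
    rw [Cfsg.Agent.Helper38.PQFA.fix_conj_eq, c.hfixR, mem_bot] at hfix
    have e : x = n⁻¹ := eq_inv_of_mul_eq_one_left hfix
    rw [e]
    exact R0.inv_mem hn

end Cfsg.Agent.Helper80.PQ
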