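import Mathlib
import Cfsg.Agent.Helper42.DZDefs

/-!
# Piece (GG-b) of helper42's WANTED #5421 (for S4538 / S2440), by helper80

A monomial matrix `m` of `SL_n(F)` such that `psiU ψ₀ (m y m⁻¹) = psiU ψ₀ y` whenever `y` and
`m y m⁻¹` are unitriangular (`ψ₀` a nontrivial additive character) is fixed by the anti-involution
`iota` (reflection in the anti-diagonal).
-/

set_option autoImplicit false
set_option linter.unusedSectionVars false

namespace Cfsg.Agent.Helper80.DZ

open Matrix Cfsg Cfsg.Agent.Helper42.DZ

section Comb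

variable {α : Type*}

/-- discrete intermediate value property for a sequence all of whose descents are by `1`. -/
theorem exists_eq_of_unit_descents (n : ℕ) (f : ℕ → ℕ)
    (hD : ∀ j, j + 1 < n → f (j + 1) < f j → f (j + 1) + 1 = f j)
    (x y c : ℕ) (hxy : x < y) (hy : y < n) (hx : c < f x) (hyc : f y ≤ c) :
    ∃ q, x < q ∧ q ≤ y ∧ f q = c := by
  classical
  have hex : ∃ q, x < q ∧ f q ≤ c := ⟨y, hxy, hyc⟩
  obtain ⟨hq1, hq2⟩ := Nat.find_spec hex
  set q := Nat.find hex with hq
  have hqy : q ≤ y := Nat.find_min' hex ⟨hxy, hyc⟩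
  obtain ⟨r, hr⟩ : ∃ r, q = r + 1 := ⟨q - 1, by omega⟩
  have hr1 : c < f r := by
    rcases Nat.eq_or_lt_of_le (show x ≤ r by omega) with h | h
    · rw [← h]; exact hx
    · by_contra hcon
      have := Nat.find_min hex (m := r) (by omega)
      exact this ⟨h, by omega⟩
  have h1 := hD r (by omega) (by rw [← hr]; omega)
  refine ⟨q, hq1, hqy, ?_⟩
  rw [← hr] at h1
  omega

/-- a bijection of `[0, n)` all of whose descents are by `1` is a block reversal: it is an
involution, and a function `t` constant along the descents is invariant. -/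
theorem block_rev (n : ℕ) (f : ℕ → ℕ) (t : ℕ → α)
    (hf_lt : ∀ j < n, f j < n) (hf_inj : ∀ i < n, ∀ j < n, f i = f j → i = j)
    (hf_surj : ∀ v < n, ∃ j < n, f j = v)
    (hD : ∀ j, j + 1 < n → f (j + 1) < f j → f (j + 1) + 1 = f j ∧ t j = t (j + 1)) :
    ∀ j < n, f (f j) = j ∧ t (f j) = t j := by
  have hD1 : ∀ j, j + 1 < n → f (j + 1) < f j → f (j + 1) + 1 = f j := fun j h1 h2 => (hD j h1 h2).1
  -- the claim with a block boundary `k`
  have key : ∀ r k : ℕ, n - k = r → k ≤ n → (∀ j < k, f j < k) → (∀ v < k, ∃ j < k, f j = v) →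
      ∀ j, k ≤ j → j < n → f (f j) = j ∧ t (f j) = t j := by
    intro r
    induction r using Nat.strong_induction_on with
    | _ r ih =>
      intro k hr hkn hB1 hB2 j hkj hjn
      have hk : k < n := by omega
      set a := f k with ha
      have han : a < n := hf_lt k hk
      have hak : k ≤ a := by
        by_contra hcon
        obtain ⟨j', hj', hj'2⟩ := hB2 a (by omega)
        have := hf_inj j' (by omega) k hk hj'2
        omega
      -- the block `[k, a]` is reversed
      have hblock : ∀ d, ∀ d' ≤ d, k + d' ≤ a → f (k + d') + d' = a := by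
        intro d
        induction d with
        | zero =>
          intro d' hd' _
          have : d' = 0 := by omega
          subst this
          simp [ha]
        | succ d ihd =>
          intro d' hd' hd'a
          rcases Nat.eq_or_lt_of_le hd' with h | h
          · subst h
            have hx := ihd d le_rfl (by omega)
            by_cases hlt : f (k + d + 1) < f (k + d)
            · have := hD1 (k + d) (by omega) hlt
              have e : k + (d + 1) = k + d + 1 := by ring
              rw [e]
              omega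
            · exfalso
              have hne : f (k + d + 1) ≠ f (k + d) := by
                intro he
                have := hf_inj (k + d + 1) (by omega) (k + d) (by omega) he
                omega
              have hgt : f (k + d) < f (k + d + 1) := by omega
              obtain ⟨p, hpn, hp⟩ := hf_surj (a - d - 1) (by omega)
              have hpk : k ≤ p := by
                by_contra hcon
                have := hB1 p (by omega)
                omega
              have hpd : k + d + 1 < p := by
                by_contra hcon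
                rcases Nat.eq_or_lt_of_le (show p ≤ k + d + 1 by omega) with h1 | h1
                · rw [h1] at hp; omega
                · have := ihd (p - k) (by omega) (by omega)
                  have e : k + (p - k) = p := by omega
                  rw [e] at this
                  omega
              obtain ⟨q, hq1, hq2, hq3⟩ := exists_eq_of_unit_descents n f hD1 (k + d + 1) p (a - d)
                hpd hpn (by omega) (by omega)
              have := hf_inj q (by omega) (k + d) (by omega) (by omega)
              omega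
          · exact ihd d' (by omega) hd'a
      have hblock' : ∀ d, k + d ≤ a → f (k + d) + d = a := fun d hd => hblock d d le_rfl hd
      have htconst : ∀ d, k + d ≤ a → t (k + d) = t k := by
        intro d
        induction d with
        | zero => intro _; rfl
        | succ d ihd =>
          intro hd
          have h1 := hblock' d (by omega)
          have h2 := hblock' (d + 1) hd
          have e : k + (d + 1) = k + d + 1 := by ring
          rw [e] at h2 ⊢
          have := (hD (k + d) (by omega) (by omega)).2
          rw [← this]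
          exact ihd (by omega)
      by_cases hja : j ≤ a
      · -- inside the block
        obtain ⟨d, rfl⟩ : ∃ d, j = k + d := ⟨j - k, by omega⟩
        have h1 := hblock' d hja
        have hfj : f (k + d) = k + (a - k - d) := by omega
        have h2 := hblock' (a - k - d) (by omega)
        refine ⟨?_, ?_⟩
        · rw [hfj]; omega
        · rw [hfj, htconst _ (by omega), htconst _ hja]
      · -- beyond the block: recurse with the boundary `a + 1`
        have hB1' : ∀ j' < a + 1, f j' < a + 1 := by
          intro j' hj'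
          by_cases h : j' < k
          · have := hB1 j' h; omega
          · have := hblock' (j' - k) (by omega)
            have e : k + (j' - k) = j' := by omega
            rw [e] at this
            omega
        have hB2' : ∀ v < a + 1, ∃ j' < a + 1, f j' = v := by
          intro v hv
          by_cases h : v < k
          · obtain ⟨j', hj', hj'2⟩ := hB2 v h
            exact ⟨j', by omega, hj'2⟩
          · refine ⟨k + (a - v), by omega, ?_⟩
            have := hblock' (a - v) (by omega)
            omega
        exact ih (n - (a + 1)) (by omega) (a + 1) rfl (by omega) hB1' hB2' j (by omega) hjn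
  intro j hj
  exact key (n - 0) 0 rfl (Nat.zero_le n) (fun j hj => absurd hj (Nat.not_lt_zero j))
    (fun v hv => absurd hv (Nat.not_lt_zero v)) j (Nat.zero_le j) hj

end Comb

section Mat

variable {n : ℕ} {F : Type*} [Field F]

/-- the entries of a monomial matrix of determinant `1` at the positions of its permutation are
nonzero. -/
theorem mono_entry_ne_zero (m : SLn n F) (σ : Equiv.Perm (Fin n))
    (hσ : ∀ i j : Fin n, j ≠ σ i → m.1 i j = 0) (i : Fin n) : m.1 i (σ i) ≠ 0 := by
  intro h0
  have hrow : ∀ j, m.1 i j = 0 := by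
    intro j
    by_cases hj : j = σ i
    · rw [hj]; exact h0
    · exact hσ i j hj
  have hdet : m.1.det = 0 := Matrix.det_eq_zero_of_row_eq_zero i hrow
  rw [m.2] at hdet
  exact one_ne_zero hdet

/-- a monomial matrix conjugates elementary matrices to elementary matrices. -/
theorem mono_conj_xs (m : SLn n F) (σ : Equiv.Perm (Fin n))
    (hσ : ∀ i j : Fin n, j ≠ σ i → m.1 i j = 0) (i k : Fin n) (hik : i ≠ k)
    (hσik : σ i ≠ σ k) (b : F) :
    m * xs (σ i) (σ k) hσik b = xs i k hik (b * m.1 i (σ i) / m.1 k (σ k)) * m := by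
  apply Subtype.ext
  rw [Matrix.SpecialLinearGroup.coe_mul, Matrix.SpecialLinearGroup.coe_mul, xs_val, xs_val]
  ext r s
  have hck := mono_entry_ne_zero m σ hσ k
  by_cases hs : s = σ k
  · subst hs
    rw [Matrix.mul_transvection_apply_same]
    by_cases hr : r = i
    · subst hr
      rw [Matrix.transvection_mul_apply_same]
      field_simp
    · rw [Matrix.transvection_mul_apply_of_ne _ _ _ _ hr]
      rw [hσ r (σ i) (fun h => hr (σ.injective h).symm), mul_zero, add_zero]
  · rw [Matrix.mul_transvection_apply_of_ne _ _ _ _ hs]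
    by_cases hr : r = i
    · subst hr
      rw [Matrix.transvection_mul_apply_same, hσ k s hs, mul_zero, add_zero]
    · rw [Matrix.transvection_mul_apply_of_ne _ _ _ _ hr]

theorem xs_mem_US (p q : Fin n) (hpq : p < q) (hne : p ≠ q) (b : F) : xs p q hne b ∈ US n F := by
  rw [Cfsg.Agent.Helper14.AutPSL.mem_UT]
  intro i j hji
  rw [xs_val, Matrix.transvection, Matrix.add_apply, Matrix.one_apply,
    Matrix.single_apply_of_ne, add_zero]
  rintro ⟨rfl, rfl⟩
  exact absurd hpq (not_lt.2 hji)

theorem lt_of_xs_mem_US (p q : Fin n) (hne : p ≠ q) (b : F) (hb : b ≠ 0)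
    (h : xs p q hne b ∈ US n F) : p < q := by
  by_contra hcon
  rw [Cfsg.Agent.Helper14.AutPSL.mem_UT] at h
  have h1 := h p q (not_lt.1 hcon)
  rw [xs_val, Matrix.transvection, Matrix.add_apply, Matrix.one_apply, if_neg hne,
    Matrix.single_apply_same, zero_add] at h1
  exact hb h1

/-- the super-diagonal sum of an elementary matrix. -/
theorem superdiag_sum_xs (p q : Fin n) (hne : p ≠ q) (b : F) :
    (∑ i : Fin n, if h : i.val + 1 < n then (xs p q hne b).1 i ⟨i.val + 1, h⟩ else 0) =
      if q.val = p.val + 1 then b else 0 := by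
  rw [Finset.sum_eq_single p]
  · by_cases hq : q.val = p.val + 1
    · have h : p.val + 1 < n := by rw [← hq]; exact q.2
      rw [dif_pos h, if_pos hq, xs_val, Matrix.transvection, Matrix.add_apply, Matrix.one_apply,
        if_neg (by intro he; have := congrArg Fin.val he; simp at this), zero_add]
      have e : (⟨p.val + 1, h⟩ : Fin n) = q := Fin.ext hq.symm
      rw [e, Matrix.single_apply_same]
    · rw [if_neg hq]
      by_cases h : p.val + 1 < n
      · rw [dif_pos h, xs_val, Matrix.transvection, Matrix.add_apply, Matrix.one_apply,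
          if_neg (by intro he; have := congrArg Fin.val he; simp at this), zero_add,
          Matrix.single_apply_of_ne]
        rintro ⟨_, h2⟩
        apply hq
        rw [h2]
      · rw [dif_neg h]
  · intro i _ hip
    by_cases h : i.val + 1 < n
    · rw [dif_pos h, xs_val, Matrix.transvection, Matrix.add_apply, Matrix.one_apply,
        if_neg (by intro he; have := congrArg Fin.val he; simp at this), zero_add,
        Matrix.single_apply_of_ne]
      rintro ⟨h1, _⟩
      exact hip h1.symm
    · rw [dif_neg h]
  · intro h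
    exact absurd (Finset.mem_univ p) h

theorem psiU_xs_adj (ψ₀ : AddChar F ℂ) (p q : Fin n) (hne : p ≠ q) (hq : q.val = p.val + 1)
    (b : F) : psiU ψ₀ (xs p q hne b) = ψ₀ b := by
  unfold psiU
  rw [superdiag_sum_xs, if_pos hq]

theorem psiU_xs_nonadj (ψ₀ : AddChar F ℂ) (p q : Fin n) (hne : p ≠ q) (hq : q.val ≠ p.val + 1)
    (b : F) : psiU ψ₀ (xs p q hne b) = 1 := by
  unfold psiU
  rw [superdiag_sum_xs, if_neg hq, AddChar.map_zero_eq_one]

theorem addChar_ne_zero (ψ₀ : AddChar F ℂ) (x : F) : ψ₀ x ≠ 0 := by
  intro h
  have h1 : ψ₀ x * ψ₀ (-x) = 1 := by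
    rw [← AddChar.map_add_eq_mul, add_neg_cancel, AddChar.map_zero_eq_one]
  rw [h, zero_mul] at h1
  exact zero_ne_one h1

/-- **(GG-b)** a monomial matrix whose double coset supports a `(ψ, ψ)`-equivariant function is
fixed by the anti-involution. -/
theorem mono_admissible (ψ₀ : AddChar F ℂ) (hψ : ∃ a : F, ψ₀ a ≠ 1) (m : SLn n F) (hm : IsMono m)
    (hadm : ∀ y ∈ US n F, m * y * m⁻¹ ∈ US n F → psiU ψ₀ (m * y * m⁻¹) = psiU ψ₀ y) :
    iota m = m := by
  classical
  obtain ⟨σ, hσ⟩ := hm
  obtain ⟨a0, ha0⟩ := hψ
  set c : Fin n → F := fun i => m.1 i (σ i) with hc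
  have hc0 : ∀ i, c i ≠ 0 := mono_entry_ne_zero m σ hσ
  -- the local property at adjacent columns
  have hP : ∀ i k : Fin n, i < k → (σ k).val = (σ i).val + 1 → k.val = i.val + 1 ∧ c i = c k := by
    intro i k hik hadj
    have hne : i ≠ k := ne_of_lt hik
    have hσne : σ i ≠ σ k := fun h => hne (σ.injective h)
    have hσlt : σ i < σ k := by rw [Fin.lt_def]; omega
    have hconj : ∀ b : F, m * xs (σ i) (σ k) hσne b * m⁻¹ = xs i k hne (b * c i / c k) := by
      intro b
      rw [mul_inv_eq_iff_eq_mul]
      exact mono_conj_xs m σ hσ i k hne hσne b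
    have hkey : ∀ b : F, psiU ψ₀ (xs i k hne (b * c i / c k)) = ψ₀ b := by
      intro b
      have h1 := hadm (xs (σ i) (σ k) hσne b) (xs_mem_US _ _ hσlt _ b)
        (by rw [hconj]; exact xs_mem_US _ _ hik _ _)
      rw [hconj, psiU_xs_adj ψ₀ _ _ _ hadj] at h1
      exact h1
    have hadj' : k.val = i.val + 1 := by
      by_contra hcon
      have h2 := hkey a0
      rw [psiU_xs_nonadj ψ₀ _ _ _ hcon] at h2
      exact ha0 h2.symm
    refine ⟨hadj', ?_⟩
    by_contra hcne
    have hr : c i / c k - 1 ≠ 0 := by
      intro h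
      apply hcne
      have h3 : c i / c k = 1 := sub_eq_zero.1 h
      rwa [div_eq_one_iff_eq (hc0 k)] at h3
    have h2 := hkey (a0 / (c i / c k - 1))
    rw [psiU_xs_adj ψ₀ _ _ _ hadj'] at h2
    have e : a0 / (c i / c k - 1) * c i / c k = a0 / (c i / c k - 1) + a0 := by
      have hck := hc0 k
      field_simp
      ring
    rw [e, AddChar.map_add_eq_mul] at h2
    have hb0 := addChar_ne_zero ψ₀ (a0 / (c i / c k - 1))
    exact ha0 (mul_left_cancel₀ hb0 (by rw [h2, mul_one]))
  -- the combinatorial lemma
  set w : Equiv.Perm (Fin n) := σ.symm with hw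
  let f : ℕ → ℕ := fun j => if h : j < n then n - 1 - (w ⟨j, h⟩).val else j
  let t : ℕ → F := fun j => if h : j < n then c (w ⟨j, h⟩) else 0
  have hfj : ∀ j (h : j < n), f j = n - 1 - (w ⟨j, h⟩).val := fun j h => dif_pos h
  have htj : ∀ j (h : j < n), t j = c (w ⟨j, h⟩) := fun j h => dif_pos h
  have hcomb := block_rev n f t
    (by
      intro j hj
      rw [hfj j hj]
      omega)
    (by
      intro i hi j hj hij
      rw [hfj i hi, hfj j hj] at hij
      have h1 := (w ⟨i, hi⟩).2
      have h2 := (w ⟨j, hj⟩).2
      have h3 : (w ⟨i, hi⟩) = (w ⟨j, hj⟩) := Fin.ext (by omega)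
      have h4 := w.injective h3
      exact congrArg Fin.val h4)
    (by
      intro v hv
      refine ⟨(σ ⟨n - 1 - v, by omega⟩).val, (σ ⟨n - 1 - v, by omega⟩).2, ?_⟩
      rw [hfj _ (σ ⟨n - 1 - v, by omega⟩).2]
      have : w ⟨(σ ⟨n - 1 - v, by omega⟩).val, (σ ⟨n - 1 - v, by omega⟩).2⟩ = ⟨n - 1 - v, by omega⟩ := by
        rw [hw]
        exact σ.symm_apply_apply _
      rw [this]
      show n - 1 - (n - 1 - v) = v
      omega)
    (by
      intro j hj hlt
      have hj0 : j < n := by omega
      rw [hfj j hj0, hfj (j + 1) hj] at hlt ⊢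
      rw [htj j hj0, htj (j + 1) hj]
      have h1 := (w ⟨j, hj0⟩).2
      have h2 := (w ⟨j + 1, hj⟩).2
      have hik : w ⟨j, hj0⟩ < w ⟨j + 1, hj⟩ := by rw [Fin.lt_def]; omega
      have hs1 : σ (w ⟨j, hj0⟩) = ⟨j, hj0⟩ := by rw [hw]; exact σ.apply_symm_apply _
      have hs2 : σ (w ⟨j + 1, hj⟩) = ⟨j + 1, hj⟩ := by rw [hw]; exact σ.apply_symm_apply _
      obtain ⟨h3, h4⟩ := hP _ _ hik (by rw [hs1, hs2])
      exact ⟨by omega, h4⟩)
  have hwrev : ∀ j : Fin n, w (Fin.rev (w j)) = Fin.rev j ∧ c (w (Fin.rev (w j))) = c (w j) := by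
    intro j
    obtain ⟨h1, h2⟩ := hcomb j.val j.2
    have hfjv : f j.val = (Fin.rev (w j)).val := by
      rw [hfj j.val j.2, Fin.val_rev]
      have hje : (⟨j.val, j.2⟩ : Fin n) = j := Fin.eta j j.2
      rw [hje]
      have := (w j).2
      omega
    have hlt : f j.val < n := by rw [hfjv]; exact (Fin.rev (w j)).2
    have e1 : (⟨f j.val, hlt⟩ : Fin n) = Fin.rev (w j) := Fin.ext hfjv
    rw [hfj (f j.val) hlt, e1] at h1
    rw [htj (f j.val) hlt, htj j.val j.2, e1] at h2
    refine ⟨?_, h2⟩
    apply Fin.ext
    rw [Fin.val_rev]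
    have := (w (Fin.rev (w j))).2
    have := j.2
    omega
  -- conclusion
  apply Subtype.ext
  ext i j
  rw [iota_apply]
  by_cases hj : j = σ i
  · subst hj
    have hwj : w (σ i) = i := by rw [hw]; exact σ.symm_apply_apply i
    obtain ⟨h1, h2⟩ := hwrev (σ i)
    rw [hwj] at h1 h2
    have h3 : σ (Fin.rev (σ i)) = Fin.rev i := by
      rw [← h1, hw]
      exact σ.apply_symm_apply _
    rw [h1] at h2
    show m.1 (Fin.rev (σ i)) (Fin.rev i) = m.1 i (σ i)
    rw [← h3]
    exact h2
  · rw [hσ i j hj]
    apply hσ
    intro h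
    apply hj
    have h1 : w (Fin.rev i) = Fin.rev j := by rw [h, hw]; exact σ.symm_apply_apply _
    obtain ⟨h2, _⟩ := hwrev (Fin.rev i)
    rw [h1, Fin.rev_rev, Fin.rev_rev] at h2
    rw [← h2, hw]
    exact (σ.apply_symm_apply j).symm

end Mat

end Cfsg.Agent.Helper80.DZ
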