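import Cfsg.Agent.Helper43.Cov2.P7Defs

/-!
# S2500 part 7, piece (TM): the tensor model `(F³ ⊗ F², T' ⊗ ω, P ⊗ g₀)` normalises a
self-adjoint cubic field (Artin–Schreier generator `ℓ` with `g ℓ = (ℓ + 1) g`).
-/

set_option autoImplicit false
set_option linter.unusedVariables false
set_option linter.unusedSectionVars false
set_option linter.style.haveILetI false
set_option linter.unusedSimpArgs false

namespace Cfsg.Agent.Helper80.Cov2.P7

open Matrix Polynomial Cfsg.Agent.Helper43.Cov2.P7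

variable {F : Type*} [Field F]

/-! ### the 3 × 3 matrices -/

/-- `Λ = diag(0,-1,1) + circ(0,c₁,c₂)` -/
def tmLam (c₁ c₂ : F) : Matrix (Fin 3) (Fin 3) F := !![0, c₁, c₂; c₂, -1, c₁; c₁, c₂, 1]

/-- the cyclic shift `P e_i = e_(i+1)` -/
def tmP : Matrix (Fin 3) (Fin 3) F := !![0, 0, 1; 1, 0, 0; 0, 1, 0]

/-- `T' = circ(t₀,t₁,t₁)` -/
def tmT (t₀ t₁ : F) : Matrix (Fin 3) (Fin 3) F := !![t₀, t₁, t₁; t₁, t₀, t₁; t₁, t₁, t₀]

theorem tmT_apply (t₀ t₁ : F) (i j : Fin 3) : tmT t₀ t₁ i j = if i = j then t₀ else t₁ := by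
  fin_cases i <;> fin_cases j <;> simp [tmT]

theorem tmP_apply (i j : Fin 3) :
    (tmP : Matrix (Fin 3) (Fin 3) F) i j = if i = j + 1 then 1 else 0 := by
  fin_cases i <;> fin_cases j <;> simp [tmP]

theorem tmLam_cubic (h3 : (3 : F) = 0) (c₁ c₂ : F) :
    tmLam c₁ c₂ ^ 3 - tmLam c₁ c₂ - (c₁ ^ 3 + c₂ ^ 3) • (1 : Matrix (Fin 3) (Fin 3) F) = 0 := by
  have key : tmLam c₁ c₂ * tmLam c₁ c₂ * tmLam c₁ c₂ - tmLam c₁ c₂
      - (c₁ ^ 3 + c₂ ^ 3) • (1 : Matrix (Fin 3) (Fin 3) F) = (3 * (c₁ * c₂)) • tmLam c₁ c₂ := by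
    ext i j
    fin_cases i <;> fin_cases j <;>
      simp [tmLam, Matrix.mul_apply, Fin.sum_univ_three] <;> ring1
  rw [pow_succ, pow_two, key, h3, zero_mul, zero_smul]

theorem tmP_mul_tmLam (h3 : (3 : F) = 0) (c₁ c₂ : F) :
    tmP * tmLam c₁ c₂ = (tmLam c₁ c₂ + 1) * tmP := by
  have h2 : (1 : F) + 1 = -1 := by linear_combination h3
  ext i j
  fin_cases i <;> fin_cases j <;>
    simp [tmLam, tmP, Matrix.mul_apply, Fin.sum_univ_three, h2]

theorem tmT_mul_tmLam_symm (h3 : (3 : F) = 0) (t₀ t₁ c₁ c₂ : F)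
    (h : (t₀ - t₁) * (c₁ - c₂) = t₁) :
    (tmLam c₁ c₂)ᵀ * tmT t₀ t₁ = tmT t₀ t₁ * tmLam c₁ c₂ := by
  ext i j
  fin_cases i <;> fin_cases j <;>
    simp [tmLam, tmT, Matrix.mul_apply, Fin.sum_univ_three] <;>
    first
      | ring1
      | linear_combination h
      | linear_combination -h
      | linear_combination h + t₁ * h3
      | linear_combination -h - t₁ * h3

/-! ### finite field input -/

theorem tm_char_three [Fintype F] (a : ℕ) (ha : 1 ≤ a) (hF : Fintype.card F = 3 ^ a) :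
    CharP F 3 := by
  obtain ⟨p, hp⟩ := CharP.exists F
  haveI := hp
  haveI : Fact p.Prime := ⟨CharP.char_is_prime F p⟩
  have h1 : p ∣ Fintype.card F := by
    have : ((Fintype.card F : ℕ) : F) = 0 := Nat.cast_card_eq_zero F
    exact (CharP.cast_eq_zero_iff F p _).1 this
  rw [hF] at h1
  have h2 : p ∣ 3 := (Fact.out : p.Prime).dvd_of_dvd_pow h1
  have h3 : p = 3 := (Nat.prime_dvd_prime_iff_eq Fact.out Nat.prime_three).1 h2
  exact h3 ▸ hp

/-- the Artin–Schreier map `b ↦ b³ - b` is not onto. -/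
theorem tm_exists_not_AS [Finite F] (h3 : (3 : F) = 0) : ∃ w : F, ∀ b : F, b ^ 3 - b ≠ w := by
  by_contra hcon
  push Not at hcon
  have hsurj : Function.Surjective (fun b : F => b ^ 3 - b) := hcon
  have hinj := Finite.injective_iff_surjective.2 hsurj
  have : (0 : F) = 1 := hinj (by simp)
  exact zero_ne_one this

/-- `X³ - X - a'` is irreducible when `a'` is not of the form `b³ - b`. -/
theorem tm_irreducible (a' : F) (ha' : ∀ b : F, b ^ 3 - b ≠ a') :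
    Irreducible (X ^ 3 - X - C a' : F[X]) := by
  have hdeg : (X ^ 3 - X - C a' : F[X]).natDegree = 3 := by compute_degree!
  have hmonic : (X ^ 3 - X - C a' : F[X]).Monic := by
    rw [Polynomial.Monic, Polynomial.leadingCoeff, hdeg]
    simp [coeff_X, coeff_C]
  rw [Polynomial.Monic.irreducible_iff_roots_eq_zero_of_degree_le_three hmonic
    (by rw [hdeg]; norm_num) (by rw [hdeg])]
  rw [Multiset.eq_zero_iff_forall_notMem]
  intro b hb
  have := (Polynomial.mem_roots hmonic.ne_zero).1 hb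
  simp only [IsRoot.def, eval_sub, eval_pow, eval_X, eval_C] at this
  exact ha' b (sub_eq_zero.1 this)

/-! ### the 6 × 6 block matrices -/

/-- `Λ ⊗ 1` -/
def tmL (A : Matrix (Fin 3) (Fin 3) F) : M6 F := Matrix.fromBlocks A 0 0 A

/-- `P ⊗ g₀` -/
def tmMg (g₀ : Matrix (Fin 2) (Fin 2) F) : M6 F :=
  Matrix.fromBlocks (g₀ 0 0 • tmP) (g₀ 0 1 • tmP) (g₀ 1 0 • tmP) (g₀ 1 1 • tmP)

/-- `T' ⊗ ω` -/
def tmG (t₀ t₁ : F) : M6 F := Matrix.fromBlocks 0 (tmT t₀ t₁) (-(tmT t₀ t₁)) 0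

theorem tmL_mul (A B : Matrix (Fin 3) (Fin 3) F) : tmL A * tmL B = tmL (A * B) := by
  simp [tmL, Matrix.fromBlocks_multiply]

theorem tmL_one : tmL (1 : Matrix (Fin 3) (Fin 3) F) = 1 := by
  simp [tmL, Matrix.fromBlocks_one]

theorem tmL_add (A B : Matrix (Fin 3) (Fin 3) F) : tmL (A + B) = tmL A + tmL B := by
  simp [tmL, Matrix.fromBlocks_add]

theorem tmL_sub (A B : Matrix (Fin 3) (Fin 3) F) : tmL (A - B) = tmL A - tmL B := by
  rw [eq_sub_iff_add_eq, ← tmL_add, sub_add_cancel]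

theorem tmL_smul (c : F) (A : Matrix (Fin 3) (Fin 3) F) : tmL (c • A) = c • tmL A := by
  simp [tmL, Matrix.fromBlocks_smul]

theorem tmL_zero : tmL (0 : Matrix (Fin 3) (Fin 3) F) = 0 := by
  simp [tmL]

theorem tmL_cubic (h3 : (3 : F) = 0) (c₁ c₂ : F) :
    tmL (tmLam c₁ c₂) ^ 3 - tmL (tmLam c₁ c₂) - (c₁ ^ 3 + c₂ ^ 3) • (1 : M6 F) = 0 := by
  have := congrArg tmL (tmLam_cubic h3 c₁ c₂)
  rw [tmL_zero, tmL_sub, tmL_sub, tmL_smul, tmL_one, pow_succ, pow_two, ← tmL_mul, ← tmL_mul] at this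
  rw [pow_succ, pow_two]
  exact this

theorem tmMg_mul_tmL (h3 : (3 : F) = 0) (g₀ : Matrix (Fin 2) (Fin 2) F) (c₁ c₂ : F) :
    tmMg g₀ * tmL (tmLam c₁ c₂) = (tmL (tmLam c₁ c₂) + 1) * tmMg g₀ := by
  have h := tmP_mul_tmLam h3 c₁ c₂
  rw [← tmL_one, ← tmL_add]
  simp only [tmMg, tmL, Matrix.fromBlocks_multiply, Matrix.mul_zero, Matrix.zero_mul, add_zero,
    zero_add, Matrix.smul_mul, Matrix.mul_smul, h, smul_zero]

theorem tmL_transpose_mul_tmG (h3 : (3 : F) = 0) (t₀ t₁ c₁ c₂ : F)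
    (h : (t₀ - t₁) * (c₁ - c₂) = t₁) :
    (tmL (tmLam c₁ c₂))ᵀ * tmG t₀ t₁ = tmG t₀ t₁ * tmL (tmLam c₁ c₂) := by
  have hs := tmT_mul_tmLam_symm h3 t₀ t₁ c₁ c₂ h
  simp only [tmG, tmL, Matrix.fromBlocks_transpose, Matrix.transpose_zero,
    Matrix.fromBlocks_multiply, Matrix.mul_zero, Matrix.zero_mul, add_zero,
    zero_add, Matrix.mul_neg, Matrix.neg_mul, hs, neg_zero]

/-! ### the basis matrix -/

/-- the basis reindexed by `Fin 3 ⊕ Fin 3` -/
def tmY' (y : Fin 3 × Fin 2 → V6 F) : Fin 3 ⊕ Fin 3 → V6 F :=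
  Sum.elim (fun i => y (i, 0)) (fun i => y (i, 1))

/-- the matrix with columns `y'` -/
def tmY (y : Fin 3 × Fin 2 → V6 F) : M6 F := Matrix.of fun r c => tmY' y c r

theorem tmY_col (y : Fin 3 × Fin 2 → V6 F) (c : Fin 3 ⊕ Fin 3) : (tmY y).col c = tmY' y c := rfl

theorem tmY_isUnit (y : Fin 3 × Fin 2 → V6 F) (hy : LinearIndependent F y) : IsUnit (tmY y) := by
  rw [← Matrix.linearIndependent_cols_iff_isUnit]
  have he : Function.Injective
      (Sum.elim (fun i : Fin 3 => (i, (0 : Fin 2))) (fun i : Fin 3 => (i, (1 : Fin 2)))) := by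
    intro a b hab
    rcases a with a | a <;> rcases b with b | b <;> simp at hab <;> simp [hab]
  have := hy.comp _ he
  convert this using 1
  ext c r
  rcases c with c | c <;> rfl

/-- the Gram matrix -/
theorem tmY_gram (y : Fin 3 × Fin 2 → V6 F) (t₀ t₁ : F)
    (h00 : ∀ i j, Cfsg.sympForm 3 F (y (i, 0)) (y (j, 0)) = 0)
    (h11 : ∀ i j, Cfsg.sympForm 3 F (y (i, 1)) (y (j, 1)) = 0)
    (h01 : ∀ i j, Cfsg.sympForm 3 F (y (i, 0)) (y (j, 1)) = if i = j then t₀ else t₁) :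
    (tmY y)ᵀ * Matrix.J (Fin 3) F * tmY y = tmG t₀ t₁ := by
  have key : ∀ c d, ((tmY y)ᵀ * Matrix.J (Fin 3) F * tmY y) c d
      = Cfsg.sympForm 3 F (tmY' y c) (tmY' y d) := by
    intro c d
    rw [Cfsg.Agent.Helper13.sympForm_def, Matrix.mul_assoc, Matrix.mul_apply, dotProduct]
    refine Finset.sum_congr rfl fun r _ => ?_
    rfl
  ext c d
  rw [key]
  rcases c with i | i <;> rcases d with j | j
  · simp [tmY', tmG, h00]
  · simp only [tmY', tmG, Sum.elim_inl, Sum.elim_inr, h01, Matrix.fromBlocks_apply₁₂, tmT_apply]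
  · rw [Cfsg.Agent.Helper13.sympForm_swap]
    simp only [tmY', tmG, Sum.elim_inl, Sum.elim_inr, h01, Matrix.fromBlocks_apply₂₁,
      Matrix.neg_apply, tmT_apply]
    by_cases hij : i = j
    · subst hij; simp
    · have : ¬ j = i := fun h => hij h.symm
      simp [hij, this]
  · simp [tmY', tmG, h11]

/-- the matrix of `g` in the basis -/
theorem tmY_g (g : M6 F) (y : Fin 3 × Fin 2 → V6 F) (g₀ : Matrix (Fin 2) (Fin 2) F)
    (hg : ∀ i b, g *ᵥ y (i, b) = ∑ c, g₀ c b • y (i + 1, c)) :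
    g * tmY y = tmY y * tmMg g₀ := by
  have hl : ∀ r c, (g * tmY y) r c = (g *ᵥ tmY' y c) r := fun r c => rfl
  ext r c
  rw [hl, Matrix.mul_apply, Fintype.sum_sum_type]
  rcases c with i | i
  · simp only [tmY', Sum.elim_inl, hg, Fin.sum_univ_two, tmMg, Matrix.fromBlocks_apply₁₁,
      Matrix.fromBlocks_apply₂₁, Matrix.smul_apply, tmP_apply, tmY, Matrix.of_apply, Sum.elim_inr,
      Pi.add_apply, Pi.smul_apply, smul_eq_mul, mul_ite, mul_one, mul_zero, Finset.sum_ite_eq',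
      Finset.mem_univ, if_true]
    ring
  · simp only [tmY', Sum.elim_inl, hg, Fin.sum_univ_two, tmMg, Matrix.fromBlocks_apply₁₂,
      Matrix.fromBlocks_apply₂₂, Matrix.smul_apply, tmP_apply, tmY, Matrix.of_apply, Sum.elim_inr,
      Pi.add_apply, Pi.smul_apply, smul_eq_mul, mul_ite, mul_one, mul_zero, Finset.sum_ite_eq',
      Finset.mem_univ, if_true]
    ring

/-! ### self-adjointness and normalisation for polynomials in `ℓ` -/

theorem tm_selfadj_pow {ℓ : M6 F} (h : ℓᵀ * Matrix.J (Fin 3) F = Matrix.J (Fin 3) F * ℓ) (n : ℕ) :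
    (ℓ ^ n)ᵀ * Matrix.J (Fin 3) F = Matrix.J (Fin 3) F * ℓ ^ n := by
  induction n with
  | zero => simp
  | succ n ih =>
    rw [pow_succ, Matrix.transpose_mul, Matrix.mul_assoc, ih, ← Matrix.mul_assoc, h,
      Matrix.mul_assoc, ← pow_succ', pow_succ]

theorem tm_selfadj_aeval {ℓ : M6 F} (h : ℓᵀ * Matrix.J (Fin 3) F = Matrix.J (Fin 3) F * ℓ)
    (p : F[X]) :
    (aeval ℓ p)ᵀ * Matrix.J (Fin 3) F = Matrix.J (Fin 3) F * aeval ℓ p := by
  induction p using Polynomial.induction_on' with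
  | add p q hp hq =>
    rw [map_add, Matrix.transpose_add, Matrix.add_mul, Matrix.mul_add, hp, hq]
  | monomial n c =>
    rw [Polynomial.aeval_monomial, Algebra.algebraMap_eq_smul_one, smul_mul_assoc, one_mul,
      Matrix.transpose_smul, Matrix.smul_mul, Matrix.mul_smul, tm_selfadj_pow h]

theorem tm_selfadj_form {k : M6 F} (h : kᵀ * Matrix.J (Fin 3) F = Matrix.J (Fin 3) F * k)
    (u v : V6 F) : Cfsg.sympForm 3 F (k *ᵥ u) v = Cfsg.sympForm 3 F u (k *ᵥ v) := by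
  rw [Cfsg.Agent.Helper13.sympForm_def, Cfsg.Agent.Helper13.sympForm_def, Matrix.mulVec_mulVec,
    ← h, ← Matrix.mulVec_mulVec, Matrix.dotProduct_mulVec u, Matrix.vecMul_transpose]

theorem tm_norm_pow {g ℓ : M6 F} (h : g * ℓ = (ℓ + 1) * g) (n : ℕ) :
    g * ℓ ^ n = (ℓ + 1) ^ n * g := by
  induction n with
  | zero => simp
  | succ n ih =>
    rw [pow_succ, ← Matrix.mul_assoc, ih, Matrix.mul_assoc, h, ← Matrix.mul_assoc, ← pow_succ]

theorem tm_norm_aeval {g ℓ : M6 F} (h : g * ℓ = (ℓ + 1) * g) (p : F[X]) :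
    g * aeval ℓ p = aeval (ℓ + 1) p * g := by
  induction p using Polynomial.induction_on' with
  | add p q hp hq =>
    rw [map_add, map_add, Matrix.mul_add, Matrix.add_mul, hp, hq]
  | monomial n c =>
    rw [Polynomial.aeval_monomial, Polynomial.aeval_monomial, Algebra.algebraMap_eq_smul_one,
      smul_mul_assoc, one_mul, smul_mul_assoc, one_mul, Matrix.mul_smul, Matrix.smul_mul,
      tm_norm_pow h]

/-! ### the cubic field generated by a root of `X³ - X - a'` -/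

theorem tm_field (ℓ : M6 F) (a' : F) (ha' : ∀ b : F, b ^ 3 - b ≠ a')
    (hroot : ℓ ^ 3 - ℓ - a' • (1 : M6 F) = 0) :
    ∃ K : Subalgebra F (M6 F), Cfsg.Geo.IsFieldSubalgebra 3 K ∧
      (∀ k, k ∈ K ↔ ∃ p : F[X], k = aeval ℓ p) := by
  classical
  have hirr := tm_irreducible a' ha'
  haveI : Fact (Irreducible (X ^ 3 - X - C a' : F[X])) := ⟨hirr⟩
  have hdeg : (X ^ 3 - X - C a' : F[X]).natDegree = 3 := by compute_degree!
  have hne : (X ^ 3 - X - C a' : F[X]) ≠ 0 := hirr.ne_zero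
  have hev : aeval ℓ (X ^ 3 - X - C a' : F[X]) = 0 := by
    rw [map_sub, map_sub, map_pow, aeval_X, aeval_C, Algebra.algebraMap_eq_smul_one]
    exact hroot
  have hI : ∀ p : F[X], p ∈ Ideal.span {(X ^ 3 - X - C a' : F[X])} →
      (aeval ℓ : F[X] →ₐ[F] M6 F) p = 0 := by
    intro p hp
    obtain ⟨b, rfl⟩ := Ideal.mem_span_singleton.1 hp
    rw [map_mul, hev, zero_mul]
  let φ : AdjoinRoot (X ^ 3 - X - C a' : F[X]) →ₐ[F] M6 F :=
    Ideal.Quotient.liftₐ (Ideal.span {(X ^ 3 - X - C a' : F[X])}) (aeval ℓ) hI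
  have hφ : ∀ p : F[X], φ (AdjoinRoot.mk _ p) = aeval ℓ p := fun p => rfl
  have hinj : Function.Injective φ := (φ : AdjoinRoot (X ^ 3 - X - C a' : F[X]) →+* M6 F).injective
  refine ⟨φ.range, ⟨?_, ?_, ?_⟩, ?_⟩
  · rintro x ⟨x, rfl⟩ y ⟨y, rfl⟩
    rw [← map_mul, ← map_mul, mul_comm]
  · rintro x ⟨x, rfl⟩ hx
    have hx0 : x ≠ 0 := by
      rintro rfl
      exact hx (map_zero φ)
    refine ⟨φ x⁻¹, ⟨x⁻¹, rfl⟩, ?_⟩
    change φ x * φ x⁻¹ = 1
    rw [← map_mul, mul_inv_cancel₀ hx0, map_one]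
  · have e := AlgEquiv.ofInjective φ hinj
    rw [← e.toLinearEquiv.finrank_eq, (AdjoinRoot.powerBasis hne).finrank,
      AdjoinRoot.powerBasis_dim, hdeg]
  · intro k
    constructor
    · rintro ⟨x, rfl⟩
      obtain ⟨p, rfl⟩ := AdjoinRoot.mk_surjective x
      exact ⟨p, hφ p⟩
    · rintro ⟨p, rfl⟩
      exact ⟨AdjoinRoot.mk _ p, hφ p⟩

/-! ### the main theorem -/

/-- (TM) the tensor model `(F³ ⊗ F², T' ⊗ ω, P ⊗ g₀)` normalises a cubic field. -/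
theorem normCubic_of_model [Fintype F] (a : ℕ) (ha : 1 ≤ a) (hF : Fintype.card F = 3 ^ a)
    (g : M6 F) (y : Fin 3 × Fin 2 → V6 F) (hy : LinearIndependent F y) (t₀ t₁ : F)
    (g₀ : Matrix (Fin 2) (Fin 2) F)
    (h00 : ∀ i j, Cfsg.sympForm 3 F (y (i, 0)) (y (j, 0)) = 0)
    (h11 : ∀ i j, Cfsg.sympForm 3 F (y (i, 1)) (y (j, 1)) = 0)
    (h01 : ∀ i j, Cfsg.sympForm 3 F (y (i, 0)) (y (j, 1)) = if i = j then t₀ else t₁)
    (hg : ∀ i b, g *ᵥ y (i, b) = ∑ c, g₀ c b • y (i + 1, c)) : NormCubic g := by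
  classical
  haveI := tm_char_three a ha hF
  have h3 : (3 : F) = 0 := by
    have := CharP.cast_eq_zero F 3
    exact_mod_cast this
  -- the basis matrix
  have hYu := tmY_isUnit y hy
  have hdet : IsUnit (tmY y).det := (Matrix.isUnit_iff_isUnit_det _).1 hYu
  have hY1 : tmY y * (tmY y)⁻¹ = 1 := Matrix.mul_nonsing_inv _ hdet
  have hY2 : (tmY y)⁻¹ * tmY y = 1 := Matrix.nonsing_inv_mul _ hdet
  have hG := tmY_gram y t₀ t₁ h00 h11 h01
  have hgY := tmY_g g y g₀ hg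
  -- `t₀ ≠ t₁`
  have ht : t₀ - t₁ ≠ 0 := by
    intro h
    have h' : t₀ = t₁ := sub_eq_zero.1 h
    have hJ : IsUnit (Matrix.J (Fin 3) F).det := by
      have := Matrix.isUnit_det_J (l := Fin 3) (R := F)
      exact this
    have hGd : IsUnit (tmG t₀ t₁).det := by
      rw [← hG, Matrix.det_mul, Matrix.det_mul, Matrix.det_transpose]
      exact (hdet.mul hJ).mul hdet
    have hz : (Pi.single (Sum.inl 0) 1 - Pi.single (Sum.inl 1) 1 : Fin 3 ⊕ Fin 3 → F)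
        ᵥ* tmG t₀ t₁ = 0 := by
      rw [Matrix.sub_vecMul, Matrix.single_one_vecMul, Matrix.single_one_vecMul]
      ext d
      rcases d with j | j
      · simp [tmG, Matrix.row]
      · simp [tmG, Matrix.row, tmT_apply, h']
    have := Matrix.eq_zero_of_vecMul_eq_zero hGd.ne_zero hz
    have h0 := congrFun this (Sum.inl 0)
    simp at h0
  -- the parameters
  obtain ⟨w, hw⟩ := tm_exists_not_AS (F := F) h3
  set r : F := t₁ / (t₀ - t₁) with hr
  -- `c₁ + c₂ = w`, `c₁ - c₂ = r`; `1/2 = -1`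
  set c₁ : F := -(w + r) with hc₁
  set c₂ : F := r - w with hc₂
  have hcc : (t₀ - t₁) * (c₁ - c₂) = t₁ := by
    have : c₁ - c₂ = r - 3 * r := by rw [hc₁, hc₂]; ring
    rw [this, h3, zero_mul, sub_zero, hr, mul_div_cancel₀ _ ht]
  have hsum : c₁ + c₂ = w - 3 * w := by rw [hc₁, hc₂]; ring
  have hsum' : c₁ + c₂ = w := by rw [hsum, h3, zero_mul, sub_zero]
  set a' : F := c₁ ^ 3 + c₂ ^ 3 with ha'
  have ha'w : a' = w ^ 3 := by
    have : c₁ ^ 3 + c₂ ^ 3 = (c₁ + c₂) ^ 3 - 3 * (c₁ * c₂ * (c₁ + c₂)) := by ring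
    rw [ha', this, h3, zero_mul, sub_zero, hsum']
  have hAS : ∀ b : F, b ^ 3 - b ≠ a' := by
    intro b hb
    apply hw (b - w)
    have : (b - w) ^ 3 - (b - w) = (b ^ 3 - b) - w ^ 3 + w - 3 * (b * w * (b - w)) := by ring
    rw [this, hb, ha'w, h3, zero_mul, sub_zero, sub_self, zero_add]
  -- the generator
  set Y := tmY y with hYdef
  set L := tmL (tmLam c₁ c₂) with hL
  set ℓ : M6 F := Y * L * Y⁻¹ with hℓ
  have hconj : ∀ A B : M6 F, (Y * A * Y⁻¹) * (Y * B * Y⁻¹) = Y * (A * B) * Y⁻¹ := by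
    intro A B
    calc (Y * A * Y⁻¹) * (Y * B * Y⁻¹) = Y * A * (Y⁻¹ * Y) * B * Y⁻¹ := by
          simp only [Matrix.mul_assoc]
      _ = Y * (A * B) * Y⁻¹ := by rw [hY2, Matrix.mul_one]; simp only [Matrix.mul_assoc]
  have hroot : ℓ ^ 3 - ℓ - a' • (1 : M6 F) = 0 := by
    have h1 : ℓ ^ 3 = Y * (L ^ 3) * Y⁻¹ := by
      rw [pow_succ, pow_two, hℓ, hconj, hconj, pow_succ, pow_two]
    have h2 : a' • (1 : M6 F) = Y * (a' • (1 : M6 F)) * Y⁻¹ := by
      rw [Matrix.mul_smul, Matrix.mul_one, Matrix.smul_mul, hY1]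
    rw [h1, h2, hℓ, ← Matrix.sub_mul, ← Matrix.sub_mul, ← Matrix.mul_sub, ← Matrix.mul_sub,
      tmL_cubic h3 c₁ c₂, Matrix.mul_zero, Matrix.zero_mul]
  have hYJ : Yᵀ * Matrix.J (Fin 3) F = tmG t₀ t₁ * Y⁻¹ := by
    rw [← hG, Matrix.mul_assoc, Matrix.mul_assoc, hY1, Matrix.mul_one]
  have hJY : Matrix.J (Fin 3) F * Y = (Y⁻¹)ᵀ * tmG t₀ t₁ := by
    rw [← hG, ← Matrix.mul_assoc, ← Matrix.mul_assoc, ← Matrix.transpose_mul, hY1,
      Matrix.transpose_one, Matrix.one_mul]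
  have hsa : ℓᵀ * Matrix.J (Fin 3) F = Matrix.J (Fin 3) F * ℓ := by
    rw [hℓ, Matrix.transpose_mul, Matrix.transpose_mul, Matrix.mul_assoc, Matrix.mul_assoc, hYJ,
      ← Matrix.mul_assoc Lᵀ, tmL_transpose_mul_tmG h3 t₀ t₁ c₁ c₂ hcc,
      ← Matrix.mul_assoc (Matrix.J (Fin 3) F), ← Matrix.mul_assoc (Matrix.J (Fin 3) F), hJY]
    simp only [Matrix.mul_assoc, hL]
  have hgconj : g = Y * tmMg g₀ * Y⁻¹ := by
    rw [← hgY, Matrix.mul_assoc, hY1, Matrix.mul_one]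
  have hnorm : g * ℓ = (ℓ + 1) * g := by
    have h1 : ℓ + 1 = Y * (L + 1) * Y⁻¹ := by
      rw [Matrix.mul_add, Matrix.add_mul, Matrix.mul_one, hY1]
    rw [h1]
    conv_lhs => rw [hgconj]
    conv_rhs => rw [hgconj]
    rw [hℓ, hconj, hconj, tmMg_mul_tmL h3]
  -- the field
  obtain ⟨K, hKf, hK⟩ := tm_field ℓ a' hAS hroot
  refine ⟨K, ⟨hKf, ?_⟩, ?_⟩
  · intro k hk u v
    obtain ⟨p, rfl⟩ := (hK k).1 hk
    exact tm_selfadj_form (tm_selfadj_aeval hsa p) u v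
  · intro k hk
    obtain ⟨p, rfl⟩ := (hK k).1 hk
    refine ⟨aeval (ℓ + 1) p, (hK _).2 ⟨p.comp (X + 1), ?_⟩, tm_norm_aeval hnorm p⟩
    rw [Polynomial.aeval_comp, map_add, aeval_X, map_one]

end Cfsg.Agent.Helper80.Cov2.P7
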