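import Mathlib
import Cfsg.Agent.Helper43.G2Abs

/-!
# Piece (G2-D5) of helper43's WANTED #5933 (S4632)

The centre of the candidate Sylow `2`-subgroup `P = m(Q₁ × Q₂) ∪ t m(Q₁ × Q₂)` is `{1, z0}`.
-/

set_option autoImplicit false

namespace Cfsg.Agent.Helper80.G2S

open Cfsg.Agent.Helper43.G2S Cfsg.Agent.Helper42

variable {G S : Type*} [Group G] [Group S]

/-- `ζ` is central, from the shape of the kernel of `m` -/
theorem zeta_central_of_ker (m : S × S →* G) (ζ : S) (hζ1 : ζ ≠ 1)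
    (hker : ∀ s₁ s₂, m (s₁, s₂) = 1 ↔ (s₁ = 1 ∧ s₂ = 1) ∨ (s₁ = ζ ∧ s₂ = ζ)) (s : S) :
    s * ζ = ζ * s := by
  have h1 : m (ζ, ζ) = 1 := (hker ζ ζ).2 (Or.inr ⟨rfl, rfl⟩)
  have h2 : m (s * ζ * s⁻¹, s * ζ * s⁻¹) = 1 := by
    have : ((s * ζ * s⁻¹, s * ζ * s⁻¹) : S × S) = (s, s) * (ζ, ζ) * (s, s)⁻¹ := rfl
    rw [this, map_mul, map_mul, h1, mul_one, ← map_mul, mul_inv_cancel, map_one]
  rcases (hker _ _).1 h2 with ⟨h, -⟩ | ⟨h, -⟩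
  · exfalso
    apply hζ1
    have : ζ = s⁻¹ * (s * ζ * s⁻¹) * s := by group
    rw [this, h]; group
  · calc s * ζ = (s * ζ * s⁻¹) * s := by group
      _ = ζ * s := by rw [h]

theorem m_eq_cases (m : S × S →* G) (ζ : S)
    (hker : ∀ s₁ s₂, m (s₁, s₂) = 1 ↔ (s₁ = 1 ∧ s₂ = 1) ∨ (s₁ = ζ ∧ s₂ = ζ)) (a b c d : S)
    (h : m (a, b) = m (c, d)) :
    (c⁻¹ * a = 1 ∧ d⁻¹ * b = 1) ∨ (c⁻¹ * a = ζ ∧ d⁻¹ * b = ζ) := by
  apply (hker _ _).1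
  have : ((c⁻¹ * a, d⁻¹ * b) : S × S) = (c, d)⁻¹ * (a, b) := rfl
  rw [this, map_mul, map_inv, h, inv_mul_cancel]

theorem m_fst_inj (m : S × S →* G) (ζ : S) (hζ1 : ζ ≠ 1)
    (hker : ∀ s₁ s₂, m (s₁, s₂) = 1 ↔ (s₁ = 1 ∧ s₂ = 1) ∨ (s₁ = ζ ∧ s₂ = ζ)) (a c b : S)
    (h : m (a, b) = m (c, b)) : a = c := by
  rcases m_eq_cases m ζ hker a b c b h with ⟨h1, -⟩ | ⟨-, h2⟩
  · exact (inv_mul_eq_one.1 h1).symm
  · exfalso; apply hζ1; rw [← h2, inv_mul_cancel]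

theorem m_snd_inj (m : S × S →* G) (ζ : S) (hζ1 : ζ ≠ 1)
    (hker : ∀ s₁ s₂, m (s₁, s₂) = 1 ↔ (s₁ = 1 ∧ s₂ = 1) ∨ (s₁ = ζ ∧ s₂ = ζ)) (a b d : S)
    (h : m (a, b) = m (a, d)) : b = d := by
  rcases m_eq_cases m ζ hker a b a d h with ⟨-, h1⟩ | ⟨h2, -⟩
  · exact (inv_mul_eq_one.1 h1).symm
  · exfalso; apply hζ1; rw [← h2, inv_mul_cancel]

/-- every Sylow `2`-subgroup of `S` is noncommutative (own copy of (G2-D2), with `ζ` central as a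
hypothesis) -/
theorem exists_noncomm_of_EA [Finite S] (ζ : S) (hζ1 : ζ ≠ 1) (hζ2 : ζ * ζ = 1)
    (hζc : ∀ s, s * ζ = ζ * s) (h4 : ∃ y : S, y * y = ζ)
    (hEA : ∀ Q : Sylow 2 S, EA 2 (Q : Subgroup S)) (Q : Sylow 2 S) :
    ∃ a ∈ Q, ∃ b ∈ Q, a * b ≠ b * a := by
  have : Fact (Nat.Prime 2) := ⟨Nat.prime_two⟩
  obtain ⟨y, hy⟩ := h4
  have hy4 : y ^ 2 ^ 2 = 1 := by
    have : y ^ 2 ^ 2 = (y * y) * (y * y) := by
      rw [show (2 : ℕ) ^ 2 = 2 * 2 from rfl, pow_mul, pow_two, pow_two]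
    rw [this, hy, hζ2]
  have hp : IsPGroup 2 (Subgroup.zpowers y) := by
    obtain ⟨k, -, hk⟩ := (Nat.dvd_prime_pow Nat.prime_two).1 (orderOf_dvd_of_pow_eq_one hy4)
    exact IsPGroup.of_card (n := k) (by rw [Nat.card_zpowers, hk])
  obtain ⟨Q', hQ'⟩ := hp.exists_le_sylow
  obtain ⟨g, hg⟩ := MulAction.exists_smul_eq S Q' Q
  have hyQ' : y ∈ (Q' : Subgroup S) := hQ' (Subgroup.mem_zpowers y)
  have hy'Q : g * y * g⁻¹ ∈ (Q : Subgroup S) := by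
    rw [← hg, Sylow.coe_subgroup_smul]
    exact Subgroup.smul_mem_pointwise_smul y (MulAut.conj g) _ hyQ'
  by_contra hcon
  push Not at hcon
  have hbot : commutator (Q : Subgroup S) = ⊥ := by
    rw [commutator_def, Subgroup.commutator_eq_bot_iff_le_centralizer]
    intro a _
    rw [Subgroup.mem_centralizer_iff]
    intro b _
    apply Subtype.ext
    show (b : S) * (a : S) = (a : S) * (b : S)
    exact hcon b b.2 a a.2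
  have hea := hEA Q ⟨g * y * g⁻¹, hy'Q⟩
  rw [hbot, Subgroup.mem_bot] at hea
  have hea' : (g * y * g⁻¹) ^ 2 = 1 := by
    have := congrArg Subtype.val hea
    simpa using this
  apply hζ1
  have h1 : (g * y * g⁻¹) ^ 2 = g * ζ * g⁻¹ := by
    rw [← hy, pow_two]; group
  rw [h1, hζc g, mul_inv_cancel_right] at hea'
  exact hea'

variable [Finite G] [Finite S]

/-- (G2-D5) -/
theorem cand_center (m : S × S →* G) (t z0 : G) (ζ : S) (τ : S →* S)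
    (hζ1 : ζ ≠ 1) (hζ2 : ζ * ζ = 1)
    (hker : ∀ s₁ s₂, m (s₁, s₂) = 1 ↔ (s₁ = 1 ∧ s₂ = 1) ∨ (s₁ = ζ ∧ s₂ = ζ))
    (hz0 : m (ζ, 1) = z0)
    (htm : ∀ s₁ s₂, t * m (s₁, s₂) * t⁻¹ = m (τ s₁, τ s₂))
    (h4 : ∃ y : S, y * y = ζ)
    (hEA : ∀ Q : Sylow 2 S, EA 2 (Q : Subgroup S))
    (hcomm1 : ∀ s : S, s ≠ 1 → s ≠ ζ → ∀ a b : S, s * a = a * s → s * b = b * s → a * b = b * a)
    (hcomm2 : ∀ s a b : S, τ (s * a * s⁻¹) = a → τ (s * b * s⁻¹) = b → a * b = b * a)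
    (P : Subgroup G) (Q₁ Q₂ : Sylow 2 S) (h : IsCand m t z0 P Q₁ Q₂) :
    ∀ x ∈ P, (∀ y ∈ P, x * y = y * x) → x = 1 ∨ x = z0 := by
  intro x hx hxc
  have hζc := zeta_central_of_ker m ζ hζ1 hker
  obtain ⟨a₁, ha₁, b₁, hb₁, hab₁⟩ := exists_noncomm_of_EA ζ hζ1 hζ2 hζc h4 hEA Q₁
  obtain ⟨a₂, ha₂, b₂, hb₂, hab₂⟩ := exists_noncomm_of_EA ζ hζ1 hζ2 hζc h4 hEA Q₂
  obtain ⟨s₁, hs₁, s₂, hs₂, hx' | hx'⟩ := h.cases x hx
  · -- `x = m (s₁, s₂)`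
    have hc1 : ∀ a ∈ Q₁, s₁ * a = a * s₁ := by
      intro a ha
      have := hxc (m (a, 1)) (h.m_mem a ha 1 (one_mem _))
      rw [hx', ← map_mul, ← map_mul, Prod.mk_mul_mk, Prod.mk_mul_mk, mul_one, one_mul] at this
      exact m_fst_inj m ζ hζ1 hker _ _ _ this
    have hc2 : ∀ b ∈ Q₂, s₂ * b = b * s₂ := by
      intro b hb
      have := hxc (m (1, b)) (h.m_mem 1 (one_mem _) b hb)
      rw [hx', ← map_mul, ← map_mul, Prod.mk_mul_mk, Prod.mk_mul_mk, mul_one, one_mul] at this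
      exact m_snd_inj m ζ hζ1 hker _ _ _ this
    have hs1 : s₁ = 1 ∨ s₁ = ζ := by
      by_contra hne
      push Not at hne
      exact hab₁ (hcomm1 s₁ hne.1 hne.2 a₁ b₁ (hc1 a₁ ha₁) (hc1 b₁ hb₁))
    have hs2 : s₂ = 1 ∨ s₂ = ζ := by
      by_contra hne
      push Not at hne
      exact hab₂ (hcomm1 s₂ hne.1 hne.2 a₂ b₂ (hc2 a₂ ha₂) (hc2 b₂ hb₂))
    have hζζ : m (ζ, ζ) = 1 := (hker ζ ζ).2 (Or.inr ⟨rfl, rfl⟩)
    have h1ζ : m (1, ζ) = z0 := by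
      have : ((1, ζ) : S × S) = (ζ, 1) * (ζ, ζ) := by rw [Prod.mk_mul_mk, hζ2, one_mul]
      rw [this, map_mul, hζζ, mul_one, hz0]
    rcases hs1 with e1 | e1 <;> rcases hs2 with e2 | e2
    · left; rw [hx', e1, e2]; exact map_one m
    · right; rw [hx', e1, e2, h1ζ]
    · right; rw [hx', e1, e2, hz0]
    · left; rw [hx', e1, e2, hζζ]
  · -- `x = t * m (s₁, s₂)`
    exfalso
    have htm' : ∀ u v, t * m (u, v) = m (τ u, τ v) * t := by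
      intro u v
      rw [← htm u v]; group
    have key : ∀ a ∈ Q₁, τ (s₁ * a * s₁⁻¹) = a := by
      intro a ha
      have hc := hxc (m (a, 1)) (h.m_mem a ha 1 (one_mem _))
      rw [hx'] at hc
      have e1 : t * m (s₁, s₂) * m (a, 1) = m (τ (s₁ * a), τ s₂) * t := by
        rw [mul_assoc, ← map_mul, Prod.mk_mul_mk, mul_one, htm']
      have e2 : m (a, 1) * (t * m (s₁, s₂)) = m (a * τ s₁, τ s₂) * t := by
        rw [htm', ← mul_assoc, ← map_mul, Prod.mk_mul_mk, one_mul]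
      rw [e1, e2] at hc
      have hc' := mul_right_cancel hc
      have h3 := m_fst_inj m ζ hζ1 hker _ _ _ hc'
      rw [map_mul, map_inv, h3, mul_inv_cancel_right]
    exact hab₁ (hcomm2 s₁ a₁ b₁ (key a₁ ha₁) (key b₁ hb₁))

end Cfsg.Agent.Helper80.G2S
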