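import Mathlib

/-!
# Pieces (G2-D6) and (G2-D7) of helper43's WANTED #5933 (S4632)

Pure group theory: a maximal `2`-subgroup `P` of the centralizer of an involution `z0`
contains `z0`; and if moreover the centre of `P` is `{1, z0}` then `P` is a Sylow
`2`-subgroup of the whole group.
-/

set_option autoImplicit false

namespace Cfsg.Agent.Helper80.G2S

variable {G : Type*} [Group G]

/-- the subgroup `P ∪ P z0` for an involution `z0` centralized by `P` -/
def adjoinInv (z0 : G) (P : Subgroup G) (hz2 : z0 * z0 = 1)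
    (le_cent : ∀ x ∈ P, x * z0 = z0 * x) : Subgroup G where
  carrier := {g | ∃ x ∈ P, g = x ∨ g = x * z0}
  one_mem' := ⟨1, P.one_mem, Or.inl rfl⟩
  mul_mem' := by
    intro a b ha hb
    obtain ⟨x, hx, ha⟩ := ha
    obtain ⟨y, hy, hb⟩ := hb
    have hyz : y * z0 = z0 * y := le_cent y hy
    refine ⟨x * y, P.mul_mem hx hy, ?_⟩
    rcases ha with ha | ha <;> rcases hb with hb | hb
    · left; rw [ha, hb]
    · right; rw [ha, hb, mul_assoc]
    · right
      rw [ha, hb]
      calc x * z0 * y = x * (z0 * y) := by rw [mul_assoc]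
        _ = x * (y * z0) := by rw [hyz]
        _ = x * y * z0 := by rw [mul_assoc]
    · left
      rw [ha, hb]
      calc x * z0 * (y * z0) = x * (z0 * y) * z0 := by simp only [mul_assoc]
        _ = x * (y * z0) * z0 := by rw [hyz]
        _ = x * y * (z0 * z0) := by simp only [mul_assoc]
        _ = x * y := by rw [hz2, mul_one]
  inv_mem' := by
    intro a ha
    obtain ⟨x, hx, ha⟩ := ha
    have hxz : x * z0 = z0 * x := le_cent x hx
    have hzinv : z0⁻¹ = z0 := inv_eq_of_mul_eq_one_left hz2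
    refine ⟨x⁻¹, P.inv_mem hx, ?_⟩
    rcases ha with ha | ha
    · left; rw [ha]
    · right
      have h1 : x⁻¹ * z0 = z0 * x⁻¹ := by
        calc x⁻¹ * z0 = x⁻¹ * (z0 * x) * x⁻¹ := by group
          _ = x⁻¹ * (x * z0) * x⁻¹ := by rw [hxz]
          _ = z0 * x⁻¹ := by group
      rw [ha, mul_inv_rev, hzinv, h1]

theorem mem_adjoinInv {z0 : G} {P : Subgroup G} {hz2 : z0 * z0 = 1}
    {le_cent : ∀ x ∈ P, x * z0 = z0 * x} {g : G} :
    g ∈ adjoinInv z0 P hz2 le_cent ↔ ∃ x ∈ P, g = x ∨ g = x * z0 := Iff.rfl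

/-- (G2-D7) -/
theorem z0_mem_of_max [Finite G] (z0 : G) (P : Subgroup G) (hz2 : z0 * z0 = 1)
    (isP : IsPGroup 2 P) (le_cent : ∀ x ∈ P, x * z0 = z0 * x)
    (max : ∀ Q : Subgroup G, IsPGroup 2 Q → (∀ x ∈ Q, x * z0 = z0 * x) → P ≤ Q → Q ≤ P) :
    z0 ∈ P := by
  set Q := adjoinInv z0 P hz2 le_cent with hQ
  have hPQ : P ≤ Q := fun x hx => ⟨x, hx, Or.inl rfl⟩
  have hQc : ∀ x ∈ Q, x * z0 = z0 * x := by
    intro g hg
    obtain ⟨x, hx, hg⟩ := hg
    rcases hg with hg | hg
    · rw [hg]; exact le_cent x hx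
    · rw [hg, ← mul_assoc, ← le_cent x hx]
  have hQp : IsPGroup 2 Q := by
    rintro ⟨g, hgQ⟩
    obtain ⟨x, hx, hg⟩ := hgQ
    obtain ⟨k, hk⟩ := isP ⟨x, hx⟩
    have hk' : x ^ 2 ^ k = 1 := by
      have := congrArg Subtype.val hk
      simpa using this
    rcases hg with hg | hg
    · refine ⟨k, Subtype.ext ?_⟩
      show g ^ 2 ^ k = 1
      rw [hg]; exact hk'
    · refine ⟨k + 1, Subtype.ext ?_⟩
      have hcomm : Commute x z0 := le_cent x hx
      have hsq : (x * z0) ^ 2 = x ^ 2 := by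
        rw [hcomm.mul_pow, pow_two z0, hz2, mul_one]
      show g ^ 2 ^ (k + 1) = 1
      rw [hg, pow_succ', pow_mul, hsq, ← pow_mul, mul_comm, pow_mul, hk', one_pow]
  have := max Q hQp hQc hPQ
  exact this ⟨1, P.one_mem, Or.inr (one_mul z0).symm⟩

/-- (G2-D6) -/
theorem sylow_of_center [Finite G] (z0 : G) (P : Subgroup G) (hz1 : z0 ≠ 1) (hzP : z0 ∈ P)
    (isP : IsPGroup 2 P) (le_cent : ∀ x ∈ P, x * z0 = z0 * x)
    (max : ∀ Q : Subgroup G, IsPGroup 2 Q → (∀ x ∈ Q, x * z0 = z0 * x) → P ≤ Q → Q ≤ P)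
    (hcenter : ∀ x ∈ P, (∀ y ∈ P, x * y = y * x) → x = 1 ∨ x = z0) :
    ∃ P' : Sylow 2 G, (P' : Subgroup G) = P := by
  have : Fact (Nat.Prime 2) := ⟨Nat.prime_two⟩
  obtain ⟨P', hPP'⟩ := isP.exists_le_sylow
  refine ⟨P', ?_⟩
  by_contra hne
  have hlt : P < (P' : Subgroup G) := lt_of_le_of_ne hPP' (fun h => hne h.symm)
  -- normalizer condition inside the `2`-group `P'`
  have : Group.IsNilpotent ↥(P' : Subgroup G) := P'.isPGroup'.isNilpotent
  set H : Subgroup ↥(P' : Subgroup G) := P.subgroupOf (P' : Subgroup G) with hH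
  have hHtop : H < ⊤ := by
    rw [lt_top_iff_ne_top]
    intro h
    rw [hH, Subgroup.subgroupOf_eq_top] at h
    exact absurd (le_antisymm hPP' h) (fun h' => hne h'.symm)
  have hnc := Group.normalizerCondition_of_isNilpotent (G := ↥(P' : Subgroup G)) H hHtop
  obtain ⟨g, hgN, hgH⟩ := SetLike.exists_of_lt hnc
  -- `g` normalizes `P`
  have hconj : ∀ y ∈ P, (g : G) * y * (g : G)⁻¹ ∈ P := by
    intro y hy
    have hyH : (⟨y, hPP' hy⟩ : ↥(P' : Subgroup G)) ∈ H := by
      rw [hH, Subgroup.mem_subgroupOf]; exact hy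
    have := (Subgroup.mem_normalizer_iff.1 hgN ⟨y, hPP' hy⟩).1 hyH
    rw [hH, Subgroup.mem_subgroupOf] at this
    simpa using this
  have hconj' : ∀ y ∈ P, (g : G)⁻¹ * y * (g : G) ∈ P := by
    intro y hy
    have hyH : (⟨y, hPP' hy⟩ : ↥(P' : Subgroup G)) ∈ H := by
      rw [hH, Subgroup.mem_subgroupOf]; exact hy
    have hgN' := inv_mem hgN
    have := (Subgroup.mem_normalizer_iff.1 hgN' ⟨y, hPP' hy⟩).1 hyH
    rw [hH, Subgroup.mem_subgroupOf] at this
    simpa using this
  have hgP : (g : G) ∉ P := by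
    intro h
    apply hgH
    rw [hH, Subgroup.mem_subgroupOf]; exact h
  -- the conjugate of `z0` is central in `P`
  set w : G := (g : G) * z0 * (g : G)⁻¹ with hw
  have hwP : w ∈ P := hconj z0 hzP
  have hwc : ∀ y ∈ P, w * y = y * w := by
    intro y hy
    have h1 : ((g : G)⁻¹ * y * (g : G)) * z0 = z0 * ((g : G)⁻¹ * y * (g : G)) :=
      le_cent _ (hconj' y hy)
    calc w * y = (g : G) * (z0 * ((g : G)⁻¹ * y * (g : G))) * (g : G)⁻¹ := by
          rw [hw]; group
      _ = (g : G) * (((g : G)⁻¹ * y * (g : G)) * z0) * (g : G)⁻¹ := by rw [h1]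
      _ = y * w := by rw [hw]; group
  have hw1 : w ≠ 1 := by
    intro h
    apply hz1
    have : z0 = (g : G)⁻¹ * w * (g : G) := by rw [hw]; group
    rw [this, h]; group
  have hwz : w = z0 := by
    rcases hcenter w hwP hwc with h | h
    · exact absurd h hw1
    · exact h
  have hgz : (g : G) * z0 = z0 * (g : G) := by
    calc (g : G) * z0 = w * (g : G) := by rw [hw]; group
      _ = z0 * (g : G) := by rw [hwz]
  -- enlarge `P` by `g`
  set Q : Subgroup G := P ⊔ Subgroup.zpowers (g : G) with hQ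
  have hQP' : Q ≤ (P' : Subgroup G) := by
    rw [hQ]
    refine sup_le hPP' ?_
    rw [Subgroup.zpowers_le]
    exact g.2
  have hQp : IsPGroup 2 Q := P'.isPGroup'.to_le hQP'
  have hQc : ∀ x ∈ Q, x * z0 = z0 * x := by
    have hle : Q ≤ Subgroup.centralizer ({z0} : Set G) := by
      rw [hQ]
      refine sup_le ?_ ?_
      · intro x hx
        rw [Subgroup.mem_centralizer_iff]
        intro y hy
        rw [Set.mem_singleton_iff] at hy
        rw [hy]
        exact (le_cent x hx).symm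
      · rw [Subgroup.zpowers_le, Subgroup.mem_centralizer_iff]
        intro y hy
        rw [Set.mem_singleton_iff] at hy
        rw [hy]
        exact hgz.symm
    intro x hx
    have := Subgroup.mem_centralizer_iff.1 (hle hx) z0 (Set.mem_singleton z0)
    exact this.symm
  have hle := max Q hQp hQc le_sup_left
  exact hgP (hle (le_sup_right (a := P) (Subgroup.mem_zpowers (g : G))))

end Cfsg.Agent.Helper80.G2S
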