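import Mathlib
import Cfsg.Agent.Helper2.CS2Defs

/-!
# Piece (P0a) of helper2's WANTED #6088 (S4284): the basic lemmas on `idx`, `Cn`
-/

set_option autoImplicit false
set_option linter.unusedVariables false
set_option linter.unusedSectionVars false

namespace Cfsg.Agent.Helper80.CS2
open Cfsg.Agent.Helper2.CS2 Subgroup

variable {G : Type*} [Group G] [Finite G] {m n : ℕ}

theorem mem_Cn_iff {x g : G} : g ∈ Cn x ↔ x * g = g * x := by
  rw [Subgroup.mem_centralizer_iff]
  constructor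
  · intro h; exact h x rfl
  · intro h y hy
    rw [Set.mem_singleton_iff] at hy
    rw [hy]; exact h

theorem idx_ne_zero (x : G) : idx x ≠ 0 := Subgroup.index_ne_zero_of_finite

theorem idx_eq_one_iff (x : G) : idx x = 1 ↔ x ∈ center G := by
  rw [Subgroup.index_eq_one, Subgroup.mem_center_iff]
  constructor
  · intro h g
    have : g ∈ Cn x := by
      show g ∈ Subgroup.centralizer ({x} : Set G)
      rw [h]; exact Subgroup.mem_top g
    exact (mem_Cn_iff.1 this).symm
  · intro h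
    rw [eq_top_iff]
    intro g _
    exact mem_Cn_iff.2 (h g).symm

theorem mem_Cn_conj {γ x g : G} : g ∈ Cn (γ * x * γ⁻¹) ↔ γ⁻¹ * g * γ ∈ Cn x := by
  rw [mem_Cn_iff, mem_Cn_iff]
  constructor
  · intro h
    calc x * (γ⁻¹ * g * γ) = γ⁻¹ * ((γ * x * γ⁻¹) * g) * γ := by group
      _ = γ⁻¹ * (g * (γ * x * γ⁻¹)) * γ := by rw [h]
      _ = γ⁻¹ * g * γ * x := by group
  · intro h
    calc γ * x * γ⁻¹ * g = γ * (x * (γ⁻¹ * g * γ)) * γ⁻¹ := by group
      _ = γ * ((γ⁻¹ * g * γ) * x) * γ⁻¹ := by rw [h]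
      _ = g * (γ * x * γ⁻¹) := by group

theorem idx_conj (γ x : G) : idx (γ * x * γ⁻¹) = idx x := by
  have : Cn (γ * x * γ⁻¹) = (Cn x).map ((MulAut.conj γ : G ≃* G) : G →* G) := by
    ext g
    rw [mem_Cn_conj, Subgroup.mem_map]
    constructor
    · intro h
      refine ⟨γ⁻¹ * g * γ, h, ?_⟩
      show γ * (γ⁻¹ * g * γ) * γ⁻¹ = g
      group
    · rintro ⟨k, hk, rfl⟩
      have : γ⁻¹ * (γ * k * γ⁻¹) * γ = k := by group
      show γ⁻¹ * (γ * k * γ⁻¹) * γ ∈ Cn x
      rw [this]; exact hk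
  show (Cn (γ * x * γ⁻¹)).index = (Cn x).index
  rw [this, Subgroup.index_map_equiv]

theorem idx_dvd_of_Cn_le {a b : G} (h : Cn a ≤ Cn b) : idx b ∣ idx a :=
  Subgroup.index_dvd_of_le h

theorem Cn_eq_of_le_of_idx_le {a b : G} (h : Cn a ≤ Cn b) (h' : idx a ≤ idx b) : Cn a = Cn b := by
  have hdvd : idx b ∣ idx a := idx_dvd_of_Cn_le h
  have hle : idx b ≤ idx a := Nat.le_of_dvd (Nat.pos_of_ne_zero (idx_ne_zero a)) hdvd
  have heq : idx a = idx b := le_antisymm h' hle
  have hmul := Subgroup.relIndex_mul_index h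
  have hrel : (Cn a).relIndex (Cn b) = 1 := by
    have h1 : (Cn a).relIndex (Cn b) * (Cn b).index = 1 * (Cn b).index := by
      rw [hmul, one_mul]; exact heq
    exact Nat.eq_of_mul_eq_mul_right (Nat.pos_of_ne_zero (idx_ne_zero b)) h1
  exact le_antisymm h (Subgroup.relIndex_eq_one.1 hrel)

theorem Cn_le_Cn_pow (x : G) (k : ℕ) : Cn x ≤ Cn (x ^ k) := by
  intro g hg
  rw [mem_Cn_iff] at hg ⊢
  have : Commute x g := hg
  exact (this.pow_left k)

theorem Cn_mul_of_coprime {x u : G} (hc : Commute x u)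
    (hcop : (orderOf x).Coprime (orderOf u)) : Cn (x * u) = Cn x ⊓ Cn u := by
  apply le_antisymm
  · -- `x` and `u` are powers of `x * u`
    have hx : ∃ k : ℕ, (x * u) ^ k = x := by
      obtain ⟨k, hk⟩ := exists_pow_eq_self_of_coprime (x := x) (n := orderOf u) hcop.symm
      refine ⟨orderOf u * k, ?_⟩
      rw [pow_mul, hc.mul_pow, pow_orderOf_eq_one, mul_one, hk]
    have hu : ∃ k : ℕ, (x * u) ^ k = u := by
      obtain ⟨k, hk⟩ := exists_pow_eq_self_of_coprime (x := u) (n := orderOf x) hcop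
      refine ⟨orderOf x * k, ?_⟩
      rw [pow_mul, hc.mul_pow, pow_orderOf_eq_one, one_mul, hk]
    obtain ⟨k, hk⟩ := hx
    obtain ⟨l, hl⟩ := hu
    refine le_inf ?_ ?_
    · have := Cn_le_Cn_pow (x * u) k
      rwa [hk] at this
    · have := Cn_le_Cn_pow (x * u) l
      rwa [hl] at this
  · intro g hg
    have h1 := mem_Cn_iff.1 hg.1
    have h2 := mem_Cn_iff.1 hg.2
    rw [mem_Cn_iff, mul_assoc, h2, ← mul_assoc, h1, mul_assoc]

theorem Hyp.idx_of_not_mem_center (h : Hyp G m n) {x : G} (hx : x ∉ center G) :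
    idx x = m ∨ idx x = m * n := by
  rcases h.cases x with h1 | h1 | h1
  · exact absurd ((idx_eq_one_iff x).1 h1) hx
  · exact Or.inl h1
  · exact Or.inr h1

theorem Hyp.m_pos (h : Hyp G m n) : 0 < m := lt_trans Nat.zero_lt_one h.one_lt_m

theorem Hyp.not_mn_dvd_m (h : Hyp G m n) : ¬ m * n ∣ m := by
  intro hd
  have := Nat.le_of_dvd (Hyp.m_pos h) hd
  have h2 : m * 2 ≤ m * n := Nat.mul_le_mul_left m h.one_lt_n
  have := (Hyp.m_pos h)
  omega

/-- (MAX) -/
theorem Hyp.max (h : Hyp G m n) {y u : G} (hy : idx y = m * n) (hc : Commute y u)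
    (hcop : (orderOf y).Coprime (orderOf u)) : Cn y ≤ Cn u := by
  have hC : Cn (y * u) = Cn y ⊓ Cn u := Cn_mul_of_coprime hc hcop
  have hle : Cn (y * u) ≤ Cn y := by rw [hC]; exact inf_le_left
  have hdvd : idx y ∣ idx (y * u) := idx_dvd_of_Cn_le hle
  have hidx : idx (y * u) = m * n := by
    rcases h.cases (y * u) with h1 | h1 | h1
    · exfalso
      rw [h1, hy] at hdvd
      have := Nat.le_of_dvd Nat.one_pos hdvd
      have h2 : m * 2 ≤ m * n := Nat.mul_le_mul_left m h.one_lt_n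
      have := (Hyp.m_pos h)
      omega
    · exfalso
      rw [h1, hy] at hdvd
      exact Hyp.not_mn_dvd_m h hdvd
    · exact h1
  have heq : Cn (y * u) = Cn y := Cn_eq_of_le_of_idx_le hle (by rw [hidx, hy])
  rw [← heq, hC]
  exact inf_le_right

theorem Hyp.relIndex_of_m (h : Hyp G m n) {x u : G} (hx : idx x = m) (hc : Commute x u)
    (hcop : (orderOf x).Coprime (orderOf u)) :
    (Cn u).relIndex (Cn x) = 1 ∨ (Cn u).relIndex (Cn x) = n := by
  have hC : Cn (x * u) = Cn u ⊓ Cn x := by rw [Cn_mul_of_coprime hc hcop, inf_comm]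
  have hmul : (Cn u ⊓ Cn x).relIndex (Cn x) * (Cn x).index = (Cn u ⊓ Cn x).index :=
    Subgroup.relIndex_mul_index inf_le_right
  rw [Subgroup.inf_relIndex_right, ← hC] at hmul
  have hx' : (Cn x).index = m := hx
  rw [hx'] at hmul
  rcases h.cases (x * u) with h1 | h1 | h1
  · exfalso
    have h1' : (Cn (x * u)).index = 1 := h1
    rw [h1'] at hmul
    have := Nat.eq_one_of_mul_eq_one_left hmul
    have := h.one_lt_m
    omega
  · left
    have h1' : (Cn (x * u)).index = m := h1
    rw [h1'] at hmul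
    have h2 : (Cn u).relIndex (Cn x) * m = 1 * m := by rw [hmul, one_mul]
    exact Nat.eq_of_mul_eq_mul_right (Hyp.m_pos h) h2
  · right
    have h1' : (Cn (x * u)).index = m * n := h1
    rw [h1'] at hmul
    have h2 : (Cn u).relIndex (Cn x) * m = n * m := by rw [hmul, mul_comm]
    exact Nat.eq_of_mul_eq_mul_right (Hyp.m_pos h) h2

theorem card_mul_relIndex_of_le {H K : Subgroup G} (h : H ≤ K) :
    Nat.card H * H.relIndex K = Nat.card K := by
  rw [← Subgroup.relIndex_bot_left, ← Subgroup.relIndex_bot_left,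
    Subgroup.relIndex_mul_relIndex _ _ _ bot_le h]

/-- `|N : N ∩ C| = |C N : C|` for `N` normal -/
theorem relIndex_sup_of_normal (C N : Subgroup G) [N.Normal] :
    C.relIndex (C ⊔ N) = C.relIndex N := by
  have e1 : Nat.card C * C.relIndex (C ⊔ N) = Nat.card (C ⊔ N : Subgroup G) :=
    card_mul_relIndex_of_le le_sup_left
  have e2 : Nat.card N * N.relIndex (C ⊔ N) = Nat.card (C ⊔ N : Subgroup G) :=
    card_mul_relIndex_of_le le_sup_right
  rw [Subgroup.relIndex_sup_right] at e2
  have e3 : Nat.card (N ⊓ C : Subgroup G) * N.relIndex C = Nat.card C := by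
    have := card_mul_relIndex_of_le (inf_le_right : N ⊓ C ≤ C)
    rwa [Subgroup.inf_relIndex_right] at this
  have e4 : Nat.card (N ⊓ C : Subgroup G) * C.relIndex N = Nat.card N := by
    have := card_mul_relIndex_of_le (inf_le_left : N ⊓ C ≤ N)
    rwa [Subgroup.inf_relIndex_left] at this
  have key : Nat.card C * C.relIndex (C ⊔ N) = Nat.card C * C.relIndex N := by
    calc Nat.card C * C.relIndex (C ⊔ N) = Nat.card N * N.relIndex C := by rw [e1, e2]
      _ = (Nat.card (N ⊓ C : Subgroup G) * C.relIndex N) * N.relIndex C := by rw [e4]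
      _ = (Nat.card (N ⊓ C : Subgroup G) * N.relIndex C) * C.relIndex N := by ring
      _ = Nat.card C * C.relIndex N := by rw [e3]
  exact Nat.eq_of_mul_eq_mul_left Nat.card_pos key

theorem normal_le_Cn_of_coprime (N : Subgroup G) [N.Normal] (x : G)
    (hcop : (Nat.card N).Coprime (idx x)) : N ≤ Cn x := by
  have h1 : (Cn x).relIndex N ∣ Nat.card N := Subgroup.relIndex_dvd_card _ _
  have h2 : (Cn x).relIndex N ∣ idx x := by
    rw [← relIndex_sup_of_normal (Cn x) N]
    exact Subgroup.relIndex_dvd_index_of_le le_sup_left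
  have h3 : (Cn x).relIndex N = 1 := Nat.eq_one_of_dvd_coprimes hcop h1 h2
  exact Subgroup.relIndex_eq_one.1 h3

/-- some power of a noncentral element is a noncentral element of prime power order -/
theorem exists_primary_pow_not_mem_center {g : G} (hg : g ∉ center G) :
    ∃ (s k : ℕ), s.Prime ∧ IsPElt s (g ^ k) ∧ g ^ k ∉ center G := by
  classical
  -- choose a noncentral power of minimal order
  have hex : ∃ N : ℕ, ∃ k : ℕ, g ^ k ∉ center G ∧ orderOf (g ^ k) = N :=
    ⟨orderOf (g ^ 1), 1, by rwa [pow_one], rfl⟩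
  obtain ⟨k, hk, hkN⟩ := Nat.find_spec hex
  have hmin : ∀ N' : ℕ, N' < Nat.find hex → ∀ k' : ℕ, g ^ k' ∉ center G → orderOf (g ^ k') ≠ N' := by
    intro N' hN' k' hk' he
    exact Nat.find_min hex hN' ⟨k', hk', he⟩
  set N := Nat.find hex with hN
  set h := g ^ k with hh
  have hNpos : 0 < N := by rw [← hkN]; exact orderOf_pos h
  have hN1 : N ≠ 1 := by
    intro h1
    rw [h1] at hkN
    rw [orderOf_eq_one_iff] at hkN
    apply hk
    rw [hkN]; exact Subgroup.one_mem _
  -- every power of `h` of smaller order is central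
  have hsmall : ∀ j : ℕ, orderOf (h ^ j) < N → h ^ j ∈ center G := by
    intro j hj
    by_contra hc
    have : h ^ j = g ^ (k * j) := by rw [hh, pow_mul]
    rw [this] at hc hj
    exact hmin _ hj (k * j) hc rfl
  set s := N.minFac with hs
  have hsp : s.Prime := Nat.minFac_prime hN1
  set a := s ^ N.factorization s with ha
  set b := N / a with hb
  have hab : a * b = N := Nat.ordProj_mul_ordCompl_eq_self N s
  have hcop : Nat.Coprime a b := by
    apply Nat.Coprime.pow_left
    exact Nat.coprime_ordCompl hsp (Nat.pos_iff_ne_zero.1 hNpos)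
  have hapos : 0 < a := Nat.pos_of_ne_zero (by rw [ha]; exact pow_ne_zero _ hsp.pos.ne')
  have hbpos : 0 < b := by
    rcases Nat.eq_zero_or_pos b with h0 | h0
    · rw [h0, mul_zero] at hab; omega
    · exact h0
  have ha1 : 1 < a := by
    have : 0 < N.factorization s := by
      apply Nat.pos_of_ne_zero
      intro h0
      have hdvd : s ∣ N := Nat.minFac_dvd N
      have := (hsp.dvd_iff_one_le_factorization (Nat.pos_iff_ne_zero.1 hNpos)).1 hdvd
      omega
    rw [ha]
    exact Nat.one_lt_pow (Nat.pos_iff_ne_zero.1 this) hsp.one_lt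
  by_cases hb1 : b = 1
  · -- `N = s ^ e`
    have hNa : N = a := by rw [← hab, hb1, mul_one]
    refine ⟨s, k, hsp, ⟨N.factorization s, ?_⟩, hk⟩
    rw [hkN]
    exact hNa.trans ha
  · exfalso
    have hb1' : 1 < b := by omega
    -- `h ^ a` has order `b < N`, `h ^ b` has order `a < N`
    have hoa : orderOf (h ^ a) = b := by
      rw [orderOf_pow' h hapos.ne', hkN, Nat.gcd_eq_right (Dvd.intro _ hab)]
    have hob : orderOf (h ^ b) = a := by
      rw [orderOf_pow' h hbpos.ne', hkN, Nat.gcd_eq_right (Dvd.intro_left _ hab)]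
      exact Nat.div_eq_of_eq_mul_left hbpos hab.symm
    have hbN : b < N := by
      rw [← hab]
      calc b = 1 * b := (one_mul b).symm
        _ < a * b := Nat.mul_lt_mul_of_pos_right ha1 hbpos
    have haN : a < N := by
      rw [← hab]
      calc a = a * 1 := (mul_one a).symm
        _ < a * b := Nat.mul_lt_mul_of_pos_left hb1' hapos
    have hca : h ^ a ∈ center G := hsmall a (by rw [hoa]; exact hbN)
    have hcb : h ^ b ∈ center G := hsmall b (by rw [hob]; exact haN)
    apply hk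
    have hbez : (1 : ℤ) = (a : ℤ) * Nat.gcdA a b + (b : ℤ) * Nat.gcdB a b := by
      have := Nat.gcd_eq_gcd_ab a b
      rw [hcop] at this
      exact_mod_cast this
    have : h = (h ^ a) ^ (Nat.gcdA a b) * (h ^ b) ^ (Nat.gcdB a b) := by
      rw [← zpow_natCast h a, ← zpow_natCast h b, ← zpow_mul, ← zpow_mul, ← zpow_add, ← hbez,
        zpow_one]
    rw [this]
    exact Subgroup.mul_mem _ (Subgroup.zpow_mem _ hca _) (Subgroup.zpow_mem _ hcb _)

theorem Hyp.exists_primary (h : Hyp G m n) : ∃ (s : ℕ) (x : G), s.Prime ∧ IsPElt s x ∧ idx x = m := by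
  obtain ⟨x₀, hx₀⟩ := h.ex_m
  have hx₀c : x₀ ∉ center G := by
    intro hc
    have := (idx_eq_one_iff x₀).2 hc
    have := h.one_lt_m
    omega
  obtain ⟨s, k, hs, hsk, hkc⟩ := exists_primary_pow_not_mem_center hx₀c
  refine ⟨s, x₀ ^ k, hs, hsk, ?_⟩
  have hdvd : idx (x₀ ^ k) ∣ idx x₀ := idx_dvd_of_Cn_le (Cn_le_Cn_pow x₀ k)
  rcases Hyp.idx_of_not_mem_center h hkc with h1 | h1
  · exact h1
  · exfalso
    rw [h1, hx₀] at hdvd
    exact Hyp.not_mn_dvd_m h hdvd

theorem CaseB.exists_good (h : Hyp G m n) (hB : CaseB G m) : ∃ (r : ℕ) (x : G), Good m r x := by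
  obtain ⟨s, x, hs, hsx, hx⟩ := Hyp.exists_primary h
  refine ⟨s, x, hs, ?_, hsx, hx⟩
  intro hsm
  exact hB s x hs hsm hsx hx

theorem CaseB.idx_eq (h : Hyp G m n) (hB : CaseB G m) {t : ℕ} (ht : t.Prime) (htm : t ∣ m) {y : G}
    (hy : IsPElt t y) (hyc : y ∉ center G) : idx y = m * n := by
  rcases Hyp.idx_of_not_mem_center h hyc with h1 | h1
  · exact absurd h1 (hB t y ht htm hy)
  · exact h1

theorem Hyp.mn_dvd_index_center (h : Hyp G m n) : m * n ∣ (center G).index := by
  obtain ⟨y, hy⟩ := h.ex_mn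
  rw [← hy]
  exact Subgroup.index_dvd_of_le (Subgroup.center_le_centralizer _)

end Cfsg.Agent.Helper80.CS2
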