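import Cfsg.Agent.Helper78.HKDefs
import Cfsg.Agent.Helper78.FongMax

/-!
# Harris–Knörr (S4674), piece KH3: `ω_ψ(f) = ω_ξ(f)` for `ψ ∈ Irr(H)` over `ξ ∈ Irr(H ∩ N)` and a
class function `f` of `G` vanishing off `N`
-/

set_option autoImplicit false
set_option linter.unusedSectionVars false

namespace Cfsg.Agent.Helper80.HK

open Cfsg Cfsg.Agent.Helper78

universe u

variable {G : Type u} [Group G] [Fintype G] {M : Ideal AlgInt} {p : ℕ}
variable (N : Subgroup G) [hN : N.Normal] [Fintype N]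

/-- The isomorphism `H ⊓ N ≃* N.subgroupOf H`. -/
def infEquivSubgroupOf (H : Subgroup G) : ↥(H ⊓ N) ≃* ↥(N.subgroupOf H) where
  toFun l := ⟨⟨l, l.2.1⟩, l.2.2⟩
  invFun k := ⟨((k : ↥H) : G), ⟨(k : ↥H).2, k.2⟩⟩
  left_inv _ := rfl
  right_inv _ := rfl
  map_mul' _ _ := rfl

theorem omega_restrict_of_constituent_inf (H : Subgroup G) [Fintype ↥H] [Fintype ↥(H ⊓ N)]
    (ψ : IrrCharacter ↥H) (ξ : IrrCharacter ↥(H ⊓ N))
    (h : classInner (fun l : ↥(H ⊓ N) => (ψ : ↥H → ℂ) (Subgroup.inclusion inf_le_left l))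
      (ξ : ↥(H ⊓ N) → ℂ) ≠ 0) {f : G → ℂ} (hf : IsClassFunction G f)
    (hfN : ∀ g : G, g ∉ N → f g = 0) :
    Helper16.omega (ψ : ↥H → ℂ) (fun h : ↥H => f h) =
      Helper16.omega (ξ : ↥(H ⊓ N) → ℂ) (fun l : ↥(H ⊓ N) => f l) := by
  classical
  have : Fintype ↥(N.subgroupOf H) := Fintype.ofFinite _
  have hLn : (N.subgroupOf H).Normal := Subgroup.normal_subgroupOf
  let σ : ↥(H ⊓ N) ≃* ↥(N.subgroupOf H) := infEquivSubgroupOf N H
  let ξ' : IrrCharacter ↥(N.subgroupOf H) := irrMap σ ξ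
  have h' : classInner (fun n : ↥(N.subgroupOf H) => (ψ : ↥H → ℂ) n)
      (ξ' : ↥(N.subgroupOf H) → ℂ) ≠ 0 := by
    rw [← classInner_comp_mulEquiv σ]
    have h1 : (fun a : ↥(H ⊓ N) => (ξ' : ↥(N.subgroupOf H) → ℂ) (σ a))
        = (ξ : ↥(H ⊓ N) → ℂ) := by
      funext a
      exact irrMap_apply_apply σ ξ a
    rw [h1]
    exact h
  let f' : ↥(N.subgroupOf H) → ℂ := fun k => f ((k : ↥H) : G)
  have hf' : ∀ (g : ↥H) (n : ↥(N.subgroupOf H)),
      f' ⟨g * n * g⁻¹, hLn.conj_mem (n : ↥H) n.2 g⟩ = f' n := by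
    intro g n
    show f (((g * (n : ↥H) * g⁻¹ : ↥H)) : G) = f ((n : ↥H) : G)
    have : (((g * (n : ↥H) * g⁻¹ : ↥H)) : G) = (g : G) * ((n : ↥H) : G) * (g : G)⁻¹ := by
      simp
    rw [this]
    exact hf _ _
  have hext : (fun h : ↥H => f h) = extendByZero (N.subgroupOf H) f' := by
    funext x
    by_cases hx : x ∈ N.subgroupOf H
    · rw [Helper15.extendByZero_of_mem (N.subgroupOf H) f' hx]
    · rw [Helper15.extendByZero_of_not_mem (N.subgroupOf H) f' hx]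
      apply hfN
      intro hxN
      exact hx (Subgroup.mem_subgroupOf.mpr hxN)
  rw [hext, omega_extendByZero_of_constituent (N.subgroupOf H) ψ ξ' h' hf']
  exact omega_irrMap σ ξ f'

end Cfsg.Agent.Helper80.HK
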