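import Cfsg.Agent.Helper57.BP.Lemmas

/-!
# Piece (T3) of helper57's S4504 (#8294): `θ` is invariant in `N_G(P)`
-/

set_option autoImplicit false

namespace Cfsg.Agent.Helper80.BP

open Cfsg Cfsg.Agent.Helper16 Cfsg.Agent.Helper16.DefOne Cfsg.Agent.Helper82.DefOne
  Cfsg.Agent.Helper77.DefOne Cfsg.Agent.Helper57.BH Cfsg.Agent.Helper57.BP
open scoped ComplexConjugate

universe u

variable {G : Type u} [Group G] [Fintype G] {p : ℕ} [Fact p.Prime] (P : Sylow p G)

/-- (T3) `θ` is invariant in `N_G(P)` -/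
theorem smul_theta_eq (hP : Nat.card P = p)
    {θ : IrrCharacter (cen P)} {ψ ψ₂ : IrrCharacter G}
    {φ₀ φ₂ : IrrCharacter (cen P)} {Xθ Yθ : Set (IrrCharacter G)} {εθ : IrrCharacter G → ℤ}
    (hE : IsExcPair P θ ψ ψ₂ φ₀ φ₂ Xθ Yθ εθ) (hpf : 2 * (cen P).relIndex (nor P) + 1 = p)
    (hY : Yθ = {ψ, ψ₂}) (n : nor P) : n • θ = θ := by
  classical
  set f := (cen P).relIndex (nor P) with hf
  set e := inertia P θ with he
  have hcY : Nat.card Yθ = (p - 1) / e := hE.Dθ.cardY
  have h2 : Nat.card Yθ = 2 := by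
    rw [hY, Nat.card_coe_set_eq, Set.ncard_pair hE.hne]
  have hed : e ∣ f := inertia_dvd P hP θ
  have hepos : 0 < e := inertia_pos P hP θ
  have hfpos : 0 < f := by
    rcases Nat.eq_zero_or_pos f with h | h
    · exfalso
      have hp : p.Prime := Fact.out
      rw [h] at hpf
      have : p = 1 := by omega
      exact hp.one_lt.ne' this
    · exact h
  obtain ⟨k, hk⟩ := hed
  have hp1 : p - 1 = e * (2 * k) := by
    rw [← hpf, hk]
    simp only [Nat.add_sub_cancel]
    ring
  rw [h2, hp1, Nat.mul_div_cancel_left _ hepos] at hcY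
  have hk1 : k = 1 := by omega
  have horb : Nat.card (MulAction.orbit (nor P) θ) * e = f := card_orbit_mul_inertia P hP θ
  rw [hk, hk1, mul_one] at horb
  have horb1 : Nat.card (MulAction.orbit (nor P) θ) = 1 := by
    have := Nat.eq_of_mul_eq_mul_right hepos (by rw [horb, one_mul] :
      Nat.card (MulAction.orbit (nor P) θ) * e = 1 * e)
    exact this
  have hsub : Subsingleton (MulAction.orbit (nor P) θ) :=
    (Nat.card_eq_one_iff_unique.mp horb1).1
  have h3 := hsub.elim ⟨n • θ, MulAction.mem_orbit θ n⟩ ⟨θ, MulAction.mem_orbit_self θ⟩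
  exact congrArg Subtype.val h3

end Cfsg.Agent.Helper80.BP
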