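import Cfsg.Agent.Helper57.BP.Lemmas

/-!
# Piece (V4) of helper57's S4504 (#8294): the order of `G`
-/

set_option autoImplicit false
set_option linter.unusedSectionVars false

namespace Cfsg.Agent.Helper80.BP

open Cfsg Cfsg.Agent.Helper16 Cfsg.Agent.Helper16.DefOne Cfsg.Agent.Helper82.DefOne
  Cfsg.Agent.Helper77.DefOne Cfsg.Agent.Helper57.BH Cfsg.Agent.Helper57.BP
open scoped ComplexConjugate

universe u

variable {G : Type u} [Group G] [Fintype G] {p : ℕ} [Fact p.Prime] (P : Sylow p G)

/-- an element of `P ∩ Z(G)` is trivial when the centre is `p`-regular -/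
theorem eq_one_of_mem_sylow_of_regular (hP : Nat.card P = p) {x : G}
    (hx : x ∈ (P : Subgroup G)) (hreg : ¬ p ∣ orderOf x) : x = 1 := by
  have hp : p.Prime := Fact.out
  have h1 : orderOf x ∣ p := by
    have := orderOf_dvd_natCard (⟨x, hx⟩ : ↥(P : Subgroup G))
    rw [hP, ← Subgroup.orderOf_coe] at this
    exact this
  rcases (Nat.dvd_prime hp).mp h1 with h2 | h2
  · exact orderOf_eq_one_iff.mp h2
  · exact absurd (h2 ▸ dvd_refl _) hreg

/-- `C_G(P) = P × Z(G)` (cardinalities) when the `p`-regular elements of `C_G(P)` are exactly the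
central elements -/
theorem card_cen_of_cent (hP : Nat.card P = p)
    (hcent : ∀ c : cen P, ¬ p ∣ orderOf c → (c : G) ∈ Subgroup.center G)
    (hZreg : ∀ ζ : G, ζ ∈ Subgroup.center G → ¬ p ∣ orderOf ζ) :
    Nat.card (cen P) = p * Nat.card (Subgroup.center G) := by
  classical
  have hPC : (P : Subgroup G) ≤ cen P := le_cen P hP
  have hZC : Subgroup.center G ≤ cen P := Subgroup.center_le_centralizer _
  let φ : ↥(P : Subgroup G) × ↥(Subgroup.center G) → cen P := fun a =>
    ⟨(a.1 : G) * (a.2 : G), (cen P).mul_mem (hPC a.1.2) (hZC a.2.2)⟩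
  have hinj : Function.Injective φ := by
    rintro ⟨⟨x, hx⟩, ⟨ζ, hζ⟩⟩ ⟨⟨x', hx'⟩, ⟨ζ', hζ'⟩⟩ h
    have h1 : x * ζ = x' * ζ' := congrArg Subtype.val h
    have h2 : x'⁻¹ * x = ζ' * ζ⁻¹ := by
      have : x = x' * ζ' * ζ⁻¹ := by rw [← h1]; group
      rw [this]; group
    have h3 : x'⁻¹ * x ∈ (P : Subgroup G) := (P : Subgroup G).mul_mem
      ((P : Subgroup G).inv_mem hx') hx
    have h4 : x'⁻¹ * x ∈ Subgroup.center G := by
      rw [h2]
      exact (Subgroup.center G).mul_mem hζ' ((Subgroup.center G).inv_mem hζ)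
    have h5 : x'⁻¹ * x = 1 := eq_one_of_mem_sylow_of_regular P hP h3 (hZreg _ h4)
    have h6 : x = x' := by
      have := congrArg (fun t => x' * t) h5
      simpa using this
    have h7 : ζ = ζ' := by
      rw [h6] at h1
      exact mul_left_cancel h1
    subst h6
    subst h7
    rfl
  have hsurj : Function.Surjective φ := by
    rintro ⟨c, hc⟩
    obtain ⟨u, y, hu, hy, huy, ⟨k, hk⟩, hyreg⟩ :=
      Helper70.DefOneXG.exists_pPart_decomp (p := p) c
    have hzc : Subgroup.zpowers c ≤ cen P := by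
      rw [Subgroup.zpowers_le]
      exact hc
    have huC : u ∈ cen P := hzc hu
    have hyC : y ∈ cen P := hzc hy
    have huN : u ∈ Subgroup.normalizer ((P : Subgroup G) : Set G) :=
      Subgroup.centralizer_le_normalizer (G := G) ((P : Subgroup G) : Set G) huC
    have huP : u ∈ (P : Subgroup G) := Helper70.DefOneXG.mem_sylow_of_pow P hk huN
    have hyZ : y ∈ Subgroup.center G := by
      have := hcent ⟨y, hyC⟩ (by
        rw [← Subgroup.orderOf_coe]
        exact hyreg)
      exact this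
    refine ⟨(⟨u, huP⟩, ⟨y, hyZ⟩), ?_⟩
    apply Subtype.ext
    exact huy
  have hcard := Nat.card_congr (Equiv.ofBijective φ ⟨hinj, hsurj⟩)
  rw [← hcard, Nat.card_prod]
  congr 1

/-- (V4) the order of `G` -/
theorem card_eq_of_cent (hP : Nat.card P = p)
    (hcent : ∀ c : cen P, ¬ p ∣ orderOf c → (c : G) ∈ Subgroup.center G)
    (hZreg : ∀ ζ : G, ζ ∈ Subgroup.center G → ¬ p ∣ orderOf ζ) :
    Nat.card G = Nat.card (Sylow p G) * ((cen P).relIndex (nor P) *
      (p * Nat.card (Subgroup.center G))) := by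
  classical
  have h1 : Nat.card (Sylow p G) = (Subgroup.normalizer ((P : Subgroup G) : Set G)).index :=
    Sylow.card_eq_index_normalizer P
  have h2 : (nor P).index * Nat.card (nor P) = Nat.card G := Subgroup.index_mul_card _
  have h3 : nor P = Subgroup.normalizer ((P : Subgroup G) : Set G) := nor_eq_normalizer P hP
  have hCN : cen P ≤ nor P := Subgroup.le_normalizer
  have h4 : ((cen P).subgroupOf (nor P)).index * Nat.card ((cen P).subgroupOf (nor P)) =
      Nat.card (nor P) := Subgroup.index_mul_card _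
  have h5 : Nat.card ((cen P).subgroupOf (nor P)) = Nat.card (cen P) :=
    Nat.card_congr (Subgroup.subgroupOfEquivOfLe hCN).toEquiv
  have h6 := card_cen_of_cent P hP hcent hZreg
  rw [h1, ← h3, ← h2, ← h4, h5, h6]
  rfl

end Cfsg.Agent.Helper80.BP
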