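import Cfsg.Agent.Helper57.BP.Lemmas

/-!
# Piece (W1) of helper57's S4504 (#8294): `P \ 1` is two `N_G(P)`-classes of size `f`
-/

set_option autoImplicit false
set_option linter.unusedSectionVars false

namespace Cfsg.Agent.Helper80.BP

open Cfsg Cfsg.Agent.Helper16 Cfsg.Agent.Helper16.DefOne Cfsg.Agent.Helper82.DefOne
  Cfsg.Agent.Helper77.DefOne Cfsg.Agent.Helper57.BH Cfsg.Agent.Helper57.BP
open scoped ComplexConjugate

universe u

/-- orbit counting for the conjugation action of a subgroup `N` on an element `y` whose centralizer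
in `N` is `C` -/
theorem card_conjOrbit_mul {G : Type u} [Group G] [Fintype G] [DecidableEq G] (N C : Subgroup G)
    [Fintype N] [Fintype C] (hCN : C ≤ N) (y : G)
    (h : ∀ n ∈ N, n * y * n⁻¹ = y → n ∈ C) (h' : ∀ c ∈ C, c * y * c⁻¹ = y) :
    ((Finset.univ : Finset N).image (fun n : N => (n : G) * y * (n : G)⁻¹)).card * Nat.card C =
      Nat.card N := by
  classical
  set O := (Finset.univ : Finset N).image (fun n : N => (n : G) * y * (n : G)⁻¹) with hO
  have h1 : (Finset.univ : Finset N).card =
      ∑ z ∈ O, ((Finset.univ : Finset N).filter (fun n : N => (n : G) * y * (n : G)⁻¹ = z)).card :=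
    Finset.card_eq_sum_card_fiberwise (fun n _ => Finset.mem_image_of_mem _ (Finset.mem_univ n))
  have h2 : ∀ z ∈ O,
      ((Finset.univ : Finset N).filter (fun n : N => (n : G) * y * (n : G)⁻¹ = z)).card =
        Nat.card C := by
    intro z hz
    obtain ⟨n₀, -, rfl⟩ := Finset.mem_image.mp hz
    have himg : (Finset.univ : Finset N).filter
        (fun n : N => (n : G) * y * (n : G)⁻¹ = (n₀ : G) * y * (n₀ : G)⁻¹) =
        (Finset.univ : Finset C).image (fun c : C => (⟨(n₀ : G) * (c : G),
          N.mul_mem n₀.2 (hCN c.2)⟩ : N)) := by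
      ext n
      simp only [Finset.mem_filter, Finset.mem_univ, true_and, Finset.mem_image]
      constructor
      · intro hn
        have hmem : (n₀ : G)⁻¹ * (n : G) ∈ C := by
          apply h _ (N.mul_mem (N.inv_mem n₀.2) n.2)
          have : ((n₀ : G)⁻¹ * (n : G)) * y * ((n₀ : G)⁻¹ * (n : G))⁻¹ =
              (n₀ : G)⁻¹ * ((n : G) * y * (n : G)⁻¹) * (n₀ : G) := by group
          rw [this, hn]
          group
        refine ⟨⟨_, hmem⟩, ?_⟩
        apply Subtype.ext
        simp
      · rintro ⟨c, rfl⟩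
        have hc := h' c c.2
        have : ((n₀ : G) * (c : G)) * y * ((n₀ : G) * (c : G))⁻¹ =
            (n₀ : G) * ((c : G) * y * (c : G)⁻¹) * (n₀ : G)⁻¹ := by group
        simp only [this, hc]
    rw [himg, Finset.card_image_of_injective, Finset.card_univ, Nat.card_eq_fintype_card]
    intro c c' hcc
    have := congrArg Subtype.val hcc
    simp only [mul_right_inj] at this
    exact Subtype.ext this
  rw [Finset.sum_congr rfl h2, Finset.sum_const, smul_eq_mul, Finset.card_univ] at h1
  rw [Nat.card_eq_fintype_card (α := N), h1]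

variable {G : Type u} [Group G] [Fintype G] {p : ℕ} [Fact p.Prime] (P : Sylow p G)

/-- an element of `N_G(P)` centralizing a nontrivial element of `P` centralizes `P` -/
theorem mem_cen_of_comm (hP : Nat.card P = p) {y : G} (hy : y ∈ (P : Subgroup G)) (hy1 : y ≠ 1)
    {n : G} (hn : n * y * n⁻¹ = y) : n ∈ cen P := by
  have hz : Subgroup.zpowers y = (P : Subgroup G) :=
    Helper70.DefOneXG.zpowers_eq_sylow P hP hy hy1
  rw [Subgroup.mem_centralizer_iff]
  intro g hg
  have hg' : g ∈ Subgroup.zpowers y := by rw [hz]; exact hg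
  obtain ⟨k, rfl⟩ := Subgroup.mem_zpowers_iff.mp hg'
  have hc : Commute n y := by
    have : n * y = y * n := by
      have := congrArg (fun t => t * n) hn
      simpa using this
    exact this
  exact ((hc.zpow_right k).eq).symm

/-- (W1) `P \ 1` consists of two `N_G(P)`-classes of size `f` -/
theorem exists_other_class (hP : Nat.card P = p) (hpf : 2 * (cen P).relIndex (nor P) + 1 = p)
    (x : G) (hx : x ∈ (P : Subgroup G)) (hx1 : x ≠ 1) :
    ∃ v : G, v ∈ (P : Subgroup G) ∧ v ≠ 1 ∧
      ∀ F : G → ℂ, IsClassFunction G F →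
        pSum P F = F 1 + ((cen P).relIndex (nor P) : ℂ) * F x +
          ((cen P).relIndex (nor P) : ℂ) * F v := by
  classical
  set f := (cen P).relIndex (nor P) with hf
  have hCN : cen P ≤ nor P := Subgroup.le_normalizer
  have hNN : nor P = Subgroup.normalizer ((P : Subgroup G) : Set G) := nor_eq_normalizer P hP
  -- `|N| = f |C|`
  have h4 : ((cen P).subgroupOf (nor P)).index * Nat.card ((cen P).subgroupOf (nor P)) =
      Nat.card (nor P) := Subgroup.index_mul_card _
  have h5 : Nat.card ((cen P).subgroupOf (nor P)) = Nat.card (cen P) :=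
    Nat.card_congr (Subgroup.subgroupOfEquivOfLe hCN).toEquiv
  have hNC : f * Nat.card (cen P) = Nat.card (nor P) := by
    rw [← h4, h5]
    rfl
  have hCpos : 0 < Nat.card (cen P) := Nat.card_pos
  -- the orbits
  let O : G → Finset G := fun y =>
    (Finset.univ : Finset (nor P)).image (fun n : nor P => (n : G) * y * (n : G)⁻¹)
  set Pf : Finset G := Finset.univ.filter (fun g : G => g ∈ (P : Subgroup G)) with hPf
  have hPfcard : Pf.card = p := by
    rw [← hP, Nat.card_eq_fintype_card, Fintype.card_subtype]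
  have h1Pf : (1 : G) ∈ Pf := by
    rw [hPf, Finset.mem_filter]
    exact ⟨Finset.mem_univ _, (P : Subgroup G).one_mem⟩
  set P1 : Finset G := Pf.erase 1 with hP1
  have hP1card : P1.card = 2 * f := by
    rw [hP1, Finset.card_erase_of_mem h1Pf, hPfcard, ← hpf]
    simp
  have hOsub : ∀ y : G, y ∈ (P : Subgroup G) → y ≠ 1 → O y ⊆ P1 := by
    intro y hy hy1 z hz
    obtain ⟨n, -, rfl⟩ := Finset.mem_image.mp hz
    rw [hP1, Finset.mem_erase, hPf, Finset.mem_filter]
    refine ⟨?_, Finset.mem_univ _, ?_⟩
    · intro h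
      apply hy1
      have := congrArg (fun t => (n : G)⁻¹ * t * (n : G)) h
      simpa [mul_assoc] using this
    · have hn : (n : G) ∈ Subgroup.normalizer ((P : Subgroup G) : Set G) := by
        rw [← hNN]; exact n.2
      exact (Subgroup.mem_normalizer_iff.mp hn y).mp hy
  have hOcard : ∀ y : G, y ∈ (P : Subgroup G) → y ≠ 1 → (O y).card = f := by
    intro y hy hy1
    have := card_conjOrbit_mul (nor P) (cen P) hCN y
      (fun n _ hn => mem_cen_of_comm P hP hy hy1 hn)
      (fun c hc => by
        have := (Subgroup.mem_centralizer_iff.mp hc) y hy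
        rw [← this]
        group)
    rw [← hNC] at this
    exact Nat.eq_of_mul_eq_mul_right hCpos this
  have hfpos : 0 < f := by
    rcases Nat.eq_zero_or_pos f with h | h
    · exfalso
      have hp : p.Prime := Fact.out
      rw [h] at hpf
      have : p = 1 := by omega
      exact hp.one_lt.ne' this
    · exact h
  -- a second orbit
  have hex : ∃ v ∈ P1, v ∉ O x := by
    by_contra hcon
    have hsub : P1 ⊆ O x := by
      intro v hv
      by_contra hv'
      exact hcon ⟨v, hv, hv'⟩
    have := Finset.card_le_card hsub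
    rw [hP1card, hOcard x hx hx1] at this
    omega
  obtain ⟨v, hvP1, hvO⟩ := hex
  have hvP : v ∈ (P : Subgroup G) := by
    have := Finset.mem_of_mem_erase hvP1
    rw [hPf, Finset.mem_filter] at this
    exact this.2
  have hv1 : v ≠ 1 := Finset.ne_of_mem_erase hvP1
  refine ⟨v, hvP, hv1, ?_⟩
  have hdisj : Disjoint (O x) (O v) := by
    rw [Finset.disjoint_left]
    intro z hzx hzv
    obtain ⟨n, -, hn⟩ := Finset.mem_image.mp hzx
    obtain ⟨m, -, hm⟩ := Finset.mem_image.mp hzv
    apply hvO
    refine Finset.mem_image.mpr ⟨m⁻¹ * n, Finset.mem_univ _, ?_⟩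
    have h1 : (m : G) * v * (m : G)⁻¹ = (n : G) * x * (n : G)⁻¹ := by rw [hm, hn]
    have h2 : v = (m : G)⁻¹ * ((n : G) * x * (n : G)⁻¹) * (m : G) := by
      rw [← h1]; group
    rw [h2]
    simp only [Subgroup.coe_mul, Subgroup.coe_inv]
    group
  have hunion : O x ∪ O v = P1 := by
    apply Finset.eq_of_subset_of_card_le
    · exact Finset.union_subset (hOsub x hx hx1) (hOsub v hvP hv1)
    · rw [Finset.card_union_of_disjoint hdisj, hOcard x hx hx1, hOcard v hvP hv1, hP1card]
      omega
  intro F hF
  have hsumO : ∀ y : G, y ∈ (P : Subgroup G) → y ≠ 1 → ∑ z ∈ O y, F z = (f : ℂ) * F y := by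
    intro y hy hy1
    have : ∀ z ∈ O y, F z = F y := by
      intro z hz
      obtain ⟨n, -, rfl⟩ := Finset.mem_image.mp hz
      exact hF y n
    rw [Finset.sum_congr rfl this, Finset.sum_const, hOcard y hy hy1, nsmul_eq_mul]
  have hset : ((P : Subgroup G) : Set G) = ↑Pf := by
    ext g
    simp [hPf]
  unfold pSum
  rw [hset, finsum_mem_coe_finset, ← Finset.add_sum_erase Pf F h1Pf, ← hP1, ← hunion,
    Finset.sum_union hdisj, hsumO x hx hx1, hsumO v hvP hv1]
  ring

end Cfsg.Agent.Helper80.BP
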