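-- helper80: piece (PSL) of #4917 for helper6 (S2359): centralizers of elements of odd prime order s ∤ q(q-1) in Z₂ × PSL₂(q).
import Mathlib
import Cfsg.Agent.Helper41.SL2Torus
import Cfsg.Agent.Helper41.SL2ClassSum
import Cfsg.Agent.Helper42.SL2OddClass
import Cfsg.Agent.S0809
import Cfsg.Agent.Helper5.PSL2

set_option autoImplicit false

namespace Cfsg.Agent.Helper80.ReePSL

open Matrix Cfsg.Agent.Helper41 Cfsg.Agent.Helper42

/-- The order of the full preimage of a subgroup of a quotient. -/
theorem card_comap_mk' {G : Type*} [Group G] [Finite G] (Z : Subgroup G) [Z.Normal] (K : Subgroup (G ⧸ Z)) :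
    Nat.card (K.comap (QuotientGroup.mk' Z)) = Nat.card K * Nat.card Z := by
  have h1 : (K.comap (QuotientGroup.mk' Z)).index = K.index :=
    Subgroup.index_comap_of_surjective _ (QuotientGroup.mk'_surjective Z)
  have h2 := (K.comap (QuotientGroup.mk' Z)).card_mul_index
  have h3 := K.card_mul_index
  have h4 : Nat.card G = Nat.card (G ⧸ Z) * Nat.card Z := Subgroup.card_eq_card_quotient_mul_card_subgroup Z
  have hidx : 0 < K.index := Nat.pos_of_ne_zero Subgroup.index_ne_zero_of_finite
  rw [h1] at h2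
  apply Nat.eq_of_mul_eq_mul_right hidx
  rw [h2, h4, ← h3]
  ring

section psl

variable {F : Type*} [Field F] [Fintype F]

local notation "SL2F" => Matrix.SpecialLinearGroup (Fin 2) F
local notation "M2F" => Matrix (Fin 2) (Fin 2) F

/-- The `PSL₂`-level statement: the centralizer of an element of odd prime order `s ∤ q(q-1)` is abelian of order
`(q+1)/2`. -/
theorem psl2_centralizer (hodd : Odd (Fintype.card F)) {s : ℕ} (hs : s.Prime)
    (hs2 : s ≠ 2) (hsq : ¬ s ∣ Fintype.card F) (hsq1 : ¬ s ∣ Fintype.card F - 1)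
    (b : Matrix.ProjectiveSpecialLinearGroup (Fin 2) F) (hb : orderOf b = s) :
    (∀ c₁ ∈ Subgroup.centralizer {b}, ∀ c₂ ∈ Subgroup.centralizer {b}, c₁ * c₂ = c₂ * c₁) ∧
      2 * Nat.card (Subgroup.centralizer {b}) = Fintype.card F + 1 := by
  classical
  have h2 : (2 : F) ≠ 0 := Cfsg.Agent.Helper5.two_ne_zero_of_odd_card hodd
  have hodd' : Fintype.card F % 2 = 1 := Nat.odd_iff.mp hodd
  obtain ⟨B, rfl⟩ := QuotientGroup.mk'_surjective (Subgroup.center SL2F) b
  have hb1 : (QuotientGroup.mk' (Subgroup.center SL2F)) B ≠ 1 := by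
    intro h1
    rw [h1, orderOf_one] at hb
    exact hs.one_lt.ne hb
  -- `B` is not scalar
  have hns : ∀ r : F, (B : M2F) ≠ Matrix.scalar (Fin 2) r := by
    intro r hr
    apply hb1
    rw [QuotientGroup.mk'_apply, QuotientGroup.eq_one_iff, Subgroup.mem_center_iff]
    intro g
    apply Subtype.ext
    rw [Matrix.SpecialLinearGroup.coe_mul, Matrix.SpecialLinearGroup.coe_mul, hr]
    exact (Matrix.scalar_commute r (fun r' => mul_comm r r') (g : M2F)).eq.symm
  have hnsSL : Cfsg.Agent.Helper39.IsNonScalarSL B := by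
    rintro ⟨h01, h10, h00⟩
    apply hns ((B : M2F) 0 0)
    ext i j
    fin_cases i <;> fin_cases j <;> simp [h01, h10, h00]
  -- the trace of `B` is not zero
  have htr : (B : M2F).trace ≠ 0 := by
    intro h0
    have h1 := mul_self_of_trace_zero (B : M2F) h0
    rw [B.det_coe] at h1
    have h3 : B ^ 4 = 1 := by
      apply Subtype.ext
      rw [Matrix.SpecialLinearGroup.coe_pow, Matrix.SpecialLinearGroup.coe_one]
      have e : (B : M2F) ^ 4 = ((B : M2F) * (B : M2F)) * ((B : M2F) * (B : M2F)) := by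
        rw [pow_succ, pow_succ, pow_succ, pow_one]
        simp only [mul_assoc]
      rw [e, h1]
      simp
    have h4 : ((QuotientGroup.mk' (Subgroup.center SL2F)) B) ^ 4 = 1 := by
      rw [← map_pow, h3, map_one]
    have h5 : s ∣ 4 := by
      rw [← hb]
      exact orderOf_dvd_of_pow_eq_one h4
    have h6 : s ∣ 2 := hs.dvd_of_dvd_pow (by norm_num at h5 ⊢; exact h5 : s ∣ 2 ^ 2)
    exact hs2 ((Nat.prime_dvd_prime_iff_eq hs Nat.prime_two).mp h6)
  have hpre : preCent B = Subgroup.centralizer ({B} : Set SL2F) := preCent_eq_of_trace_ne_zero h2 B htr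
  have hcardC : Nat.card (Subgroup.centralizer ({B} : Set SL2F)) =
      Nat.card (Subgroup.centralizer
        ({(QuotientGroup.mk' (Subgroup.center SL2F)) B} : Set (SL2F ⧸ Subgroup.center SL2F))) * 2 := by
    have h5 := card_comap_mk' (Subgroup.center SL2F) (Subgroup.centralizer
      ({(QuotientGroup.mk' (Subgroup.center SL2F)) B} : Set (SL2F ⧸ Subgroup.center SL2F)))
    rw [Cfsg.Agent.Helper5.card_center_SL2_of_two_ne_zero (F := F) h2] at h5
    rw [← hpre]
    exact h5
  have hsdvd : s ∣ Nat.card (Subgroup.centralizer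
      ({(QuotientGroup.mk' (Subgroup.center SL2F)) B} : Set (SL2F ⧸ Subgroup.center SL2F))) := by
    rw [← hb]
    apply Subgroup.orderOf_dvd_natCard
    rw [Subgroup.mem_centralizer_singleton_iff]
  constructor
  · intro c₁ hc₁ c₂ hc₂
    obtain ⟨C₁, rfl⟩ := QuotientGroup.mk'_surjective (Subgroup.center SL2F) c₁
    obtain ⟨C₂, rfl⟩ := QuotientGroup.mk'_surjective (Subgroup.center SL2F) c₂
    have hC₁ : C₁ ∈ Subgroup.centralizer ({B} : Set SL2F) := by
      rw [← hpre]
      exact hc₁
    have hC₂ : C₂ ∈ Subgroup.centralizer ({B} : Set SL2F) := by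
      rw [← hpre]
      exact hc₂
    rw [← map_mul, ← map_mul, sl2_centralizer_comm B C₁ C₂ hns hC₁ hC₂]
  · by_cases h4 : (B : M2F).trace ^ 2 = 4
    · exfalso
      have h5 := card_centralizer_of_trace_sq_eq_four hodd B hnsSL h4
      rw [hcardC] at h5
      have h6 : Nat.card (Subgroup.centralizer
          ({(QuotientGroup.mk' (Subgroup.center SL2F)) B} : Set (SL2F ⧸ Subgroup.center SL2F))) =
          Fintype.card F := by omega
      rw [h6] at hsdvd
      exact hsq hsdvd
    · have h5 := Cfsg.Agent.S0809.card_centralizer_add_rootCount h2 hodd' B h4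
      by_cases h0 : rootCount (B : M2F).trace = 0
      · rw [h0, hcardC] at h5
        show 2 * Nat.card (Subgroup.centralizer
          ({(QuotientGroup.mk' (Subgroup.center SL2F)) B} : Set (SL2F ⧸ Subgroup.center SL2F))) = _
        omega
      · exfalso
        have h6 := rootCount_eq_two_of_ne_zero _ h4 h0
        rw [h6, hcardC] at h5
        have h7 : Nat.card (Subgroup.centralizer
            ({(QuotientGroup.mk' (Subgroup.center SL2F)) B} : Set (SL2F ⧸ Subgroup.center SL2F))) * 2 =
            Fintype.card F - 1 := by omega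
        apply hsq1
        rw [← h7]
        exact Dvd.dvd.mul_right hsdvd 2

end psl

/-- **(PSL)** -/
theorem prod_psl2_centralizer {F : Type*} [Field F] [Fintype F] (hodd : Odd (Fintype.card F)) {s : ℕ}
    (hs : s.Prime) (hs2 : s ≠ 2) (hsq : ¬ s ∣ Fintype.card F) (hsq1 : ¬ s ∣ Fintype.card F - 1)
    (x : Multiplicative (ZMod 2) × Matrix.ProjectiveSpecialLinearGroup (Fin 2) F) (hx : orderOf x = s) :
    (∀ y ∈ Subgroup.centralizer {x}, ∀ z ∈ Subgroup.centralizer {x}, y * z = z * y) ∧
      Nat.card (Subgroup.centralizer {x}) = Fintype.card F + 1 := by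
  classical
  obtain ⟨e, b⟩ := x
  have he : e = 1 := by
    have h1 : e ^ 2 = 1 := by
      have h0 := pow_card_eq_one' (G := Multiplicative (ZMod 2)) (x := e)
      have hc : Nat.card (Multiplicative (ZMod 2)) = 2 := by
        rw [Nat.card_eq_fintype_card, Fintype.card_multiplicative, ZMod.card]
      rwa [hc] at h0
    have h3 : e ^ s = 1 := by
      have h0 := pow_orderOf_eq_one ((e, b) : Multiplicative (ZMod 2) × Matrix.ProjectiveSpecialLinearGroup (Fin 2) F)
      rw [hx] at h0
      exact congrArg Prod.fst h0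
    have h4 := pow_gcd_eq_one.mpr ⟨h1, h3⟩
    have hg : Nat.gcd 2 s = 1 := (Nat.coprime_primes Nat.prime_two hs).mpr (Ne.symm hs2)
    rwa [hg, pow_one] at h4
  subst he
  have hb : orderOf b = s := by
    rw [Prod.orderOf] at hx
    simpa using hx
  obtain ⟨hab, hcard⟩ := psl2_centralizer hodd hs hs2 hsq hsq1 b hb
  have hmem : ∀ y : Multiplicative (ZMod 2) × Matrix.ProjectiveSpecialLinearGroup (Fin 2) F,
      y ∈ Subgroup.centralizer {((1 : Multiplicative (ZMod 2)), b)} ↔ y.2 ∈ Subgroup.centralizer {b} := by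
    rintro ⟨e', c⟩
    rw [Subgroup.mem_centralizer_singleton_iff, Subgroup.mem_centralizer_singleton_iff]
    constructor
    · intro h
      exact congrArg Prod.snd h
    · intro h
      exact Prod.ext (by simp) h
  constructor
  · rintro ⟨e₁, c₁⟩ h₁ ⟨e₂, c₂⟩ h₂
    exact Prod.ext (mul_comm e₁ e₂) (hab c₁ ((hmem _).mp h₁) c₂ ((hmem _).mp h₂))
  · have hc : Nat.card (Multiplicative (ZMod 2)) = 2 := by
      rw [Nat.card_eq_fintype_card, Fintype.card_multiplicative, ZMod.card]
    have h6 : Nat.card (Subgroup.centralizer {((1 : Multiplicative (ZMod 2)), b)}) =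
        Nat.card (Multiplicative (ZMod 2) × Subgroup.centralizer {b}) :=
      Nat.card_congr
        { toFun := fun y => (y.1.1, ⟨y.1.2, (hmem _).mp y.2⟩)
          invFun := fun y => ⟨(y.1, y.2.1), (hmem _).mpr y.2.2⟩
          left_inv := fun y => rfl
          right_inv := fun y => rfl }
    rw [h6, Nat.card_prod, hc]
    exact hcard

end Cfsg.Agent.Helper80.ReePSL
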