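import Mathlib
import Cfsg.Agent.Helper39.SimpOrd.Kit

/-!
# Small kit for Sylow counting with Sylow subgroups of prime order (helper80)

`cen_data`: for a Sylow `p`-subgroup `P` of prime order in a simple group, `|C(P)| * f = |N(P)|`
with `1 < f ∣ p - 1` and `p ∣ |C(P)|`.
`cen_cross`: if `q ∣ |C(P)|` then some Sylow `q`-subgroup `Q` (of order `q`) has `p ∣ |C(Q)|`.
`cen_kill`: both combined, from `q ∣ |N(P)|`, `q ∤ p - 1`.
-/

set_option autoImplicit false
set_option linter.unusedSectionVars false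

namespace Cfsg.Agent.Helper80.J1Kit

open Subgroup Cfsg.Agent.Helper17

variable {K : Type*} [Group K] [Finite K]

/-- A Sylow subgroup of prime order lies in its centralizer. -/
theorem sylow_le_centralizer {p : ℕ} [Fact p.Prime] (P : Sylow p K)
    (hP : Nat.card (P : Subgroup K) = p) :
    (P : Subgroup K) ≤ centralizer ((P : Subgroup K) : Set K) := by
  have hp : p.Prime := Fact.out
  have : Fact (Nat.card (P : Subgroup K)).Prime := ⟨hP.symm ▸ hp⟩
  have hcyc : IsCyclic (P : Subgroup K) :=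
    isCyclic_of_prime_card (p := Nat.card (P : Subgroup K)) rfl
  have : IsMulCommutative (P : Subgroup K) := ⟨⟨fun a b => by
    let := hcyc.commGroup; exact mul_comm a b⟩⟩
  exact Subgroup.le_centralizer _

/-- `|C(P)| * f = |N(P)|` with `1 < f ∣ p - 1` and `p ∣ |C(P)|`. -/
theorem cen_data [IsSimpleGroup K] {p : ℕ} [Fact p.Prime] (P : Sylow p K)
    (hP : Nat.card (P : Subgroup K) = p) (hK : Nat.card K ≠ p) :
    ∃ f, 1 < f ∧ f ∣ p - 1 ∧
      Nat.card (centralizer ((P : Subgroup K) : Set K)) * f =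
        Nat.card (normalizer ((P : Subgroup K) : Set K)) ∧
      p ∣ Nat.card (centralizer ((P : Subgroup K) : Set K)) := by
  have hp : p.Prime := Fact.out
  obtain ⟨h1, _⟩ := relIndex_dvd_of_card_sylow_prime P hP
  refine ⟨_, ?_, h1, card_centralizer_mul_relIndex (P : Subgroup K), ?_⟩
  · have hne : ¬ (normalizer ((P : Subgroup K) : Set K) ≤ centralizer ((P : Subgroup K) : Set K)) :=
      not_normalizer_le_centralizer_of_simple P (by rw [hP]; exact hp.one_lt.ne')
        (by rw [hP]; exact hK.symm)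
    have h0 : (centralizer ((P : Subgroup K) : Set K)).relIndex
        (normalizer ((P : Subgroup K) : Set K)) ≠ 0 := Subgroup.index_ne_zero_of_finite
    have h1' : (centralizer ((P : Subgroup K) : Set K)).relIndex
        (normalizer ((P : Subgroup K) : Set K)) ≠ 1 :=
      fun h => hne (Subgroup.relIndex_eq_one.mp h)
    omega
  · have := Subgroup.card_dvd_of_le (sylow_le_centralizer P hP)
    rwa [hP] at this

/-- If `q ∣ |C(P)|`, some Sylow `q`-subgroup `Q` has `p ∣ |C(Q)|` (Sylow `q`-subgroups of order `q`). -/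
theorem cen_cross {p q : ℕ} [Fact p.Prime] [Fact q.Prime] (P : Sylow p K)
    (hP : Nat.card (P : Subgroup K) = p) (hQ : ∀ Q : Sylow q K, Nat.card (Q : Subgroup K) = q)
    (hq : q ∣ Nat.card (centralizer ((P : Subgroup K) : Set K))) :
    ∃ Q : Sylow q K, p ∣ Nat.card (centralizer ((Q : Subgroup K) : Set K)) := by
  obtain ⟨x, hx⟩ := exists_prime_orderOf_dvd_card' q hq
  have hx' : orderOf (x : K) = q := by rw [Subgroup.orderOf_coe]; exact hx
  have hpg : IsPGroup q (zpowers (x : K)) := by
    apply IsPGroup.of_card (n := 1)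
    rw [Nat.card_zpowers, hx', pow_one]
  obtain ⟨Q, hQle⟩ := hpg.exists_le_sylow
  have hQeq : zpowers (x : K) = Q := by
    apply Subgroup.eq_of_le_of_card_ge hQle
    rw [hQ Q, Nat.card_zpowers, hx']
  refine ⟨Q, ?_⟩
  have hle : (P : Subgroup K) ≤ centralizer ((Q : Subgroup K) : Set K) := by
    intro y hy
    rw [Subgroup.mem_centralizer_iff]
    intro z hz
    rw [SetLike.mem_coe, ← hQeq, Subgroup.mem_zpowers_iff] at hz
    obtain ⟨k, rfl⟩ := hz
    have hxy : (x : K) * y = y * x := by
      have := x.2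
      rw [Subgroup.mem_centralizer_iff] at this
      exact (this y hy).symm
    exact ((Commute.zpow_left hxy k).eq)
  have := Subgroup.card_dvd_of_le hle
  rwa [hP] at this

/-- (CEN): if `q ∣ |N(P)|` and `q ∤ p - 1`, some Sylow `q`-subgroup `Q` has `p ∣ |C(Q)|`. -/
theorem cen_kill [IsSimpleGroup K] {p q : ℕ} [Fact p.Prime] [Fact q.Prime] (P : Sylow p K)
    (hP : Nat.card (P : Subgroup K) = p) (hK : Nat.card K ≠ p)
    (hQ : ∀ Q : Sylow q K, Nat.card (Q : Subgroup K) = q)
    (hq : q ∣ Nat.card (normalizer ((P : Subgroup K) : Set K))) (hqp : ¬ q ∣ p - 1) :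
    ∃ Q : Sylow q K, p ∣ Nat.card (centralizer ((Q : Subgroup K) : Set K)) := by
  obtain ⟨f, _, hf2, hf3, _⟩ := cen_data P hP hK
  apply cen_cross P hP hQ
  rw [← hf3] at hq
  rcases (Nat.Prime.dvd_mul (Fact.out : q.Prime)).mp hq with h | h
  · exact h
  · exact absurd (h.trans hf2) hqp

end Cfsg.Agent.Helper80.J1Kit
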