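import Mathlib
import Cfsg.Agent.Helper80.J1Kit
import Cfsg.Agent.Helper61.J1Count

/-!
# Leaves (L5), (L6) of helper61's reduction of S4274 (WANTED #3711/#3714)

No simple group of order `35112`; no simple group of order `7980` with `210` Sylow `19`-subgroups.
-/

set_option autoImplicit false

namespace Cfsg.Agent.Helper80.J1L56

open Subgroup Cfsg.Agent.Helper9 Cfsg.Agent.Helper17 Cfsg.Agent.Helper39.SimpOrd
open Cfsg.Agent.Helper80.J1Kit

variable {K : Type*} [Group K] [Finite K] [IsSimpleGroup K]

instance fact5 : Fact (Nat.Prime 5) := ⟨by norm_num⟩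
instance fact7 : Fact (Nat.Prime 7) := ⟨by norm_num⟩
instance fact11 : Fact (Nat.Prime 11) := ⟨by norm_num⟩
instance fact19 : Fact (Nat.Prime 19) := ⟨by norm_num⟩

theorem npList_5_1596 : npList 5 1 1596 = [21, 266] := by decide +kernel
theorem npList_7_1140 : npList 7 1 1140 = [57, 190] := by decide +kernel

/-- **(L6)** -/
theorem not_simple_7980_210 (hcard : Nat.card K = 7980)
    (h19 : Nat.card (Sylow 19 K) = 210) : False := by
  have hG : ¬ IsMulCommutative K := not_comm_of_simple_of_not_prime (by rw [hcard]; norm_num)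
  have hK19 : Nat.card K ≠ 19 := by rw [hcard]; norm_num
  have hK5 : Nat.card K ≠ 5 := by rw [hcard]; norm_num
  have hK7 : Nat.card K ≠ 7 := by rw [hcard]; norm_num
  have hP19 : ∀ P : Sylow 19 K, Nat.card (P : Subgroup K) = 19 := fun P => by
    simpa using card_sylow_subgroup_of_card_eq (k := 1) (m := 420) (by rw [hcard]; norm_num) (by norm_num) P
  have hP5 : ∀ P : Sylow 5 K, Nat.card (P : Subgroup K) = 5 := fun P => by
    simpa using card_sylow_subgroup_of_card_eq (k := 1) (m := 1596) (by rw [hcard]; norm_num) (by norm_num) P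
  have hP7 : ∀ P : Sylow 7 K, Nat.card (P : Subgroup K) = 7 := fun P => by
    simpa using card_sylow_subgroup_of_card_eq (k := 1) (m := 1140) (by rw [hcard]; norm_num) (by norm_num) P
  -- c19 = 19
  have hc19 : ∀ P : Sylow 19 K, Nat.card (centralizer ((P : Subgroup K) : Set K)) = 19 := by
    intro P
    obtain ⟨f, hf1, hf2, hf3, hf4⟩ := cen_data P (hP19 P) hK19
    have hN := card_normalizer_of_card_sylow P hcard h19 (N := 38) (by norm_num) (by norm_num)
    rw [hN] at hf3
    have hfle : f ≤ 18 := Nat.le_of_dvd (by norm_num) hf2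
    interval_cases f <;> omega
  -- n5 = 266
  have hn5 : Nat.card (Sylow 5 K) = 266 := by
    have hmem := card_sylow_mem_npList hG 5 1 1596 (by norm_num) (by rw [hcard]; norm_num) (by norm_num)
      (by norm_num) (by norm_num)
    rw [npList_5_1596] at hmem
    simp only [List.mem_cons, List.not_mem_nil, or_false] at hmem
    rcases hmem with h | h
    · exfalso
      obtain ⟨Q⟩ : Nonempty (Sylow 5 K) := inferInstance
      have hN := card_normalizer_of_card_sylow Q hcard h (N := 380) (by norm_num) (by norm_num)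
      obtain ⟨P', hP'⟩ := cen_kill (q := 19) Q (hP5 Q) hK5 hP19 (by rw [hN]; norm_num)
        (by norm_num)
      rw [hc19 P'] at hP'
      omega
    · exact h
  -- c5 = 15
  have hc5 : ∀ Q : Sylow 5 K, Nat.card (centralizer ((Q : Subgroup K) : Set K)) = 15 := by
    intro Q
    obtain ⟨f, hf1, hf2, hf3, hf4⟩ := cen_data Q (hP5 Q) hK5
    have hN := card_normalizer_of_card_sylow Q hcard hn5 (N := 30) (by norm_num) (by norm_num)
    rw [hN] at hf3
    have hfle : f ≤ 4 := Nat.le_of_dvd (by norm_num) hf2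
    interval_cases f <;> omega
  -- n7 = 190
  have hn7 : Nat.card (Sylow 7 K) = 190 := by
    have hmem := card_sylow_mem_npList hG 7 1 1140 (by norm_num) (by rw [hcard]; norm_num) (by norm_num)
      (by norm_num) (by norm_num)
    rw [npList_7_1140] at hmem
    simp only [List.mem_cons, List.not_mem_nil, or_false] at hmem
    rcases hmem with h | h
    · exfalso
      obtain ⟨R⟩ : Nonempty (Sylow 7 K) := inferInstance
      have hN := card_normalizer_of_card_sylow R hcard h (N := 140) (by norm_num) (by norm_num)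
      obtain ⟨Q', hQ'⟩ := cen_kill (q := 5) R (hP7 R) hK7 hP5 (by rw [hN]; norm_num)
        (by norm_num)
      rw [hc5 Q'] at hQ'
      omega
    · exact h
  -- the count
  obtain ⟨P⟩ : Nonempty (Sylow 19 K) := inferInstance
  obtain ⟨Q⟩ : Nonempty (Sylow 5 K) := inferInstance
  obtain ⟨R⟩ : Nonempty (Sylow 7 K) := inferInstance
  have hcnt := Cfsg.Agent.Helper61.J1.three_prime_count P Q R (hP19 P) (hP5 Q) (hP7 R)
    (by rw [hc19 P]; norm_num) (by rw [hc19 P]; norm_num) (by rw [hc5 Q]; norm_num)
  rw [h19, hn5, hn7, hc19 P, hc5 Q, hcard] at hcnt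
  obtain ⟨f, hf1, hf2, hf3, hf4⟩ := cen_data R (hP7 R) hK7
  obtain ⟨c', hc'⟩ := hf4
  have hc'pos : 1 ≤ c' := by
    rcases Nat.eq_zero_or_pos c' with h0 | h0
    · exfalso
      rw [hc', h0] at hf3
      have hpos : 0 < Nat.card (normalizer ((R : Subgroup K) : Set K)) := Nat.card_pos
      omega
    · exact h0
  rw [hc', Nat.mul_div_cancel_left c' (by norm_num : 0 < 7)] at hcnt
  norm_num at hcnt
  omega

theorem npList_19_1848 : npList 19 1 1848 = [77] := by decide +kernel
theorem npList_11_3192 : npList 11 1 3192 = [133, 1596] := by decide +kernel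
theorem npList_7_5016 : npList 7 1 5016 = [22, 57, 1254] := by decide +kernel

/-- **(L5)** -/
theorem not_simple_35112 (hcard : Nat.card K = 35112) : False := by
  have hG : ¬ IsMulCommutative K := not_comm_of_simple_of_not_prime (by rw [hcard]; norm_num)
  have hK19 : Nat.card K ≠ 19 := by rw [hcard]; norm_num
  have hK11 : Nat.card K ≠ 11 := by rw [hcard]; norm_num
  have hK7 : Nat.card K ≠ 7 := by rw [hcard]; norm_num
  have hP19 : ∀ P : Sylow 19 K, Nat.card (P : Subgroup K) = 19 := fun P => by
    simpa using card_sylow_subgroup_of_card_eq (k := 1) (m := 1848) (by rw [hcard]; norm_num)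
      (by norm_num) P
  have hP11 : ∀ P : Sylow 11 K, Nat.card (P : Subgroup K) = 11 := fun P => by
    simpa using card_sylow_subgroup_of_card_eq (k := 1) (m := 3192) (by rw [hcard]; norm_num)
      (by norm_num) P
  have hP7 : ∀ P : Sylow 7 K, Nat.card (P : Subgroup K) = 7 := fun P => by
    simpa using card_sylow_subgroup_of_card_eq (k := 1) (m := 5016) (by rw [hcard]; norm_num)
      (by norm_num) P
  -- n19 = 77
  have hn19 : Nat.card (Sylow 19 K) = 77 := by
    have hmem := card_sylow_mem_npList hG 19 1 1848 (by norm_num) (by rw [hcard]; norm_num)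
      (by norm_num) (by norm_num) (by norm_num)
    rw [npList_19_1848] at hmem
    simpa using hmem
  -- c19 ∈ {228, 152, 76}
  have hc19 : ∀ P : Sylow 19 K, ∃ c', Nat.card (centralizer ((P : Subgroup K) : Set K)) = 19 * c' ∧
      4 ≤ c' ∧ c' ∣ 24 := by
    intro P
    obtain ⟨f, hf1, hf2, hf3, hf4⟩ := cen_data P (hP19 P) hK19
    have hN := card_normalizer_of_card_sylow P hcard hn19 (N := 456) (by norm_num) (by norm_num)
    rw [hN] at hf3
    obtain ⟨c', hc'⟩ := hf4
    rw [hc'] at hf3
    have h24 : c' * f = 24 := by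
      have : 19 * (c' * f) = 19 * 24 := by rw [← mul_assoc, hf3]
      exact Nat.eq_of_mul_eq_mul_left (by norm_num) this
    have hf6 : f ∣ 6 := by
      have h1 : f ∣ 24 := Dvd.intro_left c' h24
      exact Nat.dvd_gcd hf2 h1
    have hfle : f ≤ 6 := Nat.le_of_dvd (by norm_num) hf6
    refine ⟨c', hc', ?_, Dvd.intro f h24⟩
    by_contra hlt
    have h3 : c' ≤ 3 := by omega
    have : c' * f ≤ 3 * 6 := Nat.mul_le_mul h3 hfle
    omega
  have h7c19 : ∀ P : Sylow 19 K, ¬ 7 ∣ Nat.card (centralizer ((P : Subgroup K) : Set K)) := by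
    intro P h
    obtain ⟨c', hc', _, hd⟩ := hc19 P
    rw [hc'] at h
    have h1 : 7 ∣ c' := by
      rcases (Nat.Prime.dvd_mul (by norm_num : Nat.Prime 7)).mp h with h | h
      · omega
      · exact h
    have := h1.trans hd
    omega
  have h11c19 : ∀ P : Sylow 19 K, ¬ 11 ∣ Nat.card (centralizer ((P : Subgroup K) : Set K)) := by
    intro P h
    obtain ⟨c', hc', _, hd⟩ := hc19 P
    rw [hc'] at h
    have h1 : 11 ∣ c' := by
      rcases (Nat.Prime.dvd_mul (by norm_num : Nat.Prime 11)).mp h with h | h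
      · omega
      · exact h
    have := h1.trans hd
    omega
  -- n11 ∈ {133, 1596}, n11 * c11 = 17556
  have hn11 : Nat.card (Sylow 11 K) = 133 ∨ Nat.card (Sylow 11 K) = 1596 := by
    have hmem := card_sylow_mem_npList hG 11 1 3192 (by norm_num) (by rw [hcard]; norm_num)
      (by norm_num) (by norm_num) (by norm_num)
    rw [npList_11_3192] at hmem
    simpa using hmem
  have hc11 : ∀ Q : Sylow 11 K,
      (Nat.card (Sylow 11 K) = 133 ∧ Nat.card (centralizer ((Q : Subgroup K) : Set K)) = 132) ∨
      (Nat.card (Sylow 11 K) = 1596 ∧ Nat.card (centralizer ((Q : Subgroup K) : Set K)) = 11) := by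
    intro Q
    obtain ⟨f, hf1, hf2, hf3, hf4⟩ := cen_data Q (hP11 Q) hK11
    have hfle : f ≤ 10 := Nat.le_of_dvd (by norm_num) hf2
    rcases hn11 with h | h
    · left
      have hN := card_normalizer_of_card_sylow Q hcard h (N := 264) (by norm_num) (by norm_num)
      rw [hN] at hf3
      refine ⟨h, ?_⟩
      interval_cases f <;> omega
    · right
      have hN := card_normalizer_of_card_sylow Q hcard h (N := 22) (by norm_num) (by norm_num)
      rw [hN] at hf3
      refine ⟨h, ?_⟩
      interval_cases f <;> omega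
  have h7c11 : ∀ Q : Sylow 11 K, ¬ 7 ∣ Nat.card (centralizer ((Q : Subgroup K) : Set K)) := by
    intro Q h
    rcases hc11 Q with ⟨_, h1⟩ | ⟨_, h1⟩ <;> rw [h1] at h <;> omega
  have h19c11 : ∀ Q : Sylow 11 K, ¬ 19 ∣ Nat.card (centralizer ((Q : Subgroup K) : Set K)) := by
    intro Q h
    rcases hc11 Q with ⟨_, h1⟩ | ⟨_, h1⟩ <;> rw [h1] at h <;> omega
  -- n7 = 1254
  have hn7 : Nat.card (Sylow 7 K) = 1254 := by
    have hmem := card_sylow_mem_npList hG 7 1 5016 (by norm_num) (by rw [hcard]; norm_num)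
      (by norm_num) (by norm_num) (by norm_num)
    rw [npList_7_5016] at hmem
    simp only [List.mem_cons, List.not_mem_nil, or_false] at hmem
    rcases hmem with h | h | h
    · exfalso
      obtain ⟨R⟩ : Nonempty (Sylow 7 K) := inferInstance
      have hN := card_normalizer_of_card_sylow R hcard h (N := 1596) (by norm_num) (by norm_num)
      obtain ⟨P', hP'⟩ := cen_kill (q := 19) R (hP7 R) hK7 hP19 (by rw [hN]; norm_num)
        (by norm_num)
      exact h7c19 P' hP'
    · exfalso
      obtain ⟨R⟩ : Nonempty (Sylow 7 K) := inferInstance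
      have hN := card_normalizer_of_card_sylow R hcard h (N := 616) (by norm_num) (by norm_num)
      obtain ⟨Q', hQ'⟩ := cen_kill (q := 11) R (hP7 R) hK7 hP11 (by rw [hN]; norm_num)
        (by norm_num)
      exact h7c11 Q' hQ'
    · exact h
  -- c7 = 14
  have hc7 : ∀ R : Sylow 7 K, Nat.card (centralizer ((R : Subgroup K) : Set K)) = 14 := by
    intro R
    obtain ⟨f, hf1, hf2, hf3, hf4⟩ := cen_data R (hP7 R) hK7
    have hN := card_normalizer_of_card_sylow R hcard hn7 (N := 28) (by norm_num) (by norm_num)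
    rw [hN] at hf3
    have hfle : f ≤ 6 := Nat.le_of_dvd (by norm_num) hf2
    interval_cases f <;> omega
  -- the count
  obtain ⟨P⟩ : Nonempty (Sylow 19 K) := inferInstance
  obtain ⟨Q⟩ : Nonempty (Sylow 11 K) := inferInstance
  obtain ⟨R⟩ : Nonempty (Sylow 7 K) := inferInstance
  have hcnt := Cfsg.Agent.Helper61.J1.three_prime_count Q R P (hP11 Q) (hP7 R) (hP19 P)
    (h7c11 Q) (h19c11 Q) (by rw [hc7 R]; norm_num)
  obtain ⟨c', hc', hc'4, _⟩ := hc19 P
  rw [hn19, hn7, hc7 R, hc', Nat.mul_div_cancel_left c' (by norm_num : 0 < 19), hcard] at hcnt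
  rcases hc11 Q with ⟨h1, h2⟩ | ⟨h1, h2⟩
  · rw [h1, h2] at hcnt
    norm_num at hcnt
    omega
  · rw [h1, h2] at hcnt
    norm_num at hcnt
    omega

end Cfsg.Agent.Helper80.J1L56
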