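import Cfsg.Agent.Helper61.TwoPDefs
import Cfsg.Agent.Helper63.TwoPAB
import Cfsg.Agent.Helper74.CharBasic

/-!
# Pieces (I2), (J), (N) of helper61's WANTED #6295 (S4707)
-/

set_option autoImplicit false
set_option linter.unusedSectionVars false
set_option linter.unusedVariables false

namespace Cfsg.Agent.Helper80.TwoP

open Cfsg MulAction Cfsg.Agent.Helper66.PD2 Cfsg.Agent.Helper61.TwoP

variable {G : Type*} [Group G] [Fintype G] {α : Type*} [Fintype α] [DecidableEq α] [MulAction G α]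
  {p : ℕ} [Fact p.Prime] {P : Sylow p G} {χ1 θ : IrrCharacter G} {Y : Set (IrrCharacter G)}

/-- `χ₁ = 1 + η` on `p`-regular elements -/
theorem chi_eq_one_add (B : CaseB G α p χ1 θ Y) {η : IrrCharacter G} (hη : η ∈ Y) (g : G)
    (hg : ¬ p ∣ orderOf g) : (χ1 : G → ℂ) g = 1 + (η : G → ℂ) g := by
  have h := B.std.rel η hη g hg
  push_cast at h
  linear_combination -h

/-- the sum over `Y` on a regular element -/
theorem sum_Y_reg (B : CaseB G α p χ1 θ Y) {η : IrrCharacter G} (hη : η ∈ Y) (g : G)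
    (hg : ¬ p ∣ orderOf g) :
    ∑ᶠ η' ∈ Y, (η' : G → ℂ) g = (Nat.card Y : ℂ) * (η : G → ℂ) g := by
  have hfin : Finite (IrrCharacter G) := Cfsg.Agent.Helper74.irr_finite
  have hYfin : Y.Finite := Set.toFinite Y
  have h1 : ∑ᶠ η' ∈ Y, (η' : G → ℂ) g = ∑ᶠ η' ∈ Y, (η : G → ℂ) g :=
    finsum_mem_congr rfl (fun η' hη' => B.std.reg_eq η' hη' η hη g hg)
  rw [h1, finsum_mem_eq_finite_toFinset_sum _ hYfin, Finset.sum_const, nsmul_eq_mul,
    ← Set.ncard_eq_toFinset_card Y hYfin, Nat.card_coe_set_eq]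

theorem card_Y_cast (hp5 : 5 ≤ p) (B : CaseB G α p χ1 θ Y) :
    (Nat.card Y : ℂ) * 2 = (p : ℂ) - 1 := by
  have h := B.std.cardY
  have h1 : ((Nat.card Y * 2 : ℕ) : ℂ) = ((p - 1 : ℕ) : ℂ) := by rw [h]
  rw [Nat.cast_sub (by omega)] at h1
  push_cast at h1
  exact h1

theorem Y_nonempty (hp5 : 5 ≤ p) (B : CaseB G α p χ1 θ Y) : ∃ η, η ∈ Y := by
  have h := B.std.cardY
  have hpos : 0 < Nat.card Y := by omega
  have : Nonempty Y := (Nat.card_pos_iff.1 hpos).1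
  obtain ⟨η, hη⟩ := this
  exact ⟨η, hη⟩

theorem not_dvd_sq {g : G} (hg : ¬ p ∣ orderOf g) : ¬ p ∣ orderOf (g * g) := by
  intro h
  apply hg
  have : orderOf (g * g) ∣ orderOf g := by
    rw [← pow_two]; exact orderOf_pow_dvd 2
  exact dvd_trans h this

/-- (I2) the square formula. -/
theorem sq_formula (hp5 : 5 ≤ p) (B : CaseB G α p χ1 θ Y)
    (hΛ : ∀ g : G, ((χ1 : G → ℂ) g ^ 2 - (χ1 : G → ℂ) (g * g)) / 2 = ∑ᶠ η ∈ Y, (η : G → ℂ) g) :
    ∀ η ∈ Y, ∀ g : G, ¬ p ∣ orderOf g →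
      (η : G → ℂ) (g * g) = (η : G → ℂ) g ^ 2 - ((p : ℂ) - 3) * (η : G → ℂ) g := by
  intro η hη g hg
  have h1 := hΛ g
  rw [sum_Y_reg B hη g hg, chi_eq_one_add B hη g hg,
    chi_eq_one_add B hη (g * g) (not_dvd_sq hg)] at h1
  have h2 := card_Y_cast hp5 B
  have h3 : (Nat.card Y : ℂ) = ((p : ℂ) - 1) / 2 := by
    rw [← h2]; ring
  rw [h3] at h1
  linear_combination (-2 : ℂ) * h1

/-- (J) values on involutions. -/
theorem invol_values (hp5 : 5 ≤ p) (B : CaseB G α p χ1 θ Y)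
    (hker : ∀ g : G, (χ1 : G → ℂ) g = (χ1 : G → ℂ) 1 → g = 1)
    (hsq : ∀ η ∈ Y, ∀ g : G, ¬ p ∣ orderOf g →
      (η : G → ℂ) (g * g) = (η : G → ℂ) g ^ 2 - ((p : ℂ) - 3) * (η : G → ℂ) g)
    (s : G) (hs : orderOf s = 2) :
    (χ1 : G → ℂ) s = 0 ∧ ∀ η ∈ Y, (η : G → ℂ) s = -1 := by
  have hpp : p.Prime := Fact.out
  have hreg : ¬ p ∣ orderOf s := by
    rw [hs]
    intro h
    have := Nat.le_of_dvd (by norm_num) h
    omega
  have hss : s * s = 1 := by
    rw [← pow_two, ← hs]; exact pow_orderOf_eq_one s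
  have hs1 : s ≠ 1 := by
    intro h
    rw [h, orderOf_one] at hs
    omega
  have key : ∀ η ∈ Y, (η : G → ℂ) s = -1 := by
    intro η hη
    have h1 := hsq η hη s hreg
    rw [hss, B.deg_Y η hη] at h1
    have h2 : ((η : G → ℂ) s + 1) * ((η : G → ℂ) s - ((p : ℂ) - 2)) = 0 := by
      linear_combination -h1
    rcases mul_eq_zero.1 h2 with h3 | h3
    · linear_combination h3
    · exfalso
      apply hs1
      apply hker
      rw [chi_eq_one_add B hη s hreg, B.deg_chi]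
      linear_combination h3
  refine ⟨?_, key⟩
  obtain ⟨η, hη⟩ := Y_nonempty hp5 B
  rw [chi_eq_one_add B hη s hreg, key η hη]
  ring

/-- (N) every element of even order is an involution. -/
theorem even_order_eq_two (S : Setup G α p P) (B : CaseB G α p χ1 θ Y)
    (hker : ∀ g : G, (χ1 : G → ℂ) g = (χ1 : G → ℂ) 1 → g = 1)
    (hsq : ∀ η ∈ Y, ∀ g : G, ¬ p ∣ orderOf g →
      (η : G → ℂ) (g * g) = (η : G → ℂ) g ^ 2 - ((p : ℂ) - 3) * (η : G → ℂ) g)
    (hvan : ∀ g : G, 2 ∣ orderOf g → (χ1 : G → ℂ) g = 0)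
    (g : G) (hg : 2 ∣ orderOf g) : orderOf g = 2 := by
  have hpp : p.Prime := Fact.out
  have hp5 := S.hp5
  have hreg : ¬ p ∣ orderOf g := by
    intro h
    have h1 := (Cfsg.Agent.Helper63.TwoP.exists_conj_mem_of_dvd P S.cardP S.cent g h).2
    rw [h1] at hg
    have := (Nat.prime_dvd_prime_iff_eq Nat.prime_two hpp).1 hg
    omega
  obtain ⟨η, hη⟩ := Y_nonempty hp5 B
  have h0 := hvan g hg
  have h1 : (η : G → ℂ) g = -1 := by
    have := chi_eq_one_add B hη g hreg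
    rw [h0] at this
    linear_combination -this
  have h2 : (η : G → ℂ) (g * g) = (p : ℂ) - 2 := by
    rw [hsq η hη g hreg, h1]; ring
  have h3 : (χ1 : G → ℂ) (g * g) = (χ1 : G → ℂ) 1 := by
    rw [chi_eq_one_add B hη (g * g) (not_dvd_sq hreg), h2, B.deg_chi]; ring
  have h4 : g * g = 1 := hker _ h3
  have h5 : orderOf g ∣ 2 := by
    apply orderOf_dvd_of_pow_eq_one
    rw [pow_two]; exact h4
  exact Nat.dvd_antisymm h5 hg

end Cfsg.Agent.Helper80.TwoP
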