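import Cfsg.Agent.Helper80.TwoPIJN
import Cfsg.Agent.Helper89.TwoPD
import Cfsg.Agent.Helper79.ClassMult

/-!
# Piece (K) of helper61's WANTED #6295 (S4707): no elements of order `4` when `p ≥ 7`
-/

set_option autoImplicit false
set_option linter.unusedSectionVars false
set_option linter.unusedVariables false

namespace Cfsg.Agent.Helper80.TwoP

open Cfsg MulAction Cfsg.Agent.Helper66.PD2 Cfsg.Agent.Helper61.TwoP
open scoped ComplexConjugate

variable {G : Type*} [Group G] [Fintype G] {α : Type*} [Fintype α] [DecidableEq α] [MulAction G α]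
  {p : ℕ} [Fact p.Prime] {P : Sylow p G} {χ1 θ : IrrCharacter G} {Y : Set (IrrCharacter G)}

/-- the sum of a function over the cyclic group generated by an element of order `4` -/
theorem sum_zpowers_of_orderOf_four {g : G} (hg : orderOf g = 4) [Fintype (Subgroup.zpowers g)]
    (f : G → ℂ) :
    ∑ x : Subgroup.zpowers g, f (x : G) = f 1 + f g + f (g * g) + f g⁻¹ := by
  have hfin : IsOfFinOrder g := isOfFinOrder_of_finite g
  have h1 : ∑ x : Subgroup.zpowers g, f (x : G) = ∑ i : Fin (orderOf g), f (g ^ (i : ℕ)) := by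
    rw [← Equiv.sum_comp (finEquivZPowers hfin) (fun x : Subgroup.zpowers g => f (x : G))]
    apply Finset.sum_congr rfl
    intro i _
    rw [finEquivZPowers_apply]
  rw [h1, Fin.sum_univ_eq_sum_range (fun i => f (g ^ i)) (orderOf g), hg]
  have hinv : g ^ 3 = g⁻¹ := by
    have h4 : g ^ 4 = 1 := by rw [← hg]; exact pow_orderOf_eq_one g
    have : g ^ 3 * g = 1 := by rw [← pow_succ]; exact h4
    exact eq_inv_of_mul_eq_one_left this
  simp only [Finset.sum_range_succ, Finset.sum_range_zero, zero_add, pow_zero, pow_one, pow_two,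
    hinv]

/-- (K) no elements of order `4` when `p > 5`. -/
theorem no_order_four (hp7 : 7 ≤ p) (B : CaseB G α p χ1 θ Y)
    (hreal : ∀ g : G, ((χ1 : G → ℂ) g).im = 0)
    (hsq : ∀ η ∈ Y, ∀ g : G, ¬ p ∣ orderOf g →
      (η : G → ℂ) (g * g) = (η : G → ℂ) g ^ 2 - ((p : ℂ) - 3) * (η : G → ℂ) g)
    (hinv : ∀ s : G, orderOf s = 2 → (χ1 : G → ℂ) s = 0 ∧ ∀ η ∈ Y, (η : G → ℂ) s = -1)
    (g : G) : orderOf g ≠ 4 := by
  intro hg
  have hpp : p.Prime := Fact.out
  have hp5 : 5 ≤ p := by omega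
  have hreg : ¬ p ∣ orderOf g := by
    rw [hg]
    intro h
    have := Nat.le_of_dvd (by norm_num) h
    omega
  obtain ⟨η, hη⟩ := Y_nonempty hp5 B
  -- `x = η g` is real
  set x : ℂ := (η : G → ℂ) g with hx
  have hxim : x.im = 0 := by
    have h1 := chi_eq_one_add B hη g hreg
    have h2 := hreal g
    rw [h1] at h2
    simpa using h2
  have hxconj : conj x = x := Complex.conj_eq_iff_im.2 hxim
  -- `g * g` is an involution
  have hgg : orderOf (g * g) = 2 := by
    rw [← pow_two, orderOf_pow, hg]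
    norm_num
  have h1 : (η : G → ℂ) (g * g) = -1 := (hinv (g * g) hgg).2 η hη
  have h2 := hsq η hη g hreg
  rw [h1, ← hx] at h2
  -- the sum over `⟨g⟩`
  let _ : Fintype (Subgroup.zpowers g) := Fintype.ofFinite _
  have hηchar : IsCharacter G (η : G → ℂ) := by
    obtain ⟨n, ρ, -, h⟩ := η.2
    exact ⟨n, ρ, h⟩
  obtain ⟨m, hm⟩ := Cfsg.Agent.Helper89.TwoP.exists_nat_sum_subgroup (Subgroup.zpowers g) hηchar
  rw [sum_zpowers_of_orderOf_four hg, Nat.card_zpowers, hg, B.deg_Y η hη, h1,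
    Cfsg.Agent.Helper79.irr_inv, ← hx, hxconj] at hm
  -- `2 x = 4 m - p + 3`
  have h3 : 2 * x = 4 * (m : ℂ) - (p : ℂ) + 3 := by
    push_cast at hm
    linear_combination hm
  -- pass to integers
  have h4 : (2 * x) ^ 2 - 2 * ((p : ℂ) - 3) * (2 * x) + 4 = 0 := by
    linear_combination (-4 : ℂ) * h2
  rw [h3] at h4
  have h5 : ((4 * (m : ℤ) - (p : ℤ) + 3) ^ 2 - 2 * ((p : ℤ) - 3) * (4 * (m : ℤ) - (p : ℤ) + 3) + 4 : ℤ)
      = 0 := by
    have : (((4 * (m : ℤ) - (p : ℤ) + 3) ^ 2 - 2 * ((p : ℤ) - 3) * (4 * (m : ℤ) - (p : ℤ) + 3) + 4 : ℤ) : ℂ)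
        = ((0 : ℤ) : ℂ) := by
      push_cast
      linear_combination h4
    exact_mod_cast this
  -- `(w - q)^2 = q^2 - 4` with `q = p - 3 ≥ 4` is impossible
  set q : ℤ := (p : ℤ) - 3 with hq
  have hq4 : 4 ≤ q := by rw [hq]; omega
  set v : ℤ := 4 * (m : ℤ) - (p : ℤ) + 3 - q with hv
  have h6 : v ^ 2 = q ^ 2 - 4 := by
    rw [hv]
    linear_combination h5
  rcases le_or_gt (v.natAbs : ℤ) (q - 1) with h7 | h7
  · have h8 : v ^ 2 ≤ (q - 1) ^ 2 := by
      rw [← Int.natAbs_sq v]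
      have h0 : (0 : ℤ) ≤ v.natAbs := Int.natCast_nonneg _
      nlinarith
    nlinarith
  · have h8 : q ^ 2 ≤ v ^ 2 := by
      rw [← Int.natAbs_sq v]
      have h9 : q ≤ (v.natAbs : ℤ) := by omega
      nlinarith
    nlinarith

end Cfsg.Agent.Helper80.TwoP
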