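import Mathlib
import Cfsg.Prelude.Def_Solvable
import Cfsg.Agent.Lib.Cores
import Cfsg.Agent.Helper47.Basic

/-!
# Two stability-group lemmas about `O_p(G)` (for AKO II.7.5, normal subsystems of `F_S(G)`)

* `comm_pCore_mem_of_ext`: a `p'`-element `g` of a subgroup `A ≤ N_G(T)` with the "extension"
  properties of the statement satisfies `[g, O_p(G)] ≤ T ⊓ O_p(G)`.
* `mem_pCore_of_stab`: when `C_G(O_p(G)) ≤ O_p(G)`, an element stabilizing the chain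
  `1 ≤ R ≤ O_p(G)` (with `R ⊴ G`) lies in `O_p(G)`.
-/

set_option autoImplicit false

namespace Cfsg.Agent.Helper80.NSExt

open scoped commutatorElement

variable {G : Type*} [Group G]

/-- Powers of an element normalizing `R` (in the weak sense) normalize `R`. -/
theorem pow_conj_mem (R : Subgroup G) (y : G) (hyR : ∀ r ∈ R, y * r * y⁻¹ ∈ R) (k : ℕ) :
    ∀ r ∈ R, y ^ k * r * (y ^ k)⁻¹ ∈ R := by
  induction k with
  | zero => intro r hr; simpa using hr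
  | succ k ih =>
    intro r hr
    have h1 := hyR _ (ih r hr)
    have h2 : y ^ (k + 1) * r * (y ^ (k + 1))⁻¹ = y * (y ^ k * r * (y ^ k)⁻¹) * y⁻¹ := by
      rw [pow_succ']; group
    rw [h2]; exact h1

/-- `(r₂ y)^k = r₃ y^k` with `r₃ ∈ R` when `y` normalizes `R ∋ r₂`. -/
theorem mul_pow_mem (R : Subgroup G) (y r₂ : G) (hyR : ∀ r ∈ R, y * r * y⁻¹ ∈ R)
    (hr₂ : r₂ ∈ R) (k : ℕ) : ∃ r₃ ∈ R, (r₂ * y) ^ k = r₃ * y ^ k := by
  induction k with
  | zero => exact ⟨1, R.one_mem, by simp⟩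
  | succ k ih =>
    obtain ⟨r₃, hr₃, h⟩ := ih
    refine ⟨r₃ * (y ^ k * r₂ * (y ^ k)⁻¹), R.mul_mem hr₃ (pow_conj_mem R y hyR k r₂ hr₂), ?_⟩
    rw [pow_succ, h, pow_succ]; group

/-- The chain argument: if `g x g⁻¹ = y x` and `[g, y] ∈ R`, with `g` and `y` normalizing `R`,
then `g^k x g^{-k} ∈ R y^k x`. -/
theorem chain (R : Subgroup G) (g x y : G) (hgR : ∀ r ∈ R, g * r * g⁻¹ ∈ R)
    (hyR : ∀ r ∈ R, y * r * y⁻¹ ∈ R) (hx : g * x * g⁻¹ = y * x)
    (hy : g * y * g⁻¹ * y⁻¹ ∈ R) (k : ℕ) :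
    ∃ r ∈ R, g ^ k * x * (g ^ k)⁻¹ = r * y ^ k * x := by
  induction k with
  | zero => exact ⟨1, R.one_mem, by simp⟩
  | succ k ih =>
    obtain ⟨r, hr, h⟩ := ih
    obtain ⟨r₃, hr₃, h3⟩ := mul_pow_mem R y (g * y * g⁻¹ * y⁻¹) hyR hy k
    have hgy : g * y * g⁻¹ = (g * y * g⁻¹ * y⁻¹) * y := by group
    refine ⟨g * r * g⁻¹ * r₃, R.mul_mem (hgR r hr) hr₃, ?_⟩
    have h1 : g ^ (k + 1) * x * (g ^ (k + 1))⁻¹ = g * (g ^ k * x * (g ^ k)⁻¹) * g⁻¹ := by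
      rw [pow_succ']; group
    rw [h1, h]
    have h2 : g * (r * y ^ k * x) * g⁻¹ = (g * r * g⁻¹) * (g * y * g⁻¹) ^ k * (g * x * g⁻¹) := by
      rw [conj_pow]; group
    rw [h2, hgy, h3, hx, pow_succ]; group

theorem comm_pCore_mem_of_ext [Finite G] (p : ℕ) [Fact p.Prime] (S : Sylow p G)
    (T : Subgroup G) (hTS : T ≤ S) (hTn : ∀ s ∈ (S : Subgroup G), ∀ t ∈ T, s * t * s⁻¹ ∈ T)
    (A : Subgroup G) (hAN : A ≤ Subgroup.normalizer (T : Set G))
    (hAQ : ∀ x ∈ Cfsg.pCore p G, ∀ a ∈ A, x * a * x⁻¹ ∈ A)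
    (hAp : ∀ a ∈ A, (∃ k : ℕ, orderOf a = p ^ k) →
      ∃ t ∈ T, ∀ u ∈ T, a * u * a⁻¹ = t * u * t⁻¹)
    (g : G) (hgA : g ∈ A) (hgp : (orderOf g).Coprime p)
    (hgC : ∀ c ∈ (S : Subgroup G), (∀ t ∈ T, c * t = t * c) → c⁻¹ * (g * c * g⁻¹) ∈ T) :
    ∀ x ∈ Cfsg.pCore p G, g * x * g⁻¹ * x⁻¹ ∈ T ⊓ Cfsg.pCore p G := by
  classical
  set Q := Cfsg.pCore p G with hQdef
  have hQchar : Q.Characteristic := Cfsg.Agent.Lib.pCore_characteristic p
  have hQn : Q.Normal := Subgroup.normal_of_characteristic Q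
  have hQp : IsPGroup p Q := Cfsg.Agent.Lib.isPGroup_pCore p
  have hQS : Q ≤ S := Cfsg.Agent.Lib.pCore_le_sylow S
  have hgT : ∀ t, t ∈ T → g * t * g⁻¹ ∈ T := fun t ht =>
    (Subgroup.mem_normalizer_iff.mp (hAN hgA) t).mp ht
  -- `R₀ := T ⊓ Q` is normalized by `g` and by `Q`
  have hgR : ∀ r ∈ T ⊓ Q, g * r * g⁻¹ ∈ T ⊓ Q := fun r hr =>
    ⟨hgT r hr.1, hQn.conj_mem r hr.2 g⟩
  have hQR : ∀ y ∈ Q, ∀ r ∈ T ⊓ Q, y * r * y⁻¹ ∈ T ⊓ Q := fun y hy r hr =>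
    ⟨hTn y (hQS hy) r hr.1, hQn.conj_mem r hr.2 y⟩
  -- elements of `Q` have `p`-power order
  have hQord : ∀ y ∈ Q, ∃ k : ℕ, orderOf y = p ^ k := by
    intro y hy
    obtain ⟨k, hk⟩ := hQp ⟨y, hy⟩
    have hk' : y ^ p ^ k = 1 := by
      have := congrArg Subtype.val hk
      simpa using this
    obtain ⟨j, -, hj⟩ := (Nat.dvd_prime_pow (Fact.out : p.Prime)).mp
      (orderOf_dvd_of_pow_eq_one hk')
    exact ⟨j, hj⟩
  -- Step 1 + 2: `[g, [g, x]] ∈ R₀`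
  have hcomm_mem_Q : ∀ x ∈ Q, g * x * g⁻¹ * x⁻¹ ∈ Q := fun x hx =>
    Q.mul_mem (hQn.conj_mem x hx g) (Q.inv_mem hx)
  have hstep2 : ∀ x ∈ Q, g * (g * x * g⁻¹ * x⁻¹) * g⁻¹ * (g * x * g⁻¹ * x⁻¹)⁻¹ ∈ T ⊓ Q := by
    intro x hx
    set y := g * x * g⁻¹ * x⁻¹ with hydef
    have hyQ : y ∈ Q := hcomm_mem_Q x hx
    have hyA : y ∈ A := by
      have h1 : x * g⁻¹ * x⁻¹ ∈ A := hAQ x hx g⁻¹ (A.inv_mem hgA)
      have h2 : y = g * (x * g⁻¹ * x⁻¹) := by rw [hydef]; group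
      rw [h2]; exact A.mul_mem hgA h1
    obtain ⟨t, htT, ht⟩ := hAp y hyA (hQord y hyQ)
    -- `c := t⁻¹ y` centralizes `T` and lies in `S`
    set c := t⁻¹ * y with hcdef
    have hcS : c ∈ (S : Subgroup G) :=
      (S : Subgroup G).mul_mem ((S : Subgroup G).inv_mem (hTS htT)) (hQS hyQ)
    have hcT : ∀ u ∈ T, c * u = u * c := by
      intro u hu
      have h1 := ht u hu
      have h2 : c * u * c⁻¹ = u := by
        have : c * u * c⁻¹ = t⁻¹ * (y * u * y⁻¹) * t := by rw [hcdef]; group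
        rw [this, h1]; group
      calc c * u = (c * u * c⁻¹) * c := by group
        _ = u * c := by rw [h2]
    have hyc : y = t * c := by rw [hcdef]; group
    have hmemT : g * y * g⁻¹ * y⁻¹ ∈ T := by
      have h1 : g * y * g⁻¹ * y⁻¹
          = (g * t * g⁻¹) * (c * (c⁻¹ * (g * c * g⁻¹)) * c⁻¹) * t⁻¹ := by
        rw [hyc]; group
      rw [h1]
      exact T.mul_mem (T.mul_mem (hgT t htT) (hTn c hcS _ (hgC c hcS hcT))) (T.inv_mem htT)
    exact ⟨hmemT, hcomm_mem_Q y hyQ⟩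
  -- Step 3: the chain argument
  intro x hx
  set y := g * x * g⁻¹ * x⁻¹ with hydef
  have hyQ : y ∈ Q := hcomm_mem_Q x hx
  have hxy : g * x * g⁻¹ = y * x := by rw [hydef]; group
  obtain ⟨r, hr, hchain⟩ := chain (T ⊓ Q) g x y hgR (hQR y hyQ) hxy (hstep2 x hx) (orderOf g)
  rw [pow_orderOf_eq_one, inv_one, one_mul, mul_one] at hchain
  have hyn : y ^ orderOf g = r⁻¹ := by
    have h1 : r * y ^ orderOf g = 1 := by
      have h0 : r * y ^ orderOf g * x = 1 * x := by rw [one_mul]; exact hchain.symm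
      exact mul_right_cancel h0
    exact eq_inv_of_mul_eq_one_right h1
  have hynR : y ^ orderOf g ∈ T ⊓ Q := by rw [hyn]; exact (T ⊓ Q).inv_mem hr
  obtain ⟨k, hk⟩ := hQord y hyQ
  have hcop : (orderOf g).Coprime (orderOf y) := by
    rw [hk]; exact Nat.Coprime.pow_right k hgp
  obtain ⟨m, hm⟩ := exists_pow_eq_self_of_coprime hcop
  rw [← hm]
  exact (T ⊓ Q).pow_mem hynR m

theorem mem_pCore_of_stab [Finite G] (p : ℕ) [Fact p.Prime]
    (hG : Subgroup.centralizer ((Cfsg.pCore p G : Subgroup G) : Set G) ≤ Cfsg.pCore p G)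
    (R : Subgroup G) (hRn : R.Normal) (hRQ : R ≤ Cfsg.pCore p G) (g : G)
    (hgR : ∀ r ∈ R, g * r = r * g) (hgQ : ∀ x ∈ Cfsg.pCore p G, g * x * g⁻¹ * x⁻¹ ∈ R) :
    g ∈ Cfsg.pCore p G := by
  classical
  set Q := Cfsg.pCore p G with hQdef
  have hQchar : Q.Characteristic := Cfsg.Agent.Lib.pCore_characteristic p
  have hQn : Q.Normal := Subgroup.normal_of_characteristic Q
  have hQp : IsPGroup p Q := Cfsg.Agent.Lib.isPGroup_pCore p
  -- the stability group of the chain `1 ≤ R ≤ Q`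
  let C : Subgroup G :=
    { carrier := {c | (∀ r ∈ R, c * r = r * c) ∧ ∀ x ∈ Q, c * x * c⁻¹ * x⁻¹ ∈ R}
      one_mem' := ⟨fun r _ => by simp, fun x _ => by simp⟩
      mul_mem' := by
        rintro a b ⟨ha1, ha2⟩ ⟨hb1, hb2⟩
        refine ⟨fun r hr => ?_, fun x hx => ?_⟩
        · calc a * b * r = a * (b * r) := by group
            _ = a * (r * b) := by rw [hb1 r hr]
            _ = (a * r) * b := by group
            _ = (r * a) * b := by rw [ha1 r hr]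
            _ = r * (a * b) := by group
        · have h1 : a * b * x * (a * b)⁻¹ * x⁻¹
              = (a * (b * x * b⁻¹ * x⁻¹)) * a⁻¹ * (a * x * a⁻¹ * x⁻¹) := by group
          rw [h1, ha1 _ (hb2 x hx)]
          have h2 : (b * x * b⁻¹ * x⁻¹) * a * a⁻¹ = b * x * b⁻¹ * x⁻¹ := by group
          rw [h2]
          exact R.mul_mem (hb2 x hx) (ha2 x hx)
      inv_mem' := by
        rintro a ⟨ha1, ha2⟩
        refine ⟨fun r hr => ?_, fun x hx => ?_⟩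
        · have := ha1 r hr
          calc a⁻¹ * r = a⁻¹ * (r * a) * a⁻¹ := by group
            _ = a⁻¹ * (a * r) * a⁻¹ := by rw [this]
            _ = r * a⁻¹ := by group
        · have hx' : a⁻¹ * x * a ∈ Q := by
            have := hQn.conj_mem x hx a⁻¹
            rwa [inv_inv] at this
          have h1 := R.inv_mem (ha2 _ hx')
          have h2 : (a * (a⁻¹ * x * a) * a⁻¹ * (a⁻¹ * x * a)⁻¹)⁻¹ = a⁻¹ * x * a⁻¹⁻¹ * x⁻¹ := by
            group
          rwa [h2] at h1 }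
  have hCmem : ∀ c, c ∈ C ↔ (∀ r ∈ R, c * r = r * c) ∧ ∀ x ∈ Q, c * x * c⁻¹ * x⁻¹ ∈ R :=
    fun c => Iff.rfl
  have hCn : C.Normal := by
    refine ⟨fun c hc h => ?_⟩
    obtain ⟨hc1, hc2⟩ := (hCmem c).mp hc
    refine (hCmem _).mpr ⟨fun r hr => ?_, fun x hx => ?_⟩
    · have hr' : h⁻¹ * r * h ∈ R := by
        have := hRn.conj_mem r hr h⁻¹
        rwa [inv_inv] at this
      have := hc1 _ hr'
      calc h * c * h⁻¹ * r = h * (c * (h⁻¹ * r * h)) * h⁻¹ := by group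
        _ = h * ((h⁻¹ * r * h) * c) * h⁻¹ := by rw [this]
        _ = r * (h * c * h⁻¹) := by group
    · have hx' : h⁻¹ * x * h ∈ Q := by
        have := hQn.conj_mem x hx h⁻¹
        rwa [inv_inv] at this
      have h1 := hRn.conj_mem _ (hc2 _ hx') h
      have h2 : h * (c * (h⁻¹ * x * h) * c⁻¹ * (h⁻¹ * x * h)⁻¹) * h⁻¹
          = h * c * h⁻¹ * x * (h * c * h⁻¹)⁻¹ * x⁻¹ := by group
      rwa [h2] at h1
  -- `C` is a `p`-group
  have hCp : IsPGroup p C := by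
    apply Cfsg.Agent.Helper47.isPGroup_of_forall_coprime_eq_one (fun y => isOfFinOrder_of_finite y)
    intro c hcop
    rw [← Subgroup.orderOf_coe] at hcop
    obtain ⟨hc1, hc2⟩ := (hCmem (c : G)).mp c.2
    have hRp : IsPGroup p R := hQp.to_le hRQ
    have hcomm : ∀ s ∈ Q, Commute s (c : G) := by
      refine Cfsg.Agent.Helper47.commute_of_commutator_mem hRp hcop (fun s hs => ?_)
        (fun t ht => (hc1 t ht).symm)
      have h1 := R.inv_mem (hc2 s hs)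
      have h2 : ((c : G) * s * (c : G)⁻¹ * s⁻¹)⁻¹ = ⁅s, (c : G)⁆ := by
        rw [commutatorElement_def]; group
      rwa [h2] at h1
    have hcQ : (c : G) ∈ Q := by
      apply hG
      rw [Subgroup.mem_centralizer_iff]
      intro s hs
      exact (hcomm s hs).eq
    have := Cfsg.Agent.Helper47.eq_one_of_mem_isPGroup_of_coprime hQp hcQ hcop
    exact Subtype.ext this
  have hCQ : C ≤ Q := Cfsg.Agent.Lib.le_pCore hCn hCp
  exact hCQ ((hCmem g).mpr ⟨hgR, hgQ⟩)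

end Cfsg.Agent.Helper80.NSExt
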