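import Mathlib
import Cfsg.Prelude.Def_Solvable
import Cfsg.Prelude.Def_BaumannBlocks
import Cfsg.Agent.Lib.Cores
import Cfsg.Agent.Helper80.NSExt
import Cfsg.Agent.Helper84.SylowRel
import Cfsg.Agent.Helper86.HypFocalCor
import Cfsg.Agent.Helper52.TateGeneral

/-!
# The structure of `H = O^p(H₂) T` (for AKO II.7.5, normal subsystems of `F_S(G)`)

`structure_of_H`: in a group `G` with `C_G(O_p(G)) ≤ O_p(G)`, for a strongly closed `T ≤ S` and a
normal subgroup `H₂ ≥ T` with `[H₂, O_p(G)] ≤ T ∩ O_p(G)` whose `p`-subgroups containing `T` act on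
`T ∩ O_p(G)` like elements of `T`, the subgroup `H = O^p(H₂) T` is normal in `G`, has `T` as a
Sylow `p`-subgroup, contains the `p'`-elements of `H₂`, and `C_H(T ∩ O_p(G)) ≤ T ∩ O_p(G)`.
-/

set_option autoImplicit false

namespace Cfsg.Agent.Helper80.NSStruct

open scoped Pointwise

variable {G : Type*} [Group G]

/-! ### `pResidualOf` -/

theorem pResidualOf_eq_closure (p : ℕ) (E : Subgroup G) :
    Cfsg.pResidualOf p E = Subgroup.closure {g : G | g ∈ E ∧ (orderOf g).Coprime p} := by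
  unfold Cfsg.pResidualOf Cfsg.pResidual
  rw [MonoidHom.map_closure]
  congr 1
  ext g
  constructor
  · rintro ⟨x, hx, rfl⟩
    refine ⟨x.2, ?_⟩
    have : (orderOf x).Coprime p := hx
    rwa [← Subgroup.orderOf_coe] at this
  · rintro ⟨hgE, hg⟩
    refine ⟨⟨g, hgE⟩, ?_, rfl⟩
    show (orderOf (⟨g, hgE⟩ : E)).Coprime p
    rw [← Subgroup.orderOf_coe]
    exact hg

theorem pResidualOf_le (p : ℕ) (E : Subgroup G) : Cfsg.pResidualOf p E ≤ E := by
  unfold Cfsg.pResidualOf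
  exact Subgroup.map_subtype_le _

theorem mem_pResidualOf_of_coprime (p : ℕ) (E : Subgroup G) {g : G} (hg : g ∈ E)
    (hgp : (orderOf g).Coprime p) : g ∈ Cfsg.pResidualOf p E := by
  rw [pResidualOf_eq_closure]
  exact Subgroup.subset_closure ⟨hg, hgp⟩

theorem pResidualOf_normal (p : ℕ) (E : Subgroup G) (hE : E.Normal) :
    (Cfsg.pResidualOf p E).Normal := by
  refine ⟨fun n hn a => ?_⟩
  rw [pResidualOf_eq_closure] at hn ⊢
  induction hn using Subgroup.closure_induction with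
  | mem x hx =>
    refine Subgroup.subset_closure ⟨hE.conj_mem x hx.1 a, ?_⟩
    have := (MulAut.conj a).orderOf_eq x
    rw [MulAut.conj_apply] at this
    rw [this]; exact hx.2
  | one => simp
  | mul x y _ _ hx hy =>
    have : a * (x * y) * a⁻¹ = (a * x * a⁻¹) * (a * y * a⁻¹) := by group
    rw [this]; exact Subgroup.mul_mem _ hx hy
  | inv x _ hx =>
    have : a * x⁻¹ * a⁻¹ = (a * x * a⁻¹)⁻¹ := by group
    rw [this]; exact Subgroup.inv_mem _ hx

/-- `O^p(E)` together with a `p`-subgroup of index prime to `p` generates `E`. -/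
theorem pResidualOf_sup_eq [Finite G] (p : ℕ) [Fact p.Prime] (E P : Subgroup G) (hPE : P ≤ E)
    (hidx : ¬ p ∣ P.relIndex E) : Cfsg.pResidualOf p E ⊔ P = E := by
  have hcop : (P.subgroupOf E).index.Coprime p :=
    ((Nat.Prime.coprime_iff_not_dvd (Fact.out : p.Prime)).mpr hidx).symm
  have h1 := Cfsg.Agent.Helper52.sup_pResidual_eq_top_of_coprime_index (p := p) (P.subgroupOf E) hcop
  have h2 := congrArg (Subgroup.map E.subtype) h1
  rw [Subgroup.map_sup, Subgroup.subgroupOf_map_subtype, inf_eq_left.mpr hPE,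
    ← MonoidHom.range_eq_map, Subgroup.range_subtype] at h2
  rw [sup_comm]
  exact h2

/-! ### The main theorem -/

theorem structure_of_H [Finite G] (p : ℕ) [Fact p.Prime] (S : Sylow p G)
    (hG : Subgroup.centralizer ((Cfsg.pCore p G : Subgroup G) : Set G) ≤ Cfsg.pCore p G)
    (T : Subgroup G) (hTS : T ≤ S)
    (hsc : ∀ t ∈ T, ∀ g : G, g * t * g⁻¹ ∈ (S : Subgroup G) → g * t * g⁻¹ ∈ T)
    (H₂ : Subgroup G) (hH₂n : H₂.Normal) (hTH₂ : T ≤ H₂)
    (hH₂K : ∀ g ∈ H₂, ∀ x ∈ Cfsg.pCore p G, g * x * g⁻¹ * x⁻¹ ∈ T ⊓ Cfsg.pCore p G)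
    (hH₂syl : ∀ P₁ : Subgroup G, P₁ ≤ H₂ → IsPGroup p P₁ → T ≤ P₁ → ∀ x ∈ P₁, ∃ t ∈ T,
      ∀ r ∈ T ⊓ Cfsg.pCore p G, x * r * x⁻¹ = t * r * t⁻¹) :
    (Cfsg.pResidualOf p H₂ ⊔ T).Normal ∧
    (∃ R : Sylow p ↥(Cfsg.pResidualOf p H₂ ⊔ T),
      (R : Subgroup ↥(Cfsg.pResidualOf p H₂ ⊔ T)) = T.subgroupOf (Cfsg.pResidualOf p H₂ ⊔ T)) ∧
    Cfsg.pResidualOf p H₂ ⊔ T ≤ H₂ ∧
    (∀ g ∈ H₂, (orderOf g).Coprime p → g ∈ Cfsg.pResidualOf p H₂ ⊔ T) ∧
    (Cfsg.pResidualOf p H₂ ⊔ T) ⊓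
      Subgroup.centralizer ((T ⊓ Cfsg.pCore p G : Subgroup G) : Set G) ≤ T ⊓ Cfsg.pCore p G := by
  classical
  set Q := Cfsg.pCore p G with hQdef
  set N := Cfsg.pResidualOf p H₂ with hNdef
  have hQchar : Q.Characteristic := Cfsg.Agent.Lib.pCore_characteristic p
  have hQn : Q.Normal := Subgroup.normal_of_characteristic Q
  have hQS : Q ≤ S := Cfsg.Agent.Lib.pCore_le_sylow S
  have hSp : IsPGroup p (S : Subgroup G) := S.2
  have hNn : N.Normal := pResidualOf_normal p H₂ hH₂n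
  have hNH₂ : N ≤ H₂ := pResidualOf_le p H₂
  -- (1) `R₀ = T ⊓ Q` is normal in `G`; `T` is normal in `S`
  have hR₀n : (T ⊓ Q).Normal := by
    refine ⟨fun r hr g => ?_⟩
    have hq : g * r * g⁻¹ ∈ Q := hQn.conj_mem r hr.2 g
    exact ⟨hsc r hr.1 g (hQS hq), hq⟩
  have hTn : ∀ s ∈ (S : Subgroup G), ∀ t ∈ T, s * t * s⁻¹ ∈ T := fun s hs t ht =>
    hsc t ht s ((S : Subgroup G).mul_mem ((S : Subgroup G).mul_mem hs (hTS ht))
      ((S : Subgroup G).inv_mem hs))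
  -- (2) `C = H₂ ⊓ C_G(R₀) ≤ Q`, normal in `G`
  set C := H₂ ⊓ Subgroup.centralizer ((T ⊓ Q : Subgroup G) : Set G) with hCdef
  have hCQ : C ≤ Q := by
    intro c hc
    refine Cfsg.Agent.Helper80.NSExt.mem_pCore_of_stab p hG (T ⊓ Q) hR₀n inf_le_right c ?_
      (hH₂K c hc.1)
    intro r hr
    exact ((Subgroup.mem_centralizer_iff.mp hc.2) r hr).symm
  have hCn : C.Normal := by
    have : (Subgroup.centralizer ((T ⊓ Q : Subgroup G) : Set G)).Normal :=
      Subgroup.normal_centralizer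
    exact Subgroup.normal_inf_normal _ _
  have hCS : C ≤ S := hCQ.trans hQS
  set P := T ⊔ C with hPdef
  have hPS : P ≤ S := sup_le hTS hCS
  have hPp : IsPGroup p P := hSp.to_le hPS
  have hPH₂ : P ≤ H₂ := sup_le hTH₂ inf_le_left
  have hTP : T ≤ P := le_sup_left
  have hCP : C ≤ P := le_sup_right
  have hPmem : ∀ x ∈ P, ∃ t ∈ T, ∃ c ∈ C, x = t * c := by
    intro x hx
    have h1 : x ∈ ((T ⊔ C : Subgroup G) : Set G) := hx
    rw [Subgroup.mul_normal] at h1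
    obtain ⟨t, ht, c, hc, rfl⟩ := Set.mem_mul.mp h1
    exact ⟨t, ht, c, hc, rfl⟩
  -- (3) `P` is a maximal `p`-subgroup of `H₂`
  have hPmax : ∀ P₁ : Subgroup G, P₁ ≤ H₂ → IsPGroup p P₁ → P ≤ P₁ → P₁ ≤ P := by
    intro P₁ hP₁H hP₁p hPP₁ x hx
    obtain ⟨t, ht, htx⟩ := hH₂syl P₁ hP₁H hP₁p (hTP.trans hPP₁) x hx
    have hc : t⁻¹ * x ∈ C := by
      refine ⟨H₂.mul_mem (H₂.inv_mem (hTH₂ ht)) (hP₁H hx), ?_⟩
      show t⁻¹ * x ∈ Subgroup.centralizer ((T ⊓ Q : Subgroup G) : Set G)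
      rw [Subgroup.mem_centralizer_iff]
      intro r hr
      have h1 := htx r hr
      have h2 : (t⁻¹ * x) * r * (t⁻¹ * x)⁻¹ = r := by
        have : (t⁻¹ * x) * r * (t⁻¹ * x)⁻¹ = t⁻¹ * (x * r * x⁻¹) * t := by group
        rw [this, h1]; group
      calc r * (t⁻¹ * x) = ((t⁻¹ * x) * r * (t⁻¹ * x)⁻¹) * (t⁻¹ * x) := by rw [h2]
        _ = (t⁻¹ * x) * r := by group
    have : x = t * (t⁻¹ * x) := by group
    rw [this]
    exact P.mul_mem (hTP ht) (hCP hc)
  have hidx : ¬ p ∣ P.relIndex H₂ := by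
    have hP' : IsPGroup p (P.subgroupOf H₂) := hPp.comap_subtype
    obtain ⟨R, hR⟩ := hP'.exists_le_sylow
    have hRmap : IsPGroup p ((R : Subgroup H₂).map H₂.subtype) := R.2.map _
    have hRle : (R : Subgroup H₂).map H₂.subtype ≤ H₂ := Subgroup.map_subtype_le _
    have hPR : P ≤ (R : Subgroup H₂).map H₂.subtype := by
      intro x hx
      exact ⟨⟨x, hPH₂ hx⟩, hR (Subgroup.mem_subgroupOf.mpr hx), rfl⟩
    have hRP := hPmax _ hRle hRmap hPR
    have heq : (R : Subgroup H₂) = P.subgroupOf H₂ := by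
      apply le_antisymm _ hR
      intro x hx
      rw [Subgroup.mem_subgroupOf]
      exact hRP ⟨x, hx, rfl⟩
    have := R.not_dvd_index
    rw [heq] at this
    exact this
  -- (4) the focal condition
  have hfoc : ∀ g ∈ H₂, ∀ x ∈ P, g * x * g⁻¹ ∈ P → x⁻¹ * (g * x * g⁻¹) ∈ T := by
    intro g hg x hx hgx
    obtain ⟨t, ht, c, hc, rfl⟩ := hPmem x hx
    have hgc : g * c * g⁻¹ ∈ C := hCn.conj_mem c hc g
    have hgt : g * t * g⁻¹ ∈ T := by
      apply hsc t ht g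
      have h1 : g * t * g⁻¹ = (g * (t * c) * g⁻¹) * (g * c * g⁻¹)⁻¹ := by group
      rw [h1]
      exact (S : Subgroup G).mul_mem (hPS hgx) ((S : Subgroup G).inv_mem (hCS hgc))
    have hcS : c⁻¹ ∈ (S : Subgroup G) := (S : Subgroup G).inv_mem (hCS hc)
    have h1 : (t * c)⁻¹ * (g * (t * c) * g⁻¹)
        = (c⁻¹ * (t⁻¹ * (g * t * g⁻¹)) * c⁻¹⁻¹) * (c⁻¹ * (g * c * g⁻¹ * c⁻¹) * c⁻¹⁻¹) := by group
    rw [h1]
    refine T.mul_mem (hTn _ hcS _ (T.mul_mem (T.inv_mem ht) hgt)) ?_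
    exact (hR₀n.conj_mem _ (hH₂K g hg c (hCQ hc)) c⁻¹).1
  -- (5), (6)
  have hNP : N ⊓ P ≤ T :=
    Cfsg.Agent.Helper86.HypFocalCor.pResidualOf_inf_le p H₂ P T hPH₂ hTP hPp hidx hfoc
  have hNPsup : N ⊔ P = H₂ := pResidualOf_sup_eq p H₂ P hPH₂ hidx
  -- (7)
  set H := N ⊔ T with hHdef
  have hHH₂ : H ≤ H₂ := sup_le hNH₂ hTH₂
  have hNH : N ≤ H := le_sup_left
  have hTH : T ≤ H := le_sup_right
  have hHmem : ∀ h ∈ H, ∃ n ∈ N, ∃ t ∈ T, h = n * t := by
    intro h hh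
    have h1 : h ∈ ((N ⊔ T : Subgroup G) : Set G) := hh
    rw [Subgroup.normal_mul] at h1
    obtain ⟨n, hn, t, ht, rfl⟩ := Set.mem_mul.mp h1
    exact ⟨n, hn, t, ht, rfl⟩
  have hH₂mem : ∀ h ∈ H₂, ∃ n ∈ N, ∃ y ∈ P, h = n * y := by
    intro h hh
    rw [← hNPsup] at hh
    have h1 : h ∈ ((N ⊔ P : Subgroup G) : Set G) := hh
    rw [Subgroup.normal_mul] at h1
    obtain ⟨n, hn, t, ht, rfl⟩ := Set.mem_mul.mp h1
    exact ⟨n, hn, t, ht, rfl⟩
  have hHP : H ⊓ P = T := by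
    apply le_antisymm _ (le_inf hTH hTP)
    rintro h ⟨hh, hhP⟩
    obtain ⟨n, hn, t, ht, rfl⟩ := hHmem h hh
    have hnP : n ∈ P := by
      have : n = (n * t) * t⁻¹ := by group
      rw [this]; exact P.mul_mem hhP (P.inv_mem (hTP ht))
    exact T.mul_mem (hNP ⟨hn, hnP⟩) ht
  -- (8) `T` has index prime to `p` in `H`
  have hidxT : ¬ p ∣ T.relIndex H := by
    have hD : N ⊓ T = N ⊓ P := by
      apply le_antisymm (inf_le_inf_left N hTP)
      exact le_inf inf_le_left hNP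
    -- indices
    have e1 : N.relIndex H = (N ⊓ T).relIndex T := by
      rw [hHdef, Subgroup.relIndex_sup_left, Subgroup.inf_relIndex_right]
    have e2 : N.relIndex H₂ = (N ⊓ T).relIndex P := by
      rw [← hNPsup, Subgroup.relIndex_sup_left, hD, Subgroup.inf_relIndex_right]
    have c1 : Nat.card N * N.relIndex H = Nat.card H := by
      have := Subgroup.relIndex_mul_relIndex (⊥ : Subgroup G) N H bot_le hNH
      simpa [Subgroup.relIndex_bot_left] using this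
    have c2 : Nat.card N * N.relIndex H₂ = Nat.card H₂ := by
      have := Subgroup.relIndex_mul_relIndex (⊥ : Subgroup G) N H₂ bot_le hNH₂
      simpa [Subgroup.relIndex_bot_left] using this
    have c3 : Nat.card T * T.relIndex H = Nat.card H := by
      have := Subgroup.relIndex_mul_relIndex (⊥ : Subgroup G) T H bot_le hTH
      simpa [Subgroup.relIndex_bot_left] using this
    have c4 : Nat.card P * P.relIndex H₂ = Nat.card H₂ := by
      have := Subgroup.relIndex_mul_relIndex (⊥ : Subgroup G) P H₂ bot_le hPH₂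
      simpa [Subgroup.relIndex_bot_left] using this
    have c5 : Nat.card ↥(N ⊓ T) * (N ⊓ T).relIndex T = Nat.card T := by
      have := Subgroup.relIndex_mul_relIndex (⊥ : Subgroup G) (N ⊓ T) T bot_le inf_le_right
      simpa [Subgroup.relIndex_bot_left] using this
    have c6 : Nat.card ↥(N ⊓ T) * (N ⊓ T).relIndex P = Nat.card P := by
      have := Subgroup.relIndex_mul_relIndex (⊥ : Subgroup G) (N ⊓ T) P bot_le
        (inf_le_right.trans hTP)
      simpa [Subgroup.relIndex_bot_left] using this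
    have hTpos : 0 < Nat.card T := Nat.card_pos
    have hPpos : 0 < Nat.card P := Nat.card_pos
    have hDpos : 0 < Nat.card ↥(N ⊓ T) := Nat.card_pos
    -- |D| * [H:T] = |N| = |D| * [H₂:P]
    have k1 : Nat.card ↥(N ⊓ T) * T.relIndex H = Nat.card N := by
      have h1 : Nat.card T * T.relIndex H = Nat.card N * (N ⊓ T).relIndex T := by
        rw [c3, ← e1, c1]
      rw [← c5] at h1
      have h2 : (N ⊓ T).relIndex T * (Nat.card ↥(N ⊓ T) * T.relIndex H)
          = (N ⊓ T).relIndex T * Nat.card N := by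
        calc (N ⊓ T).relIndex T * (Nat.card ↥(N ⊓ T) * T.relIndex H)
            = Nat.card ↥(N ⊓ T) * (N ⊓ T).relIndex T * T.relIndex H := by ring
          _ = Nat.card N * (N ⊓ T).relIndex T := h1
          _ = (N ⊓ T).relIndex T * Nat.card N := by ring
      have hpos : 0 < (N ⊓ T).relIndex T := by
        rcases Nat.eq_zero_or_pos ((N ⊓ T).relIndex T) with h0 | h0
        · rw [h0, mul_zero] at c5; omega
        · exact h0
      exact Nat.eq_of_mul_eq_mul_left hpos h2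
    have k2 : Nat.card ↥(N ⊓ T) * P.relIndex H₂ = Nat.card N := by
      have h1 : Nat.card P * P.relIndex H₂ = Nat.card N * (N ⊓ T).relIndex P := by
        rw [c4, ← e2, c2]
      rw [← c6] at h1
      have h2 : (N ⊓ T).relIndex P * (Nat.card ↥(N ⊓ T) * P.relIndex H₂)
          = (N ⊓ T).relIndex P * Nat.card N := by
        calc (N ⊓ T).relIndex P * (Nat.card ↥(N ⊓ T) * P.relIndex H₂)
            = Nat.card ↥(N ⊓ T) * (N ⊓ T).relIndex P * P.relIndex H₂ := by ring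
          _ = Nat.card N * (N ⊓ T).relIndex P := h1
          _ = (N ⊓ T).relIndex P * Nat.card N := by ring
      have hpos : 0 < (N ⊓ T).relIndex P := by
        rcases Nat.eq_zero_or_pos ((N ⊓ T).relIndex P) with h0 | h0
        · rw [h0, mul_zero] at c6; omega
        · exact h0
      exact Nat.eq_of_mul_eq_mul_left hpos h2
    have k3 : T.relIndex H = P.relIndex H₂ :=
      Nat.eq_of_mul_eq_mul_left hDpos (k1.trans k2.symm)
    rw [k3]; exact hidx
  -- (9) `H` is normal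
  have hHn : H.Normal := by
    refine ⟨fun h hh a => ?_⟩
    obtain ⟨n, hn, t, ht, rfl⟩ := hHmem h hh
    have h1 : a * (n * t) * a⁻¹ = (a * n * a⁻¹) * (a * t * a⁻¹) := by group
    rw [h1]
    refine H.mul_mem (hNH (hNn.conj_mem n hn a)) ?_
    -- `a T a⁻¹` is conjugate into `P` by an element of `H₂`
    have hBle : T.map (MulAut.conj a).toMonoidHom ≤ H₂ := by
      rintro _ ⟨u, hu, rfl⟩
      exact hH₂n.conj_mem u (hTH₂ hu) a
    have hBp : IsPGroup p (T.map (MulAut.conj a).toMonoidHom) := (hSp.to_le hTS).map _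
    obtain ⟨γ, hγ, hγB⟩ := Cfsg.Agent.Helper84.exists_conj_le_of_relIndex H₂ P
      (T.map (MulAut.conj a).toMonoidHom) hPH₂ hPp hidx hBle hBp
    have h2 : γ * (a * t * a⁻¹) * γ⁻¹ ∈ P := hγB _ ⟨t, ht, rfl⟩
    have h3 : (γ * a) * t * (γ * a)⁻¹ ∈ T := by
      apply hsc t ht
      have : (γ * a) * t * (γ * a)⁻¹ = γ * (a * t * a⁻¹) * γ⁻¹ := by group
      rw [this]; exact hPS h2
    obtain ⟨n', hn', y, hy, hγ'⟩ := hH₂mem γ⁻¹ (H₂.inv_mem hγ)
    have h4 : a * t * a⁻¹ = n' * (y * ((γ * a) * t * (γ * a)⁻¹) * y⁻¹) * n'⁻¹ := by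
      have : n' * (y * ((γ * a) * t * (γ * a)⁻¹) * y⁻¹) * n'⁻¹
          = (n' * y) * ((γ * a) * t * (γ * a)⁻¹) * (n' * y)⁻¹ := by group
      rw [this, ← hγ']; group
    rw [h4]
    exact H.mul_mem (H.mul_mem (hNH hn') (hTH (hTn y (hPS hy) _ h3))) (H.inv_mem (hNH hn'))
  refine ⟨hHn, ?_, hHH₂, ?_, ?_⟩
  · have hT' : IsPGroup p (T.subgroupOf H) := (hSp.to_le hTS).comap_subtype
    exact ⟨hT'.toSylow hidxT, IsPGroup.toSylow_coe hT' hidxT⟩
  · intro g hg hgp
    exact hNH (mem_pResidualOf_of_coprime p H₂ hg hgp)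
  · rintro x ⟨hxH, hxc⟩
    have hxC : x ∈ C := ⟨hHH₂ hxH, hxc⟩
    have hxT : x ∈ T := by
      rw [← hHP]; exact ⟨hxH, hCP hxC⟩
    exact ⟨hxT, hCQ hxC⟩

end Cfsg.Agent.Helper80.NSStruct
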