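import Mathlib
import Cfsg.Prelude.Def_DegreeGraph
import Cfsg.Agent.Helper80.DegGraph1
import Cfsg.Agent.Helper80.DegGraph2

set_option autoImplicit false

/-!
# The character degree graph of a solvable group has at most two connected components

(Manz.)  Choose `K ⊴ G` maximal with `G/K` nonabelian.  Then `G/K` is a `p`-group, in which case
every vertex of the degree graph is `p` or adjacent to `p`; or `G/K` is a Frobenius group with
kernel `N/K` an elementary abelian `p`-group, in which case every vertex is a prime divisor of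
`[G:N]`, or adjacent to all of them, or equal or adjacent to `p`.
-/

namespace Cfsg.Agent.Helper80.DegGraph

open Cfsg
open scoped commutatorElement

universe u

/-- If every vertex is reachable from a vertex of the finite set `S`, there are at most `|S|`
connected components. -/
theorem card_connectedComponent_le {V : Type*} (Γ : SimpleGraph V) (S : Finset V)
    (h : ∀ v : V, ∃ a ∈ S, Γ.Reachable v a) : Nat.card Γ.ConnectedComponent ≤ S.card := by
  classical
  have hsurj : Function.Surjective (fun a : S => Γ.connectedComponentMk (a : V)) := by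
    intro c
    induction c using SimpleGraph.ConnectedComponent.ind with
    | h v =>
      obtain ⟨a, ha, hr⟩ := h v
      exact ⟨⟨a, ha⟩, (SimpleGraph.ConnectedComponent.eq.mpr hr).symm⟩
  have := Nat.card_le_card_of_surjective _ hsurj
  simpa using this

section main

variable {G : Type u} [Group G] [Finite G]

omit [Finite G] in
/-- Adjacency in the degree graph from a common degree. -/
theorem degreeGraph_adj {q r : ℕ} (hq : q.Prime) (hr : r.Prime) (hqr : q ≠ r)
    (ξ : IrrCharacter G) (hq' : q ∣ charDegree (ξ : G → ℂ)) (hr' : r ∣ charDegree (ξ : G → ℂ)) :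
    (degreeGraph G).Adj q r :=
  ⟨hqr, hq, hr, charDegree (ξ : G → ℂ), ⟨ξ, rfl⟩,
    ((Nat.coprime_primes hq hr).mpr hqr).mul_dvd_of_dvd_of_dvd hq' hr'⟩

theorem card_components_le_two [Group.IsSolvable G] :
    Nat.card ((degreeGraph G).induce (degreePrimes G)).ConnectedComponent ≤ 2 := by
  classical
  have := Fintype.ofFinite G
  by_cases habel : commutator G = ⊥
  · -- no vertices
    have hempty : IsEmpty (degreePrimes G) := by
      constructor
      rintro ⟨q, hq, d, ⟨χ, rfl⟩, hqd⟩
      have h1 : charDegree (χ : G → ℂ) = 1 :=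
        IsIrrCharacter.charDegree_eq_one_of_commutator_le χ.2 (by
          intro g hg
          rw [habel, Subgroup.mem_bot] at hg
          rw [hg])
      rw [h1] at hqd
      exact hq.one_lt.ne' (Nat.dvd_one.mp hqd)
    have hempty' : IsEmpty ((degreeGraph G).induce (degreePrimes G)).ConnectedComponent := by
      constructor
      intro c
      induction c using SimpleGraph.ConnectedComponent.ind with
      | h v => exact hempty.false v
    rw [Nat.card_of_isEmpty]
    exact Nat.zero_le 2
  -- choose `K` maximal with nonabelian quotient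
  obtain ⟨K, hKmax⟩ := Set.Finite.exists_maximal
    (s := {K : Subgroup G | K.Normal ∧ ¬ commutator G ≤ K}) (Set.toFinite _)
    ⟨⊥, inferInstance, fun h => habel (le_bot_iff.mp h)⟩
  have hKn : K.Normal := hKmax.1.1
  have hKc : ¬ commutator G ≤ K := hKmax.1.2
  have := Fintype.ofFinite K
  have hcommap : commutator (G ⧸ K) = (commutator G).map (QuotientGroup.mk' K) := by
    rw [commutator_def, commutator_def, Subgroup.map_commutator,
      Subgroup.map_top_of_surjective _ (QuotientGroup.mk'_surjective K)]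
  have hD : commutator (G ⧸ K) ≠ ⊥ := by
    intro h
    rw [hcommap, Subgroup.map_eq_bot_iff, QuotientGroup.ker_mk'] at h
    exact hKc h
  have hmin : DerivedMinimal (G ⧸ K) := by
    intro M hMn hMne
    have hM'n : (M.comap (QuotientGroup.mk' K)).Normal := hMn.comap _
    have hKM' : K ≤ M.comap (QuotientGroup.mk' K) := by
      intro k hk
      rw [Subgroup.mem_comap, QuotientGroup.mk'_apply, (QuotientGroup.eq_one_iff k).mpr hk]
      exact one_mem M
    have hle : commutator G ≤ M.comap (QuotientGroup.mk' K) := by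
      by_contra hcon
      have h1 := hKmax.2 (⟨hM'n, hcon⟩ : M.comap (QuotientGroup.mk' K) ∈
        {K : Subgroup G | K.Normal ∧ ¬ commutator G ≤ K}) hKM'
      apply hMne
      rw [Subgroup.eq_bot_iff_forall]
      intro x hx
      obtain ⟨g, rfl⟩ := QuotientGroup.mk'_surjective K x
      have : g ∈ K := h1 (Subgroup.mem_comap.mpr hx)
      exact (QuotientGroup.eq_one_iff g).mpr this
    rw [hcommap]
    exact (Subgroup.map_mono hle).trans (Subgroup.map_comap_le _ _)
  obtain ⟨p, hp, hexp, hcomm, hcase⟩ := derivedMinimal_dichotomy hmin hD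
  have hpf : Fact p.Prime := ⟨hp⟩
  set Γ := (degreeGraph G).induce (degreePrimes G) with hΓ
  rcases hcase with hpg | hfpf
  · -- `G/K` is a `p`-group
    obtain ⟨a, ha⟩ := IsPGroup.iff_card.mp hpg
    have hidx : K.index = p ^ a := by
      rw [← ha]
      rfl
    obtain ⟨⟨β, hβ⟩, hall⟩ := pquotient_case K hp hidx hKc
    let vp : degreePrimes G := ⟨p, hp, charDegree (β : G → ℂ), ⟨β, rfl⟩, hβ⟩
    have hreach : ∀ v : degreePrimes G, ∃ a ∈ ({vp} : Finset (degreePrimes G)),
        Γ.Reachable v a := by
      rintro ⟨q, hq, d, ⟨χ, rfl⟩, hqd⟩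
      refine ⟨vp, Finset.mem_singleton_self _, ?_⟩
      by_cases hqp : q = p
      · subst hqp
        exact SimpleGraph.Reachable.refl _
      · obtain ⟨ξ, hξ⟩ := hall χ q hq hqd hqp
        apply SimpleGraph.Adj.reachable
        show (degreeGraph G).Adj q p
        exact degreeGraph_adj hq hp hqp ξ (dvd_trans (Dvd.intro_left p rfl) hξ)
          (dvd_trans (Dvd.intro q rfl) hξ)
    have h1 := card_connectedComponent_le Γ {vp} hreach
    rw [Finset.card_singleton] at h1
    omega
  · -- the Frobenius case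
    obtain ⟨N, hNdef⟩ : ∃ N : Subgroup G, N = (commutator (G ⧸ K)).comap (QuotientGroup.mk' K) :=
      ⟨_, rfl⟩
    have hNn : N.Normal := by
      rw [hNdef]
      exact (inferInstance : (commutator (G ⧸ K)).Normal).comap _
    have := Fintype.ofFinite N
    have hmemN : ∀ g : G, g ∈ N ↔ (g : G ⧸ K) ∈ commutator (G ⧸ K) := by
      intro g
      rw [hNdef, Subgroup.mem_comap]
      rfl
    have hGN : ∀ x y : G, x⁻¹ * y⁻¹ * x * y ∈ N := by
      intro x y
      rw [hmemN]
      have h1 : ((x⁻¹ * y⁻¹ * x * y : G) : G ⧸ K) = ⁅((x⁻¹ : G) : G ⧸ K), ((y⁻¹ : G) : G ⧸ K)⁆ := by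
        rw [commutatorElement_def]
        simp only [QuotientGroup.mk_mul, QuotientGroup.mk_inv, inv_inv]
      rw [h1]
      exact Subgroup.commutator_mem_commutator (Subgroup.mem_top _) (Subgroup.mem_top _)
    have hab : ∀ x y : N, ((x * y * x⁻¹ * y⁻¹ : N) : G) ∈ K := by
      intro x y
      have hx := (hmemN x).mp x.2
      have hy := (hmemN y).mp y.2
      have hc := hcomm _ hx _ hy
      rw [← QuotientGroup.eq_one_iff]
      have h1 : ((((x * y * x⁻¹ * y⁻¹ : N) : G)) : G ⧸ K) =
          ((x : G) : G ⧸ K) * ((y : G) : G ⧸ K) * ((x : G) : G ⧸ K)⁻¹ * ((y : G) : G ⧸ K)⁻¹ := by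
        simp only [Subgroup.coe_mul, Subgroup.coe_inv, QuotientGroup.mk_mul, QuotientGroup.mk_inv]
      rw [h1, hc]
      group
    have hfpf' : ∀ g : G, g ∉ N → ∀ n : N, g * (n : G) * g⁻¹ * (n : G)⁻¹ ∈ K → (n : G) ∈ K := by
      intro g hg n hn
      have hg' : (g : G ⧸ K) ∉ commutator (G ⧸ K) := fun h => hg ((hmemN g).mpr h)
      have hn' := (hmemN n).mp n.2
      have h1 : ((g * (n : G) * g⁻¹ * (n : G)⁻¹ : G) : G ⧸ K) = 1 :=
        (QuotientGroup.eq_one_iff _).mpr hn
      have h2 : (g : G ⧸ K) * ((n : G) : G ⧸ K) = ((n : G) : G ⧸ K) * (g : G ⧸ K) := by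
        have h3 : ((g * (n : G) * g⁻¹ * (n : G)⁻¹ : G) : G ⧸ K) =
            (g : G ⧸ K) * ((n : G) : G ⧸ K) * (g : G ⧸ K)⁻¹ * ((n : G) : G ⧸ K)⁻¹ := by
          simp only [QuotientGroup.mk_mul, QuotientGroup.mk_inv]
        rw [h3] at h1
        calc (g : G ⧸ K) * ((n : G) : G ⧸ K)
            = ((g : G ⧸ K) * ((n : G) : G ⧸ K) * (g : G ⧸ K)⁻¹ * ((n : G) : G ⧸ K)⁻¹) *
              (((n : G) : G ⧸ K) * (g : G ⧸ K)) := by group
          _ = ((n : G) : G ⧸ K) * (g : G ⧸ K) := by rw [h1, one_mul]
      have h4 := hfpf _ hg' _ hn' h2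
      exact (QuotientGroup.eq_one_iff _).mp h4
    have hKN : K ≤ N := by
      intro k hk
      rw [hmemN, (QuotientGroup.eq_one_iff k).mpr hk]
      exact one_mem _
    -- the index of `K` in `N`
    have hDp : IsPGroup p (commutator (G ⧸ K)) := by
      intro d
      refine ⟨1, ?_⟩
      rw [pow_one]
      exact Subtype.ext (hexp d d.2)
    obtain ⟨a, ha⟩ := IsPGroup.iff_card.mp hDp
    have hidx : (K.subgroupOf N).index = p ^ a := by
      have h1 : K.relIndex N * N.index = K.index := Subgroup.relIndex_mul_index hKN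
      have h2 : N.index = (commutator (G ⧸ K)).index := by
        rw [hNdef]
        exact Subgroup.index_comap_of_surjective _ (QuotientGroup.mk'_surjective K)
      have h3 : K.index = Nat.card (G ⧸ K) := rfl
      have h4 := Subgroup.index_mul_card (commutator (G ⧸ K))
      rw [h2, h3, ← h4, mul_comm] at h1
      have h5 : (commutator (G ⧸ K)).index ≠ 0 := Subgroup.index_ne_zero_of_finite
      have h6 := Nat.eq_of_mul_eq_mul_left (Nat.pos_of_ne_zero h5) h1
      rw [← ha, ← h6]
      rfl
    have hne : ∃ n : N, (n : G) ∉ K := by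
      obtain ⟨d, hd, hd1⟩ : ∃ d ∈ commutator (G ⧸ K), d ≠ 1 := by
        by_contra hcon
        push Not at hcon
        apply hD
        rw [Subgroup.eq_bot_iff_forall]
        exact hcon
      obtain ⟨g, rfl⟩ := QuotientGroup.mk'_surjective K d
      refine ⟨⟨g, (hmemN g).mpr hd⟩, ?_⟩
      intro hgK
      exact hd1 ((QuotientGroup.eq_one_iff g).mpr hgK)
    obtain ⟨⟨β, hβ⟩, hall⟩ := frobenius_case N K hGN hab hfpf' hp hidx hne
    -- the index of `N` is not one
    have hf1 : N.index ≠ 1 := by
      intro h1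
      have hNtop : N = ⊤ := Subgroup.index_eq_one.mp h1
      apply hKc
      apply Subgroup.Normal.quotient_commutative_iff_commutator_le.mp
      rw [isMulCommutative_iff]
      intro x y
      obtain ⟨g, rfl⟩ := QuotientGroup.mk'_surjective K x
      obtain ⟨h, rfl⟩ := QuotientGroup.mk'_surjective K y
      have hg : g ∈ N := by rw [hNtop]; trivial
      have hh : h ∈ N := by rw [hNtop]; trivial
      exact hcomm _ ((hmemN g).mp hg) _ ((hmemN h).mp hh)
    obtain ⟨r, hr, hrf⟩ := Nat.exists_prime_and_dvd hf1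
    let vr : degreePrimes G := ⟨r, hr, charDegree (β : G → ℂ), ⟨β, rfl⟩, hβ ▸ hrf⟩
    -- reachability from `r`
    have hreach_r : ∀ (q : ℕ) (hq : q.Prime) (hqV : q ∈ degreePrimes G) (ξ : IrrCharacter G),
        q ∣ charDegree (ξ : G → ℂ) → N.index ∣ charDegree (ξ : G → ℂ) →
        Γ.Reachable ⟨q, hqV⟩ vr := by
      intro q hq hqV ξ hqξ hfξ
      by_cases hqr : q = r
      · subst hqr
        exact SimpleGraph.Reachable.refl _
      · apply SimpleGraph.Adj.reachable
        show (degreeGraph G).Adj q r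
        exact degreeGraph_adj hq hr hqr ξ hqξ (hrf.trans hfξ)
    by_cases hpV : ∃ χ : IrrCharacter G, p ∣ charDegree (χ : G → ℂ)
    · obtain ⟨χp, hχp⟩ := hpV
      let vp : degreePrimes G := ⟨p, hp, charDegree (χp : G → ℂ), ⟨χp, rfl⟩, hχp⟩
      have hreach : ∀ v : degreePrimes G, ∃ a ∈ ({vr, vp} : Finset (degreePrimes G)),
          Γ.Reachable v a := by
        rintro ⟨q, hq, d, ⟨χ, rfl⟩, hqd⟩
        rcases hall χ q hq hqd with h | ⟨ξ, hξ⟩ | h
        · exact ⟨vr, by simp, hreach_r q hq _ β (hβ ▸ h) (hβ ▸ dvd_rfl)⟩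
        · exact ⟨vr, by simp, hreach_r q hq _ ξ (dvd_trans (Dvd.intro _ rfl) hξ)
            (dvd_trans (Dvd.intro_left _ rfl) hξ)⟩
        · refine ⟨vp, by simp, ?_⟩
          by_cases hqp : q = p
          · subst hqp
            exact SimpleGraph.Reachable.refl _
          · apply SimpleGraph.Adj.reachable
            show (degreeGraph G).Adj q p
            exact degreeGraph_adj hq hp hqp χ hqd h
      have h1 := card_connectedComponent_le Γ {vr, vp} hreach
      exact h1.trans Finset.card_le_two
    · have hreach : ∀ v : degreePrimes G, ∃ a ∈ ({vr} : Finset (degreePrimes G)),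
          Γ.Reachable v a := by
        rintro ⟨q, hq, d, ⟨χ, rfl⟩, hqd⟩
        rcases hall χ q hq hqd with h | ⟨ξ, hξ⟩ | h
        · exact ⟨vr, by simp, hreach_r q hq _ β (hβ ▸ h) (hβ ▸ dvd_rfl)⟩
        · exact ⟨vr, by simp, hreach_r q hq _ ξ (dvd_trans (Dvd.intro _ rfl) hξ)
            (dvd_trans (Dvd.intro_left _ rfl) hξ)⟩
        · exact absurd ⟨χ, h⟩ hpV
      have h1 := card_connectedComponent_le Γ {vr} hreach
      rw [Finset.card_singleton] at h1
      omega

end main

end Cfsg.Agent.Helper80.DegGraph
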