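import Cfsg.Agent.Helper78.Kuel.Defs
import Cfsg.Agent.Helper16.Contribution
import Cfsg.Agent.Helper16.SecondMainChar
import Cfsg.Agent.Helper16.BlockOrthogonality
import Cfsg.Agent.Helper16.PrincipalNorm
import Cfsg.Agent.Helper77.BlockPartition

/-!
# Piece (K-G1) of helper78's WANTED #6975 (S4648, Külshammer): the matrix `regClassMat p B`

`E = regClassMat p B` is, on functions on the set of conjugacy classes,
`φ ↦ (C ↦ ψ (g_{p'}))` with `g ∈ C` and `ψ = blockPart B (φ ∘ class ∘ p'-part)`. It has entries in
the local ring at `M`, is idempotent, and has rank at most `l(B) = blockRank p B`.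
-/

set_option autoImplicit false
set_option linter.unusedSectionVars false

namespace Cfsg.Agent.Helper80.KuelG1

open Module Cfsg Cfsg.Agent.Helper78 Cfsg.Agent.Helper78.Brandt Cfsg.Agent.Helper78.Kuel
open Cfsg.Agent.Helper16 (blockPart_eq_sum_blockCoeff_mul blockPart_eq_sum
  classInner_blockPart_irr isClassFunction_blockPart blockPart_eq_zero_of_vanish_pRegular
  blockPart_sub)

universe u

/-! ### the exponent -/

theorem pRegExp_modEq_one (p n : ℕ) (hp : p.Prime) (hn : n ≠ 0) :
    pRegExp p n ≡ 1 [MOD n / p ^ n.factorization p] := by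
  unfold pRegExp
  apply Nat.ModEq.pow_totient
  exact Nat.Coprime.pow_left _ (Nat.coprime_ordCompl hp hn)

theorem ordProj_dvd_pRegExp (p n : ℕ) (hn : n ≠ 0) : p ^ n.factorization p ∣ pRegExp p n := by
  unfold pRegExp
  apply dvd_pow_self
  exact (Nat.totient_pos.2 (Nat.ordCompl_pos p hn)).ne'

/-! ### the `p'`-part -/

section pReg

variable {G : Type u} [Group G] [Fintype G]

theorem pReg_pow_ordCompl (p : ℕ) (g : G) :
    (pReg p g) ^ (Nat.card G / p ^ (Nat.card G).factorization p) = 1 := by
  have hn : Nat.card G ≠ 0 := Nat.card_pos.ne'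
  obtain ⟨k, hk⟩ := ordProj_dvd_pRegExp p (Nat.card G) hn
  have h1 : pRegExp p (Nat.card G) * (Nat.card G / p ^ (Nat.card G).factorization p) =
      Nat.card G * k := by
    rw [hk]
    have h2 := Nat.ordProj_mul_ordCompl_eq_self (Nat.card G) p
    calc p ^ (Nat.card G).factorization p * k * (Nat.card G / p ^ (Nat.card G).factorization p)
        = (p ^ (Nat.card G).factorization p *
            (Nat.card G / p ^ (Nat.card G).factorization p)) * k := by ring
      _ = Nat.card G * k := by rw [h2]
  unfold pReg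
  rw [← pow_mul, h1, pow_mul, pow_card_eq_one', one_pow]

theorem not_dvd_orderOf_pReg' (p : ℕ) [Fact p.Prime] (g : G) : ¬ p ∣ orderOf (pReg p g) := by
  intro h
  have hn : Nat.card G ≠ 0 := Nat.card_pos.ne'
  have h1 : orderOf (pReg p g) ∣ Nat.card G / p ^ (Nat.card G).factorization p :=
    orderOf_dvd_of_pow_eq_one (pReg_pow_ordCompl p g)
  exact Nat.not_dvd_ordCompl Fact.out hn (h.trans h1)

theorem pReg_eq_self' (p : ℕ) [Fact p.Prime] (g : G) (hg : ¬ p ∣ orderOf g) : pReg p g = g := by
  have hp : p.Prime := Fact.out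
  have hn : Nat.card G ≠ 0 := Nat.card_pos.ne'
  have h1 : orderOf g ∣ Nat.card G / p ^ (Nat.card G).factorization p := by
    have h2 : orderOf g ∣ p ^ (Nat.card G).factorization p *
        (Nat.card G / p ^ (Nat.card G).factorization p) := by
      rw [Nat.ordProj_mul_ordCompl_eq_self]
      exact orderOf_dvd_natCard g
    have hcop : Nat.Coprime (orderOf g) (p ^ (Nat.card G).factorization p) :=
      Nat.Coprime.pow_right _ ((Nat.Prime.coprime_iff_not_dvd hp).2 hg).symm
    exact hcop.dvd_of_dvd_mul_left h2
  have h3 : pRegExp p (Nat.card G) ≡ 1 [MOD orderOf g] :=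
    (pRegExp_modEq_one p (Nat.card G) hp hn).of_dvd h1
  unfold pReg
  have := pow_eq_pow_iff_modEq.2 h3
  rw [this, pow_one]

theorem pReg_conj' (p : ℕ) (x g : G) : pReg p (x * g * x⁻¹) = x * pReg p g * x⁻¹ := by
  unfold pReg
  rw [conj_pow]

theorem pReg_pReg (p : ℕ) [Fact p.Prime] (g : G) : pReg p (pReg p g) = pReg p g :=
  pReg_eq_self' p _ (not_dvd_orderOf_pReg' p g)

/-- a class function takes the same value at the `p'`-parts of `z` and of `out (mk z)` -/
theorem classFunction_pReg_out {ψ : G → ℂ} (hψ : IsClassFunction G ψ) (p : ℕ) (z : G) :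
    ψ (pReg p (Quotient.out (ConjClasses.mk z))) = ψ (pReg p z) := by
  have h1 : ConjClasses.mk (Quotient.out (ConjClasses.mk z)) = ConjClasses.mk z :=
    Quotient.out_eq _
  obtain ⟨c, hc⟩ := isConj_iff.1 (ConjClasses.mk_eq_mk_iff_isConj.1 h1).symm
  rw [← hc, pReg_conj', hψ]

end pReg

/-! ### the matrix -/

section mat

variable {G : Type u} [Group G] [Fintype G]

/-- extension of a function on classes to the group, through the `p'`-part -/
noncomputable def hat (p : ℕ) (φ : ConjClasses G → ℂ) : G → ℂ :=
  fun y => φ (ConjClasses.mk (pReg p y))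

theorem isClassFunction_hat (p : ℕ) (φ : ConjClasses G → ℂ) : IsClassFunction G (hat p φ) := by
  intro g h
  unfold hat
  rw [pReg_conj']
  congr 1
  exact ConjClasses.mk_eq_mk_iff_isConj.2 (isConj_iff.2 ⟨h, rfl⟩).symm

open Classical in
/-- the action of `regClassMat` -/
theorem mulVec_regClassMat (p : ℕ) (B : Set (IrrCharacter G)) (φ : ConjClasses G → ℂ)
    (C : ConjClasses G) :
    (regClassMat p B).mulVec φ C = blockPart B (hat p φ) (pReg p (Quotient.out C)) := by
  rw [blockPart_eq_sum_blockCoeff_mul B (isClassFunction_hat p φ)]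
  set g' := pReg p (Quotient.out C) with hg'
  have h1 : (regClassMat p B).mulVec φ C =
      ∑ h : G, blockCoeff B h * φ (ConjClasses.mk (pReg p (g' * h))) := by
    unfold Matrix.mulVec regClassMat
    simp only [dotProduct]
    simp_rw [Finset.sum_mul]
    rw [Finset.sum_comm]
    refine Finset.sum_congr rfl (fun h _ => ?_)
    simp_rw [ite_mul, zero_mul]
    rw [Finset.sum_ite_eq]
    simp only [Finset.mem_univ, if_true]
    rfl
  rw [h1]
  refine Finset.sum_congr rfl (fun k _ => ?_)
  congr 1
  have h2 : g' * k = g' * (k * g') * g'⁻¹ := by group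
  show hat p φ (g' * k) = hat p φ (k * g')
  rw [h2]
  exact isClassFunction_hat p φ (k * g') g'

variable (M : Ideal AlgInt) [M.IsPrime]

open Classical in
theorem memLocalRing_regClassMat (p : ℕ) {B : Set (IrrCharacter G)} (hB : IsPBlock M B)
    (C C' : ConjClasses G) : MemLocalRing M (regClassMat p B C C') := by
  unfold regClassMat
  apply Cfsg.Agent.Helper16.memLocalRing_sum
  intro h _
  split_ifs
  · exact Cfsg.Agent.Helper77.blockCoeff_memLocalRing hB h
  · exact Cfsg.Agent.Helper16.memLocalRing_zero

open Classical in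
/-- `blockPart` is idempotent -/
theorem blockPart_blockPart (B : Set (IrrCharacter G)) (ϑ : G → ℂ) (g : G) :
    blockPart B (blockPart B ϑ) g = blockPart B ϑ g := by
  rw [blockPart_eq_sum B (blockPart B ϑ), blockPart_eq_sum B ϑ]
  refine Finset.sum_congr rfl (fun χ _ => ?_)
  rw [classInner_blockPart_irr]
  split_ifs <;> ring

open Classical in
/-- on `p`-regular elements the `B`-part lies in the span of the `p`-regular parts -/
theorem blockPart_eq_sum_pRegularPart (p : ℕ) (B : Set (IrrCharacter G)) (ϑ : G → ℂ) (g : G)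
    (hg : ¬ p ∣ orderOf g) :
    blockPart B ϑ g = (∑ χ : IrrCharacter G,
      ((if χ ∈ B then (1 : ℂ) else 0) * classInner ϑ (χ : G → ℂ)) •
        pRegularPart p (χ : G → ℂ)) g := by
  rw [blockPart_eq_sum, Finset.sum_apply]
  refine Finset.sum_congr rfl (fun χ _ => ?_)
  rw [Pi.smul_apply, smul_eq_mul]
  have h1 : pRegularPart p (χ : G → ℂ) g = (χ : G → ℂ) g := by
    unfold pRegularPart
    rw [if_pos]
    exact hg
  rw [h1]
  ring

open Classical in
/-- (K-G1) the matrix `regClassMat` is integral at `M`, idempotent, of rank at most `l(B)`. -/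
theorem regClassMat_props (p : ℕ) [Fact p.Prime] (hM : IsPModular p M)
    {B : Set (IrrCharacter G)} (hB : IsPBlock M B) :
    (∀ C C', MemLocalRing M (regClassMat p B C C')) ∧
      regClassMat p B * regClassMat p B = regClassMat p B ∧
      (regClassMat p B).rank ≤ blockRank p B := by
  refine ⟨memLocalRing_regClassMat M p hB, ?_, ?_⟩
  · -- idempotent
    rw [Matrix.ext_iff_mulVec]
    intro φ
    rw [← Matrix.mulVec_mulVec]
    funext C
    set ψ := blockPart B (hat p φ) with hψ
    have hψcl : IsClassFunction G ψ := isClassFunction_blockPart B _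
    set v := (regClassMat p B).mulVec φ with hv
    have hvC : ∀ C, v C = ψ (pReg p (Quotient.out C)) := fun C => mulVec_regClassMat p B φ C
    have hhat : hat p v = fun y => ψ (pReg p y) := by
      funext y
      show v (ConjClasses.mk (pReg p y)) = ψ (pReg p y)
      rw [hvC, classFunction_pReg_out hψcl, pReg_pReg]
    rw [mulVec_regClassMat, hvC]
    set g := pReg p (Quotient.out C) with hg
    have hgreg : ¬ p ∣ orderOf g := not_dvd_orderOf_pReg' p _
    have h1 : blockPart B (hat p v - ψ) g = 0 := by
      apply blockPart_eq_zero_of_vanish_pRegular hM hB _ _ g hgreg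
      intro c hc
      rw [Pi.sub_apply, hhat]
      show ψ (pReg p c) - ψ c = 0
      rw [pReg_eq_self' p c hc, sub_self]
    rw [blockPart_sub, sub_eq_zero] at h1
    rw [h1, hψ, blockPart_blockPart]
  · -- rank
    set R : (G → ℂ) →ₗ[ℂ] (ConjClasses G → ℂ) :=
      LinearMap.funLeft ℂ ℂ (fun C : ConjClasses G => pReg p (Quotient.out C)) with hR
    set S : Submodule ℂ (G → ℂ) :=
      Submodule.span ℂ ((fun χ : IrrCharacter G => pRegularPart p (χ : G → ℂ)) '' B) with hS
    have hle : LinearMap.range (regClassMat p B).mulVecLin ≤ Submodule.map R S := by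
      rintro x ⟨φ, rfl⟩
      refine ⟨∑ χ : IrrCharacter G,
        ((if χ ∈ B then (1 : ℂ) else 0) * classInner (hat p φ) (χ : G → ℂ)) •
          pRegularPart p (χ : G → ℂ), ?_, ?_⟩
      · apply Submodule.sum_mem
        intro χ _
        by_cases hχ : χ ∈ B
        · exact Submodule.smul_mem _ _ (Submodule.subset_span ⟨χ, hχ, rfl⟩)
        · rw [if_neg hχ, zero_mul, zero_smul]
          exact Submodule.zero_mem _
      · funext C
        rw [Matrix.mulVecLin_apply, mulVec_regClassMat, hR, LinearMap.funLeft_apply]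
        exact (blockPart_eq_sum_pRegularPart p B (hat p φ) _ (not_dvd_orderOf_pReg' p _)).symm
    unfold Matrix.rank blockRank
    calc finrank ℂ (LinearMap.range (regClassMat p B).mulVecLin)
        ≤ finrank ℂ (Submodule.map R S) := Submodule.finrank_mono hle
      _ ≤ finrank ℂ S := Submodule.finrank_map_le R S

end mat

end Cfsg.Agent.Helper80.KuelG1
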