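import Cfsg.Agent.Helper75.CAFam
import Cfsg.Agent.Helper15.Gallagher

/-!
# (W4) for S0885: the relevant characters of the normalizer of a T.I. subgroup are at most as many
as the classes of `G` meeting `K \ {1}`
-/

set_option autoImplicit false

namespace Cfsg.Agent.Helper80.FeitW

open Cfsg Cfsg.Agent.Helper75
open scoped ComplexConjugate

universe u

theorem card_tfS_le_classes {G : Type u} [Group G] [Fintype G] {K : Subgroup G}
    [Fintype ↥(Subgroup.normalizer (K : Set G))]
    (hC : ∀ k ∈ K, k ≠ 1 → Subgroup.centralizer ({k} : Set G) ≤ K)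
    (hTI : ∀ g : G, g ∉ Subgroup.normalizer (K : Set G) → ∀ k ∈ K, g * k * g⁻¹ ∈ K → k = 1) :
    Nat.card (tfS K) ≤
      Nat.card {C : ConjClasses G // ∃ k ∈ K, k ≠ 1 ∧ ConjClasses.mk k = C} := by
  classical
  have hfin : Finite (tfS K) := by
    have : Finite (IrrCharacter ↥(Subgroup.normalizer (K : Set G))) := Helper74.irr_finite
    exact Finite.of_injective
      (fun χ : tfS K => (⟨χ.1, χ.2.1⟩ : IrrCharacter ↥(Subgroup.normalizer (K : Set G))))
      (by
        intro a b h
        apply Subtype.ext
        have h' := congrArg Subtype.val h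
        exact h')
  have : Fintype (tfS K) := Fintype.ofFinite _
  have : Fintype {C : ConjClasses G // ∃ k ∈ K, k ≠ 1 ∧ ConjClasses.mk k = C} :=
    Fintype.ofFinite _
  -- representatives
  have hrep : ∀ C : {C : ConjClasses G // ∃ k ∈ K, k ≠ 1 ∧ ConjClasses.mk k = C},
      ∃ m : ↥(Subgroup.normalizer (K : Set G)), (m : G) ∈ K ∧ m ≠ 1 ∧
        ConjClasses.mk (m : G) = C.1 := by
    rintro ⟨C, k, hk, hk1, hkC⟩
    exact ⟨⟨k, Subgroup.le_normalizer hk⟩, hk, fun h => hk1 (congrArg Subtype.val h), hkC⟩
  choose rep hrepK hrep1 hrepC using hrep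
  let b : tfS K → ({C : ConjClasses G // ∃ k ∈ K, k ≠ 1 ∧ ConjClasses.mk k = C} → ℂ) :=
    fun χ C => χ.1 (rep C)
  have hli : LinearIndependent ℂ b := by
    rw [Fintype.linearIndependent_iff]
    intro c hc χ'
    set F : ↥(Subgroup.normalizer (K : Set G)) → ℂ := ∑ χ : tfS K, c χ • χ.1 with hF
    have hFapp : ∀ n, F n = ∑ χ : tfS K, c χ * χ.1 n := by
      intro n
      rw [hF]
      simp only [Finset.sum_apply, Pi.smul_apply, smul_eq_mul]
    have hFoff : ∀ n : ↥(Subgroup.normalizer (K : Set G)), n ≠ 1 → F n = 0 := by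
      intro n hn1
      by_cases hnK : (n : G) ∈ K
      · let C : {C : ConjClasses G // ∃ k ∈ K, k ≠ 1 ∧ ConjClasses.mk k = C} :=
          ⟨ConjClasses.mk (n : G), (n : G), hnK, fun h => hn1 (Subtype.ext h), rfl⟩
        have hconj : IsConj ((rep C : ↥(Subgroup.normalizer (K : Set G))) : G) (n : G) :=
          ConjClasses.mk_eq_mk_iff_isConj.1 (hrepC C)
        obtain ⟨g, hg⟩ := isConj_iff.1 hconj
        have hgN : g ∈ Subgroup.normalizer (K : Set G) := by
          by_contra hgn
          have := hTI g hgn (rep C : G) (hrepK C) (by rw [hg]; exact hnK)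
          exact hrep1 C (Subtype.ext this)
        have hn : n = ⟨g, hgN⟩ * rep C * (⟨g, hgN⟩ : ↥(Subgroup.normalizer (K : Set G)))⁻¹ := by
          apply Subtype.ext
          simp [hg]
        have hval : ∀ χ : tfS K, χ.1 n = χ.1 (rep C) := by
          intro χ
          rw [hn]
          exact tf_isClassFunction χ.2 (rep C) ⟨g, hgN⟩
        have h0 := congrFun hc C
        simp only [Finset.sum_apply, Pi.smul_apply, smul_eq_mul, Pi.zero_apply] at h0
        rw [hFapp, ← h0]
        exact Finset.sum_congr rfl (fun χ _ => by rw [hval χ])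
      · rw [hFapp]
        apply Finset.sum_eq_zero
        intro χ _
        rw [tf_vanish hC χ.2 n hnK, mul_zero]
    have hinner : ∀ ψ : ↥(Subgroup.normalizer (K : Set G)) → ℂ,
        classInner F ψ =
          (Nat.card ↥(Subgroup.normalizer (K : Set G)) : ℂ)⁻¹ * (F 1 * conj (ψ 1)) := by
      intro ψ
      unfold classInner
      congr 1
      rw [Finset.sum_eq_single (1 : ↥(Subgroup.normalizer (K : Set G)))]
      · intro n _ hn
        rw [hFoff n hn, zero_mul]
      · intro h
        exact absurd (Finset.mem_univ _) h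
    have hexp : ∀ ψ : ↥(Subgroup.normalizer (K : Set G)) → ℂ,
        classInner F ψ = ∑ χ : tfS K, c χ * classInner χ.1 ψ := by
      intro ψ
      rw [hF, Helper74.classInner_sum_left]
      exact Finset.sum_congr rfl (fun χ _ => Helper74.classInner_smul_left _ _ _)
    have hcard : (Nat.card ↥(Subgroup.normalizer (K : Set G)) : ℂ) ≠ 0 := by
      have : Nat.card ↥(Subgroup.normalizer (K : Set G)) ≠ 0 := Nat.card_pos.ne'
      exact_mod_cast this
    -- the principal character
    have hF1 : F 1 = 0 := by
      have h1 := hexp (fun _ => 1)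
      have h2 : ∑ χ : tfS K, c χ * classInner χ.1
          (fun _ : ↥(Subgroup.normalizer (K : Set G)) => (1 : ℂ)) = 0 := by
        apply Finset.sum_eq_zero
        intro χ _
        have hne : (⟨χ.1, χ.2.1⟩ : IrrCharacter ↥(Subgroup.normalizer (K : Set G))) ≠
            ⟨fun _ => 1, Helper15.isIrrCharacter_one _⟩ := by
          intro h
          obtain ⟨k, _, hk⟩ := χ.2.2
          have h' : χ.1 = fun _ => 1 := congrArg Subtype.val h
          apply hk
          rw [h']
        have := Helper74.irr_inner_ne hne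
        rw [this, mul_zero]
      rw [h2, hinner] at h1
      simp only [map_one, mul_one] at h1
      rcases mul_eq_zero.1 h1 with h | h
      · exact absurd (inv_eq_zero.1 h) hcard
      · exact h
    have h3 := hexp χ'.1
    rw [hinner, hF1, zero_mul, mul_zero] at h3
    rw [Finset.sum_eq_single χ'] at h3
    · have := Helper74.irr_inner_self
        (⟨χ'.1, χ'.2.1⟩ : IrrCharacter ↥(Subgroup.normalizer (K : Set G)))
      rw [this, mul_one] at h3
      exact h3.symm
    · intro χ _ hne
      have hne' : (⟨χ.1, χ.2.1⟩ : IrrCharacter ↥(Subgroup.normalizer (K : Set G))) ≠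
          ⟨χ'.1, χ'.2.1⟩ := by
        intro h
        apply hne
        apply Subtype.ext
        have h' := congrArg Subtype.val h
        exact h'
      have := Helper74.irr_inner_ne hne'
      rw [this, mul_zero]
    · intro h
      exact absurd (Finset.mem_univ _) h
  have hle := hli.fintype_card_le_finrank
  rw [Module.finrank_fintype_fun_eq_card] at hle
  rw [Nat.card_eq_fintype_card, Nat.card_eq_fintype_card]
  exact hle

end Cfsg.Agent.Helper80.FeitW
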