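import Mathlib
import Cfsg.Agent.Helper88.AltNorm2
import Cfsg.Agent.Helper88.AltCrit2

/-!
# Orders of the model Sylow subgroups of alternating groups

(helper80, for helper88's WANTED #4213 (P8), (P8'), S5165.)
-/

set_option autoImplicit false
set_option linter.unusedSectionVars false

namespace Cfsg.Agent.Helper80

open Equiv Cfsg.Agent.Helper42 Cfsg.Agent.Helper88 Cfsg.Agent.Helper88.AltM

variable {β ρ : Type*} [Fintype β] [DecidableEq β] [Fintype ρ] [DecidableEq ρ] {p : ℕ}
  [Fact p.Prime]

/-- for `p` odd the alternating group and the symmetric group have the same `p`-part -/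
theorem factorization_card_alternatingGroup_odd {α : Type*} [Fintype α] [DecidableEq α] {p : ℕ}
    (hp : p.Prime) (hp2 : p ≠ 2) :
    (Nat.card (alternatingGroup α)).factorization p = (Nat.card (Perm α)).factorization p := by
  rcases subsingleton_or_nontrivial α with hα | hα
  · have h1 : Nat.card (Perm α) = 1 := Nat.card_unique
    have h2 : Nat.card (alternatingGroup α) = 1 := by
      have hd : Nat.card (alternatingGroup α) ∣ Nat.card (Perm α) :=
        Subgroup.card_subgroup_dvd_card _
      rw [h1] at hd
      exact Nat.dvd_one.mp hd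
    rw [h1, h2]
  · rw [← two_mul_nat_card_alternatingGroup (α := α),
      Nat.factorization_mul two_ne_zero Nat.card_pos.ne']
    have h2 : (2 : ℕ).factorization p = 0 := by
      apply Nat.factorization_eq_zero_of_not_dvd
      intro hd
      exact hp2 ((Nat.prime_dvd_prime_iff_eq hp Nat.prime_two).mp hd)
    simp [h2]

/-- **(P8')** -/
theorem card_Ss_sylow_alt (hp2 : p ≠ 2) (hρ : Fintype.card ρ < p) (K : Sylow p (Perm β)) :
    Nat.card (Ss ρ (K : Subgroup (Perm β)) : Subgroup (Perm (Pt β ρ p))) =
      p ^ (Nat.card (alternatingGroup (Pt β ρ p))).factorization p := by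
  rw [factorization_card_alternatingGroup_odd (Fact.out : p.Prime) hp2]
  exact card_Ss_sylow hρ K

/-- **(P8)** -/
theorem card_Sev_sylow (hρ : Fintype.card ρ < 2) (hβ : 1 ≤ Fintype.card β) (K : Sylow 2 (Perm β)) :
    Nat.card (Sev ρ (K : Subgroup (Perm β)) : Subgroup (Perm (Pt β ρ 2))) =
      2 ^ (Nat.card (alternatingGroup (Pt β ρ 2))).factorization 2 := by
  have hβne : Nonempty β := Fintype.card_pos_iff.mp hβ
  obtain ⟨y⟩ := hβne
  have : Nontrivial (Pt β ρ 2) := by
    refine ⟨⟨Sum.inl (y, 0), Sum.inl (y, 1), ?_⟩⟩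
    intro h
    simp only [Sum.inl.injEq, Prod.mk.injEq] at h
    exact absurd h.2 (by decide)
  set S : Subgroup (Perm (Pt β ρ 2)) := Ss ρ (K : Subgroup (Perm β)) with hS
  have hcardS : Nat.card S = 2 ^ (Nat.card (Perm (Pt β ρ 2))).factorization 2 :=
    card_Ss_sylow hρ K
  have hfac : (Nat.card (Perm (Pt β ρ 2))).factorization 2 =
      1 + (Nat.card (alternatingGroup (Pt β ρ 2))).factorization 2 := by
    rw [← two_mul_nat_card_alternatingGroup (α := Pt β ρ 2),
      Nat.factorization_mul two_ne_zero Nat.card_pos.ne', Finsupp.add_apply,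
      Nat.prime_two.factorization_self]
  -- the relative index of `A` in `S` is `2`
  have hrel : (alternatingGroup (Pt β ρ 2)).relIndex S = 2 := by
    have hd : (alternatingGroup (Pt β ρ 2)).relIndex S ∣ 2 := by
      have := Subgroup.relIndex_dvd_index_of_normal (alternatingGroup (Pt β ρ 2)) S
      rwa [alternatingGroup.index_eq_two] at this
    rcases (Nat.dvd_prime Nat.prime_two).mp hd with h1 | h2
    · exfalso
      rw [Subgroup.relIndex_eq_one] at h1
      have hmem : tcyc ρ 2 y ∈ S := Bs_le_Ss _ (tcyc_mem_Bs y)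
      have := Perm.mem_alternatingGroup.mp (h1 hmem)
      rw [sign_tcyc_two] at this
      exact absurd this (by decide)
    · exact h2
  have hmul : Nat.card (Sev ρ (K : Subgroup (Perm β)) : Subgroup (Perm (Pt β ρ 2))) * 2 =
      Nat.card S := by
    have h := Subgroup.relIndex_mul_relIndex ⊥ (S ⊓ alternatingGroup (Pt β ρ 2)) S bot_le
      inf_le_left
    rw [Subgroup.relIndex_bot_left, Subgroup.relIndex_bot_left, Subgroup.inf_relIndex_left, hrel]
      at h
    exact h
  rw [hcardS, hfac, pow_add, pow_one, mul_comm] at hmul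
  exact Nat.eq_of_mul_eq_mul_left (by norm_num : 0 < 2) hmul

end Cfsg.Agent.Helper80
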