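import Mathlib

/-!
# The 3-cycle (Carmichael-type) presentation of the alternating group: the abstract order bound

If `X 0, …, X (m-1)` satisfy `X i ^ 3 = 1` and `(X i * X j) ^ 2 = 1` for `i ≠ j`, the subgroup they
generate is finite of order at most `(m+2)!/2`.  Coset enumeration over the subgroup generated by
the first `m` of them (right cosets, `m + 3` of them).
-/

set_option autoImplicit false

namespace Cfsg.Agent.Helper80.AltStemA

variable {K : Type*} [Group K]

/-- The subgroup generated by the first `m` elements. -/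
def Hm (X : ℕ → K) (m : ℕ) : Subgroup K := Subgroup.closure (X '' Set.Iio m)

theorem X_mem_Hm (X : ℕ → K) {i m : ℕ} (h : i < m) : X i ∈ Hm X m :=
  Subgroup.subset_closure ⟨i, h, rfl⟩

/-! ### Generic consequences of the relations -/

theorem inv_eq_mul_self {a : K} (h : a ^ 3 = 1) : a⁻¹ = a * a := by
  apply inv_eq_of_mul_eq_one_right
  rw [← h]; simp only [pow_succ, pow_zero, one_mul, mul_assoc]

theorem inv_mul_inv_self {a : K} (h : a ^ 3 = 1) : a⁻¹ * a⁻¹ = a := by
  rw [← mul_inv_rev, ← inv_eq_mul_self h, inv_inv]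

theorem inv_eq_self_of_sq {c : K} (h : c ^ 2 = 1) : c⁻¹ = c :=
  inv_eq_of_mul_eq_one_left (by rwa [← sq])

theorem mul_eq_inv_mul_inv {a b : K} (h : (a * b) ^ 2 = 1) : a * b = b⁻¹ * a⁻¹ := by
  rw [← mul_inv_rev]
  exact (inv_eq_self_of_sq h).symm

/-- (2) `Y * x = x⁻¹ * (Y * Y)`. -/
theorem rel2 {x Y : K} (hY : Y ^ 3 = 1) (h : (Y * x) ^ 2 = 1) : Y * x = x⁻¹ * (Y * Y) := by
  rw [mul_eq_inv_mul_inv h, inv_eq_mul_self hY]

/-- (4a) `Y * Y * x * x = x * Y`. -/
theorem rel4a {x Y : K} (hx : x ^ 3 = 1) (hY : Y ^ 3 = 1) (h : (x * Y) ^ 2 = 1) :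
    Y * Y * x * x = x * Y := by
  rw [mul_assoc, ← inv_eq_mul_self hx, ← inv_eq_mul_self hY, ← mul_eq_inv_mul_inv h]

/-- (4b) `Y * Y * x * Y = x⁻¹ * (Y * Y * x)`. -/
theorem rel4b {x Y : K} (hx : x ^ 3 = 1) (hY : Y ^ 3 = 1) (h : (x * Y) ^ 2 = 1)
    (h' : (Y * x) ^ 2 = 1) : Y * Y * x * Y = x⁻¹ * (Y * Y * x) := by
  have e1 : Y * Y * x * Y = Y * x⁻¹ := by
    calc Y * Y * x * Y = Y⁻¹ * (x * Y) := by rw [inv_eq_mul_self hY, mul_assoc]
      _ = (Y⁻¹ * Y⁻¹) * x⁻¹ := by rw [mul_eq_inv_mul_inv h, mul_assoc]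
      _ = Y * x⁻¹ := by rw [inv_mul_inv_self hY]
  have e2 : x⁻¹ * (Y * Y * x) = Y * x⁻¹ := by
    calc x⁻¹ * (Y * Y * x) = (x⁻¹ * Y⁻¹) * x := by
          rw [inv_eq_mul_self hY]; simp only [mul_assoc]
      _ = (Y * x) * x := by rw [← mul_inv_rev, inv_eq_self_of_sq h']
      _ = Y * x⁻¹ := by rw [mul_assoc, ← inv_eq_mul_self hx]
  rw [e1, e2]

/-- (4c) `Y * Y * x * z = z * x⁻¹ * (Y * Y * x)`. -/
theorem rel4c {x z Y : K} (hx : x ^ 3 = 1) (hY : Y ^ 3 = 1) (hYx : (Y * x) ^ 2 = 1)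
    (hzY : (z * Y) ^ 2 = 1) (hxz : (x * z) ^ 2 = 1) :
    Y * Y * x * z = z * x⁻¹ * (Y * Y * x) := by
  have e1 : Y * Y * x * z = Y⁻¹ * (x * z) := by rw [inv_eq_mul_self hY, mul_assoc]
  have e2 : z * x⁻¹ * (Y * Y * x) = Y⁻¹ * (x * z) := by
    calc z * x⁻¹ * (Y * Y * x) = z * ((x⁻¹ * Y⁻¹) * x) := by
          rw [inv_eq_mul_self hY]; simp only [mul_assoc]
      _ = z * ((Y * x) * x) := by rw [← mul_inv_rev, inv_eq_self_of_sq hYx]
      _ = (z * Y) * x⁻¹ := by rw [inv_eq_mul_self hx]; simp only [mul_assoc]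
      _ = Y⁻¹ * (z⁻¹ * x⁻¹) := by rw [mul_eq_inv_mul_inv hzY, mul_assoc]
      _ = Y⁻¹ * (x * z) := by rw [← mul_inv_rev, inv_eq_self_of_sq hxz]
  rw [e1, e2]

/-! ### Coset enumeration -/

/-- The relations for `X 0, …, X (m-1)`. -/
structure Rel (m : ℕ) (X : ℕ → K) : Prop where
  r3 : ∀ i, i < m → X i ^ 3 = 1
  r2 : ∀ i j, i < m → j < m → i ≠ j → (X i * X j) ^ 2 = 1

theorem Rel.mono {m m' : ℕ} {X : ℕ → K} (h : Rel m' X) (hm : m ≤ m') : Rel m X where
  r3 := fun i hi => h.r3 i (lt_of_lt_of_le hi hm)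
  r2 := fun i j hi hj hij => h.r2 i j (lt_of_lt_of_le hi hm) (lt_of_lt_of_le hj hm) hij

/-- Right coset representatives of `Hm X m` in `Hm X (m+1)`. -/
def rep (X : ℕ → K) (m k : ℕ) : K :=
  if k = 0 then 1 else if k = 1 then X m else if k = 2 then X m * X m
  else X m * X m * X (k - 3)

theorem rep_zero (X : ℕ → K) (m : ℕ) : rep X m 0 = 1 := by
  unfold rep; rw [if_pos rfl]

theorem rep_one (X : ℕ → K) (m : ℕ) : rep X m 1 = X m := by
  unfold rep; rw [if_neg (by omega), if_pos rfl]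

theorem rep_two (X : ℕ → K) (m : ℕ) : rep X m 2 = X m * X m := by
  unfold rep; rw [if_neg (by omega), if_neg (by omega), if_pos rfl]

theorem rep_add_three (X : ℕ → K) (m j : ℕ) : rep X m (3 + j) = X m * X m * X j := by
  unfold rep
  rw [if_neg (by omega), if_neg (by omega), if_neg (by omega)]
  congr 2
  omega

/-- Membership in the union of the right cosets `Hm X m * rep k`. -/
def InD (X : ℕ → K) (m : ℕ) (g : K) : Prop :=
  ∃ k, k < m + 3 ∧ ∃ h ∈ Hm X m, g = h * rep X m k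

theorem inD_one (X : ℕ → K) (m : ℕ) : InD X m 1 :=
  ⟨0, by omega, 1, Subgroup.one_mem _, by rw [rep_zero, mul_one]⟩

section rel

variable {X : ℕ → K} {m : ℕ} (hR : Rel (m + 1) X)
include hR

theorem mul_gen {i : ℕ} (hi : i ≤ m) {g : K} (hg : InD X m g) : InD X m (g * X i) := by
  obtain ⟨k, hk, h, hh, rfl⟩ := hg
  have hY : X m ^ 3 = 1 := hR.r3 m (by omega)
  have hk' : k = 0 ∨ k = 1 ∨ k = 2 ∨ ∃ j, j < m ∧ k = 3 + j := by
    by_cases h3 : k < 3
    · omega
    · exact Or.inr (Or.inr (Or.inr ⟨k - 3, by omega, by omega⟩))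
  rcases hk' with rfl | rfl | rfl | ⟨j, hj, rfl⟩
  · rw [rep_zero, mul_one]
    rcases Nat.lt_or_ge i m with hlt | hge
    · exact ⟨0, by omega, h * X i, Subgroup.mul_mem _ hh (X_mem_Hm X hlt), by
        rw [rep_zero, mul_one]⟩
    · obtain rfl : i = m := by omega
      exact ⟨1, by omega, h, hh, by rw [rep_one]⟩
  · rw [rep_one]
    rcases Nat.lt_or_ge i m with hlt | hge
    · refine ⟨2, by omega, h * (X i)⁻¹,
        Subgroup.mul_mem _ hh (Subgroup.inv_mem _ (X_mem_Hm X hlt)), ?_⟩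
      rw [rep_two, mul_assoc, rel2 hY (hR.r2 m i (by omega) (by omega) (by omega)), mul_assoc]
    · obtain rfl : i = m := by omega
      exact ⟨2, by omega, h, hh, by rw [rep_two, mul_assoc]⟩
  · rw [rep_two]
    rcases Nat.lt_or_ge i m with hlt | hge
    · exact ⟨3 + i, by omega, h, hh, by rw [rep_add_three, mul_assoc]⟩
    · obtain rfl : i = m := by omega
      refine ⟨0, by omega, h, hh, ?_⟩
      rw [rep_zero, mul_one, mul_assoc, ← inv_eq_mul_self hY, inv_mul_cancel, mul_one]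
  · rw [rep_add_three]
    have hx : X j ^ 3 = 1 := hR.r3 j (by omega)
    rcases Nat.lt_or_ge i m with hlt | hge
    · by_cases hij : i = j
      · subst hij
        refine ⟨1, by omega, h * X i, Subgroup.mul_mem _ hh (X_mem_Hm X hlt), ?_⟩
        rw [rep_one, mul_assoc, rel4a hx hY (hR.r2 i m (by omega) (by omega) (by omega)),
          mul_assoc]
      · refine ⟨3 + j, by omega, h * (X i * (X j)⁻¹),
          Subgroup.mul_mem _ hh (Subgroup.mul_mem _ (X_mem_Hm X hlt)
            (Subgroup.inv_mem _ (X_mem_Hm X hj))), ?_⟩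
        rw [rep_add_three, mul_assoc,
          rel4c hx hY (hR.r2 m j (by omega) (by omega) (by omega))
            (hR.r2 i m (by omega) (by omega) (by omega))
            (hR.r2 j i (by omega) (by omega) (fun e => hij e.symm))]
        simp only [mul_assoc]
    · obtain rfl : i = m := by omega
      refine ⟨3 + j, by omega, h * (X j)⁻¹,
        Subgroup.mul_mem _ hh (Subgroup.inv_mem _ (X_mem_Hm X hj)), ?_⟩
      rw [rep_add_three, mul_assoc,
        rel4b hx hY (hR.r2 j i (by omega) (by omega) (by omega))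
          (hR.r2 i j (by omega) (by omega) (by omega))]
      simp only [mul_assoc]

theorem mul_gen_inv {i : ℕ} (hi : i ≤ m) {g : K} (hg : InD X m g) :
    InD X m (g * (X i)⁻¹) := by
  rw [inv_eq_mul_self (hR.r3 i (by omega)), ← mul_assoc]
  exact mul_gen hR hi (mul_gen hR hi hg)

theorem inD_of_mem {g : K} (hg : g ∈ Hm X (m + 1)) : InD X m g := by
  unfold Hm at hg
  induction hg using Subgroup.closure_induction_right with
  | one => exact inD_one X m
  | mul_right z _ y hy ih =>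
    obtain ⟨i, hi, rfl⟩ := hy
    exact mul_gen hR (Nat.lt_succ_iff.mp hi) ih
  | mul_inv_cancel z _ y hy ih =>
    obtain ⟨i, hi, rfl⟩ := hy
    exact mul_gen_inv hR (Nat.lt_succ_iff.mp hi) ih

theorem step_bound (hfin : (Hm X m : Set K).Finite) :
    (Hm X (m + 1) : Set K).Finite ∧ Nat.card (Hm X (m + 1)) ≤ (m + 3) * Nat.card (Hm X m) := by
  classical
  let F : Finset K := hfin.toFinset
  let T : Finset K := (Finset.range (m + 3)).biUnion (fun k => F.image (fun h => h * rep X m k))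
  have hsub : (Hm X (m + 1) : Set K) ⊆ ↑T := by
    intro g hg
    obtain ⟨k, hk, h, hh, rfl⟩ := inD_of_mem hR hg
    simp only [T, Finset.coe_biUnion, Finset.coe_range, Set.mem_Iio, Finset.coe_image,
      Set.mem_iUnion, Set.mem_image, Finset.mem_coe, exists_prop]
    exact ⟨k, hk, h, by simpa [F] using hh, rfl⟩
  have hT : T.card ≤ (m + 3) * F.card := by
    calc T.card ≤ ∑ k ∈ Finset.range (m + 3), (F.image (fun h => h * rep X m k)).card :=
          Finset.card_biUnion_le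
      _ ≤ ∑ _k ∈ Finset.range (m + 3), F.card :=
          Finset.sum_le_sum (fun k _ => Finset.card_image_le)
      _ = (m + 3) * F.card := by simp
  have hF : Nat.card (Hm X m) = F.card := by
    have := Nat.card_coe_set_eq (Hm X m : Set K)
    rw [Set.ncard_eq_toFinset_card _ hfin] at this
    exact this
  refine ⟨T.finite_toSet.subset hsub, ?_⟩
  have h1 : Nat.card (Hm X (m + 1)) = (Hm X (m + 1) : Set K).ncard :=
    Nat.card_coe_set_eq (Hm X (m + 1) : Set K)
  rw [h1, hF]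
  calc (Hm X (m + 1) : Set K).ncard ≤ (T : Set K).ncard :=
        Set.ncard_le_ncard hsub T.finite_toSet
    _ = T.card := Set.ncard_coe_finset T
    _ ≤ (m + 3) * F.card := hT

end rel

/-- **Order bound**, relation-structure form. -/
theorem card_bound (X : ℕ → K) : ∀ m, Rel m X →
    (Hm X m : Set K).Finite ∧ Nat.card (Hm X m) * 2 ≤ (m + 2).factorial := by
  intro m
  induction m with
  | zero =>
    intro _
    have h0 : Hm X 0 = ⊥ := by
      unfold Hm
      have : X '' Set.Iio 0 = ∅ := by ext; simp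
      rw [this, Subgroup.closure_empty]
    rw [h0]
    refine ⟨by simp, ?_⟩
    rw [Subgroup.card_bot]
    decide
  | succ m ih =>
    intro hR
    obtain ⟨hfin, hcard⟩ := ih (hR.mono (Nat.le_succ m))
    obtain ⟨hfin', hcard'⟩ := step_bound hR hfin
    refine ⟨hfin', ?_⟩
    rw [show m + 1 + 2 = (m + 2) + 1 by omega, Nat.factorial_succ]
    calc Nat.card (Hm X (m + 1)) * 2 ≤ (m + 3) * Nat.card (Hm X m) * 2 :=
          Nat.mul_le_mul_right 2 hcard'
      _ = (m + 2 + 1) * (Nat.card (Hm X m) * 2) := by ring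
      _ ≤ (m + 2 + 1) * (m + 2).factorial := Nat.mul_le_mul_left _ hcard

/-- **Order bound** (WANTED #3646 (P-A)): elements `X 0, …, X (m-1)` with `X i ^ 3 = 1` and
`(X i * X j) ^ 2 = 1` for `i ≠ j` generate a finite group of order at most `(m+2)!/2`. -/
theorem card_closure_le {K : Type*} [Group K] (X : ℕ → K) (m : ℕ)
    (h3 : ∀ i, i < m → X i ^ 3 = 1)
    (h2 : ∀ i j, i < m → j < m → i ≠ j → (X i * X j) ^ 2 = 1) :
    (Subgroup.closure (X '' Set.Iio m) : Set K).Finite ∧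
      Nat.card (Subgroup.closure (X '' Set.Iio m)) * 2 ≤ (m + 2).factorial :=
  card_bound X m ⟨h3, h2⟩

end Cfsg.Agent.Helper80.AltStemA
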