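import Cfsg.Agent.Helper57.BH.Defs

/-!
# Piece (AX) of helper57's WANTED #6661 (S4503): a small character with `P` not in its kernel is
not a non-exceptional character of a block of defect one
-/

set_option autoImplicit false

namespace Cfsg.Agent.Helper80.BH

open Cfsg Cfsg.Agent.Helper16 Cfsg.Agent.Helper16.DefOne Cfsg.Agent.Helper82.DefOne
  Cfsg.Agent.Helper77.DefOne Cfsg.Agent.Helper57.BH
open scoped ComplexConjugate

universe u

variable {G : Type u} [Group G] [Fintype G] {p : ℕ} [Fact p.Prime] (P : Sylow p G)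

/-- (A-X) a small character with `P` not in its kernel is not non-exceptional -/
theorem not_mem_X_of_small (hP : Nat.card P = p) (θ : IrrCharacter (cen P)) (hθ : IsCanon P θ)
    {X Y : Set (IrrCharacter G)} {ε : IrrCharacter G → ℤ} {δ : ℤ} (D : IsRData P θ X Y ε δ)
    (ψ : IrrCharacter G) (hsmall : 2 * charDegree (ψ : G → ℂ) + 1 < p)
    (hker : ∃ x : G, x ∈ (P : Subgroup G) ∧ (ψ : G → ℂ) x ≠ (ψ : G → ℂ) 1) : ψ ∉ X := by
  intro hψ
  obtain ⟨x, hx, hxne⟩ := hker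
  have hx1 : x ≠ 1 := by
    rintro rfl
    exact hxne rfl
  set w : ℕ := (cen P).relIndex (nor P) / inertia P θ * charDegree (θ : cen P → ℂ) with hw
  set d : ℕ := charDegree (ψ : G → ℂ) with hd
  have hval : (ψ : G → ℂ) x = (ε ψ : ℂ) * (w : ℂ) := by
    have h1 := D.valX ψ hψ ⟨x, le_cen P hP hx⟩ (dvd_orderOf_of_mem P hP x hx hx1)
    rw [finsum_orbit_apply_of_mem P hP θ hθ ⟨x, le_cen P hP hx⟩ hx] at h1
    exact h1
  have hdeg : (d : ℤ) ≡ ε ψ * (w : ℤ) [ZMOD p] := D.degX ψ hψ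
  have hψchar : IsCharacter G (ψ : G → ℂ) := by
    obtain ⟨n, ρ, -, h⟩ := ψ.2
    exact ⟨n, ρ, h⟩
  have hnorm : ‖(ψ : G → ℂ) x‖ ≤ (d : ℝ) := Helper74.norm_le_charDegree hψchar x
  have hdpos : 0 < d := Nat.pos_of_ne_zero (charDegree_ne_zero' ψ)
  have hwle : w ≤ d := by
    rw [hval] at hnorm
    have h2 : ‖(ε ψ : ℂ) * (w : ℂ)‖ = (w : ℝ) := by
      rcases D.eps ψ with h | h
      · rw [h]; simp
      · rw [h]; simp
    rw [h2] at hnorm
    exact_mod_cast hnorm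
  rcases D.eps ψ with h | h
  · -- `ε = 1`
    rw [h, one_mul] at hdeg
    have h3 : d ≡ w [MOD p] := Int.natCast_modEq_iff.1 hdeg
    have h4 : d = w := Nat.ModEq.eq_of_lt_of_lt h3 (by omega) (by omega)
    apply hxne
    rw [hval, h, irr_one_eq_natCast, ← hd, h4]
    simp
  · -- `ε = -1`
    rw [h] at hdeg
    have h3 : (p : ℤ) ∣ -1 * (w : ℤ) - (d : ℤ) := Int.modEq_iff_dvd.1 hdeg
    have h4 : (p : ℤ) ∣ ((w + d : ℕ) : ℤ) := by
      have := (dvd_neg (a := (p : ℤ))).2 h3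
      have e : -(-1 * (w : ℤ) - (d : ℤ)) = ((w + d : ℕ) : ℤ) := by push_cast; ring
      rwa [e] at this
    have h5 : p ∣ w + d := Int.natCast_dvd_natCast.1 h4
    have h6 := Nat.le_of_dvd (by omega) h5
    omega

end Cfsg.Agent.Helper80.BH
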