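import Mathlib
import Cfsg.Agent.Helper78.Brandt.Defs

/-!
# Piece (B-GG) of helper78's WANTED #6442 (S4607)

A direct summand `(k G) e` of the regular module of a finite group `G` over a field `k` of
characteristic `p` has dimension divisible by `|G|_p`.

Route (helper78's): for a `p`-group `P` acting linearly on a finite dimensional `k`-space `W`,
`dim W ≤ |P| * dim W^P`; for `V = k G` with `P` a Sylow `p`-subgroup acting by left multiplication,
`dim V^P ≤ |G : P|`; `V = V e ⊕ V (1 - e)` then forces equality everywhere.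
-/

set_option autoImplicit false
set_option linter.unusedSectionVars false

namespace Cfsg.Agent.Helper80.BrandtGG

open Module Cfsg.Agent.Helper78.Brandt

section nilp

variable {k : Type*} [Field k] {V : Type*} [AddCommGroup V] [Module k V]

/-- rank–nullity for the restriction of a linear map to a subspace -/
theorem finrank_map_add_finrank_inf_ker (T : V →ₗ[k] V) (W : Submodule k V)
    [FiniteDimensional k W] :
    finrank k (W.map T) + finrank k (W ⊓ LinearMap.ker T : Submodule k V) = finrank k W := by
  have h := LinearMap.finrank_range_add_finrank_ker (T.domRestrict W)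
  rw [LinearMap.range_domRestrict] at h
  have h2 : finrank k (LinearMap.ker (T.domRestrict W)) =
      finrank k (W ⊓ LinearMap.ker T : Submodule k V) := by
    rw [LinearMap.ker_domRestrict]
    have e : (Submodule.comap W.subtype (LinearMap.ker T)) ≃ₗ[k]
        (W ⊓ LinearMap.ker T : Submodule k V) :=
      { toFun := fun x => ⟨(x : W), ⟨(x : W).2, x.2⟩⟩
        invFun := fun y => ⟨⟨(y : V), y.2.1⟩, y.2.2⟩
        map_add' := fun _ _ => rfl
        map_smul' := fun _ _ => rfl
        left_inv := fun _ => rfl
        right_inv := fun _ => rfl }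
    exact LinearEquiv.finrank_eq e
  rw [h2] at h
  exact h

/-- a linear map which is nilpotent of index `t` on a stable subspace `W`: `dim W ≤ t dim ker` -/
theorem finrank_le_mul_finrank_ker (T : V →ₗ[k] V) (t : ℕ) :
    ∀ (W : Submodule k V) [FiniteDimensional k W], (∀ w ∈ W, T w ∈ W) →
      (∀ w ∈ W, (T ^ t) w = 0) →
      finrank k W ≤ t * finrank k (W ⊓ LinearMap.ker T : Submodule k V) := by
  induction t with
  | zero =>
    intro W _ _ h0
    have : W = ⊥ := by
      rw [eq_bot_iff]
      intro w hw
      have := h0 w hw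
      simpa using this
    subst this
    simp
  | succ t ih =>
    intro W _ hst h0
    have hmapfd : FiniteDimensional k (W.map T) := inferInstance
    have h1 : ∀ w ∈ W.map T, T w ∈ W.map T := by
      rintro _ ⟨w, hw, rfl⟩
      exact ⟨T w, hst w hw, rfl⟩
    have h2 : ∀ w ∈ W.map T, (T ^ t) w = 0 := by
      rintro _ ⟨w, hw, rfl⟩
      have := h0 w hw
      rw [pow_succ] at this
      exact this
    have h3 := ih (W.map T) h1 h2
    have hle : (W.map T ⊓ LinearMap.ker T : Submodule k V) ≤ W ⊓ LinearMap.ker T := by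
      intro v hv
      refine ⟨?_, hv.2⟩
      obtain ⟨w, hw, rfl⟩ := hv.1
      exact hst w hw
    have hfd : FiniteDimensional k (W ⊓ LinearMap.ker T : Submodule k V) :=
      Submodule.finiteDimensional_of_le inf_le_left
    have h4 : finrank k (W.map T ⊓ LinearMap.ker T : Submodule k V) ≤
        finrank k (W ⊓ LinearMap.ker T : Submodule k V) := Submodule.finrank_mono hle
    have h5 := finrank_map_add_finrank_inf_ker T W
    calc finrank k W = finrank k (W.map T) + finrank k (W ⊓ LinearMap.ker T : Submodule k V) :=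
          h5.symm
      _ ≤ t * finrank k (W ⊓ LinearMap.ker T : Submodule k V) +
          finrank k (W ⊓ LinearMap.ker T : Submodule k V) := by
          have := Nat.mul_le_mul_left t h4
          omega
      _ = (t + 1) * finrank k (W ⊓ LinearMap.ker T : Submodule k V) := by ring

end nilp

section fixed

variable {k : Type*} [Field k] {Γ : Type*} [Group Γ] {V : Type*} [AddCommGroup V] [Module k V]
  (ρ : Representation k Γ V)

/-- the fixed points of the subgroup `H` in the subspace `W` -/
def fixSub (H : Subgroup Γ) (W : Submodule k V) : Submodule k V where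
  carrier := {w | w ∈ W ∧ ∀ h ∈ H, ρ h w = w}
  add_mem' := by
    rintro a b ⟨ha, ha'⟩ ⟨hb, hb'⟩
    exact ⟨W.add_mem ha hb, fun h hh => by rw [map_add, ha' h hh, hb' h hh]⟩
  zero_mem' := ⟨W.zero_mem, fun h _ => map_zero _⟩
  smul_mem' := by
    rintro c a ⟨ha, ha'⟩
    exact ⟨W.smul_mem c ha, fun h hh => by rw [map_smul, ha' h hh]⟩

theorem mem_fixSub {H : Subgroup Γ} {W : Submodule k V} {w : V} :
    w ∈ fixSub ρ H W ↔ w ∈ W ∧ ∀ h ∈ H, ρ h w = w := Iff.rfl

theorem fixSub_le (H : Subgroup Γ) (W : Submodule k V) : fixSub ρ H W ≤ W := fun _ hw => hw.1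

/-- `(ρ x - 1) ^ p = ρ (x ^ p) - 1` in characteristic `p` -/
theorem sub_one_pow_char (p : ℕ) [Fact p.Prime] [CharP k p] (x : Γ) :
    (ρ x - 1) ^ p = ρ (x ^ p) - 1 := by
  have hpoly : ((Polynomial.X : Polynomial k) - 1) ^ p = Polynomial.X ^ p - 1 := by
    rw [sub_pow_char_of_commute p (Commute.one_right (Polynomial.X : Polynomial k)), one_pow]
  have := congrArg (Polynomial.aeval (ρ x)) hpoly
  simpa using this

theorem finrank_le_mul_finrank_fixSub (p : ℕ) [Fact p.Prime] [CharP k p] [Finite Γ] (m : ℕ) :
    ∀ (H : Subgroup Γ), Nat.card H = p ^ m → ∀ (W : Submodule k V) [FiniteDimensional k W],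
      (∀ h ∈ H, ∀ w ∈ W, ρ h w ∈ W) → finrank k W ≤ p ^ m * finrank k (fixSub ρ H W) := by
  induction m with
  | zero =>
    intro H hH W _ hst
    have : fixSub ρ H W = W := by
      apply le_antisymm (fixSub_le ρ H W)
      intro w hw
      refine ⟨hw, fun h hh => ?_⟩
      have h1 : h = 1 := by
        rw [pow_zero] at hH
        have := Subgroup.card_eq_one.1 hH
        rw [this] at hh
        exact Subgroup.mem_bot.1 hh
      rw [h1, map_one]; rfl
    rw [this, pow_zero, one_mul]
  | succ m ih =>
    intro H hH W _ hst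
    have hp : p.Prime := Fact.out
    obtain ⟨K, hK⟩ := Sylow.exists_subgroup_card_pow_prime (G := H) p (n := m)
      (by rw [hH]; exact pow_dvd_pow p (Nat.le_succ m))
    have hidx : K.index = p := by
      have := K.card_mul_index
      rw [hK, hH, pow_succ] at this
      exact Nat.eq_of_mul_eq_mul_left (pow_pos hp.pos m) this
    have hKn : K.Normal := by
      apply Subgroup.normal_of_index_eq_minFac_card
      rw [hidx, hH, Nat.pow_minFac (Nat.succ_ne_zero m), hp.minFac_eq]
    set H₁ : Subgroup Γ := K.map H.subtype with hH₁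
    have hH₁le : H₁ ≤ H := Subgroup.map_subtype_le K
    have hH₁card : Nat.card H₁ = p ^ m := by
      rw [hH₁, Subgroup.card_map_of_injective H.subtype_injective, hK]
    have hmemH₁ : ∀ h : H, (h : Γ) ∈ H₁ ↔ h ∈ K := by
      intro h
      rw [hH₁, Subgroup.mem_map]
      constructor
      · rintro ⟨y, hy, hyh⟩
        have : y = h := Subtype.ext hyh
        rwa [← this]
      · intro hh
        exact ⟨h, hh, rfl⟩
    -- an element of `H` outside `H₁`
    have hKtop : K ≠ ⊤ := by
      intro h
      rw [h, Subgroup.index_top] at hidx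
      exact hp.one_lt.ne' hidx.symm
    obtain ⟨x, -, hxK⟩ := SetLike.exists_of_lt (lt_top_iff_ne_top.2 hKtop)
    -- `W₁`, the fixed points of `H₁`, is `H`-stable
    set W₁ : Submodule k V := fixSub ρ H₁ W with hW₁
    have hW₁fd : FiniteDimensional k W₁ := Submodule.finiteDimensional_of_le (fixSub_le ρ H₁ W)
    have hW₁st : ∀ h ∈ H, ∀ w ∈ W₁, ρ h w ∈ W₁ := by
      intro h hh w hw
      refine ⟨hst h hh w hw.1, ?_⟩
      intro h₁ hh₁
      have hconj : h⁻¹ * h₁ * h ∈ H₁ := by
        have h1 : (⟨h₁, hH₁le hh₁⟩ : H) ∈ K := (hmemH₁ ⟨h₁, hH₁le hh₁⟩).1 hh₁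
        have h2 := hKn.conj_mem _ h1 (⟨h, hh⟩ : H)⁻¹
        have h3 := (hmemH₁ _).2 h2
        simpa using h3
      have h4 := hw.2 _ hconj
      calc ρ h₁ (ρ h w) = ρ h (ρ (h⁻¹ * h₁ * h) w) := by
            rw [← Module.End.mul_apply, ← Module.End.mul_apply, ← map_mul, ← map_mul]
            congr 2
            group
        _ = ρ h w := by rw [h4]
    -- induction hypothesis for `H₁` on `W`
    have hIH := ih H₁ hH₁card W (fun h hh w hw => hst h (hH₁le hh) w hw)
    -- the operator `T = ρ x - 1` on `W₁`
    set T : V →ₗ[k] V := ρ (x : Γ) - 1 with hT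
    have hTst : ∀ w ∈ W₁, T w ∈ W₁ := by
      intro w hw
      rw [hT, LinearMap.sub_apply]
      exact W₁.sub_mem (hW₁st x x.2 w hw) hw
    have hxp : ((x : Γ)) ^ p ∈ H₁ := by
      have := K.pow_index_mem x
      rw [hidx] at this
      have h3 := (hmemH₁ _).2 this
      simpa using h3
    have hTp : ∀ w ∈ W₁, (T ^ p) w = 0 := by
      intro w hw
      rw [hT, sub_one_pow_char ρ p (x : Γ), LinearMap.sub_apply, hw.2 _ hxp]
      simp
    have hN := finrank_le_mul_finrank_ker T p W₁ hTst hTp
    -- `W₁ ⊓ ker T` is the space of fixed points of `H`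
    have hfix : (W₁ ⊓ LinearMap.ker T : Submodule k V) ≤ fixSub ρ H W := by
      intro w hw
      have hw1 : w ∈ W₁ := hw.1
      have hw2 : ρ (x : Γ) w = w := by
        have : w ∈ LinearMap.ker T := hw.2
        rw [LinearMap.mem_ker, hT, LinearMap.sub_apply] at this
        have h5 : ρ (x : Γ) w - w = 0 := by simpa using this
        exact sub_eq_zero.1 h5
      refine ⟨hw1.1, ?_⟩
      -- the stabilizer of `w` in `↥H`
      let F : Subgroup H :=
        { carrier := {h | ρ (h : Γ) w = w}
          one_mem' := by simp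
          mul_mem' := by
            intro a b ha hb
            show ρ ((a * b : H) : Γ) w = w
            rw [Subgroup.coe_mul, map_mul, Module.End.mul_apply, hb, ha]
          inv_mem' := by
            intro a ha
            show ρ ((a⁻¹ : H) : Γ) w = w
            have : ρ ((a⁻¹ : H) : Γ) (ρ (a : Γ) w) = w := by
              rw [← Module.End.mul_apply, ← map_mul, Subgroup.coe_inv, inv_mul_cancel, map_one]
              rfl
            rwa [ha] at this }
      have hKF : K ≤ F := by
        intro h hh
        exact hw1.2 _ ((hmemH₁ h).2 hh)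
      have hxF : x ∈ F := hw2
      have hFtop : F = ⊤ := by
        -- `K < F` and `K` has prime index
        have hlt : K < F := lt_of_le_of_ne hKF (fun h => hxK (h ▸ hxF))
        have h1 : K.relIndex F * F.index = K.index := Subgroup.relIndex_mul_index hKF
        rw [hidx] at h1
        have h2 : F.index ∣ p := Dvd.intro_left _ h1
        rcases (Nat.dvd_prime hp).1 h2 with h3 | h3
        · exact Subgroup.index_eq_one.1 h3
        · exfalso
          rw [h3] at h1
          have h4 : K.relIndex F = 1 := by
            have : K.relIndex F * p = 1 * p := by rw [h1, one_mul]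
            exact Nat.eq_of_mul_eq_mul_right hp.pos this
          have := Subgroup.relIndex_eq_one.1 h4
          exact absurd (le_antisymm hKF this) (ne_of_lt hlt)
      intro h hh
      have : (⟨h, hh⟩ : H) ∈ F := by rw [hFtop]; exact Subgroup.mem_top _
      exact this
    have hfd2 : FiniteDimensional k (fixSub ρ H W) :=
      Submodule.finiteDimensional_of_le (fixSub_le ρ H W)
    have h6 : finrank k (W₁ ⊓ LinearMap.ker T : Submodule k V) ≤ finrank k (fixSub ρ H W) :=
      Submodule.finrank_mono hfix
    calc finrank k W ≤ p ^ m * finrank k W₁ := hIH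
      _ ≤ p ^ m * (p * finrank k (W₁ ⊓ LinearMap.ker T : Submodule k V)) :=
          Nat.mul_le_mul_left _ hN
      _ ≤ p ^ m * (p * finrank k (fixSub ρ H W)) :=
          Nat.mul_le_mul_left _ (Nat.mul_le_mul_left _ h6)
      _ = p ^ (m + 1) * finrank k (fixSub ρ H W) := by rw [pow_succ, mul_assoc]

end fixed

section group

universe u

variable {G : Type u} [Group G] [Fintype G]

/-- the left regular representation -/
noncomputable def lreg (k : Type*) [Field k] : Representation k G (MonoidAlgebra k G) :=
  ((Algebra.lmul k (MonoidAlgebra k G) : MonoidAlgebra k G →* Module.End k (MonoidAlgebra k G))).comp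
    (MonoidAlgebra.of k G)

theorem lreg_apply (k : Type*) [Field k] (g : G) (v : MonoidAlgebra k G) :
    lreg k g v = MonoidAlgebra.single g 1 * v := rfl

theorem lreg_mem_leftSpace (k : Type*) [Field k] (e : MonoidAlgebra k G) (g : G)
    (w : MonoidAlgebra k G) (hw : w ∈ leftSpace k e) : lreg k g w ∈ leftSpace k e := by
  obtain ⟨a, rfl⟩ := mem_leftSpace.1 hw
  rw [lreg_apply, ← mul_assoc]
  exact mem_leftSpace.2 ⟨_, rfl⟩

theorem finiteDimensional_monoidAlgebra (k : Type*) [Field k] :
    FiniteDimensional k (MonoidAlgebra k G) :=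
  Module.Finite.equiv (MonoidAlgebra.coeffLinearEquiv k (S := k) (M := G)).symm

theorem finrank_monoidAlgebra (k : Type*) [Field k] :
    finrank k (MonoidAlgebra k G) = Fintype.card G := by
  rw [LinearEquiv.finrank_eq (MonoidAlgebra.coeffLinearEquiv k (S := k) (M := G)),
    Module.finrank_finsupp_self]

theorem finrank_leftSpace_add (k : Type*) [Field k] (e : MonoidAlgebra k G)
    (he : IsIdempotentElem e) :
    finrank k (leftSpace k e) + finrank k (leftSpace k (1 - e)) = Fintype.card G := by
  have hfd := finiteDimensional_monoidAlgebra (G := G) k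
  have h := LinearMap.finrank_range_add_finrank_ker (LinearMap.mulRight k e)
  rw [finrank_monoidAlgebra] at h
  have hker : LinearMap.ker (LinearMap.mulRight k e) = leftSpace k (1 - e) := by
    ext v
    rw [LinearMap.mem_ker, LinearMap.mulRight_apply, mem_leftSpace]
    constructor
    · intro hv
      refine ⟨v, ?_⟩
      rw [mul_sub, mul_one, hv, sub_zero]
    · rintro ⟨a, rfl⟩
      rw [mul_assoc, sub_mul, one_mul, he.eq, sub_self, mul_zero]
  rw [hker] at h
  exact h

theorem leftSpace_inf_eq_bot (k : Type*) [Field k] (e : MonoidAlgebra k G)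
    (he : IsIdempotentElem e) : leftSpace k e ⊓ leftSpace k (1 - e) = ⊥ := by
  rw [eq_bot_iff]
  intro v hv
  obtain ⟨a, ha⟩ := mem_leftSpace.1 hv.1
  obtain ⟨b, hb⟩ := mem_leftSpace.1 hv.2
  have h1 : v * e = v := by rw [← ha, mul_assoc, he.eq]
  have h2 : v * e = 0 := by rw [← hb, mul_assoc, sub_mul, one_mul, he.eq, sub_self, mul_zero]
  rw [Submodule.mem_bot, ← h1, h2]

/-- (B): the `P`-fixed points of the regular module have dimension at most `|G : P|` -/
theorem finrank_fixSub_top_le (k : Type*) [Field k] (P : Subgroup G) :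
    finrank k (fixSub (lreg k) P (⊤ : Submodule k (MonoidAlgebra k G))) ≤ P.index := by
  classical
  have hfd := finiteDimensional_monoidAlgebra (G := G) k
  let _ : Fintype (G ⧸ P) := Fintype.ofFinite _
  let φ : fixSub (lreg k) P (⊤ : Submodule k (MonoidAlgebra k G)) →ₗ[k] (G ⧸ P → k) :=
    { toFun := fun v q => (v : MonoidAlgebra k G).coeff (q.out)⁻¹
      map_add' := fun a b => by ext q; simp
      map_smul' := fun c a => by ext q; simp }
  have hinj : Function.Injective φ := by
    rw [← LinearMap.ker_eq_bot, LinearMap.ker_eq_bot']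
    intro v hv
    apply Subtype.ext
    apply MonoidAlgebra.coeff_injective
    ext g
    obtain ⟨h, hh⟩ := QuotientGroup.mk_out_eq_mul P g⁻¹
    have h1 : (v : MonoidAlgebra k G).coeff ((QuotientGroup.mk g⁻¹ : G ⧸ P).out)⁻¹ = 0 :=
      congrFun hv (QuotientGroup.mk g⁻¹ : G ⧸ P)
    rw [hh, mul_inv_rev, inv_inv] at h1
    have h2 := v.2.2 (h : G) h.2
    rw [lreg_apply] at h2
    have h3 : (MonoidAlgebra.single (h : G) (1 : k) * (v : MonoidAlgebra k G)).coeff g =
        (v : MonoidAlgebra k G).coeff g := by rw [h2]
    rw [MonoidAlgebra.coeff_single_mul_apply, one_mul] at h3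
    rw [← h3, h1]
    rfl
  have := LinearMap.finrank_le_finrank_of_injective hinj
  rw [Module.finrank_fintype_fun_eq_card, ← Nat.card_eq_fintype_card] at this
  exact this


/-- (B-GG) a direct summand of the regular module has dimension divisible by `|G|_p`. -/
theorem pow_factorization_dvd_finrank_leftSpace (k : Type*) [Field k] (p : ℕ) [Fact p.Prime]
    [CharP k p] (e : MonoidAlgebra k G) (he : IsIdempotentElem e) :
    p ^ (Nat.card G).factorization p ∣ finrank k (leftSpace k e) := by
  have hfd := finiteDimensional_monoidAlgebra (G := G) k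
  obtain ⟨P⟩ : Nonempty (Sylow p G) := inferInstance
  set n := (Nat.card G).factorization p with hn
  have hPcard : Nat.card (P : Subgroup G) = p ^ n := P.card_eq_multiplicity
  have he' : IsIdempotentElem (1 - e) := he.one_sub
  set Q := leftSpace k e with hQ
  set Q' := leftSpace k (1 - e) with hQ'
  have hQfd : FiniteDimensional k Q := inferInstance
  have hQ'fd : FiniteDimensional k Q' := inferInstance
  -- (A) for `Q` and `Q'`
  have hA := finrank_le_mul_finrank_fixSub (lreg k) p n (P : Subgroup G) hPcard Q
    (fun h _ w hw => lreg_mem_leftSpace k e h w hw)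
  have hA' := finrank_le_mul_finrank_fixSub (lreg k) p n (P : Subgroup G) hPcard Q'
    (fun h _ w hw => lreg_mem_leftSpace k (1 - e) h w hw)
  -- (B)
  have hB := finrank_fixSub_top_le k (P : Subgroup G)
  -- (C)
  set F := fixSub (lreg k) (P : Subgroup G) Q with hF
  set F' := fixSub (lreg k) (P : Subgroup G) Q' with hF'
  set F₀ := fixSub (lreg k) (P : Subgroup G) (⊤ : Submodule k (MonoidAlgebra k G)) with hF₀
  have hFF' : F ⊓ F' = ⊥ := by
    rw [eq_bot_iff, ← leftSpace_inf_eq_bot k e he]
    exact inf_le_inf (fixSub_le _ _ _) (fixSub_le _ _ _)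
  have hsup : F ⊔ F' ≤ F₀ := by
    apply sup_le
    · intro w hw; exact ⟨Submodule.mem_top, hw.2⟩
    · intro w hw; exact ⟨Submodule.mem_top, hw.2⟩
  have hC : finrank k F + finrank k F' ≤ finrank k F₀ := by
    have h1 := Submodule.finrank_sup_add_finrank_inf_eq F F'
    rw [hFF', finrank_bot, add_zero] at h1
    rw [← h1]
    exact Submodule.finrank_mono hsup
  -- dimensions
  have hsum : finrank k Q + finrank k Q' = Fintype.card G := finrank_leftSpace_add k e he
  have hidx : Nat.card (P : Subgroup G) * (P : Subgroup G).index = Nat.card G :=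
    Subgroup.card_mul_index _
  rw [hPcard, Nat.card_eq_fintype_card] at hidx
  -- arithmetic
  have h1 : p ^ n * (finrank k F + finrank k F') ≤ p ^ n * finrank k F₀ :=
    Nat.mul_le_mul_left _ hC
  have h2 : p ^ n * finrank k F₀ ≤ p ^ n * (P : Subgroup G).index := Nat.mul_le_mul_left _ hB
  rw [mul_add] at h1
  refine ⟨finrank k F, ?_⟩
  have hA1 : finrank k Q ≤ p ^ n * finrank k F := hA
  have hA2 : finrank k Q' ≤ p ^ n * finrank k F' := hA'
  show finrank k Q = p ^ n * finrank k F
  omega

end group

end Cfsg.Agent.Helper80.BrandtGG
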