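-- helper80: piece (W5) of #4500 for helper86 (S5293).
import Cfsg.Agent.Helper86.CEDefs
import Cfsg.Agent.Helper88.FusionCentric
import Cfsg.Agent.Helper80.CEW34

set_option autoImplicit false

namespace Cfsg.Agent.Helper80

open Cfsg Cfsg.FusionSystem Cfsg.Agent.Helper87 Cfsg.Agent.Helper86.CE

variable {Ω : Type*} [Group Ω] {S : Subgroup Ω}

/-- Induction over a join: a subgroup of `↥(A ⊔ B)` containing `A` and `B` is everything. -/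
theorem ce5_sup_induction {A B : Subgroup Ω} (M : Subgroup ↥(A ⊔ B))
    (hA : ∀ x : ↥(A ⊔ B), (x : Ω) ∈ A → x ∈ M) (hB : ∀ x : ↥(A ⊔ B), (x : Ω) ∈ B → x ∈ M) :
    ∀ x : ↥(A ⊔ B), x ∈ M := by
  have key : A ⊔ B ≤ M.map (A ⊔ B).subtype := by
    apply sup_le
    · intro x hx
      exact ⟨⟨x, (le_sup_left : A ≤ A ⊔ B) hx⟩, hA _ hx, rfl⟩
    · intro x hx
      exact ⟨⟨x, (le_sup_right : B ≤ A ⊔ B) hx⟩, hB _ hx, rfl⟩
  intro x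
  obtain ⟨y, hy, hyx⟩ := key x.2
  have hyx' : y = x := Subtype.ext hyx
  rwa [← hyx']

/-- Two automorphisms of `↥(A ⊔ B)` agreeing on `A` and on `B` are equal. -/
theorem ce5_aut_ext_sup {A B : Subgroup Ω} (f g : MulAut ↥(A ⊔ B))
    (hA : ∀ x : ↥(A ⊔ B), (x : Ω) ∈ A → f x = g x) (hB : ∀ x : ↥(A ⊔ B), (x : Ω) ∈ B → f x = g x) : f = g := by
  have h := ce5_sup_induction (f.toMonoidHom.eqLocus g.toMonoidHom) hA hB
  ext x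
  exact congrArg Subtype.val (h x)

theorem ce5_pow_apply_of_fix {R Q : Subgroup Ω} (γ : MulAut R) (hfix : ∀ x : R, (x : Ω) ∈ Q → γ x = x)
    (hz : ∀ x : R, (x : Ω)⁻¹ * ((γ x : R) : Ω) ∈ Q) (m : ℕ) (x : R) :
    (γ ^ m) x = x * (x⁻¹ * γ x) ^ m := by
  induction m with
  | zero => simp
  | succ m ih =>
    have hzfix : γ (x⁻¹ * γ x) = x⁻¹ * γ x := hfix _ (hz x)
    rw [pow_succ', MulAut.mul_apply, ih, map_mul, map_pow, hzfix, pow_succ' (x⁻¹ * γ x) m, ← mul_assoc x,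
      mul_inv_cancel_left]

theorem ce5_pow_card_eq_one_of_fix {R Q : Subgroup Ω} [Finite Q] (γ : MulAut R)
    (hfix : ∀ x : R, (x : Ω) ∈ Q → γ x = x)
    (hz : ∀ x : R, (x : Ω)⁻¹ * ((γ x : R) : Ω) ∈ Q) : γ ^ Nat.card Q = 1 := by
  ext x
  rw [ce5_pow_apply_of_fix γ hfix hz]
  have h1 : ((⟨(x : Ω)⁻¹ * ((γ x : R) : Ω), hz x⟩ : Q)) ^ Nat.card Q = 1 := pow_card_eq_one'
  have h2 : ((x : Ω)⁻¹ * ((γ x : R) : Ω)) ^ Nat.card Q = 1 := by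
    have := congrArg (fun q : Q => (q : Ω)) h1
    simpa only [Subgroup.coe_pow, Subgroup.coe_one] using this
  have h3 : (x⁻¹ * γ x) ^ Nat.card Q = 1 := by
    apply Subtype.ext
    rw [Subgroup.coe_pow, Subgroup.coe_mul, Subgroup.coe_inv, Subgroup.coe_one]
    exact h2
  rw [h3, mul_one]
  rfl

section aut

variable (P R : Subgroup Ω)

/-- Automorphisms of `P ⊔ R` fixing `P` elementwise. -/
def ce5FixP : Subgroup (MulAut ↥(P ⊔ R)) where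
  carrier := {κ | ∀ x : ↥(P ⊔ R), (x : Ω) ∈ P → κ x = x}
  one_mem' := fun x _ => rfl
  mul_mem' := by
    intro κ₁ κ₂ h₁ h₂ x hx
    rw [MulAut.mul_apply, h₂ x hx, h₁ x hx]
  inv_mem' := by
    intro κ h x hx
    have h1 := h x hx
    calc κ⁻¹ x = κ⁻¹ (κ x) := by rw [h1]
      _ = x := MulAut.inv_apply_self _ κ x

/-- Automorphisms of `P ⊔ R` preserving `P` (both ways) and moving each element of `R` by an element of `P`. -/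
def ce5G0 : Subgroup (MulAut ↥(P ⊔ R)) where
  carrier := {κ | (∀ x : ↥(P ⊔ R), (x : Ω) ∈ P → ((κ x : ↥(P ⊔ R)) : Ω) ∈ P) ∧
    (∀ x : ↥(P ⊔ R), (x : Ω) ∈ P → ((κ⁻¹ x : ↥(P ⊔ R)) : Ω) ∈ P) ∧
    ∀ c : ↥(P ⊔ R), (c : Ω) ∈ R → (c : Ω)⁻¹ * ((κ c : ↥(P ⊔ R)) : Ω) ∈ P}
  one_mem' := by
    refine ⟨fun x hx => hx, fun x hx => ?_, fun c _ => ?_⟩
    · rw [inv_one]
      exact hx
    · show (c : Ω)⁻¹ * (c : Ω) ∈ P
      rw [inv_mul_cancel]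
      exact P.one_mem
  mul_mem' := by
    rintro κ₁ κ₂ ⟨h₁, h₁', h₁R⟩ ⟨h₂, h₂', h₂R⟩
    refine ⟨fun x hx => h₁ _ (h₂ x hx), fun x hx => ?_, fun c hc => ?_⟩
    · rw [mul_inv_rev, MulAut.mul_apply]
      exact h₂' _ (h₁' x hx)
    · rw [MulAut.mul_apply]
      have hu : ((c⁻¹ * κ₂ c : ↥(P ⊔ R)) : Ω) ∈ P := h₂R c hc
      have e : κ₂ c = c * (c⁻¹ * κ₂ c) := by group
      rw [e, map_mul]
      have e2 : (c : Ω)⁻¹ * ((κ₁ c * κ₁ (c⁻¹ * κ₂ c) : ↥(P ⊔ R)) : Ω) =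
          ((c : Ω)⁻¹ * ((κ₁ c : ↥(P ⊔ R)) : Ω)) * ((κ₁ (c⁻¹ * κ₂ c) : ↥(P ⊔ R)) : Ω) := by
        rw [Subgroup.coe_mul, mul_assoc]
      rw [e2]
      exact P.mul_mem (h₁R c hc) (h₁ _ hu)
  inv_mem' := by
    rintro κ ⟨h, h', hR⟩
    refine ⟨h', fun x hx => ?_, fun c hc => ?_⟩
    · rw [inv_inv]
      exact h x hx
    · have hu : ((c⁻¹ * κ c : ↥(P ⊔ R)) : Ω) ∈ P := hR c hc
      have hu' := h' _ hu
      have e : κ⁻¹ (c⁻¹ * κ c) = (κ⁻¹ c)⁻¹ * c := by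
        rw [map_mul, map_inv, MulAut.inv_apply_self]
      rw [e] at hu'
      have e2 : (c : Ω)⁻¹ * ((κ⁻¹ c : ↥(P ⊔ R)) : Ω) = (((κ⁻¹ c)⁻¹ * c : ↥(P ⊔ R)) : Ω)⁻¹ := by
        rw [Subgroup.coe_mul, Subgroup.coe_inv, mul_inv_rev, inv_inv]
      rw [e2]
      exact P.inv_mem hu'

end aut

/-- If `P` is normalized by `P ⊔ R`, an automorphism of `P ⊔ R` preserving `P` and moving the elements of `R` by
elements of `P` moves every element by an element of `P`. -/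
theorem ce5_triv_all {P R : Subgroup Ω} (hnorm : ∀ y : ↥(P ⊔ R), ∀ u ∈ P, (y : Ω)⁻¹ * u * (y : Ω) ∈ P)
    (κ : MulAut ↥(P ⊔ R)) (hP : ∀ x : ↥(P ⊔ R), (x : Ω) ∈ P → ((κ x : ↥(P ⊔ R)) : Ω) ∈ P)
    (hR : ∀ c : ↥(P ⊔ R), (c : Ω) ∈ R → (c : Ω)⁻¹ * ((κ c : ↥(P ⊔ R)) : Ω) ∈ P) :
    ∀ x : ↥(P ⊔ R), (x : Ω)⁻¹ * ((κ x : ↥(P ⊔ R)) : Ω) ∈ P := by
  let M : Subgroup ↥(P ⊔ R) :=
    { carrier := {x | (x : Ω)⁻¹ * ((κ x : ↥(P ⊔ R)) : Ω) ∈ P}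
      one_mem' := by
        show ((1 : ↥(P ⊔ R)) : Ω)⁻¹ * ((κ 1 : ↥(P ⊔ R)) : Ω) ∈ P
        rw [map_one, Subgroup.coe_one, inv_one, one_mul]
        exact P.one_mem
      mul_mem' := by
        intro x y hx hy
        show ((x * y : ↥(P ⊔ R)) : Ω)⁻¹ * ((κ (x * y) : ↥(P ⊔ R)) : Ω) ∈ P
        have e : ((x * y : ↥(P ⊔ R)) : Ω)⁻¹ * ((κ (x * y) : ↥(P ⊔ R)) : Ω) =
            ((y : Ω)⁻¹ * ((x : Ω)⁻¹ * ((κ x : ↥(P ⊔ R)) : Ω)) * (y : Ω)) *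
              ((y : Ω)⁻¹ * ((κ y : ↥(P ⊔ R)) : Ω)) := by
          rw [map_mul, Subgroup.coe_mul, Subgroup.coe_mul]
          group
        rw [e]
        exact P.mul_mem (hnorm y _ hx) hy
      inv_mem' := by
        intro x hx
        show ((x⁻¹ : ↥(P ⊔ R)) : Ω)⁻¹ * ((κ x⁻¹ : ↥(P ⊔ R)) : Ω) ∈ P
        have e : ((x⁻¹ : ↥(P ⊔ R)) : Ω)⁻¹ * ((κ x⁻¹ : ↥(P ⊔ R)) : Ω) =
            ((x⁻¹ : ↥(P ⊔ R)) : Ω)⁻¹ * ((x : Ω)⁻¹ * ((κ x : ↥(P ⊔ R)) : Ω))⁻¹ * ((x⁻¹ : ↥(P ⊔ R)) : Ω) := by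
          rw [map_inv, Subgroup.coe_inv, Subgroup.coe_inv]
          group
        rw [e]
        exact hnorm x⁻¹ _ (P.inv_mem hx) }
  apply ce5_sup_induction M
  · intro x hx
    exact P.mul_mem (P.inv_mem hx) (hP x hx)
  · intro x hx
    exact hR x hx

/-- (W5) -/
theorem TrivExt.extFix_comm_aut [Finite S] {p q : ℕ} [Fact p.Prime] [Fact q.Prime] (hpq : q ≠ p)
    (hS : IsPGroup p S) (F : FusionSystem S) {T P R : Subgroup Ω} (hPT : P ≤ T) (hTS : T ≤ S)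
    (hR : R ≤ centralizerIn S T) {φ : MulAut P} (h : TrivExt F P R φ) (ψ : MulAut R)
    (hψ : R.subtype.comp ψ.toMonoidHom ∈ F.centralizerHom T R) (k : ℕ) (hk : orderOf ψ = q ^ k) :
    ExtFix F (Subgroup.closure {y : Ω | ∃ r : R, y = (r : Ω)⁻¹ * ((ψ r : R) : Ω)}) P
      (P.subtype.comp φ.toMonoidHom) := by
  classical
  obtain ⟨e, he, heP, heR⟩ := h
  obtain ⟨-, -, -, ψh, hψh, hψhR, hψhT⟩ := hψ
  have hPS : P ≤ S := hPT.trans hTS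
  have hRS : R ≤ S := fun x hx => (hR hx).1
  have hNS : P ⊔ R ≤ S := sup_le hPS hRS
  have hRcT : ∀ r ∈ R, ∀ t ∈ T, t * r = r * t := fun r hr t ht =>
    Subgroup.mem_centralizer_iff.mp (hR hr).2 t ht
  have : Finite ↥(P ⊔ R) := Finite.of_injective _ (Subgroup.inclusion_injective hNS)
  have : Finite P := Finite.of_injective _ (Subgroup.inclusion_injective hPS)
  -- (1) the automorphism `z` of `P ⊔ R`: identity on `P`, `ψ` on `R`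
  have hNle : P ⊔ R ≤ R ⊔ T := sup_le (hPT.trans le_sup_right) le_sup_left
  have hζF : ψh.comp (Subgroup.inclusion hNle) ∈ F.Hom (P ⊔ R) := restrict_mem F hψh hNle
  generalize hζ : ψh.comp (Subgroup.inclusion hNle) = ζ at hζF
  have hζP : ∀ x : ↥(P ⊔ R), (x : Ω) ∈ P → ζ x = x := by
    intro x hx
    rw [← hζ]
    exact hψhT ⟨x, hPT hx⟩
  have hζR : ∀ x : ↥(P ⊔ R), ∀ hx : (x : Ω) ∈ R, ζ x = ((ψ ⟨x, hx⟩ : R) : Ω) := by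
    intro x hx
    rw [← hζ]
    exact hψhR ⟨x, hx⟩
  have hζN : ∀ x : ↥(P ⊔ R), ζ x ∈ P ⊔ R := by
    apply ce5_sup_induction ((P ⊔ R).comap ζ)
    · intro x hx
      show ζ x ∈ P ⊔ R
      rw [hζP x hx]
      exact x.2
    · intro x hx
      show ζ x ∈ P ⊔ R
      rw [hζR x hx]
      exact (le_sup_right : R ≤ P ⊔ R) (ψ ⟨x, hx⟩).2
  have hζinj : Function.Injective ζ := F.injective_of_mem hζF
  have hζ'inj : Function.Injective (ζ.codRestrict (P ⊔ R) hζN) := by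
    intro x y hxy
    exact hζinj (congrArg Subtype.val hxy)
  obtain ⟨z, hzζ⟩ : ∃ z : MulAut ↥(P ⊔ R), ∀ x, ((z x : ↥(P ⊔ R)) : Ω) = ζ x :=
    ⟨MulEquiv.ofBijective (ζ.codRestrict (P ⊔ R) hζN) (Finite.injective_iff_bijective.mp hζ'inj), fun x => rfl⟩
  have hzIso : IsIso F (z : ↥(P ⊔ R) ≃* ↥(P ⊔ R)) := mem_of_eq F hζF (fun x => hzζ x)
  have hzP : z ∈ ce5FixP P R := fun x hx => Subtype.ext ((hzζ x).trans (hζP x hx))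
  have hzR : ∀ x : ↥(P ⊔ R), ∀ hx : (x : Ω) ∈ R, ((z x : ↥(P ⊔ R)) : Ω) = ((ψ ⟨x, hx⟩ : R) : Ω) :=
    fun x hx => (hzζ x).trans (hζR x hx)
  have hzinvP : z⁻¹ ∈ ce5FixP P R := (ce5FixP P R).inv_mem hzP
  have hzinvR : ∀ x : ↥(P ⊔ R), ∀ hx : (x : Ω) ∈ R, ((z⁻¹ x : ↥(P ⊔ R)) : Ω) ∈ R := by
    intro x hx
    have hy : ((ψ⁻¹ ⟨x, hx⟩ : R) : Ω) ∈ P ⊔ R := (le_sup_right : R ≤ P ⊔ R) (ψ⁻¹ ⟨x, hx⟩).2
    have h1 : z ⟨((ψ⁻¹ ⟨x, hx⟩ : R) : Ω), hy⟩ = x := by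
      apply Subtype.ext
      rw [hzR _ (ψ⁻¹ ⟨x, hx⟩).2]
      show ((ψ (ψ⁻¹ ⟨x, hx⟩) : R) : Ω) = x
      rw [MulAut.apply_inv_self]
    have h2 : z⁻¹ x = ⟨((ψ⁻¹ ⟨x, hx⟩ : R) : Ω), hy⟩ := by
      have h3 : z⁻¹ (z ⟨((ψ⁻¹ ⟨x, hx⟩ : R) : Ω), hy⟩) = ⟨((ψ⁻¹ ⟨x, hx⟩ : R) : Ω), hy⟩ :=
        MulAut.inv_apply_self _ z _
      rw [h1] at h3
      exact h3
    rw [h2]
    exact (ψ⁻¹ ⟨x, hx⟩).2
  have hzpowR : ∀ n : ℕ, ∀ x : ↥(P ⊔ R), ∀ hx : (x : Ω) ∈ R,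
      (((z ^ n) x : ↥(P ⊔ R)) : Ω) = (((ψ ^ n) ⟨x, hx⟩ : R) : Ω) := by
    intro n
    induction n with
    | zero => intro x hx; rfl
    | succ n ih =>
      intro x hx
      rw [pow_succ', pow_succ', MulAut.mul_apply, MulAut.mul_apply]
      have h1 : (((z ^ n) x : ↥(P ⊔ R)) : Ω) ∈ R := by
        rw [ih x hx]
        exact ((ψ ^ n) ⟨x, hx⟩).2
      rw [hzR _ h1]
      have h2 : (⟨(((z ^ n) x : ↥(P ⊔ R)) : Ω), h1⟩ : R) = (ψ ^ n) ⟨x, hx⟩ := Subtype.ext (ih x hx)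
      rw [h2]
  have hzpow : z ^ (q ^ k) = 1 := by
    apply ce5_aut_ext_sup
    · intro x hx
      exact (ce5FixP P R).pow_mem hzP _ x hx
    · intro x hx
      apply Subtype.ext
      rw [hzpowR _ x hx, ← hk, pow_orderOf_eq_one]
      rfl
  obtain ⟨j, -, hzj⟩ := (Nat.dvd_prime_pow (Fact.out : q.Prime)).mp (orderOf_dvd_of_pow_eq_one hzpow)
  -- (2) the groups
  have hzA : z ∈ F.autGroup (P ⊔ R) := (mem_autGroup_iff F hNS z).mpr hzIso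
  have haA : (e : MulAut ↥(P ⊔ R)) ∈ F.autGroup (P ⊔ R) := (mem_autGroup_iff F hNS e).mpr he
  have haG0 : (e : MulAut ↥(P ⊔ R)) ∈ ce5G0 P R := by
    refine ⟨fun x hx => ?_, fun x hx => ?_, heR⟩
    · have h1 := heP ⟨x, hx⟩
      have h2 : Subgroup.inclusion (le_sup_left : P ≤ P ⊔ R) ⟨x, hx⟩ = x := Subtype.ext rfl
      rw [h2] at h1
      rw [h1]
      exact (φ ⟨x, hx⟩).2
    · have h1 := heP (φ⁻¹ ⟨x, hx⟩)
      rw [MulAut.apply_inv_self] at h1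
      have h2 : e (Subgroup.inclusion (le_sup_left : P ≤ P ⊔ R) (φ⁻¹ ⟨x, hx⟩)) = x := Subtype.ext h1
      have h3 : (e : MulAut ↥(P ⊔ R))⁻¹ x = Subgroup.inclusion (le_sup_left : P ≤ P ⊔ R) (φ⁻¹ ⟨x, hx⟩) := by
        have h4 : (e : MulAut ↥(P ⊔ R))⁻¹ (e (Subgroup.inclusion (le_sup_left : P ≤ P ⊔ R) (φ⁻¹ ⟨x, hx⟩))) =
            Subgroup.inclusion (le_sup_left : P ≤ P ⊔ R) (φ⁻¹ ⟨x, hx⟩) := MulAut.inv_apply_self _ e _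
        rw [h2] at h4
        exact h4
      rw [h3]
      exact (φ⁻¹ ⟨x, hx⟩).2
  have hconj : ∀ κ ∈ ce5G0 P R, z * κ * z⁻¹ ∈ ce5G0 P R := by
    have hpres : ∀ κ : MulAut ↥(P ⊔ R), (∀ x : ↥(P ⊔ R), (x : Ω) ∈ P → ((κ x : ↥(P ⊔ R)) : Ω) ∈ P) →
        ∀ x : ↥(P ⊔ R), (x : Ω) ∈ P → (((z * κ * z⁻¹) x : ↥(P ⊔ R)) : Ω) ∈ P := by
      intro κ hκ x hx
      rw [MulAut.mul_apply, MulAut.mul_apply, hzinvP x hx, hzP _ (hκ x hx)]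
      exact hκ x hx
    rintro κ ⟨h1, h2, h3⟩
    refine ⟨hpres κ h1, ?_, fun c hc => ?_⟩
    · have e1 : (z * κ * z⁻¹)⁻¹ = z * κ⁻¹ * z⁻¹ := by group
      rw [e1]
      exact hpres κ⁻¹ h2
    · have hc1 := hzinvR c hc
      have hu := h3 (z⁻¹ c) hc1
      have e1 : (z * κ * z⁻¹) c = c * ((z⁻¹ c)⁻¹ * κ (z⁻¹ c)) := by
        rw [MulAut.mul_apply, MulAut.mul_apply]
        have e2 : κ (z⁻¹ c) = z⁻¹ c * ((z⁻¹ c)⁻¹ * κ (z⁻¹ c)) := by group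
        conv_lhs => rw [e2]
        rw [map_mul, MulAut.apply_inv_self, hzP _ hu]
      rw [e1]
      have e3 : (c : Ω)⁻¹ * ((c * ((z⁻¹ c)⁻¹ * κ (z⁻¹ c)) : ↥(P ⊔ R)) : Ω) =
          (((z⁻¹ c)⁻¹ * κ (z⁻¹ c) : ↥(P ⊔ R)) : Ω) := by
        rw [Subgroup.coe_mul, inv_mul_cancel_left]
      rw [e3]
      exact hu
  -- `P` is normalized by `P ⊔ R`
  have hnorm : ∀ y : ↥(P ⊔ R), ∀ u ∈ P, (y : Ω)⁻¹ * u * (y : Ω) ∈ P := by
    have hle : P ⊔ R ≤ Subgroup.normalizer (P : Set Ω) := by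
      apply sup_le Subgroup.le_normalizer
      intro r hr
      rw [Subgroup.mem_normalizer_iff]
      intro u
      constructor
      · intro hu
        have h1 := hRcT r hr u (hPT hu)
        have e1 : r * u * r⁻¹ = u := by rw [← h1, mul_inv_cancel_right]
        rw [e1]
        exact hu
      · intro hu
        have h1 := hRcT r hr _ (hPT hu)
        have e1 : u = r * u * r⁻¹ := by
          have e2 : r * u * r⁻¹ * r = r * (r * u * r⁻¹) := h1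
          have e3 : r * u * r⁻¹ * r = r * u := by group
          rw [e3] at e2
          exact mul_left_cancel e2
        rw [e1]
        exact hu
    intro y u hu
    have h1 := (Subgroup.mem_normalizer_iff.mp (hle (Subgroup.inv_mem _ y.2))) u
    have h2 := h1.mp hu
    rwa [inv_inv] at h2
  -- (3) the `p`-group `K`
  obtain ⟨m, hm⟩ := IsPGroup.iff_card.mp (hS.to_le hPS)
  have hKp : IsPGroup p ↥(ce5G0 P R ⊓ ce5FixP P R ⊓ F.autGroup (P ⊔ R)) := by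
    rintro ⟨κ, ⟨hκ1, hκ2⟩, hκ3⟩
    refine ⟨m, ?_⟩
    apply Subtype.ext
    rw [Subgroup.coe_pow, Subgroup.coe_one]
    show κ ^ p ^ m = 1
    rw [← hm]
    exact ce5_pow_card_eq_one_of_fix κ hκ2 (ce5_triv_all hnorm κ hκ1.1 hκ1.2.2)
  have hcos : ∀ κ ∈ ce5G0 P R ⊓ ce5FixP P R ⊓ F.autGroup (P ⊔ R),
      ∃ κ' ∈ ce5G0 P R ⊓ ce5FixP P R ⊓ F.autGroup (P ⊔ R),
        z * ((e : MulAut ↥(P ⊔ R)) * κ) * z⁻¹ = (e : MulAut ↥(P ⊔ R)) * κ' := by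
    rintro κ ⟨⟨hκ1, hκ2⟩, hκ3⟩
    refine ⟨(e : MulAut ↥(P ⊔ R))⁻¹ * (z * ((e : MulAut ↥(P ⊔ R)) * κ) * z⁻¹), ⟨⟨?_, ?_⟩, ?_⟩,
      (mul_inv_cancel_left _ _).symm⟩
    · exact (ce5G0 P R).mul_mem ((ce5G0 P R).inv_mem haG0) (hconj _ ((ce5G0 P R).mul_mem haG0 hκ1))
    · intro x hx
      rw [MulAut.mul_apply, MulAut.mul_apply, MulAut.mul_apply, MulAut.mul_apply, hzinvP x hx, hκ2 x hx,
        hzP _ (haG0.1 x hx)]
      exact MulAut.inv_apply_self _ _ _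
    · exact (F.autGroup (P ⊔ R)).mul_mem ((F.autGroup (P ⊔ R)).inv_mem haA)
        ((F.autGroup (P ⊔ R)).mul_mem ((F.autGroup (P ⊔ R)).mul_mem hzA
          ((F.autGroup (P ⊔ R)).mul_mem haA hκ3)) ((F.autGroup (P ⊔ R)).inv_mem hzA))
  obtain ⟨κ, ⟨⟨hκ1, hκ2⟩, hκ3⟩, hcomm⟩ :=
    exists_commute_of_coset hpq _ hKp (e : MulAut ↥(P ⊔ R)) z j hzj hcos
  -- (4) `h' = e κ` commutes with `z`
  generalize hh' : (e : MulAut ↥(P ⊔ R)) * κ = h' at hcomm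
  have hh'G0 : h' ∈ ce5G0 P R := hh' ▸ (ce5G0 P R).mul_mem haG0 hκ1
  have hh'A : h' ∈ F.autGroup (P ⊔ R) := hh' ▸ (F.autGroup (P ⊔ R)).mul_mem haA hκ3
  have hh'Iso : IsIso F (h' : ↥(P ⊔ R) ≃* ↥(P ⊔ R)) := (mem_autGroup_iff F hNS h').mp hh'A
  have hh'P : ∀ x : P, ((h' (Subgroup.inclusion (le_sup_left : P ≤ P ⊔ R) x) : ↥(P ⊔ R)) : Ω) = ((φ x : P) : Ω) := by
    intro x
    rw [← hh', MulAut.mul_apply, hκ2 _ x.2]
    exact heP x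
  have hcomm' : z * h' = h' * z := mul_inv_eq_iff_eq_mul.mp hcomm
  have hfixgen : ∀ r : R, ∀ hc : (r : Ω) ∈ P ⊔ R,
      h' ((⟨r, hc⟩ : ↥(P ⊔ R))⁻¹ * z ⟨r, hc⟩) = (⟨r, hc⟩ : ↥(P ⊔ R))⁻¹ * z ⟨r, hc⟩ := by
    intro r hc
    generalize hcdef : (⟨(r : Ω), hc⟩ : ↥(P ⊔ R)) = c
    have hcR : (c : Ω) ∈ R := by
      rw [← hcdef]
      exact r.2
    have hu : ((c⁻¹ * h' c : ↥(P ⊔ R)) : Ω) ∈ P := hh'G0.2.2 c hcR
    have hzu : z (c⁻¹ * h' c) = c⁻¹ * h' c := hzP _ hu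
    have h1 : h' (z c) = z (h' c) := by
      have := congrArg (fun f : MulAut ↥(P ⊔ R) => f c) hcomm'
      simpa only [MulAut.mul_apply] using this.symm
    have h2 : h' c = c * (c⁻¹ * h' c) := by group
    have h3 : z (h' c) = z c * (c⁻¹ * h' c) := by
      conv_lhs => rw [h2]
      rw [map_mul, hzu]
    -- `y = c⁻¹ z(c)` lies in `R`, `u` in `T`
    have hyR : ((c⁻¹ * z c : ↥(P ⊔ R)) : Ω) ∈ R := by
      rw [Subgroup.coe_mul, Subgroup.coe_inv, hzR c hcR]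
      exact R.mul_mem (R.inv_mem hcR) (ψ ⟨c, hcR⟩).2
    have hyu : (c⁻¹ * h' c) * (c⁻¹ * z c) = (c⁻¹ * z c) * (c⁻¹ * h' c) := by
      apply Subtype.ext
      rw [Subgroup.coe_mul, Subgroup.coe_mul]
      exact hRcT _ hyR _ (hPT hu)
    rw [map_mul, map_inv, h1, h3]
    have e1 : (h' c)⁻¹ * (z c * (c⁻¹ * h' c)) = (c⁻¹ * h' c)⁻¹ * ((c⁻¹ * z c) * (c⁻¹ * h' c)) := by group
    rw [e1, ← hyu, inv_mul_cancel_left]
  -- the fixed points of `h'` contain the closure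
  have hX : Subgroup.closure {y : Ω | ∃ r : R, y = (r : Ω)⁻¹ * ((ψ r : R) : Ω)} ≤
      (h'.toMonoidHom.eqLocus (MonoidHom.id ↥(P ⊔ R))).map (P ⊔ R).subtype := by
    rw [Subgroup.closure_le]
    rintro y ⟨r, rfl⟩
    have hc : (r : Ω) ∈ P ⊔ R := (le_sup_right : R ≤ P ⊔ R) r.2
    refine ⟨(⟨r, hc⟩ : ↥(P ⊔ R))⁻¹ * z ⟨r, hc⟩, hfixgen r hc, ?_⟩
    show (((⟨r, hc⟩ : ↥(P ⊔ R))⁻¹ * z ⟨r, hc⟩ : ↥(P ⊔ R)) : Ω) = (r : Ω)⁻¹ * ((ψ r : R) : Ω)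
    rw [Subgroup.coe_mul, Subgroup.coe_inv, hzR ⟨r, hc⟩ r.2]
  have hXN : Subgroup.closure {y : Ω | ∃ r : R, y = (r : Ω)⁻¹ * ((ψ r : R) : Ω)} ≤ P ⊔ R := by
    intro y hy
    obtain ⟨w, -, rfl⟩ := hX hy
    exact w.2
  have hle : P ⊔ Subgroup.closure {y : Ω | ∃ r : R, y = (r : Ω)⁻¹ * ((ψ r : R) : Ω)} ≤ P ⊔ R :=
    sup_le le_sup_left hXN
  refine ⟨((P ⊔ R).subtype.comp h'.toMonoidHom).comp (Subgroup.inclusion hle), restrict_mem F hh'Iso hle,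
    fun x => ?_, fun x => ?_⟩
  · exact hh'P x
  · obtain ⟨w, hw, hwx⟩ := hX x.2
    have hw' : h' w = w := hw
    show ((h' (Subgroup.inclusion hle (Subgroup.inclusion le_sup_right x)) : ↥(P ⊔ R)) : Ω) = (x : Ω)
    have e1 : Subgroup.inclusion hle (Subgroup.inclusion le_sup_right x) = w := Subtype.ext hwx.symm
    rw [e1, hw']
    exact hwx

end Cfsg.Agent.Helper80
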