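import Mathlib
import Cfsg.Prelude.Def_Blocks
import Cfsg.Agent.Helper80.NormalSum
import Cfsg.Agent.Helper80.CharLevel

set_option autoImplicit false

/-!
# Camina pairs: elementary facts

`IsCamina N` says that every `g ∉ N` is conjugate to every element of the coset `g N`.

* `IsCamina.vanish`: irreducible characters not containing `N` in their kernel vanish off `N`.
* `IsCamina.pow_eq_one`: for a `p`-element `u ∉ N`, the elements of `C_N(u)` are `p`-elements.
* `IsCamina.eq_one_of_commute`: for `u ∉ N` which is a `p`-element modulo `N`, `C_N(u)` has no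
  nontrivial `p'`-element.
* `IsCamina.exists_prime_of_not_frobenius`: if some `x ∈ N`, `x ≠ 1` has `C_G(x) ≰ N`, a prime
  divides both `|N|` and `|G : N|`.
* `IsCamina.map`: quotient pairs are Camina pairs.
-/

namespace Cfsg.Agent.Helper80

open Cfsg

universe u

section camina1

variable {G : Type u} [Group G]

/-- The Camina condition for a subgroup `N`: every element outside `N` is conjugate to all
elements of its coset. -/
def IsCamina (N : Subgroup G) : Prop :=
  ∀ g : G, g ∉ N → ∀ n ∈ N, ∃ x : G, x * g * x⁻¹ = g * n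

/-- Irreducible characters whose kernel does not contain `N` vanish off `N`. -/
theorem IsCamina.vanish [Finite G] {N : Subgroup G} [N.Normal] (hcam : IsCamina N) {χ : G → ℂ}
    (hχ : IsIrrCharacter G χ) (hN : ∃ n ∈ N, χ n ≠ χ 1) {g : G} (hg : g ∉ N) : χ g = 0 := by
  classical
  let _ : Fintype N := Fintype.ofFinite N
  have h0 := IsIrrCharacter.sum_mul_normal_eq_zero hχ N hN g
  have hcf : IsClassFunction G χ := IsCharacter.isClassFunction (IsIrrCharacter.isCharacter hχ)
  have h1 : ∀ n : N, χ (g * n) = χ g := by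
    intro n
    obtain ⟨x, hx⟩ := hcam g hg n n.2
    rw [← hx]
    exact hcf g x
  simp_rw [h1] at h0
  rw [Finset.sum_const, Finset.card_univ, nsmul_eq_mul] at h0
  have hc : (Fintype.card N : ℂ) ≠ 0 := by
    have : Fintype.card N ≠ 0 := Fintype.card_ne_zero
    exact_mod_cast this
  exact (mul_eq_zero.mp h0).resolve_left hc

/-- For a `p`-element `u` outside `N`, every element of `N` commuting with `u` is a
`p`-element. -/
theorem IsCamina.pow_eq_one {N : Subgroup G} (hcam : IsCamina N) {u : G} (hu : u ∉ N) {m : ℕ}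
    (hum : u ^ m = 1) {a : G} (ha : a ∈ N) (hcomm : Commute a u) : a ^ m = 1 := by
  obtain ⟨x, hx⟩ := hcam u hu a ha
  have h1 : (u * a) ^ m = 1 := by
    rw [← hx, conj_pow, hum, mul_one, mul_inv_cancel]
  rw [hcomm.symm.mul_pow, hum, one_mul] at h1
  exact h1

/-- If `u ∉ N` is a `p`-element modulo `N`, then no nontrivial `p'`-element of `N` commutes
with `u`. -/
theorem IsCamina.eq_one_of_commute {N : Subgroup G} (hcam : IsCamina N) {p : ℕ}
    [hp : Fact p.Prime] {u : G} (hu : u ∉ N) (hfin : IsOfFinOrder u) {k : ℕ}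
    (huk : u ^ (p ^ k) ∈ N)
    {a : G} (ha : a ∈ N) (hcomm : Commute a u) (hcop : (orderOf a).Coprime p) : a = 1 := by
  have hpos : 0 < orderOf u := hfin.orderOf_pos
  set s := ordCompl[p] (orderOf u) with hs
  set j := (orderOf u).factorization p with hj
  have hdecomp : p ^ j * s = orderOf u := Nat.ordProj_mul_ordCompl_eq_self _ _
  have hscop : (p ^ k).Coprime s :=
    Nat.Coprime.pow_left _ (Nat.coprime_ordCompl hp.out hpos.ne')
  -- `u ^ s ∉ N`
  have hus : u ^ s ∉ N := by
    intro h
    apply hu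
    have h1 : u ^ (Nat.gcd (p ^ k) s) ∈ N := by
      rw [← zpow_natCast, Nat.gcd_eq_gcd_ab, zpow_add, zpow_mul, zpow_mul, zpow_natCast,
        zpow_natCast]
      exact N.mul_mem (N.zpow_mem huk _) (N.zpow_mem h _)
    rw [hscop, pow_one] at h1
    exact h1
  have h2 : (u ^ s) ^ (p ^ j) = 1 := by
    rw [← pow_mul, mul_comm, hdecomp, pow_orderOf_eq_one]
  have h3 := hcam.pow_eq_one hus h2 ha (hcomm.pow_right s)
  have h4 : orderOf a ∣ p ^ j := orderOf_dvd_of_pow_eq_one h3
  have h5 : orderOf a = 1 :=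
    Nat.eq_one_of_dvd_coprimes (Nat.Coprime.pow_right j hcop) dvd_rfl h4
  exact orderOf_eq_one_iff.mp h5

/-- If the Frobenius condition fails, some prime divides both `|N|` and `|G : N|`. -/
theorem IsCamina.exists_prime_of_not_frobenius [Finite G] {N : Subgroup G} [N.Normal]
    (hcam : IsCamina N) {x g : G} (hx : x ∈ N) (hx1 : x ≠ 1) (hg : g ∉ N)
    (hcomm : Commute x g) : ∃ p : ℕ, p.Prime ∧ p ∣ Nat.card N ∧ p ∣ N.index := by
  -- a prime dividing the order of `g N`
  have hgbar : (QuotientGroup.mk g : G ⧸ N) ≠ 1 := by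
    rwa [Ne, QuotientGroup.eq_one_iff]
  have hord : orderOf (QuotientGroup.mk g : G ⧸ N) ≠ 1 := by
    rwa [Ne, orderOf_eq_one_iff]
  obtain ⟨p, hp, hpd⟩ := Nat.exists_prime_and_dvd hord
  have : Fact p.Prime := ⟨hp⟩
  refine ⟨p, hp, ?_, ?_⟩
  · -- `x` is a `p`-element
    have hpos : 0 < orderOf g := orderOf_pos g
    set s := ordCompl[p] (orderOf g) with hs
    set j := (orderOf g).factorization p with hj
    have hdecomp : p ^ j * s = orderOf g := Nat.ordProj_mul_ordCompl_eq_self _ _
    have hus : g ^ s ∉ N := by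
      intro h
      have h1 : (QuotientGroup.mk g : G ⧸ N) ^ s = 1 := by
        rw [← QuotientGroup.mk_pow, QuotientGroup.eq_one_iff]
        exact h
      have h2 : orderOf (QuotientGroup.mk g : G ⧸ N) ∣ s := orderOf_dvd_of_pow_eq_one h1
      have h3 : p ∣ s := hpd.trans h2
      exact (Nat.not_dvd_ordCompl hp hpos.ne') h3
    have h2 : (g ^ s) ^ (p ^ j) = 1 := by
      rw [← pow_mul, mul_comm, hdecomp, pow_orderOf_eq_one]
    have h3 := hcam.pow_eq_one hus h2 hx (hcomm.pow_right s)
    have h4 : orderOf x ∣ p ^ j := orderOf_dvd_of_pow_eq_one h3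
    have h5 : orderOf x ≠ 1 := by rwa [Ne, orderOf_eq_one_iff]
    have h6 : p ∣ orderOf x := by
      obtain ⟨i, -, hi⟩ := (Nat.dvd_prime_pow hp).mp h4
      rw [hi] at h5 ⊢
      have : i ≠ 0 := by
        rintro rfl
        exact h5 (pow_zero p)
      exact dvd_pow_self p this
    have h7 : orderOf x ∣ Nat.card N := by
      have := orderOf_dvd_natCard (⟨x, hx⟩ : N)
      rwa [Subgroup.orderOf_mk] at this
    exact h6.trans h7
  · rw [Subgroup.index_eq_card]
    exact hpd.trans (orderOf_dvd_natCard _)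

/-- Quotients of Camina pairs are Camina pairs. -/
theorem IsCamina.map {N : Subgroup G} (hcam : IsCamina N) (M : Subgroup G) [M.Normal] :
    IsCamina (N.map (QuotientGroup.mk' M)) := by
  intro gb hgb nb hnb
  obtain ⟨g, rfl⟩ := QuotientGroup.mk'_surjective M gb
  obtain ⟨n, hn, rfl⟩ := hnb
  have hg : g ∉ N := by
    intro h
    exact hgb ⟨g, h, rfl⟩
  obtain ⟨x, hx⟩ := hcam g hg n hn
  refine ⟨QuotientGroup.mk' M x, ?_⟩
  rw [← map_inv, ← map_mul, ← map_mul, hx, map_mul]

end camina1

end Cfsg.Agent.Helper80
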