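import Mathlib
import Cfsg.Agent.Helper80.Camina1
import Cfsg.Agent.Helper80.Degree
import Cfsg.Agent.Helper74.ThompsonDeg
import Cfsg.Agent.Helper81.CliffordInd

set_option autoImplicit false

/-!
# Camina pairs: character degrees and the normal `p`-complement of `N`

* `IsCamina.classInner_restrict_self`: `[χ_N, χ_N] = |G : N|` for `χ ∈ Irr(G | N)`.
* `IsCamina.index_eq_sq_mul`: `|G : N| = e² t` (Clifford).
* `IsCamina.dvd_charDegree`: primes dividing `|G : N|` divide `χ(1)` for `χ ∈ Irr(G | N)`.
* `IsCamina.mem_commutator_sylow`: `P ∩ N ≤ P'` for a Sylow `p`-subgroup, `p ∣ |G : N|`.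
* `IsCamina.exists_normal_pComplement`: `N` has a normal `p`-complement, normal in `G`.
-/

namespace Cfsg.Agent.Helper80

open Cfsg
open scoped ComplexConjugate

universe u

section camina2

variable {G : Type u} [Group G] [Fintype G]

omit [Group G] in
/-- Summation over a group of a function vanishing off a subgroup. -/
theorem sum_eq_sum_subtype_of_vanish {p : G → Prop} [Fintype {g // p g}] (f : G → ℂ)
    (hf : ∀ g, ¬ p g → f g = 0) : ∑ g : G, f g = ∑ n : {g // p g}, f n := by
  classical
  have h1 : ∑ g ∈ Finset.univ.filter (fun g => p g), f g = ∑ n : {g // p g}, f n :=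
    Finset.sum_subtype _ (by simp) f
  rw [← h1, Finset.sum_filter]
  refine Finset.sum_congr rfl fun g _ => ?_
  split_ifs with h
  · rfl
  · exact hf g h

theorem sum_eq_sum_subgroup (N : Subgroup G) [Fintype N] (f : G → ℂ)
    (hf : ∀ g, g ∉ N → f g = 0) : ∑ g : G, f g = ∑ n : N, f n :=
  sum_eq_sum_subtype_of_vanish (p := fun g => g ∈ N) f hf

variable {N : Subgroup G} [hNn : N.Normal] [Fintype N]

/-- `[χ_N, χ_N] = |G : N|` for an irreducible character of a Camina pair not containing `N` in
its kernel. -/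
theorem IsCamina.classInner_restrict_self (hcam : IsCamina N) {χ : G → ℂ}
    (hχ : IsIrrCharacter G χ) (hN : ∃ n ∈ N, χ n ≠ χ 1) :
    classInner (fun n : N => χ n) (fun n : N => χ n) = (N.index : ℂ) := by
  have h1 := IsIrrCharacter.sum_mul_conj hχ
  rw [sum_eq_sum_subgroup N (fun g => χ g * conj (χ g))
    (fun g hg => by rw [hcam.vanish hχ hN hg, zero_mul])] at h1
  unfold classInner
  rw [h1]
  have h2 := Subgroup.card_mul_index N
  have hN0 : (Nat.card N : ℂ) ≠ 0 := by
    have : Nat.card N ≠ 0 := Nat.card_pos.ne'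
    exact_mod_cast this
  have h3 : (Fintype.card G : ℂ) = (Nat.card N : ℂ) * (N.index : ℂ) := by
    rw [← Nat.card_eq_fintype_card]
    exact_mod_cast h2.symm
  rw [h3]
  field_simp

/-- Clifford's theorem in a Camina pair: `|G : N| = e² t`, `χ(1) = e t θ(1)`. -/
theorem IsCamina.index_eq_sq_mul (hcam : IsCamina N) {χ : G → ℂ}
    (hχ : IsIrrCharacter G χ) (hN : ∃ n ∈ N, χ n ≠ χ 1) {θ : N → ℂ} (hθ : IsIrrCharacter N θ)
    {e : ℕ} (he : classInner (fun n : N => χ n) θ = e) (he0 : e ≠ 0) :
    N.index = e ^ 2 * (Helper15.inertia N θ).index ∧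
      charDegree χ = e * (Helper15.inertia N θ).index * charDegree θ := by
  classical
  have hχc := IsIrrCharacter.isCharacter hχ
  have hχcf : IsClassFunction G χ := IsCharacter.isClassFunction hχc
  have hne : classInner (fun n : N => χ n) θ ≠ 0 := by
    rw [he]
    exact_mod_cast he0
  have hcl := Helper15.clifford_restrict N hχ hθ hne
  rw [he] at hcl
  have horb : ∀ φ ∈ Helper15.conjOrbit N θ, classInner (fun n : N => χ n) φ = e := by
    intro φ hφ
    obtain ⟨g, rfl⟩ := (Helper15.mem_conjOrbit N).mp hφ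
    rw [Helper15.classInner_restrict_conjFun N hχcf, he]
  have hcard := Helper15.card_conjOrbit N θ
  constructor
  · have h1 := hcam.classInner_restrict_self hχ hN
    have h2 : classInner (fun n : N => χ n) (fun n : N => χ n) =
        ((e ^ 2 * (Helper15.inertia N θ).index : ℕ) : ℂ) := by
      have h3 : classInner (fun n : N => χ n) (fun n : N => χ n) =
          classInner (fun n : N => χ n) ((e : ℂ) • ∑ φ ∈ Helper15.conjOrbit N θ, φ) := by
        rw [← hcl]
      rw [h3, Helper15.classInner_smul_right, Helper15.classInner_finset_sum_right,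
        Finset.sum_congr rfl horb, Finset.sum_const, hcard]
      simp only [Complex.conj_natCast, nsmul_eq_mul]
      push_cast
      ring
    rw [h2] at h1
    exact_mod_cast h1.symm
  · have h1 := congrFun hcl 1
    simp only [Pi.smul_apply, Finset.sum_apply, smul_eq_mul] at h1
    have h2 : ∀ φ ∈ Helper15.conjOrbit N θ, φ 1 = θ 1 := by
      intro φ hφ
      obtain ⟨g, rfl⟩ := (Helper15.mem_conjOrbit N).mp hφ
      exact Helper15.conjFun_apply_one N g θ
    rw [Finset.sum_congr rfl h2, Finset.sum_const, hcard, Subgroup.coe_one] at h1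
    have h3 : ((charDegree χ : ℕ) : ℂ) =
        ((e * (Helper15.inertia N θ).index * charDegree θ : ℕ) : ℂ) := by
      rw [IsCharacter.charDegree_cast hχc, h1]
      push_cast
      rw [IsCharacter.charDegree_cast (IsIrrCharacter.isCharacter hθ)]
      simp only [nsmul_eq_mul]
      ring
    exact_mod_cast h3

/-- In a Camina pair, a prime dividing `|G : N|` divides the degree of every irreducible character
not containing `N` in its kernel. -/
theorem IsCamina.dvd_charDegree (hcam : IsCamina N) {χ : G → ℂ}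
    (hχ : IsIrrCharacter G χ) (hN : ∃ n ∈ N, χ n ≠ χ 1) {p : ℕ} (hp : p.Prime)
    (hpd : p ∣ N.index) : p ∣ charDegree χ := by
  classical
  have hχc := IsIrrCharacter.isCharacter hχ
  have hres : IsCharacter N (fun n : N => χ n) := Helper74.isCharacter_restrict N hχc
  have hres1 : (fun n : N => χ n) 1 ≠ 0 := by
    show χ ((1 : N) : G) ≠ 0
    rw [Subgroup.coe_one]
    exact IsIrrCharacter.map_one_ne_zero hχ
  obtain ⟨θ, hθ⟩ := Helper81.exists_irr_constituent hres hres1
  obtain ⟨e, he⟩ := Helper74.isCharacter_inner_irr_nat hres θ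
  have he0 : e ≠ 0 := by
    rintro rfl
    apply hθ
    rw [he]
    simp
  obtain ⟨h1, h2⟩ := hcam.index_eq_sq_mul hχ hN θ.2 he he0
  rw [h1] at hpd
  rw [h2]
  rcases (Nat.Prime.dvd_mul hp).mp hpd with h | h
  · have := hp.dvd_of_dvd_pow h
    exact Dvd.dvd.mul_right (Dvd.dvd.mul_right this _) _
  · exact Dvd.dvd.mul_right (Dvd.dvd.mul_left h _) _

/-- **Thompson's argument, relative form**: if `p` divides the degree of every irreducible
character not containing `N` in its kernel, then `P ∩ N ≤ P'` for a Sylow `p`-subgroup `P`. -/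
theorem mem_commutator_sylow_of_degrees_rel (p : ℕ) [hp : Fact p.Prime] (N : Subgroup G)
    (hdeg : ∀ χ : IrrCharacter G, (∃ n ∈ N, (χ : G → ℂ) n ≠ (χ : G → ℂ) 1) →
      p ∣ charDegree (χ : G → ℂ))
    (P : Sylow p G) (x : (P : Subgroup G)) (hx : (x : G) ∈ N) :
    x ∈ commutator (P : Subgroup G) := by
  classical
  by_contra hxc
  obtain ⟨μ, hμ⟩ := exists_hom_ne_one_of_not_mem_commutator x hxc
  let _ := Helper74.irrFintype G
  let _ : Fintype (P : Subgroup G) := Fintype.ofFinite _
  have hm : ∀ χ : IrrCharacter G, ∃ m : ℕ,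
      classInner (fun y : (P : Subgroup G) => (χ : G → ℂ) y)
        ((Helper74.linIrr μ : IrrCharacter _) : _ → ℂ) = m :=
    fun χ => Helper74.isCharacter_inner_irr_nat
      (Helper74.isCharacter_restrict (P : Subgroup G) (Helper74.irr_isCharacter χ))
      (Helper74.linIrr μ)
  choose m hm using hm
  have hP0 : (Nat.card (P : Subgroup G) : ℂ) ≠ 0 := by exact_mod_cast Nat.card_pos.ne'
  -- the key identity
  have hkey : (Nat.card G : ℂ) = (Nat.card (P : Subgroup G) : ℂ) *
      ∑ χ : IrrCharacter G, (χ : G → ℂ) 1 * (m χ : ℂ) := by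
    have h1 : ∑ y : (P : Subgroup G), (∑ χ : IrrCharacter G, (χ : G → ℂ) 1 * (χ : G → ℂ) y) *
        conj ((Helper74.linIrr μ : _ → ℂ) y) = (Nat.card G : ℂ) := by
      rw [Finset.sum_eq_single (1 : (P : Subgroup G))]
      · rw [Subgroup.coe_one, Helper74.sum_irr_degree_mul_apply, if_pos rfl]
        simp
      · intro y _ hy
        have : (y : G) ≠ 1 := fun h => hy (Subtype.ext h)
        rw [Helper74.sum_irr_degree_mul_apply, if_neg this, zero_mul]
      · intro h; exact absurd (Finset.mem_univ _) h
    rw [← h1]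
    simp only [Finset.sum_mul]
    rw [Finset.sum_comm, Finset.mul_sum]
    refine Finset.sum_congr rfl (fun χ _ => ?_)
    rw [← hm χ, Helper74.classInner_def]
    simp only [mul_assoc]
    rw [← Finset.mul_sum, ← mul_assoc (Nat.card (P : Subgroup G) : ℂ), ← mul_assoc,
      mul_comm (Nat.card (P : Subgroup G) : ℂ), mul_assoc ((χ : G → ℂ) 1),
      mul_inv_cancel₀ hP0, mul_one]
  -- degrees
  have hd : ∀ χ : IrrCharacter G, (χ : G → ℂ) 1 = (charDegree (χ : G → ℂ) : ℂ) :=
    fun χ => (Helper74.charDegree_cast (Helper74.irr_isCharacter χ)).symm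
  have hkeyN : Nat.card G = Nat.card (P : Subgroup G) *
      ∑ χ : IrrCharacter G, charDegree (χ : G → ℂ) * m χ := by
    have : (Nat.card G : ℂ) = ((Nat.card (P : Subgroup G) *
        ∑ χ : IrrCharacter G, charDegree (χ : G → ℂ) * m χ : ℕ) : ℂ) := by
      rw [hkey]; push_cast
      congr 1
      exact Finset.sum_congr rfl (fun χ _ => by rw [hd χ])
    exact_mod_cast this
  -- each term is divisible by p
  have hterm : ∀ χ : IrrCharacter G, p ∣ charDegree (χ : G → ℂ) * m χ := by
    intro χ
    by_cases h1 : ∃ n ∈ N, (χ : G → ℂ) n ≠ (χ : G → ℂ) 1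
    · exact Dvd.dvd.mul_right (hdeg χ h1) _
    · -- `N ≤ ker χ`: multiplicity zero
      push Not at h1
      have hm0 : m χ = 0 := by
        by_contra hne
        have h2 := hm χ
        -- translate by `x`
        have hsum : ∑ y : (P : Subgroup G), (χ : G → ℂ) y *
              conj ((Helper74.linIrr μ : _ → ℂ) y) =
            conj ((μ x : ℂˣ) : ℂ) * ∑ y : (P : Subgroup G), (χ : G → ℂ) y *
              conj ((Helper74.linIrr μ : _ → ℂ) y) := by
          rw [Finset.mul_sum]
          refine Fintype.sum_equiv (Equiv.mulRight x⁻¹) _ _ fun y => ?_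
          simp only [Equiv.coe_mulRight, Helper74.linIrr_apply]
          have h4 : (χ : G → ℂ) ((y : G)) = (χ : G → ℂ) (((y * x⁻¹ : (P : Subgroup G)) : G)) := by
            have h5 := IsCharacter.mul_mem_ker (Helper74.irr_isCharacter χ)
              ((y * x⁻¹ : (P : Subgroup G)) : G) (x : G) (h1 (x : G) hx)
            rw [← h5]
            simp
          rw [h4]
          have h6 : ((μ y : ℂˣ) : ℂ) = ((μ (y * x⁻¹) : ℂˣ) : ℂ) * ((μ x : ℂˣ) : ℂ) := by
            rw [← Units.val_mul, ← map_mul]
            congr 2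
            simp
          rw [h6, map_mul]
          ring
        have h3 : classInner (fun y : (P : Subgroup G) => (χ : G → ℂ) y)
            ((Helper74.linIrr μ : IrrCharacter _) : _ → ℂ) =
            conj ((μ x : ℂˣ) : ℂ) * classInner (fun y : (P : Subgroup G) => (χ : G → ℂ) y)
            ((Helper74.linIrr μ : IrrCharacter _) : _ → ℂ) := by
          rw [Helper74.classInner_def]
          conv_lhs => rw [hsum]
          ring
        rw [h2] at h3
        have h4 : (m χ : ℂ) ≠ 0 := by exact_mod_cast hne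
        have h5 : conj ((μ x : ℂˣ) : ℂ) = 1 := by
          have h7 : conj ((μ x : ℂˣ) : ℂ) * (m χ : ℂ) = 1 * (m χ : ℂ) := by
            rw [one_mul]
            exact h3.symm
          exact mul_right_cancel₀ h4 h7
        apply hμ
        have h6 : ((μ x : ℂˣ) : ℂ) = 1 := by
          have := congrArg (starRingEnd ℂ) h5
          simpa using this
        exact Units.ext h6
      rw [hm0, mul_zero]; exact dvd_zero p
  have hdvd : p ∣ ∑ χ : IrrCharacter G, charDegree (χ : G → ℂ) * m χ :=
    Finset.dvd_sum (fun χ _ => hterm χ)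
  have hidx : (P : Subgroup G).index = ∑ χ : IrrCharacter G, charDegree (χ : G → ℂ) * m χ := by
    have h1 := Subgroup.index_mul_card (P : Subgroup G)
    rw [hkeyN, mul_comm] at h1
    exact Nat.eq_of_mul_eq_mul_left Nat.card_pos h1
  exact P.not_dvd_index (hidx ▸ hdvd)

/-- In a Camina pair with `p ∣ |G : N|`, `P ∩ N ≤ P'` for a Sylow `p`-subgroup `P` of `G`. -/
theorem IsCamina.mem_commutator_sylow (hcam : IsCamina N) (p : ℕ) [hp : Fact p.Prime]
    (hpd : p ∣ N.index) (P : Sylow p G) (x : (P : Subgroup G)) (hx : (x : G) ∈ N) :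
    x ∈ commutator (P : Subgroup G) :=
  mem_commutator_sylow_of_degrees_rel p N
    (fun χ hχ => hcam.dvd_charDegree χ.2 hχ hp.out hpd) P x hx

end camina2

section complement

variable {G : Type u} [Group G] [Finite G]

/-- The subgroup generated by the `p'`-elements of `N`. -/
def pPrimePart (p : ℕ) (N : Subgroup G) : Subgroup G :=
  Subgroup.closure {g : G | g ∈ N ∧ (orderOf g).Coprime p}

omit [Finite G] in
theorem pPrimePart_le (p : ℕ) (N : Subgroup G) : pPrimePart p N ≤ N := by
  unfold pPrimePart
  rw [Subgroup.closure_le]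
  intro g hg
  exact hg.1

omit [Finite G] in
theorem mem_pPrimePart (p : ℕ) (N : Subgroup G) {g : G} (hg : g ∈ N)
    (hcop : (orderOf g).Coprime p) : g ∈ pPrimePart p N :=
  Subgroup.subset_closure ⟨hg, hcop⟩

omit [Finite G] in
theorem pPrimePart_normal (p : ℕ) (N : Subgroup G) [hN : N.Normal] :
    (pPrimePart p N).Normal := by
  unfold pPrimePart
  rw [← Subgroup.normalizer_eq_top_iff, eq_top_iff]
  refine le_trans ?_ (Subgroup.normalizer_le_normalizer_closure _)
  intro g _
  rw [Subgroup.mem_normalizer_iff_conj_image_eq]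
  ext x
  simp only [Set.mem_image, Set.mem_ofPred_eq, MulAut.conj_apply]
  constructor
  · rintro ⟨y, ⟨hyN, hy⟩, rfl⟩
    have : orderOf (g * y * g⁻¹) = orderOf y := by
      have := orderOf_injective (MulAut.conj g).toMonoidHom (MulAut.conj g).injective y
      simpa using this
    exact ⟨hN.conj_mem y hyN g, by rwa [this]⟩
  · rintro ⟨hxN, hx⟩
    refine ⟨g⁻¹ * x * g, ⟨?_, ?_⟩, by group⟩
    · have := hN.conj_mem x hxN g⁻¹
      simpa using this
    · have : orderOf (g⁻¹ * x * g) = orderOf x := by
        have := orderOf_injective (MulAut.conj g⁻¹).toMonoidHom (MulAut.conj g⁻¹).injective x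
        simpa using this
      rwa [this]

/-- If `N` has a normal `p`-complement then the subgroup generated by its `p'`-elements has order
prime to `p`. -/
theorem coprime_card_pPrimePart_of_complement (p : ℕ) [hp : Fact p.Prime] (N : Subgroup G)
    (h : Cfsg.HasNormalPComplement p ↥N) : (Nat.card (pPrimePart p N)).Coprime p := by
  obtain ⟨P', M, hMn, hMP⟩ := h
  have := hMn
  have hcardM : Nat.card M = (P' : Subgroup N).index := by
    have h1 := hMP.card_mul_card
    have h2 := Subgroup.card_mul_index (P' : Subgroup N)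
    have h3 : Nat.card M * Nat.card (P' : Subgroup N) =
        (P' : Subgroup N).index * Nat.card (P' : Subgroup N) := by
      rw [h1, ← h2, mul_comm]
    exact Nat.eq_of_mul_eq_mul_right Nat.card_pos h3
  have hMcop : (Nat.card M).Coprime p := by
    rw [hcardM, Nat.coprime_comm, Nat.Prime.coprime_iff_not_dvd hp.out]
    exact P'.not_dvd_index
  -- index of `M` in `N` is a power of `p`
  have hMidx : M.index = Nat.card (P' : Subgroup N) := by
    have h1 := hMP.card_mul_card
    have h2 := Subgroup.card_mul_index M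
    have h3 : Nat.card M * M.index = Nat.card M * Nat.card (P' : Subgroup N) := by
      rw [h2, h1]
    exact Nat.eq_of_mul_eq_mul_left Nat.card_pos h3
  obtain ⟨a, ha⟩ := IsPGroup.iff_card.mp P'.isPGroup'
  have hle : pPrimePart p N ≤ M.map N.subtype := by
    unfold pPrimePart
    rw [Subgroup.closure_le]
    rintro g ⟨hgN, hg⟩
    refine ⟨⟨g, hgN⟩, ?_, rfl⟩
    -- the image in `N ⧸ M` has order dividing a power of `p` and prime to `p`
    rw [SetLike.mem_coe, ← QuotientGroup.eq_one_iff (N := M), ← orderOf_eq_one_iff]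
    have h1 : orderOf (QuotientGroup.mk (⟨g, hgN⟩ : N) : N ⧸ M) ∣ p ^ a := by
      rw [← ha, ← hMidx, Subgroup.index_eq_card]
      exact orderOf_dvd_natCard _
    have h2 : orderOf (QuotientGroup.mk (⟨g, hgN⟩ : N) : N ⧸ M) ∣ orderOf g := by
      have := orderOf_map_dvd (QuotientGroup.mk' M) (⟨g, hgN⟩ : N)
      rwa [Subgroup.orderOf_mk] at this
    exact Nat.eq_one_of_dvd_coprimes (Nat.Coprime.pow_right a hg) h2 h1
  have hdvd : Nat.card (pPrimePart p N) ∣ Nat.card M := by
    have h1 := Subgroup.card_dvd_of_le hle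
    rwa [Subgroup.card_map_of_injective N.subtype_injective] at h1
  exact Nat.Coprime.coprime_dvd_left hdvd hMcop

/-- In a Camina pair with `p ∣ |G : N|`, the subgroup generated by the `p'`-elements of `N` is a
normal `p`-complement of `N` (it has order prime to `p`). -/
theorem IsCamina.coprime_card_pPrimePart {N : Subgroup G} [N.Normal] (hcam : IsCamina N) (p : ℕ)
    [hp : Fact p.Prime] (hpd : p ∣ N.index) : (Nat.card (pPrimePart p N)).Coprime p := by
  classical
  let _ : Fintype G := Fintype.ofFinite G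
  let _ : Fintype N := Fintype.ofFinite N
  obtain ⟨P⟩ : Nonempty (Sylow p G) := inferInstance
  apply coprime_card_pPrimePart_of_complement p N
  apply Helper34.tate_normal_pComplement
    (fun E _ _ K U _ _ h1 h2 A h3 h4 h5 => Helper34.gaschutz_exists K U h1 h2 A h3 h4 h5) P N
  rintro g ⟨hgN, hgP⟩
  refine ⟨⟨g, hgP⟩, ?_, rfl⟩
  have h2 := hcam.mem_commutator_sylow p hpd P ⟨g, hgP⟩ hgN
  show (⟨g, hgP⟩ : (P : Subgroup G)) ∈ frattini ↥(P : Subgroup G)
  unfold frattini Order.radical
  rw [Subgroup.mem_iInf]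
  intro M
  rw [Subgroup.mem_iInf]
  intro hM
  exact Helper1.commutator_le_coatom P.2 M hM h2

end complement

end Cfsg.Agent.Helper80
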