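import Mathlib
import Cfsg.Agent.Helper80.Camina1
import Cfsg.Agent.Helper73.PGroupCyclic
import Cfsg.Agent.Helper71.FrobPP

set_option autoImplicit false

/-!
# Camina pairs: group-theoretic tools

* `exists_invariant_hom`: an automorphism of `p`-power order of a nontrivial finite `p`-group
  fixes a nontrivial linear character.
* `exists_rank_two_of_exponent`: a group of order `e²` and exponent dividing `e`, with `p ∣ e`,
  contains two commuting elements of order `p` generating a non-cyclic subgroup.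
* `IsCamina.eq_bot_of_rank_two`: the norm argument for Camina pairs.
-/

namespace Cfsg.Agent.Helper80

open Cfsg

universe u

section invhom

variable {Q : Type u} [Group Q] [Finite Q]

/-- An automorphism of `p`-power order of a nontrivial finite `p`-group fixes a nontrivial linear
character. -/
theorem exists_invariant_hom [Nontrivial Q] {p : ℕ} [hp : Fact p.Prime] (hQ : IsPGroup p Q)
    (c : Q ≃* Q) {n : ℕ} (hc : ∀ q, (c^[p ^ n]) q = q) :
    ∃ μ : Q →* ℂˣ, μ ≠ 1 ∧ ∀ q, μ (c q) = μ q := by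
  classical
  let _ : Fintype (Q →* ℂˣ) := Fintype.ofFinite _
  -- the number of linear characters
  have hnil : Group.IsNilpotent Q := hQ.isNilpotent
  have hlt : commutator Q < ⊤ := Group.IsSolvable.commutator_lt_top_of_nontrivial Q
  have hnt : Nontrivial (Abelianization Q) := by
    unfold Abelianization
    rw [QuotientGroup.nontrivial_iff]
    exact hlt.ne
  have hcard1 : Nat.card (Q →* ℂˣ) = Nat.card (Abelianization Q) := by
    rw [Nat.card_congr (Abelianization.lift (G := Q) (A := ℂˣ))]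
    exact CommGroup.card_monoidHom_of_hasEnoughRootsOfUnity (Abelianization Q) ℂ
  have hpab : IsPGroup p (Abelianization Q) :=
    hQ.to_quotient (commutator Q)
  obtain ⟨j, hj⟩ := IsPGroup.iff_card.mp hpab
  have hj0 : j ≠ 0 := by
    rintro rfl
    rw [pow_zero] at hj
    have := (Nat.card_eq_one_iff_unique.mp hj).1
    exact not_subsingleton _ this
  have hdvd : p ∣ Fintype.card (Q →* ℂˣ) := by
    rw [← Nat.card_eq_fintype_card, hcard1, hj]
    exact dvd_pow_self p hj0
  -- the action
  let f : Function.End (Q →* ℂˣ) := fun μ => μ.comp c.toMonoidHom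
  have hfk : ∀ (k : ℕ) (μ : Q →* ℂˣ) (q : Q), ((f ^ k) μ) q = μ ((c^[k]) q) := by
    intro k
    induction k with
    | zero => intro μ q; rfl
    | succ k ih =>
      intro μ q
      rw [pow_succ]
      show ((f ^ k) (f μ)) q = _
      rw [ih (f μ) q, Function.iterate_succ_apply']
      rfl
  have hf : f ^ p ^ n = 1 := by
    funext μ
    apply MonoidHom.ext
    intro q
    rw [hfk, hc]
    rfl
  have hmod := Equiv.Perm.card_fixedPoints_modEq (f := f) (p := p) (n := n) hf
  have hdvd2 : p ∣ Fintype.card (Function.fixedPoints f) := by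
    rw [← Nat.modEq_zero_iff_dvd]
    exact hmod.symm.trans (Nat.modEq_zero_iff_dvd.mpr hdvd)
  have h1 : (1 : Q →* ℂˣ) ∈ Function.fixedPoints f := by
    show f 1 = 1
    apply MonoidHom.ext
    intro q
    rfl
  have hlt1 : 1 < Fintype.card (Function.fixedPoints f) := by
    have hpos : 0 < Fintype.card (Function.fixedPoints f) :=
      Fintype.card_pos_iff.mpr ⟨⟨1, h1⟩⟩
    have := Nat.le_of_dvd hpos hdvd2
    exact lt_of_lt_of_le hp.out.one_lt this
  obtain ⟨⟨μ, hμ⟩, hne⟩ := Fintype.exists_ne_of_one_lt_card hlt1 ⟨1, h1⟩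
  refine ⟨μ, fun h => hne (Subtype.ext h), fun q => ?_⟩
  have : f μ = μ := hμ
  exact congrArg (fun ν : Q →* ℂˣ => ν q) this

end invhom

section ranktwo

variable {H : Type u} [Group H] [Finite H]

/-- A finite `p`-group of order `p ^ (2 k)`, `k ≥ 1`, of exponent dividing `p ^ k` contains
two commuting elements of order `p`, one of them not a power of the other. -/
theorem exists_rank_two_of_pgroup {p : ℕ} [hp : Fact p.Prime] (hH : IsPGroup p H) {k : ℕ}
    (hk : 1 ≤ k) (hcard : Nat.card H = p ^ (2 * k)) (hexp : ∀ h : H, h ^ (p ^ k) = 1) :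
    ∃ u v : H, Commute u v ∧ orderOf u = p ∧ orderOf v = p ∧ v ∉ Subgroup.zpowers u := by
  classical
  have hnot : ¬ Helper73.UniqueOrderP p H := by
    intro hu
    rcases Helper73.cyclic_or_quaternion_structure hH hu with hcyc |
      ⟨hp2, m, a, x, hm, ha, -, -, -, hidx⟩
    · obtain ⟨g, hg⟩ := hcyc.exists_generator
      have h1 : orderOf g = Nat.card H := orderOf_eq_card_of_forall_mem_zpowers hg
      have h2 : orderOf g ∣ p ^ k := orderOf_dvd_of_pow_eq_one (hexp g)
      rw [h1, hcard] at h2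
      have h3 := (Nat.pow_dvd_pow_iff_le_right hp.out.one_lt).mp h2
      omega
    · subst hp2
      have h2 : orderOf a ∣ 2 ^ k := orderOf_dvd_of_pow_eq_one (hexp a)
      rw [ha] at h2
      have h3 : m ≤ k := (Nat.pow_dvd_pow_iff_le_right (by norm_num)).mp h2
      have h4 := Subgroup.card_mul_index (Subgroup.zpowers a)
      rw [hidx, Nat.card_zpowers, ha, hcard, ← pow_succ] at h4
      have h5 : m + 1 = 2 * k := Nat.pow_right_injective (le_refl 2) h4
      omega
  unfold Helper73.UniqueOrderP at hnot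
  push Not at hnot
  obtain ⟨x, y, hx, hy, hxy⟩ := hnot
  -- a central element of order `p`
  have hnt : Nontrivial H := by
    rw [← Finite.one_lt_card_iff_nontrivial, hcard]
    exact Nat.one_lt_pow (by omega) hp.out.one_lt
  have hcen : Nontrivial (Subgroup.center H) := hH.center_nontrivial
  have hpc : p ∣ Nat.card (Subgroup.center H) := by
    obtain ⟨j, hj⟩ := IsPGroup.iff_card.mp (hH.to_subgroup (Subgroup.center H))
    rw [hj]
    apply dvd_pow_self
    rintro rfl
    rw [pow_zero] at hj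
    have := (Nat.card_eq_one_iff_unique.mp hj).1
    exact not_subsingleton _ this
  obtain ⟨⟨z, hz⟩, hzo⟩ := exists_prime_orderOf_dvd_card' p hpc
  rw [Subgroup.orderOf_mk] at hzo
  have hzc : ∀ h : H, Commute z h := fun h => (Subgroup.mem_center_iff.mp hz h).symm
  -- either `x` or `y` lies outside `⟨z⟩`
  have hsub : ∀ w : H, orderOf w = p → w ∈ Subgroup.zpowers z → Subgroup.zpowers w =
      Subgroup.zpowers z := by
    intro w hw hwz
    have hle : Subgroup.zpowers w ≤ Subgroup.zpowers z := by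
      rw [Subgroup.zpowers_le]
      exact hwz
    apply Subgroup.eq_of_le_of_card_ge hle
    rw [Nat.card_zpowers, Nat.card_zpowers, hw, hzo]
  by_cases hxz : x ∈ Subgroup.zpowers z
  · -- then `y ∉ ⟨z⟩`
    have hyz : y ∉ Subgroup.zpowers z := by
      rw [← hsub x hx hxz]
      exact hxy
    refine ⟨z, y, hzc y, hzo, hy, hyz⟩
  · refine ⟨z, x, hzc x, hzo, hx, hxz⟩

/-- A finite group of order `e²` and exponent dividing `e`, with `p ∣ e`, contains two commuting
elements of order `p`, one of them not a power of the other. -/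
theorem exists_rank_two_of_exponent {p : ℕ} [hp : Fact p.Prime] {e : ℕ} (hpe : p ∣ e)
    (hcard : Nat.card H = e ^ 2) (hexp : ∀ h : H, h ^ e = 1) :
    ∃ u v : H, Commute u v ∧ orderOf u = p ∧ orderOf v = p ∧ v ∉ Subgroup.zpowers u := by
  classical
  have he0 : e ≠ 0 := by
    rintro rfl
    rw [zero_pow (by norm_num)] at hcard
    exact Nat.card_pos.ne' hcard
  obtain ⟨P⟩ : Nonempty (Sylow p H) := inferInstance
  set k := e.factorization p with hk
  have hk1 : 1 ≤ k := by
    rw [hk]
    exact (hp.out.dvd_iff_one_le_factorization he0).mp hpe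
  have hcardP : Nat.card (P : Subgroup H) = p ^ (2 * k) := by
    rw [P.card_eq_multiplicity, hcard, Nat.factorization_pow]
    rfl
  have hexpP : ∀ h : (P : Subgroup H), h ^ (p ^ k) = 1 := by
    intro h
    have h1 : orderOf h ∣ e := orderOf_dvd_of_pow_eq_one (by
      apply Subtype.ext
      rw [Subgroup.coe_pow, hexp, Subgroup.coe_one])
    obtain ⟨j, hj⟩ : ∃ j, orderOf h = p ^ j := by
      obtain ⟨j', hj'⟩ := P.isPGroup' h
      obtain ⟨j, -, hj⟩ := (Nat.dvd_prime_pow hp.out).mp (orderOf_dvd_of_pow_eq_one hj')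
      exact ⟨j, hj⟩
    rw [hj] at h1
    have h2 : j ≤ k := by
      rw [hk]
      exact (hp.out.pow_dvd_iff_le_factorization he0).mp h1
    have h3 : orderOf h ∣ p ^ k := by
      rw [hj]
      exact pow_dvd_pow p h2
    exact orderOf_dvd_iff_pow_eq_one.mp h3
  obtain ⟨u, v, huv, hu, hv, hvu⟩ :=
    exists_rank_two_of_pgroup (P.isPGroup' : IsPGroup p (P : Subgroup H)) hk1 hcardP hexpP
  refine ⟨u, v, ?_, ?_, ?_, ?_⟩
  · have := congrArg Subtype.val huv.eq
    exact this
  · rw [Subgroup.orderOf_coe]; exact hu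
  · rw [Subgroup.orderOf_coe]; exact hv
  · intro h
    apply hvu
    obtain ⟨i, hi⟩ := Subgroup.mem_zpowers_iff.mp h
    refine Subgroup.mem_zpowers_iff.mpr ⟨i, ?_⟩
    apply Subtype.ext
    rw [Subgroup.coe_zpow]
    exact hi

end ranktwo

section core

variable {G : Type u} [Group G] [Finite G]

/-- `N` has "rank two at `p`" in `G`: there are `u v` generating modulo `N` a group `C_p × C_p`. -/
def HasRankTwo (N : Subgroup G) (p : ℕ) : Prop :=
  ∃ u v : G, u * v * u⁻¹ * v⁻¹ ∈ N ∧ u ^ p ∈ N ∧ v ^ p ∈ N ∧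
    (∀ k, 0 < k → k < p → u ^ k ∉ N) ∧ (∀ i, i < p → u ^ i * v ∉ N)

omit [Finite G] in
theorem hasRankTwo_of_quotient {N : Subgroup G} [N.Normal] {p : ℕ}
    {ub vb : G ⧸ N} (hcomm : Commute ub vb) (hu : orderOf ub = p) (hv : orderOf vb = p)
    (hvu : vb ∉ Subgroup.zpowers ub) : HasRankTwo N p := by
  obtain ⟨u, rfl⟩ := QuotientGroup.mk_surjective ub
  obtain ⟨v, rfl⟩ := QuotientGroup.mk_surjective vb
  refine ⟨u, v, ?_, ?_, ?_, ?_, ?_⟩
  · rw [← QuotientGroup.eq_one_iff (N := N)]
    simp only [QuotientGroup.mk_mul, QuotientGroup.mk_inv]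
    rw [hcomm.eq]
    group
  · rw [← QuotientGroup.eq_one_iff (N := N), QuotientGroup.mk_pow, ← hu, pow_orderOf_eq_one]
  · rw [← QuotientGroup.eq_one_iff (N := N), QuotientGroup.mk_pow, ← hv, pow_orderOf_eq_one]
  · intro k hk0 hkp hk
    rw [← QuotientGroup.eq_one_iff (N := N), QuotientGroup.mk_pow] at hk
    have := orderOf_dvd_of_pow_eq_one hk
    rw [hu] at this
    exact absurd (Nat.le_of_dvd hk0 this) (by omega)
  · intro i _ hi
    rw [← QuotientGroup.eq_one_iff (N := N), QuotientGroup.mk_mul, QuotientGroup.mk_pow] at hi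
    apply hvu
    have : (QuotientGroup.mk v : G ⧸ N) = ((QuotientGroup.mk u : G ⧸ N) ^ i)⁻¹ :=
      eq_inv_of_mul_eq_one_right hi
    rw [this]
    exact Subgroup.inv_mem _ (Subgroup.pow_mem _ (Subgroup.mem_zpowers _) i)

omit [Finite G] in
/-- Rank two passes to quotients by normal subgroups contained in `N`. -/
theorem HasRankTwo.map {N : Subgroup G} {p : ℕ} (h : HasRankTwo N p) (K : Subgroup G)
    [K.Normal] (hKN : K ≤ N) : HasRankTwo (N.map (QuotientGroup.mk' K)) p := by
  have hmem : ∀ g : G, (QuotientGroup.mk' K g) ∈ N.map (QuotientGroup.mk' K) ↔ g ∈ N := by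
    intro g
    constructor
    · rintro ⟨n, hn, hng⟩
      have h1 : n⁻¹ * g ∈ K := by
        rw [← QuotientGroup.eq]
        exact hng
      have h2 : g = n * (n⁻¹ * g) := by group
      rw [h2]
      exact N.mul_mem hn (hKN h1)
    · intro hg
      exact ⟨g, hg, rfl⟩
  obtain ⟨u, v, h1, h2, h3, h4, h5⟩ := h
  refine ⟨QuotientGroup.mk' K u, QuotientGroup.mk' K v, ?_, ?_, ?_, ?_, ?_⟩
  · rw [← map_inv, ← map_inv, ← map_mul, ← map_mul, ← map_mul, hmem]
    exact h1
  · rw [← map_pow, hmem]; exact h2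
  · rw [← map_pow, hmem]; exact h3
  · intro k hk0 hkp
    rw [← map_pow, hmem]
    exact h4 k hk0 hkp
  · intro i hi
    rw [← map_pow, ← map_mul, hmem]
    exact h5 i hi

/-- **Norm argument for Camina pairs**: if `G / N` contains `C_p × C_p`, then `N` has no nontrivial
central `p'`-subgroup normal in `G`. -/
theorem IsCamina.eq_bot_of_rank_two {N : Subgroup G} [N.Normal] (hcam : IsCamina N) {p : ℕ}
    [hp : Fact p.Prime] (hr : HasRankTwo N p) (A : Subgroup G) [hAn : A.Normal] (hAN : A ≤ N)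
    (hcen : ∀ a ∈ A, ∀ n ∈ N, a * n = n * a) (hcop : (Nat.card A).Coprime p) : A = ⊥ := by
  obtain ⟨u, v, h1, h2, h3, h4, h5⟩ := hr
  have hAcomm : ∀ a b : A, a * b = b * a := by
    intro a b
    apply Subtype.ext
    exact hcen a a.2 b (hAN b.2)
  have hnu : ∀ n ∈ A, u * n * u⁻¹ ∈ A := fun n hn => hAn.conj_mem n hn u
  have hnv : ∀ n ∈ A, v * n * v⁻¹ ∈ A := fun n hn => hAn.conj_mem n hn v
  -- elements of `N` act trivially on `A`
  have htriv : ∀ (g : G), g ∈ N → ∀ a ∈ A, g * a * g⁻¹ = a := by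
    intro g hg a ha
    rw [← hcen a ha g hg, mul_inv_cancel_right]
  have hordA : ∀ a ∈ A, (orderOf a).Coprime p := by
    intro a ha
    have h6 : orderOf a ∣ Nat.card A := by
      have := orderOf_dvd_natCard (⟨a, ha⟩ : A)
      rwa [Subgroup.orderOf_mk] at this
    exact Nat.Coprime.coprime_dvd_left h6 hcop
  have key := Helper71.pow_eq_one_of_fpf_pair_grp hAcomm p hp.out.pos
    (Helper71.conjHom A u hnu) (Helper71.conjHom A v hnv) ?_ ?_ ?_ ?_ ?_
  · rw [eq_bot_iff]
    intro a ha
    rw [Subgroup.mem_bot]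
    have h6 := congrArg Subtype.val (key ⟨a, ha⟩)
    rw [Subgroup.coe_pow, Subgroup.coe_one] at h6
    have h7 : orderOf a ∣ p := orderOf_dvd_of_pow_eq_one h6
    have h8 := Nat.eq_one_of_dvd_coprimes (hordA a ha) dvd_rfl h7
    exact orderOf_eq_one_iff.mp h8
  · -- the two conjugations commute on `A`
    intro a
    apply Subtype.ext
    show u * (v * (a : G) * v⁻¹) * u⁻¹ = v * (u * (a : G) * u⁻¹) * v⁻¹
    have h6 := htriv _ h1 _ (hnv _ (hnu a a.2))
    -- `c (v u a u⁻¹ v⁻¹) c⁻¹ = v u a u⁻¹ v⁻¹` with `c = u v u⁻¹ v⁻¹`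
    rw [← h6]
    group
  · intro a
    apply Subtype.ext
    rw [Helper71.conjHom_iterate]
    exact htriv _ h2 a a.2
  · intro a
    apply Subtype.ext
    rw [Helper71.conjHom_iterate]
    exact htriv _ h3 a a.2
  · intro k hk0 hkp a ha
    have h6 := congrArg Subtype.val ha
    rw [Helper71.conjHom_iterate] at h6
    have h7 : Commute (a : G) (u ^ k) := by
      show (a : G) * u ^ k = u ^ k * a
      calc (a : G) * u ^ k = (u ^ k * a * (u ^ k)⁻¹) * u ^ k := by rw [h6]
        _ = u ^ k * a := by group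
    have h8 : (u ^ k) ^ (p ^ 1) ∈ N := by
      rw [pow_one, ← pow_mul, mul_comm, pow_mul]
      exact N.pow_mem h2 k
    exact Subtype.ext (hcam.eq_one_of_commute (h4 k hk0 hkp) (isOfFinOrder_of_finite _) h8
      (hAN a.2) h7 (hordA a a.2))
  · intro i hi a ha
    have h6 := congrArg Subtype.val ha
    rw [Helper71.conjHom_iterate] at h6
    have h0 : ((Helper71.conjHom A v hnv a : A) : G) = v * a * v⁻¹ := rfl
    rw [h0] at h6
    have h7 : Commute (a : G) (u ^ i * v) := by
      show (a : G) * (u ^ i * v) = (u ^ i * v) * a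
      calc (a : G) * (u ^ i * v) = (u ^ i * (v * a * v⁻¹) * (u ^ i)⁻¹) * (u ^ i * v) := by
            rw [h6]
        _ = (u ^ i * v) * a := by group
    -- `(u^i v)^p ∈ N`
    have h8 : (u ^ i * v) ^ (p ^ 1) ∈ N := by
      rw [pow_one, ← QuotientGroup.eq_one_iff (N := N)]
      have hc : Commute (QuotientGroup.mk u : G ⧸ N) (QuotientGroup.mk v) := by
        have h9 : (QuotientGroup.mk (u * v * u⁻¹ * v⁻¹) : G ⧸ N) = 1 :=
          (QuotientGroup.eq_one_iff _).mpr h1
        simp only [QuotientGroup.mk_mul, QuotientGroup.mk_inv] at h9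
        show (QuotientGroup.mk u : G ⧸ N) * QuotientGroup.mk v = QuotientGroup.mk v *
          QuotientGroup.mk u
        calc (QuotientGroup.mk u : G ⧸ N) * QuotientGroup.mk v
            = ((QuotientGroup.mk u : G ⧸ N) * QuotientGroup.mk v * (QuotientGroup.mk u)⁻¹ *
              (QuotientGroup.mk v)⁻¹) * (QuotientGroup.mk v * QuotientGroup.mk u) := by group
          _ = QuotientGroup.mk v * QuotientGroup.mk u := by rw [h9, one_mul]
      rw [QuotientGroup.mk_pow, QuotientGroup.mk_mul, QuotientGroup.mk_pow,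
        (hc.pow_left i).mul_pow, ← pow_mul, mul_comm i p, pow_mul, ← QuotientGroup.mk_pow,
        (QuotientGroup.eq_one_iff _).mpr h2, one_pow, one_mul, ← QuotientGroup.mk_pow,
        (QuotientGroup.eq_one_iff _).mpr h3]
    exact Subtype.ext (hcam.eq_one_of_commute (h5 i hi) (isOfFinOrder_of_finite _) h8
      (hAN a.2) h7 (hordA a a.2))

end core

end Cfsg.Agent.Helper80
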