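import Mathlib
import Cfsg.Agent.Helper80.Camina2
import Cfsg.Agent.Helper80.Camina3
import Cfsg.Agent.Helper15.CyclicExt

set_option autoImplicit false

/-!
# Camina pairs: the quotient has `p`-rank at least two

* `IsCamina.orderOf_dvd_of_invariant`: if `χ ∈ Irr(G | N)` lies over the linear character `β` of
  `N` with ramification `e`, every element of the inertia group of `β` has order dividing `e`
  modulo `N`.
* `IsCamina.hasRankTwo`: if `p` divides both `|N|` and `|G : N|`, then `G / N` contains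
  `C_p × C_p`.
-/

namespace Cfsg.Agent.Helper80

open Cfsg
open scoped ComplexConjugate

universe u

section ext

variable {G : Type u} [Group G] [Fintype G] {N : Subgroup G} [hNn : N.Normal] [Fintype N]

/-- In a Camina pair, if `χ ∈ Irr(G | N)` lies over the linear character `β` of `N` with
multiplicity `e`, and `g` fixes `β`, the order of `g N` divides `e`. -/
theorem IsCamina.orderOf_dvd_of_invariant (hcam : IsCamina N) {χ : G → ℂ}
    (hχ : IsIrrCharacter G χ) (hN : ∃ n ∈ N, χ n ≠ χ 1) (β : N →* ℂˣ) {e : ℕ}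
    (he : classInner (fun n : N => χ n) (Helper74.linFun β) = e) (g : G)
    (hg : ∀ n : N, β ⟨g * n * g⁻¹, hNn.conj_mem (n : G) n.2 g⟩ = β n) :
    orderOf (QuotientGroup.mk g : G ⧸ N) ∣ e := by
  classical
  set gb : G ⧸ N := QuotientGroup.mk g with hgb
  set m := orderOf gb with hm
  have hmpos : 0 < m := orderOf_pos gb
  -- the subgroup `H = N ⟨g⟩`
  set H : Subgroup G := (Subgroup.zpowers gb).comap (QuotientGroup.mk' N) with hH
  have hNH : N ≤ H := by
    intro n hn
    show QuotientGroup.mk' N n ∈ Subgroup.zpowers gb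
    have : QuotientGroup.mk' N n = 1 := (QuotientGroup.eq_one_iff n).mpr hn
    rw [this]
    exact Subgroup.one_mem _
  have hgH : g ∈ H := Subgroup.mem_zpowers gb
  let _ : Fintype H := Fintype.ofFinite H
  set N' : Subgroup H := N.subgroupOf H with hN'
  have hN'n : N'.Normal := Subgroup.Normal.subgroupOf hNn H
  let f : N' →* ℂˣ :=
    { toFun := fun x => β ⟨((x : H) : G), Subgroup.mem_subgroupOf.mp x.2⟩
      map_one' := by
        have : (⟨(((1 : N') : H) : G), Subgroup.mem_subgroupOf.mp (1 : N').2⟩ : N) = 1 := by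
          apply Subtype.ext
          simp
        rw [this, map_one]
      map_mul' := by
        intro x y
        rw [← map_mul]
        congr 1 }
  have hf : ∀ (x : H) (hx : x ∈ N'), f ⟨x, hx⟩ = β ⟨(x : G), Subgroup.mem_subgroupOf.mp hx⟩ :=
    fun x hx => rfl
  set gH : H := ⟨g, hgH⟩ with hgH'
  have hgen : ∀ x : H, ∃ k : ℤ, x * gH ^ (-k) ∈ N' := by
    intro x
    obtain ⟨k, hk⟩ := Subgroup.mem_zpowers_iff.mp x.2
    refine ⟨k, ?_⟩
    rw [hN', Subgroup.mem_subgroupOf]
    rw [← QuotientGroup.eq_one_iff (N := N)]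
    simp only [Subgroup.coe_mul, Subgroup.coe_zpow, QuotientGroup.mk_mul, QuotientGroup.mk_zpow]
    have hk' : (QuotientGroup.mk (x : G) : G ⧸ N) = gb ^ k := hk.symm
    rw [hk', ← hgb, ← zpow_add, add_neg_cancel, zpow_zero]
  -- a suitable root
  have hgm : g ^ m ∈ N := by
    rw [← QuotientGroup.eq_one_iff (N := N), QuotientGroup.mk_pow, ← hgb, hm, pow_orderOf_eq_one]
  obtain ⟨B, hB⟩ : ∃ B : ℂˣ, B ^ m = β ⟨g ^ m, hgm⟩ := by
    obtain ⟨b, hb⟩ := IsAlgClosed.exists_pow_nat_eq (((β ⟨g ^ m, hgm⟩ : ℂˣ) : ℂ)) hmpos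
    have hb0 : b ≠ 0 := by
      rintro rfl
      rw [zero_pow hmpos.ne'] at hb
      exact (Units.ne_zero _) hb.symm
    refine ⟨Units.mk0 b hb0, ?_⟩
    apply Units.ext
    rw [Units.val_pow_eq_pow_val, Units.val_mk0, hb]
  have hconj : ∀ n : N', B * f n * B⁻¹ =
      f ⟨gH * n * gH⁻¹, hN'n.conj_mem n n.2 gH⟩ := by
    intro n
    rw [mul_comm B, mul_inv_cancel_right]
    have h1 := hg ⟨((n : H) : G), Subgroup.mem_subgroupOf.mp n.2⟩
    rw [hf]
    show β ⟨((n : H) : G), _⟩ = β ⟨((gH * n * gH⁻¹ : H) : G), _⟩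
    rw [← h1]
    congr 1
  have hpow : ∀ (j : ℤ) (hj : gH ^ j ∈ N'), B ^ j = f ⟨gH ^ j, hj⟩ := by
    intro j hj
    have hj' : g ^ j ∈ N := by
      have := Subgroup.mem_subgroupOf.mp hj
      simpa using this
    have h1 : gb ^ j = 1 := by
      rw [hgb, ← QuotientGroup.mk_zpow, QuotientGroup.eq_one_iff]
      exact hj'
    have h2 : (m : ℤ) ∣ j := orderOf_dvd_iff_zpow_eq_one.mpr h1
    obtain ⟨t, rfl⟩ := h2
    rw [hf, zpow_mul, zpow_natCast, hB, ← map_zpow]
    congr 1
    apply Subtype.ext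
    simp only [Subgroup.coe_zpow]
    rw [← zpow_natCast, ← zpow_mul]
  obtain ⟨F, hF, -⟩ := Helper15.exists_hom_extension N' gH hgen f B hconj hpow
  -- the multiplicity of `F` in `χ_H`
  have hχc := IsIrrCharacter.isCharacter hχ
  obtain ⟨mH, hmH⟩ := Helper74.isCharacter_inner_irr_nat
    (Helper74.isCharacter_restrict H hχc) (Helper74.linIrr F)
  -- compare the two sums
  have hsum : ∑ h : H, χ h * conj ((Helper74.linIrr F : H → ℂ) h) =
      ∑ n : N, χ n * conj (Helper74.linFun β n) := by
    rw [sum_eq_sum_subtype_of_vanish (p := fun h : H => (h : G) ∈ N)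
      (fun h : H => χ h * conj ((Helper74.linIrr F : H → ℂ) h))
      (fun h hh => by rw [hcam.vanish hχ hN hh, zero_mul])]
    let E : {h : H // (h : G) ∈ N} ≃ N :=
      { toFun := fun x => ⟨(x.1 : G), x.2⟩
        invFun := fun n => ⟨⟨n, hNH n.2⟩, n.2⟩
        left_inv := fun x => rfl
        right_inv := fun n => rfl }
    refine Fintype.sum_equiv E _ _ fun x => ?_
    have h1 : F x.1 = β (E x) := by
      have := hF ⟨x.1, Subgroup.mem_subgroupOf.mpr x.2⟩
      rw [hf] at this
      exact this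
    simp only [Helper74.linIrr_apply, Helper74.linFun_apply]
    rw [h1]
    rfl
  have h3 : (Nat.card H : ℂ) * (mH : ℂ) = (Nat.card N : ℂ) * (e : ℂ) := by
    rw [← hmH, ← he, Helper74.classInner_def, Helper74.classInner_def, hsum]
    have hH0 : (Nat.card H : ℂ) ≠ 0 := by exact_mod_cast Nat.card_pos.ne'
    have hN0 : (Nat.card N : ℂ) ≠ 0 := by exact_mod_cast Nat.card_pos.ne'
    rw [← mul_assoc, mul_inv_cancel₀ hH0, one_mul, ← mul_assoc, mul_inv_cancel₀ hN0, one_mul]
  have h4 : Nat.card H * mH = Nat.card N * e := by exact_mod_cast h3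
  -- `|H| = |N| m`
  have h5 : Nat.card H = Nat.card N * m := by
    have i1 : H.index = (Subgroup.zpowers gb).index :=
      Subgroup.index_comap_of_surjective _ (QuotientGroup.mk'_surjective N)
    have i2 := Subgroup.card_mul_index H
    have i3 := Subgroup.card_mul_index (Subgroup.zpowers gb)
    have i4 := Subgroup.card_eq_card_quotient_mul_card_subgroup N
    rw [Nat.card_zpowers, ← hm] at i3
    have i5 : Nat.card H * H.index = (Nat.card N * m) * H.index := by
      rw [i2, i4, ← i3, i1]
      ring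
    have i6 : H.index ≠ 0 := Subgroup.index_ne_zero_of_finite
    exact Nat.eq_of_mul_eq_mul_right (Nat.pos_of_ne_zero i6) i5
  rw [h5, mul_assoc] at h4
  have h6 : m * mH = e := Nat.eq_of_mul_eq_mul_left Nat.card_pos h4
  exact ⟨mH, h6.symm⟩

end ext

section lyingover

variable {G : Type u} [Group G] [Fintype G] (N : Subgroup G) [Fintype N]

/-- Every irreducible character of a normal subgroup lies under an irreducible character. -/
theorem exists_irr_lying_over {θ : N → ℂ} (hθ : IsIrrCharacter N θ) :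
    ∃ χ : G → ℂ, IsIrrCharacter G χ ∧ classInner (fun n : N => χ n) θ ≠ 0 := by
  have hind : IsCharacter G (indFun N θ) :=
    Helper15.isCharacter_indFun N (IsIrrCharacter.isCharacter hθ)
  have h1 : indFun N θ 1 ≠ 0 := by
    rw [Helper15.indFun_apply_one]
    refine mul_ne_zero ?_ (IsIrrCharacter.map_one_ne_zero hθ)
    exact_mod_cast N.index_ne_zero_of_finite
  obtain ⟨χ, hχ⟩ := Helper81.exists_irr_constituent hind h1
  refine ⟨χ, χ.2, ?_⟩
  rw [Helper15.frobenius_reciprocity N θ χ
    (IsCharacter.isClassFunction (IsIrrCharacter.isCharacter χ.2))] at hχ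
  intro h0
  apply hχ
  rw [← Helper15.classInner_conj_symm, h0, map_zero]

end lyingover

section ranktwo

variable {G : Type u} [Group G] [Finite G]

/-- A `p`-element outside `N` when `p ∣ |G : N|`. -/
theorem exists_pElement_not_mem (N : Subgroup G) [N.Normal] {p : ℕ} [hp : Fact p.Prime]
    (hpd : p ∣ N.index) : ∃ (x : G) (j : ℕ), x ∉ N ∧ x ^ (p ^ j) = 1 := by
  rw [Subgroup.index_eq_card] at hpd
  obtain ⟨gb, hgb⟩ := exists_prime_orderOf_dvd_card' p hpd
  obtain ⟨g, rfl⟩ := QuotientGroup.mk_surjective gb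
  have hpos : 0 < orderOf g := orderOf_pos g
  set s := ordCompl[p] (orderOf g) with hs
  set j := (orderOf g).factorization p with hj
  have hdecomp : p ^ j * s = orderOf g := Nat.ordProj_mul_ordCompl_eq_self _ _
  refine ⟨g ^ s, j, ?_, ?_⟩
  · intro h
    have h1 : (QuotientGroup.mk g : G ⧸ N) ^ s = 1 := by
      rw [← QuotientGroup.mk_pow, QuotientGroup.eq_one_iff]
      exact h
    have h2 : orderOf (QuotientGroup.mk g : G ⧸ N) ∣ s := orderOf_dvd_of_pow_eq_one h1
    rw [hgb] at h2
    exact (Nat.not_dvd_ordCompl hp.out hpos.ne') h2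
  · rw [← pow_mul, mul_comm, hdecomp, pow_orderOf_eq_one]

/-- The quotient of `N` by the subgroup generated by its `p'`-elements is a `p`-group. -/
theorem isPGroup_quotient_pPrimePart (N : Subgroup G) (p : ℕ) [hp : Fact p.Prime]
    [((pPrimePart p N).subgroupOf N).Normal] :
    IsPGroup p (N ⧸ (pPrimePart p N).subgroupOf N) := by
  intro q
  obtain ⟨n, rfl⟩ := QuotientGroup.mk_surjective q
  have hpos : 0 < orderOf (n : G) := orderOf_pos _
  set s := ordCompl[p] (orderOf (n : G)) with hs
  set j := (orderOf (n : G)).factorization p with hj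
  have hdecomp : p ^ j * s = orderOf (n : G) := Nat.ordProj_mul_ordCompl_eq_self _ _
  refine ⟨j, ?_⟩
  rw [← QuotientGroup.mk_pow, QuotientGroup.eq_one_iff, Subgroup.mem_subgroupOf, Subgroup.coe_pow]
  apply mem_pPrimePart p N (N.pow_mem n.2 _)
  have h1 : orderOf ((n : G) ^ p ^ j) = s := by
    rw [orderOf_pow' _ (pow_ne_zero j hp.out.ne_zero), Nat.gcd_eq_right ⟨s, hdecomp.symm⟩,
      ← hdecomp, Nat.mul_div_cancel_left _ (pow_pos hp.out.pos j)]
  rw [h1]
  exact (Nat.coprime_ordCompl hp.out hpos.ne').symm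

/-- In a Camina pair, if `p` divides both `|N|` and `|G : N|`, then `G / N` contains
`C_p × C_p`. -/
theorem IsCamina.hasRankTwo {N : Subgroup G} [hNn : N.Normal] (hcam : IsCamina N) {p : ℕ}
    [hp : Fact p.Prime] (hpN : p ∣ Nat.card N) (hpd : p ∣ N.index) : HasRankTwo N p := by
  classical
  let _ : Fintype G := Fintype.ofFinite G
  let _ : Fintype N := Fintype.ofFinite N
  -- the normal `p`-complement `K` of `N`
  set K := pPrimePart p N with hK
  have hKn : K.Normal := pPrimePart_normal p N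
  have hKN : K ≤ N := pPrimePart_le p N
  have hKcop : (Nat.card K).Coprime p := hcam.coprime_card_pPrimePart p hpd
  have hK'n : (K.subgroupOf N).Normal := Subgroup.Normal.subgroupOf hKn N
  -- the quotient `Q = N / K`
  have hQp : IsPGroup p (N ⧸ K.subgroupOf N) := isPGroup_quotient_pPrimePart N p
  have hQnt : Nontrivial (N ⧸ K.subgroupOf N) := by
    rw [← Finite.one_lt_card_iff_nontrivial]
    have h1 := Subgroup.card_eq_card_quotient_mul_card_subgroup (K.subgroupOf N)
    have h2 : Nat.card (K.subgroupOf N) = Nat.card K :=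
      Nat.card_congr (Subgroup.subgroupOfEquivOfLe hKN).toEquiv
    rw [h2] at h1
    rw [h1] at hpN
    have h3 : p ∣ Nat.card (N ⧸ K.subgroupOf N) :=
      (Nat.Coprime.dvd_mul_right hKcop.symm).mp hpN
    exact lt_of_lt_of_le hp.out.one_lt (Nat.le_of_dvd Nat.card_pos h3)
  -- a `p`-element outside `N`
  obtain ⟨x, j, hxN, hxj⟩ := exists_pElement_not_mem N hpd
  -- its action on `Q`
  have hmap : Subgroup.map ((MulAut.conjNormal x : N ≃* N) : N →* N) (K.subgroupOf N) =
      K.subgroupOf N := by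
    ext n
    constructor
    · rintro ⟨n', hn', rfl⟩
      rw [Subgroup.mem_subgroupOf]
      show ((MulAut.conjNormal x n' : N) : G) ∈ K
      rw [MulAut.conjNormal_apply]
      exact hKn.conj_mem _ (Subgroup.mem_subgroupOf.mp hn') x
    · intro hn
      refine ⟨(MulAut.conjNormal x : N ≃* N).symm n, ?_, ?_⟩
      · show _ ∈ K.subgroupOf N
        rw [Subgroup.mem_subgroupOf, MulAut.conjNormal_symm_apply]
        have := hKn.conj_mem _ (Subgroup.mem_subgroupOf.mp hn) x⁻¹
        simpa using this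
      · exact (MulAut.conjNormal x : N ≃* N).apply_symm_apply n
  set c : (N ⧸ K.subgroupOf N) ≃* (N ⧸ K.subgroupOf N) :=
    QuotientGroup.congr (K.subgroupOf N) (K.subgroupOf N) (MulAut.conjNormal x) hmap with hc
  have hcmk : ∀ n : N, c (QuotientGroup.mk n) = QuotientGroup.mk (MulAut.conjNormal x n) :=
    fun n => QuotientGroup.congr_mk _ _ _ hmap n
  have hciter : ∀ (k : ℕ) (n : N), (c^[k]) (QuotientGroup.mk n) =
      QuotientGroup.mk (MulAut.conjNormal (x ^ k) n) := by
    intro k
    induction k with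
    | zero =>
      intro n
      rw [pow_zero, map_one]
      rfl
    | succ k ih =>
      intro n
      rw [Function.iterate_succ_apply', ih, hcmk, pow_succ', map_mul]
      rfl
  have hcpow : ∀ q, (c^[p ^ j]) q = q := by
    intro q
    obtain ⟨n, rfl⟩ := QuotientGroup.mk_surjective q
    rw [hciter, hxj, map_one]
    rfl
  obtain ⟨μ, hμ1, hμc⟩ := exists_invariant_hom hQp c hcpow
  -- the linear character `β` of `N`
  set β : N →* ℂˣ := μ.comp (QuotientGroup.mk' (K.subgroupOf N)) with hβ
  have hβ1 : β ≠ 1 := by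
    intro h
    apply hμ1
    apply MonoidHom.ext
    intro q
    obtain ⟨n, rfl⟩ := QuotientGroup.mk_surjective q
    exact congrArg (fun ν : N →* ℂˣ => ν n) h
  have hβx : ∀ n : N, β ⟨x * n * x⁻¹, hNn.conj_mem (n : G) n.2 x⟩ = β n := by
    intro n
    have h1 : (⟨x * n * x⁻¹, hNn.conj_mem (n : G) n.2 x⟩ : N) = MulAut.conjNormal x n := by
      apply Subtype.ext
      rw [MulAut.conjNormal_apply]
    rw [h1]
    show μ (QuotientGroup.mk (MulAut.conjNormal x n)) = μ (QuotientGroup.mk n)
    rw [← hcmk, hμc]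
  -- an irreducible character over `β`
  have hθ : IsIrrCharacter N (Helper74.linFun β) := (Helper74.linIrr β).2
  obtain ⟨χ, hχ, hχθ⟩ := exists_irr_lying_over N hθ
  have hχc := IsIrrCharacter.isCharacter hχ
  have hNχ : ∃ n ∈ N, χ n ≠ χ 1 := by
    by_contra hcon
    push Not at hcon
    apply hχθ
    rw [Helper74.classInner_def]
    have h1 : ∑ n : N, χ n * conj (Helper74.linFun β n) =
        χ 1 * conj (∑ n : N, ((Units.coeHom ℂ).comp β) n) := by
      rw [map_sum, Finset.mul_sum]
      refine Finset.sum_congr rfl fun n _ => ?_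
      rw [hcon n n.2]
      rfl
    have h2 : (Units.coeHom ℂ).comp β ≠ 1 := by
      intro h
      apply hβ1
      apply MonoidHom.ext
      intro n
      apply Units.ext
      exact congrArg (fun ν : N →* ℂ => ν n) h
    rw [h1, sum_hom_units_eq_zero _ h2, map_zero, mul_zero, mul_zero]
  obtain ⟨e, he⟩ := Helper74.isCharacter_inner_irr_nat
    (Helper74.isCharacter_restrict N hχc) (Helper74.linIrr β)
  have he' : classInner (fun n : N => χ n) (Helper74.linFun β) = e := he
  have he0 : e ≠ 0 := by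
    rintro rfl
    apply hχθ
    rw [he']
    simp
  obtain ⟨hidx, -⟩ := hcam.index_eq_sq_mul hχ hNχ hθ he' he0
  set T := Helper15.inertia N (Helper74.linFun β) with hT
  have hNT : N ≤ T :=
    Helper15.le_inertia N (IsCharacter.isClassFunction (IsIrrCharacter.isCharacter hθ))
  -- elements of `T` have order dividing `e` modulo `N`
  have hord : ∀ g ∈ T, orderOf (QuotientGroup.mk g : G ⧸ N) ∣ e := by
    intro g hg
    apply hcam.orderOf_dvd_of_invariant hχ hNχ β he' g
    intro n
    have := (Helper15.mem_inertia_iff N _ g).mp hg n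
    simp only [Helper74.linFun_apply] at this
    exact Units.ext this
  have hxT : x ∈ T := by
    rw [hT, Helper15.mem_inertia_iff]
    intro n
    simp only [Helper74.linFun_apply]
    rw [hβx n]
  -- `p ∣ e`
  have hpe : p ∣ e := by
    have h1 := hord x hxT
    have h2 : (QuotientGroup.mk x : G ⧸ N) ^ (p ^ j) = 1 := by
      rw [← QuotientGroup.mk_pow, hxj]
      rfl
    have h3 : orderOf (QuotientGroup.mk x : G ⧸ N) ≠ 1 := by
      rw [Ne, orderOf_eq_one_iff, QuotientGroup.eq_one_iff]
      exact hxN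
    obtain ⟨i, -, hi⟩ := (Nat.dvd_prime_pow hp.out).mp (orderOf_dvd_of_pow_eq_one h2)
    rw [hi] at h1 h3
    have hi0 : i ≠ 0 := by
      rintro rfl
      exact h3 (pow_zero p)
    exact (dvd_pow_self p hi0).trans h1
  -- the group `T / N`
  set Tb : Subgroup (G ⧸ N) := T.map (QuotientGroup.mk' N) with hTb
  have hcardTb : Nat.card Tb = e ^ 2 := by
    have h1 : Tb.index = T.index := by
      apply Subgroup.index_map_eq T (QuotientGroup.mk'_surjective N)
      rw [QuotientGroup.ker_mk']
      exact hNT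
    have h2 := Subgroup.card_mul_index Tb
    rw [h1, ← Subgroup.index_eq_card, hidx] at h2
    have h3 : T.index ≠ 0 := Subgroup.index_ne_zero_of_finite
    exact Nat.eq_of_mul_eq_mul_right (Nat.pos_of_ne_zero h3) h2
  have hexpTb : ∀ h : Tb, h ^ e = 1 := by
    rintro ⟨hb, g, hgT, rfl⟩
    apply Subtype.ext
    rw [Subgroup.coe_pow, Subgroup.coe_one]
    exact orderOf_dvd_iff_pow_eq_one.mp (hord g hgT)
  obtain ⟨u, v, huv, hu, hv, hvu⟩ := exists_rank_two_of_exponent hpe hcardTb hexpTb
  apply hasRankTwo_of_quotient (ub := (u : G ⧸ N)) (vb := (v : G ⧸ N))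
  · exact congrArg Subtype.val huv.eq
  · rw [Subgroup.orderOf_coe]; exact hu
  · rw [Subgroup.orderOf_coe]; exact hv
  · intro h
    apply hvu
    obtain ⟨i, hi⟩ := Subgroup.mem_zpowers_iff.mp h
    refine Subgroup.mem_zpowers_iff.mpr ⟨i, ?_⟩
    apply Subtype.ext
    rw [Subgroup.coe_zpow]
    exact hi

end ranktwo

end Cfsg.Agent.Helper80
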