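import Mathlib
import Cfsg.Agent.Helper80.Camina4
import Cfsg.Agent.Helper1.FpfThompson
import Cfsg.Agent.Lib.Nilpotent

set_option autoImplicit false

/-!
# Camina pairs: the trichotomy

`IsCamina.trichotomy`: in a Camina pair `(G, N)`, either `G` is a Frobenius group with kernel `N`,
or `N` is a `p`-group, or `G / N` is a `p`-group.
-/

namespace Cfsg.Agent.Helper80

open Cfsg

universe u

section main

variable {G : Type u} [Group G] [Finite G]

/-- `|N| = p ^ k |K|` for the subgroup `K` generated by the `p'`-elements of `N`. -/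
theorem card_eq_pow_mul_card_pPrimePart (N : Subgroup G) [N.Normal] (p : ℕ) [hp : Fact p.Prime] :
    ∃ k : ℕ, Nat.card N = p ^ k * Nat.card (pPrimePart p N) := by
  have hKn : (pPrimePart p N).Normal := pPrimePart_normal p N
  have hK'n : ((pPrimePart p N).subgroupOf N).Normal := Subgroup.Normal.subgroupOf hKn N
  obtain ⟨k, hk⟩ := IsPGroup.iff_card.mp (isPGroup_quotient_pPrimePart N p)
  refine ⟨k, ?_⟩
  have h1 := Subgroup.card_eq_card_quotient_mul_card_subgroup ((pPrimePart p N).subgroupOf N)
  have h2 : Nat.card ((pPrimePart p N).subgroupOf N) = Nat.card (pPrimePart p N) :=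
    Nat.card_congr (Subgroup.subgroupOfEquivOfLe (pPrimePart_le p N)).toEquiv
  rw [h1, hk, h2]

/-- The nilpotent case: if `N` is nilpotent and `p` divides `|N|` and `|G : N|`, then `N` is a
`p`-group. -/
theorem IsCamina.pPrimePart_eq_bot_of_nilpotent {N : Subgroup G} [hNn : N.Normal]
    (hcam : IsCamina N) [hnil : Group.IsNilpotent N] {p : ℕ} [hp : Fact p.Prime]
    (hpN : p ∣ Nat.card N) (hpd : p ∣ N.index) : pPrimePart p N = ⊥ := by
  by_contra hK
  have hKn : (pPrimePart p N).Normal := pPrimePart_normal p N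
  have hKN : pPrimePart p N ≤ N := pPrimePart_le p N
  have hK'n : ((pPrimePart p N).subgroupOf N).Normal := Subgroup.Normal.subgroupOf hKn N
  have hK' : (pPrimePart p N).subgroupOf N ≠ ⊥ := by
    intro h
    apply hK
    rw [eq_bot_iff]
    intro k hk
    have h1 : (⟨k, hKN hk⟩ : N) ∈ (pPrimePart p N).subgroupOf N := Subgroup.mem_subgroupOf.mpr hk
    rw [h, Subgroup.mem_bot] at h1
    rw [Subgroup.mem_bot]
    exact congrArg Subtype.val h1
  have h2 := Lib.normal_inf_center_ne_bot ((pPrimePart p N).subgroupOf N) hK'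
  obtain ⟨⟨z, hz⟩, hz1⟩ := (Subgroup.ne_bot_iff_exists_ne_one).mp h2
  -- the central subgroup `A`
  set A : Subgroup G := pPrimePart p N ⊓ Subgroup.centralizer (N : Set G) with hA
  have hAn : A.Normal := Subgroup.normal_inf_normal _ _
  have hAbot : A = ⊥ := by
    apply hcam.eq_bot_of_rank_two (hcam.hasRankTwo hpN hpd) A (inf_le_left.trans hKN)
    · intro a ha n hn
      exact (Subgroup.mem_centralizer_iff.mp ha.2 n hn).symm
    · have h3 : Nat.card A ∣ Nat.card (pPrimePart p N) := Subgroup.card_dvd_of_le inf_le_left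
      exact Nat.Coprime.coprime_dvd_left h3 (hcam.coprime_card_pPrimePart p hpd)
  have hzA : (z : G) ∈ A := by
    refine Subgroup.mem_inf.mpr ⟨Subgroup.mem_subgroupOf.mp hz.1, ?_⟩
    rw [Subgroup.mem_centralizer_iff]
    intro n hn
    have h4 := Subgroup.mem_center_iff.mp hz.2 ⟨n, hn⟩
    exact congrArg Subtype.val h4
  rw [hAbot, Subgroup.mem_bot] at hzA
  apply hz1
  apply Subtype.ext
  apply Subtype.ext
  exact hzA

/-- **Camina's theorem**: in a Camina pair `(G, N)`, either `G` is a Frobenius group with kernel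
`N`, or `N` is a `p`-group, or `G / N` is a `p`-group. -/
theorem IsCamina.trichotomy {N : Subgroup G} [hNn : N.Normal] (hcam : IsCamina N) :
    (∀ x ∈ N, x ≠ 1 → Subgroup.centralizer ({x} : Set G) ≤ N) ∨ IsPrimePow (Nat.card N) ∨
      IsPrimePow N.index := by
  by_contra hcon
  push Not at hcon
  obtain ⟨⟨x, hxN, hx1, hxc⟩, hN2, hI2⟩ := hcon
  obtain ⟨g, hgc, hgN⟩ := SetLike.not_le_iff_exists.mp hxc
  have hcomm : Commute x g := Subgroup.mem_centralizer_iff.mp hgc x (Set.mem_singleton x)
  obtain ⟨p, hp, hpN, hpd⟩ := hcam.exists_prime_of_not_frobenius hxN hx1 hgN hcomm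
  have hpf : Fact p.Prime := ⟨hp⟩
  -- a second prime dividing the index
  obtain ⟨q, hq, hqp, hqd⟩ : ∃ q : ℕ, q.Prime ∧ q ≠ p ∧ q ∣ N.index := by
    by_contra hno
    push Not at hno
    apply hI2
    have h1 : N.index = p ^ N.index.primeFactorsList.length :=
      Nat.eq_prime_pow_of_unique_prime_dvd Subgroup.index_ne_zero_of_finite
        (fun {d} hd hdd => by
          by_contra hne
          exact hno d hd hne hdd)
    rw [h1]
    refine ⟨p, N.index.primeFactorsList.length, hp.prime, ?_, rfl⟩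
    rw [Nat.pos_iff_ne_zero]
    intro h0
    rw [h0, pow_zero] at h1
    rw [h1] at hpd
    exact hp.one_lt.ne' (Nat.dvd_one.mp hpd)
  have hqf : Fact q.Prime := ⟨hq⟩
  -- `N` is not a `p`-group
  have hK : pPrimePart p N ≠ ⊥ := by
    intro h
    apply hN2
    obtain ⟨k, hk⟩ := card_eq_pow_mul_card_pPrimePart N p
    rw [h, Subgroup.card_bot, mul_one] at hk
    rw [hk]
    refine ⟨p, k, hp.prime, ?_, rfl⟩
    rw [Nat.pos_iff_ne_zero]
    intro h0
    rw [h0, pow_zero] at hk
    rw [hk] at hpN
    exact hp.one_lt.ne' (Nat.dvd_one.mp hpN)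
  by_cases hqN : q ∣ Nat.card N
  · -- both `p` and `q` divide `|N|` and `|G : N|`: pass to `G / O_{q'}(N)`
    set Kq := pPrimePart q N with hKq
    have hKqn : Kq.Normal := pPrimePart_normal q N
    have hKqN : Kq ≤ N := pPrimePart_le q N
    have hKqcop : (Nat.card Kq).Coprime q := hcam.coprime_card_pPrimePart q hqd
    have hKq'n : (Kq.subgroupOf N).Normal := Subgroup.Normal.subgroupOf hKqn N
    set N₁ : Subgroup (G ⧸ Kq) := N.map (QuotientGroup.mk' Kq) with hN₁
    have hN₁n : N₁.Normal := Subgroup.Normal.map hNn _ (QuotientGroup.mk'_surjective Kq)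
    have hcam₁ : IsCamina N₁ := hcam.map Kq
    have hr₁ : HasRankTwo N₁ p := (hcam.hasRankTwo hpN hpd).map Kq hKqN
    -- `N₁` is a nontrivial `q`-group
    have hN₁q : IsPGroup q N₁ := by
      rintro ⟨nb, n, hn, rfl⟩
      obtain ⟨k, hk⟩ := isPGroup_quotient_pPrimePart N q (QuotientGroup.mk (⟨n, hn⟩ : N))
      refine ⟨k, ?_⟩
      rw [← QuotientGroup.mk_pow, QuotientGroup.eq_one_iff, Subgroup.mem_subgroupOf] at hk
      apply Subtype.ext
      rw [Subgroup.coe_pow, Subgroup.coe_one]
      show (QuotientGroup.mk' Kq n) ^ q ^ k = 1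
      rw [← map_pow]
      exact (QuotientGroup.eq_one_iff _).mpr hk
    have hN₁nt : Nontrivial N₁ := by
      obtain ⟨n, hn, hnK⟩ : ∃ n ∈ N, n ∉ Kq := by
        by_contra hno
        push Not at hno
        have h1 : Kq = N := le_antisymm hKqN hno
        rw [h1] at hKqcop
        exact (Nat.Prime.coprime_iff_not_dvd hq).mp hKqcop.symm hqN
      refine ⟨⟨⟨QuotientGroup.mk' Kq n, n, hn, rfl⟩, 1, ?_⟩⟩
      intro h
      have h1 := congrArg Subtype.val h
      exact hnK ((QuotientGroup.eq_one_iff n).mp h1)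
    have hcen : Nontrivial (Subgroup.center N₁) := hN₁q.center_nontrivial
    obtain ⟨⟨z, hz⟩, hz1⟩ := exists_ne (1 : Subgroup.center N₁)
    set A : Subgroup (G ⧸ Kq) := N₁ ⊓ Subgroup.centralizer (N₁ : Set (G ⧸ Kq)) with hA
    have hAn : A.Normal := Subgroup.normal_inf_normal _ _
    have hAbot : A = ⊥ := by
      apply hcam₁.eq_bot_of_rank_two hr₁ A inf_le_left
      · intro a ha n hn
        exact (Subgroup.mem_centralizer_iff.mp ha.2 n hn).symm
      · -- `|A|` is a power of `q`
        obtain ⟨k, hk⟩ := IsPGroup.iff_card.mp (hN₁q.to_le (inf_le_left : A ≤ N₁))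
        rw [hk]
        exact Nat.Coprime.pow_left k ((Nat.coprime_primes hq hp).mpr hqp)
    have hzA : (z : G ⧸ Kq) ∈ A := by
      refine Subgroup.mem_inf.mpr ⟨z.2, ?_⟩
      rw [Subgroup.mem_centralizer_iff]
      intro n hn
      have h4 := Subgroup.mem_center_iff.mp hz ⟨n, hn⟩
      exact congrArg Subtype.val h4
    rw [hAbot, Subgroup.mem_bot] at hzA
    apply hz1
    apply Subtype.ext
    apply Subtype.ext
    exact hzA
  · -- `q ∤ |N|`: an element of order `q` acts fixed-point-freely, so `N` is nilpotent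
    have hqG : q ∣ Nat.card G := hqd.trans (Subgroup.index_dvd_card N)
    obtain ⟨y, hy⟩ := exists_prime_orderOf_dvd_card' q hqG
    have hyq : y ^ q = 1 := by rw [← hy, pow_orderOf_eq_one]
    have hord : ∀ n ∈ N, orderOf n ∣ Nat.card N := by
      intro n hn
      have := orderOf_dvd_natCard (⟨n, hn⟩ : N)
      rwa [Subgroup.orderOf_mk] at this
    have hyN : y ∉ N := by
      intro h
      exact hqN (hy ▸ hord y h)
    have hnil : Group.IsNilpotent N := by
      apply Helper1.fpf_prime_nilpotent hq (MulAut.conjNormal y : N ≃* N)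
      · intro n hn
        have h1 : ((MulAut.conjNormal y n : N) : G) = n := congrArg Subtype.val hn
        rw [MulAut.conjNormal_apply] at h1
        have h2 : Commute (n : G) y := by
          show (n : G) * y = y * n
          calc (n : G) * y = (y * n * y⁻¹) * y := by rw [h1]
            _ = y * n := by group
        have h3 := hcam.pow_eq_one hyN hyq n.2 h2
        have h4 : orderOf (n : G) ∣ q := orderOf_dvd_of_pow_eq_one h3
        rcases (Nat.dvd_prime hq).mp h4 with h5 | h5
        · exact Subtype.ext (orderOf_eq_one_iff.mp h5)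
        · exact absurd (h5 ▸ hord n n.2) hqN
      · rw [← map_pow, hyq, map_one]
    exact hK (hcam.pPrimePart_eq_bot_of_nilpotent hpN hpd)

end main

end Cfsg.Agent.Helper80
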