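import Cfsg.Agent.Helper43.Cov2.P7Defs

/-!
# S2500 part 7, piece (7C): an element of `Sp₆(F)` normalising some self-adjoint cubic field is
conjugate into the normaliser of a fixed one (all self-adjoint cubic fields are `Sp₆`-conjugate).
-/

set_option autoImplicit false
set_option linter.unusedVariables false
set_option linter.unusedSectionVars false
set_option linter.style.haveILetI false
set_option linter.unusedSimpArgs false

namespace Cfsg.Agent.Helper80.Cov2.P7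

open Matrix Polynomial Cfsg.Agent.Helper43.Cov2.P7

variable {F : Type*} [Field F]

/-! ### field theory: a common cubic generator -/

theorem c7_isField {K : Subalgebra F (M6 F)} (hK : Cfsg.Geo.IsFieldSubalgebra 3 K) :
    IsField ↥K where
  exists_pair_ne := ⟨0, 1, by
    intro h
    have := congrArg Subtype.val h
    simp at this⟩
  mul_comm := fun x y => Subtype.ext (hK.comm x x.2 y y.2)
  mul_inv_cancel := fun {a} ha => by
    obtain ⟨y, hy, h⟩ := hK.inv a a.2 (fun h0 => ha (Subtype.ext h0))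
    exact ⟨⟨y, hy⟩, Subtype.ext h⟩

theorem c7_exists_algHom [Finite F] {K K₀ : Subalgebra F (M6 F)}
    (hK : Cfsg.Geo.IsFieldSubalgebra 3 K) (hK₀ : Cfsg.Geo.IsFieldSubalgebra 3 K₀) :
    Nonempty (↥K₀ →ₐ[F] ↥K) := by
  letI : Field ↥K := (c7_isField hK).toField
  letI : Field ↥K₀ := (c7_isField hK₀).toField
  letI : Algebra F ↥K := K.algebra
  letI : Algebra F ↥K₀ := K₀.algebra
  have h1 : Module.finrank F ↥K = 3 := hK.finrank_eq
  have h2 : Module.finrank F ↥K₀ = 3 := hK₀.finrank_eq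
  haveI : Finite ↥K := inferInstance
  exact FiniteField.nonempty_algHom_of_finrank_dvd (by rw [h1, h2])

theorem c7_exists_gen [Finite F] {K₀ : Subalgebra F (M6 F)}
    (hK₀ : Cfsg.Geo.IsFieldSubalgebra 3 K₀) :
    ∃ θ : ↥K₀, ∀ c₀ c₁ c₂ : F, c₀ • (1 : ↥K₀) + c₁ • θ + c₂ • θ ^ 2 = 0 →
      c₀ = 0 ∧ c₁ = 0 ∧ c₂ = 0 := by
  letI : Field ↥K₀ := (c7_isField hK₀).toField
  letI : Algebra F ↥K₀ := K₀.algebra
  have h2 : Module.finrank F ↥K₀ = 3 := hK₀.finrank_eq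
  haveI : Module.Finite F ↥K₀ := Module.finite_of_finrank_pos (by rw [h2]; norm_num)
  obtain ⟨α, hα⟩ := Field.exists_primitive_element F ↥K₀
  have hint : IsIntegral F α := IsIntegral.of_finite F α
  have hdeg : (minpoly F α).natDegree = 3 := by
    rw [← IntermediateField.adjoin.finrank hint, hα, IntermediateField.finrank_top', h2]
  refine ⟨α, fun c₀ c₁ c₂ h => ?_⟩
  by_contra hne
  have hp : (C c₀ + C c₁ * X + C c₂ * X ^ 2 : F[X]) ≠ 0 := by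
    intro h0
    apply hne
    have e0 := congrArg (fun p => Polynomial.coeff p 0) h0
    have e1 := congrArg (fun p => Polynomial.coeff p 1) h0
    have e2 := congrArg (fun p => Polynomial.coeff p 2) h0
    simp [coeff_X, coeff_C] at e0 e1 e2
    exact ⟨e0, e1, e2⟩
  have hev : aeval α (C c₀ + C c₁ * X + C c₂ * X ^ 2 : F[X]) = 0 := by
    simp only [map_add, map_mul, map_pow, aeval_C, aeval_X, Algebra.algebraMap_eq_smul_one,
      smul_mul_assoc, one_mul]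
    exact h
  have h1 := Polynomial.natDegree_le_natDegree (minpoly.degree_le_of_ne_zero F α hp hev)
  have hle : (C c₀ + C c₁ * X + C c₂ * X ^ 2 : F[X]).natDegree ≤ 2 := by compute_degree
  omega

/-- three independent powers span a `3`-dimensional subalgebra -/
theorem c7_span {K : Subalgebra F (M6 F)} (hK : Module.finrank F ↥K = 3) (θ : ↥K)
    (hind : ∀ c₀ c₁ c₂ : F, c₀ • (1 : ↥K) + c₁ • θ + c₂ • θ ^ 2 = 0 →
      c₀ = 0 ∧ c₁ = 0 ∧ c₂ = 0) (k : ↥K) :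
    ∃ c₀ c₁ c₂ : F, k = c₀ • (1 : ↥K) + c₁ • θ + c₂ • θ ^ 2 := by
  have hli : LinearIndependent F ![(1 : ↥K), θ, θ ^ 2] := by
    rw [Fintype.linearIndependent_iff]
    intro c hc
    rw [Fin.sum_univ_three] at hc
    obtain ⟨h0, h1, h2⟩ := hind (c 0) (c 1) (c 2) (by simpa using hc)
    intro i
    fin_cases i <;> assumption
  let b := basisOfLinearIndependentOfCardEqFinrank hli (by rw [hK]; rfl)
  have hb : ∀ i, b i = ![(1 : ↥K), θ, θ ^ 2] i := fun i => by simp [b]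
  have := b.sum_repr k
  rw [Fin.sum_univ_three, hb, hb, hb] at this
  exact ⟨b.repr k 0, b.repr k 1, b.repr k 2, by simpa using this.symm⟩

/-- `θ` generates `K` with cubic relation `θ³ = a₀ + a₁ θ + a₂ θ²`. -/
def C7Gen (K : Subalgebra F (M6 F)) (θ : M6 F) (a₀ a₁ a₂ : F) : Prop :=
  θ ∈ K ∧ θ ^ 3 = a₀ • (1 : M6 F) + a₁ • θ + a₂ • θ ^ 2 ∧
    (∀ c₀ c₁ c₂ : F, c₀ • (1 : M6 F) + c₁ • θ + c₂ • θ ^ 2 = 0 → c₀ = 0 ∧ c₁ = 0 ∧ c₂ = 0) ∧
    (∀ k ∈ K, ∃ c₀ c₁ c₂ : F, k = c₀ • (1 : M6 F) + c₁ • θ + c₂ • θ ^ 2)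

theorem c7_gen_of {K : Subalgebra F (M6 F)} (hK : Module.finrank F ↥K = 3) (θ : ↥K)
    (hind : ∀ c₀ c₁ c₂ : F, c₀ • (1 : ↥K) + c₁ • θ + c₂ • θ ^ 2 = 0 →
      c₀ = 0 ∧ c₁ = 0 ∧ c₂ = 0) (a₀ a₁ a₂ : F)
    (hrel : θ ^ 3 = a₀ • (1 : ↥K) + a₁ • θ + a₂ • θ ^ 2) :
    C7Gen K (θ : M6 F) a₀ a₁ a₂ := by
  refine ⟨θ.2, ?_, ?_, ?_⟩
  · have := congrArg Subtype.val hrel
    simpa using this
  · intro c₀ c₁ c₂ h
    apply hind
    apply Subtype.ext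
    simpa using h
  · intro k hk
    obtain ⟨c₀, c₁, c₂, h⟩ := c7_span hK θ hind ⟨k, hk⟩
    refine ⟨c₀, c₁, c₂, ?_⟩
    have := congrArg Subtype.val h
    simpa using this

theorem c7_exists_gens [Finite F] {K K₀ : Subalgebra F (M6 F)}
    (hK : Cfsg.Geo.IsFieldSubalgebra 3 K) (hK₀ : Cfsg.Geo.IsFieldSubalgebra 3 K₀) :
    ∃ (θ θ₀ : M6 F) (a₀ a₁ a₂ : F), C7Gen K θ a₀ a₁ a₂ ∧ C7Gen K₀ θ₀ a₀ a₁ a₂ := by
  obtain ⟨ψ⟩ := c7_exists_algHom hK hK₀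
  obtain ⟨θ₀, hind₀⟩ := c7_exists_gen hK₀
  obtain ⟨a₀, a₁, a₂, hrel₀⟩ := c7_span hK₀.finrank_eq θ₀ hind₀ (θ₀ ^ 3)
  have hψinj : ∀ x : ↥K₀, ψ x = 0 → x = 0 := by
    intro x hx
    by_contra hx0
    obtain ⟨y, hy⟩ := (c7_isField hK₀).mul_inv_cancel hx0
    have := congrArg ψ hy
    rw [map_mul, hx, zero_mul, map_one] at this
    have h01 := congrArg Subtype.val this
    simp at h01
  have hind : ∀ c₀ c₁ c₂ : F, c₀ • (1 : ↥K) + c₁ • ψ θ₀ + c₂ • ψ θ₀ ^ 2 = 0 →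
      c₀ = 0 ∧ c₁ = 0 ∧ c₂ = 0 := by
    intro c₀ c₁ c₂ h
    apply hind₀
    apply hψinj
    rw [map_add, map_add, map_smul, map_smul, map_smul, map_one, map_pow]
    exact h
  have hrel : ψ θ₀ ^ 3 = a₀ • (1 : ↥K) + a₁ • ψ θ₀ + a₂ • ψ θ₀ ^ 2 := by
    have := congrArg ψ hrel₀
    rw [map_add, map_add, map_smul, map_smul, map_smul, map_one, map_pow, map_pow] at this
    exact this
  exact ⟨(ψ θ₀ : M6 F), (θ₀ : M6 F), a₀, a₁, a₂, c7_gen_of hK.finrank_eq (ψ θ₀) hind a₀ a₁ a₂ hrel,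
    c7_gen_of hK₀.finrank_eq θ₀ hind₀ a₀ a₁ a₂ hrel₀⟩

/-! ### linear algebra: prescribing `B(u_i, v)` -/

/-- every linear functional is `B(·, v)`. -/
theorem c7_riesz (f : V6 F →ₗ[F] F) : ∃ v : V6 F, ∀ x, Cfsg.sympForm 3 F x v = f x := by
  classical
  let a : V6 F := fun r => f (Pi.single r 1)
  refine ⟨(-Matrix.J (Fin 3) F) *ᵥ a, fun x => ?_⟩
  rw [Cfsg.Agent.Helper13.sympForm_def, Matrix.mulVec_mulVec, Matrix.mul_neg, Matrix.J_squared,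
    neg_neg, Matrix.one_mulVec]
  have hx : x = ∑ r, x r • (Pi.single r (1 : F) : V6 F) := by
    ext s
    simp [Finset.sum_apply, Pi.single_apply]
  conv_rhs => rw [hx]
  rw [map_sum, dotProduct]
  refine Finset.sum_congr rfl fun r _ => ?_
  rw [map_smul, smul_eq_mul]

theorem c7_exists_vec (u : Fin 3 → V6 F) (hu : LinearIndependent F u) (c : Fin 3 → F) :
    ∃ v : V6 F, ∀ i, Cfsg.sympForm 3 F (u i) v = c i := by
  classical
  let f₀ : Submodule.span F (Set.range u) →ₗ[F] F :=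
    (Finsupp.linearCombination F c).comp hu.repr
  obtain ⟨f, hf⟩ := LinearMap.exists_extend f₀
  obtain ⟨v, hv⟩ := c7_riesz f
  refine ⟨v, fun i => ?_⟩
  rw [hv]
  have hmem : u i ∈ Submodule.span F (Set.range u) := Submodule.subset_span ⟨i, rfl⟩
  have h1 : f (u i) = f₀ ⟨u i, hmem⟩ := by
    rw [← hf]; rfl
  rw [h1]
  change Finsupp.linearCombination F c (hu.repr ⟨u i, hmem⟩) = c i
  rw [hu.repr_eq_single i ⟨u i, hmem⟩ rfl]
  simp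

/-! ### the canonical Gram and companion matrices -/

/-- Hankel matrix of `0,0,1,a₂,a₂²+a₁` -/
def c7H (a₁ a₂ : F) : Matrix (Fin 3) (Fin 3) F := !![0, 0, 1; 0, 1, a₂; 1, a₂, a₂ ^ 2 + a₁]

/-- the sequence `0,0,1,a₂,a₂²+a₁` -/
def c7hk (a₁ a₂ : F) (n : ℕ) : F :=
  if n = 0 then 0 else if n = 1 then 0 else if n = 2 then 1 else if n = 3 then a₂ else a₂ ^ 2 + a₁

theorem c7H_eq (a₁ a₂ : F) (i j : Fin 3) : c7H a₁ a₂ i j = c7hk a₁ a₂ ((i : ℕ) + (j : ℕ)) := by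
  fin_cases i <;> fin_cases j <;> simp [c7H, c7hk]

/-- its inverse -/
def c7Hi (a₁ a₂ : F) : Matrix (Fin 3) (Fin 3) F := !![-a₁, -a₂, 1; -a₂, 1, 0; 1, 0, 0]

theorem c7H_mul_Hi (a₁ a₂ : F) : c7H a₁ a₂ * c7Hi a₁ a₂ = 1 := by
  ext i j
  fin_cases i <;> fin_cases j <;>
    simp [c7H, c7Hi, Matrix.mul_apply, Fin.sum_univ_three] <;> ring1

/-- the Gram matrix -/
def c7G (a₁ a₂ : F) : M6 F := Matrix.fromBlocks 0 (c7H a₁ a₂) (-(c7H a₁ a₂)) 0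

theorem c7G_isUnit_det (a₁ a₂ : F) : IsUnit (c7G a₁ a₂).det := by
  apply Matrix.isUnit_det_of_right_inverse
    (B := Matrix.fromBlocks 0 (-(c7Hi a₁ a₂)) (c7Hi a₁ a₂) 0)
  rw [c7G, Matrix.fromBlocks_multiply]
  simp [c7H_mul_Hi, Matrix.fromBlocks_one]

/-- companion matrix -/
def c7C (a₀ a₁ a₂ : F) : Matrix (Fin 3) (Fin 3) F := !![0, 0, a₀; 1, 0, a₁; 0, 1, a₂]

/-- block companion matrix -/
def c7CC (a₀ a₁ a₂ : F) : M6 F := Matrix.fromBlocks (c7C a₀ a₁ a₂) 0 0 (c7C a₀ a₁ a₂)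

/-! ### the adapted basis -/

/-- the Gram matrix of the columns -/
theorem c7_gram_apply (y : Fin 3 ⊕ Fin 3 → V6 F) (c d : Fin 3 ⊕ Fin 3) :
    ((Matrix.of fun r c => y c r : M6 F)ᵀ * Matrix.J (Fin 3) F *
      (Matrix.of fun r c => y c r : M6 F)) c d = Cfsg.sympForm 3 F (y c) (y d) := by
  rw [Cfsg.Agent.Helper13.sympForm_def, Matrix.mul_assoc, Matrix.mul_apply, dotProduct]
  refine Finset.sum_congr rfl fun r _ => ?_
  rfl

/-- Gram matrix from the form values -/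
theorem c7_gram_eq (y : Fin 3 ⊕ Fin 3 → V6 F) (a₁ a₂ : F)
    (h00 : ∀ i j, Cfsg.sympForm 3 F (y (Sum.inl i)) (y (Sum.inl j)) = 0)
    (h11 : ∀ i j, Cfsg.sympForm 3 F (y (Sum.inr i)) (y (Sum.inr j)) = 0)
    (h01 : ∀ i j, Cfsg.sympForm 3 F (y (Sum.inl i)) (y (Sum.inr j)) = c7H a₁ a₂ i j) :
    (Matrix.of fun r c => y c r : M6 F)ᵀ * Matrix.J (Fin 3) F *
      (Matrix.of fun r c => y c r : M6 F) = c7G a₁ a₂ := by
  ext c d
  rw [c7_gram_apply]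
  rcases c with i | i <;> rcases d with j | j
  · rw [h00]; rfl
  · rw [h01]; rfl
  · rw [Cfsg.Agent.Helper13.sympForm_swap, h01]
    have hsymm : c7H a₁ a₂ j i = c7H a₁ a₂ i j := by
      fin_cases i <;> fin_cases j <;> simp [c7H]
    rw [hsymm]; rfl
  · rw [h11]; rfl

/-- the matrix of `θ` from its action on the columns -/
theorem c7_comp_eq (θ : M6 F) (y : Fin 3 ⊕ Fin 3 → V6 F) (a₀ a₁ a₂ : F)
    (hl : ∀ j, θ *ᵥ y (Sum.inl j) = ∑ i : Fin 3, c7C a₀ a₁ a₂ i j • y (Sum.inl i))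
    (hr : ∀ j, θ *ᵥ y (Sum.inr j) = ∑ i : Fin 3, c7C a₀ a₁ a₂ i j • y (Sum.inr i)) :
    θ * (Matrix.of fun r c => y c r : M6 F) = (Matrix.of fun r c => y c r : M6 F) * c7CC a₀ a₁ a₂ := by
  have hl' : ∀ r c, (θ * (Matrix.of fun r c => y c r : M6 F)) r c = (θ *ᵥ y c) r := fun r c => rfl
  ext r c
  rw [hl', Matrix.mul_apply, Fintype.sum_sum_type]
  rcases c with j | j
  · rw [hl]
    simp only [c7CC, Matrix.fromBlocks_apply₁₁, Matrix.fromBlocks_apply₂₁, Matrix.zero_apply,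
      mul_zero, Finset.sum_const_zero, add_zero, Matrix.of_apply, Finset.sum_apply, Pi.smul_apply,
      smul_eq_mul]
    refine Finset.sum_congr rfl fun i _ => ?_
    ring
  · rw [hr]
    simp only [c7CC, Matrix.fromBlocks_apply₁₂, Matrix.fromBlocks_apply₂₂, Matrix.zero_apply,
      mul_zero, Finset.sum_const_zero, zero_add, Matrix.of_apply, Finset.sum_apply, Pi.smul_apply,
      smul_eq_mul]
    refine Finset.sum_congr rfl fun i _ => ?_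
    ring

theorem c7_pow_mem {K : Subalgebra F (M6 F)} {θ : M6 F} (hθ : θ ∈ K) (n : ℕ) : θ ^ n ∈ K :=
  K.pow_mem hθ n

theorem c7_iso (h2 : (2 : F) ≠ 0) {K : Subalgebra F (M6 F)}
    (hsa : Cfsg.Geo.IsSelfAdjointFor (Cfsg.sympForm 3 F) K) {k : M6 F} (hk : k ∈ K) (v : V6 F) :
    Cfsg.sympForm 3 F v (k *ᵥ v) = 0 := by
  have h1 := hsa k hk v v
  rw [Cfsg.Agent.Helper13.sympForm_swap] at h1
  have h3 : (2 : F) * Cfsg.sympForm 3 F v (k *ᵥ v) = 0 := by linear_combination -h1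
  rcases mul_eq_zero.1 h3 with h | h
  · exact (h2 h).elim
  · exact h

/-- the powers `θ^i v` -/
theorem c7_step {θ : M6 F} {a₀ a₁ a₂ : F}
    (hrel : θ ^ 3 = a₀ • (1 : M6 F) + a₁ • θ + a₂ • θ ^ 2) (v : V6 F) :
    θ *ᵥ ((θ ^ 2) *ᵥ v) = a₀ • v + a₁ • (θ *ᵥ v) + a₂ • ((θ ^ 2) *ᵥ v) := by
  rw [Matrix.mulVec_mulVec, ← pow_succ', hrel, Matrix.add_mulVec, Matrix.add_mulVec,
    Matrix.smul_mulVec, Matrix.smul_mulVec, Matrix.smul_mulVec, Matrix.one_mulVec]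

theorem c7_basis (h2 : (2 : F) ≠ 0) {K : Subalgebra F (M6 F)}
    (hinv : ∀ x ∈ K, x ≠ 0 → ∃ y ∈ K, x * y = 1)
    (hsa : Cfsg.Geo.IsSelfAdjointFor (Cfsg.sympForm 3 F) K) {θ : M6 F} {a₀ a₁ a₂ : F}
    (hθ : C7Gen K θ a₀ a₁ a₂) :
    ∃ Y : M6 F, Yᵀ * Matrix.J (Fin 3) F * Y = c7G a₁ a₂ ∧ θ * Y = Y * c7CC a₀ a₁ a₂ := by
  classical
  obtain ⟨hθK, hrel, hind, hspan⟩ := hθ
  have hθ2 : θ ^ 2 ∈ K := K.pow_mem hθK 2
  -- `v₁`
  set v₁ : V6 F := Pi.single (Sum.inl 0) 1 with hv₁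
  have hv₁0 : v₁ ≠ 0 := by
    intro h
    have := congrFun h (Sum.inl 0)
    simp [hv₁] at this
  let u : Fin 3 → V6 F := ![v₁, θ *ᵥ v₁, (θ ^ 2) *ᵥ v₁]
  have hu : LinearIndependent F u := by
    rw [Fintype.linearIndependent_iff]
    intro c hc
    rw [Fin.sum_univ_three] at hc
    have hc' : (c 0 • (1 : M6 F) + c 1 • θ + c 2 • θ ^ 2) *ᵥ v₁ = 0 := by
      rw [Matrix.add_mulVec, Matrix.add_mulVec, Matrix.smul_mulVec, Matrix.smul_mulVec,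
        Matrix.smul_mulVec, Matrix.one_mulVec]
      simpa [u] using hc
    have hp0 : c 0 • (1 : M6 F) + c 1 • θ + c 2 • θ ^ 2 = 0 := by
      by_contra hne
      have hpK : c 0 • (1 : M6 F) + c 1 • θ + c 2 • θ ^ 2 ∈ K :=
        K.add_mem (K.add_mem (K.smul_mem K.one_mem _) (K.smul_mem hθK _)) (K.smul_mem hθ2 _)
      obtain ⟨y, _, hy⟩ := hinv _ hpK hne
      have hy' := mul_eq_one_comm.1 hy
      apply hv₁0
      calc v₁ = (y * (c 0 • (1 : M6 F) + c 1 • θ + c 2 • θ ^ 2)) *ᵥ v₁ := by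
            rw [hy', Matrix.one_mulVec]
        _ = 0 := by rw [← Matrix.mulVec_mulVec, hc', Matrix.mulVec_zero]
    obtain ⟨h0, h1, h2'⟩ := hind _ _ _ hp0
    intro i
    fin_cases i <;> assumption
  obtain ⟨v₂, hv₂⟩ := c7_exists_vec u hu ![0, 0, 1]
  have e0 : Cfsg.sympForm 3 F v₁ v₂ = 0 := by simpa [u] using hv₂ 0
  have e1 : Cfsg.sympForm 3 F (θ *ᵥ v₁) v₂ = 0 := by simpa [u] using hv₂ 1
  have e2 : Cfsg.sympForm 3 F ((θ ^ 2) *ᵥ v₁) v₂ = 1 := by simpa [u] using hv₂ 2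
  have e3 : Cfsg.sympForm 3 F ((θ ^ 3) *ᵥ v₁) v₂ = a₂ := by
    rw [hrel, Matrix.add_mulVec, Matrix.add_mulVec, Matrix.smul_mulVec, Matrix.smul_mulVec,
      Matrix.smul_mulVec, Matrix.one_mulVec, Cfsg.Agent.Helper13.sympForm_add_left,
      Cfsg.Agent.Helper13.sympForm_add_left, Cfsg.Agent.Helper13.sympForm_smul_left,
      Cfsg.Agent.Helper13.sympForm_smul_left, Cfsg.Agent.Helper13.sympForm_smul_left, e0, e1, e2]
    ring
  have e4 : Cfsg.sympForm 3 F ((θ ^ 4) *ᵥ v₁) v₂ = a₂ ^ 2 + a₁ := by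
    have h4 : θ ^ 4 = a₀ • θ + a₁ • θ ^ 2 + a₂ • θ ^ 3 := by
      have h43 : θ ^ 4 = θ ^ 3 * θ := pow_succ θ 3
      have h32 : θ ^ 3 = θ ^ 2 * θ := pow_succ θ 2
      have h21 : θ ^ 2 = θ * θ := pow_two θ
      rw [h43]
      conv_lhs => rw [hrel]
      rw [Matrix.add_mul, Matrix.add_mul, Matrix.smul_mul, Matrix.smul_mul, Matrix.smul_mul,
        Matrix.one_mul, ← h21, ← h32]
    rw [h4, Matrix.add_mulVec, Matrix.add_mulVec, Matrix.smul_mulVec, Matrix.smul_mulVec,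
      Matrix.smul_mulVec, Cfsg.Agent.Helper13.sympForm_add_left,
      Cfsg.Agent.Helper13.sympForm_add_left, Cfsg.Agent.Helper13.sympForm_smul_left,
      Cfsg.Agent.Helper13.sympForm_smul_left, Cfsg.Agent.Helper13.sympForm_smul_left, e1, e2, e3]
    ring
  have hE : ∀ n, n ≤ 4 → Cfsg.sympForm 3 F ((θ ^ n) *ᵥ v₁) v₂ = c7hk a₁ a₂ n := by
    intro n hn
    interval_cases n
    · simpa [c7hk] using e0
    · simpa [c7hk] using e1
    · simpa [c7hk] using e2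
    · simpa [c7hk] using e3
    · simpa [c7hk] using e4
  -- general form values
  have hpair : ∀ (i j : ℕ) (x z : V6 F), Cfsg.sympForm 3 F ((θ ^ i) *ᵥ x) ((θ ^ j) *ᵥ z)
      = Cfsg.sympForm 3 F ((θ ^ (i + j)) *ᵥ x) z := by
    intro i j x z
    rw [← hsa _ (K.pow_mem hθK j), Matrix.mulVec_mulVec, ← pow_add, add_comm]
  have hself : ∀ (i j : ℕ) (x : V6 F), Cfsg.sympForm 3 F ((θ ^ i) *ᵥ x) ((θ ^ j) *ᵥ x) = 0 := by
    intro i j x
    rw [hsa _ (K.pow_mem hθK i), Matrix.mulVec_mulVec, ← pow_add]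
    exact c7_iso h2 hsa (K.pow_mem hθK _) x
  -- the basis
  let y : Fin 3 ⊕ Fin 3 → V6 F :=
    Sum.elim (fun i => (θ ^ (i : ℕ)) *ᵥ v₁) (fun i => (θ ^ (i : ℕ)) *ᵥ v₂)
  have hstep : ∀ v : V6 F, ∀ j : Fin 3, θ *ᵥ ((θ ^ (j : ℕ)) *ᵥ v)
      = ∑ i : Fin 3, c7C a₀ a₁ a₂ i j • ((θ ^ (i : ℕ)) *ᵥ v) := by
    intro v j
    rw [Fin.sum_univ_three]
    fin_cases j
    · simp [c7C]
    · simp [c7C, Matrix.mulVec_mulVec, pow_two]
    · simp only [c7C]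
      have := c7_step hrel v
      simpa using this
  refine ⟨Matrix.of fun r c => y c r, c7_gram_eq y a₁ a₂ ?_ ?_ ?_, c7_comp_eq θ y a₀ a₁ a₂ ?_ ?_⟩
  · intro i j
    exact hself _ _ _
  · intro i j
    exact hself _ _ _
  · intro i j
    change Cfsg.sympForm 3 F ((θ ^ (i : ℕ)) *ᵥ v₁) ((θ ^ (j : ℕ)) *ᵥ v₂) = _
    rw [hpair, c7H_eq]
    have hi := i.isLt
    have hj := j.isLt
    exact hE _ (by omega)
  · intro j
    exact hstep v₁ j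
  · intro j
    exact hstep v₂ j

/-! ### the conjugating isometry -/

theorem c7_conj (Y Y₀ θ θ₀ : M6 F) (a₀ a₁ a₂ : F)
    (hG : Yᵀ * Matrix.J (Fin 3) F * Y = c7G a₁ a₂) (hC : θ * Y = Y * c7CC a₀ a₁ a₂)
    (hG₀ : Y₀ᵀ * Matrix.J (Fin 3) F * Y₀ = c7G a₁ a₂) (hC₀ : θ₀ * Y₀ = Y₀ * c7CC a₀ a₁ a₂) :
    ∃ X : M6 F, Xᵀ * Matrix.J (Fin 3) F * X = Matrix.J (Fin 3) F ∧ X * θ = θ₀ * X := by
  have hdet : IsUnit Y.det := by
    have h := c7G_isUnit_det a₁ a₂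
    rw [← hG, Matrix.det_mul] at h
    exact isUnit_of_mul_isUnit_right h
  have hY1 : Y * Y⁻¹ = 1 := Matrix.mul_nonsing_inv _ hdet
  have hY2 : Y⁻¹ * Y = 1 := Matrix.nonsing_inv_mul _ hdet
  refine ⟨Y₀ * Y⁻¹, ?_, ?_⟩
  · calc (Y₀ * Y⁻¹)ᵀ * Matrix.J (Fin 3) F * (Y₀ * Y⁻¹)
        = (Y⁻¹)ᵀ * (Y₀ᵀ * Matrix.J (Fin 3) F * Y₀) * Y⁻¹ := by
          rw [Matrix.transpose_mul]; simp only [Matrix.mul_assoc]
      _ = (Y⁻¹)ᵀ * (Yᵀ * Matrix.J (Fin 3) F * Y) * Y⁻¹ := by rw [hG₀, hG]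
      _ = (Y * Y⁻¹)ᵀ * Matrix.J (Fin 3) F * (Y * Y⁻¹) := by
          rw [Matrix.transpose_mul]; simp only [Matrix.mul_assoc]
      _ = Matrix.J (Fin 3) F := by rw [hY1, Matrix.transpose_one, Matrix.one_mul, Matrix.mul_one]
  · have h1 : Y⁻¹ * θ = c7CC a₀ a₁ a₂ * Y⁻¹ := by
      calc Y⁻¹ * θ = Y⁻¹ * (θ * Y) * Y⁻¹ := by
            rw [Matrix.mul_assoc, Matrix.mul_assoc, hY1, Matrix.mul_one]
        _ = c7CC a₀ a₁ a₂ * Y⁻¹ := by
            rw [hC, ← Matrix.mul_assoc Y⁻¹, hY2, Matrix.one_mul]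
    rw [Matrix.mul_assoc, h1, ← Matrix.mul_assoc, ← hC₀, Matrix.mul_assoc]

/-- conjugation by an invertible matrix normalising `K` -/
theorem c7_norm_iff {K : Subalgebra F (M6 F)} (hfin : Module.finrank F ↥K = 3) (g gi : M6 F)
    (h1 : g * gi = 1) (h2 : gi * g = 1) (hn : ∀ k ∈ K, ∃ k' ∈ K, g * k = k' * g) (k : M6 F) :
    k ∈ K ↔ g * k * gi ∈ K := by
  have hmem : ∀ k ∈ K, g * k * gi ∈ K := by
    intro k hk
    obtain ⟨k', hk', h⟩ := hn k hk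
    rw [h, Matrix.mul_assoc, h1, Matrix.mul_one]
    exact hk'
  refine ⟨hmem k, fun hk => ?_⟩
  haveI : Module.Finite F ↥K := Module.finite_of_finrank_pos (by rw [hfin]; norm_num)
  let T : ↥K →ₗ[F] ↥K :=
    { toFun := fun k => ⟨g * (k : M6 F) * gi, hmem k k.2⟩
      map_add' := fun a b => by
        apply Subtype.ext
        simp [Matrix.mul_add, Matrix.add_mul]
      map_smul' := fun c a => by
        apply Subtype.ext
        simp [Matrix.mul_smul, Matrix.smul_mul] }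
  have hinj : Function.Injective T := by
    intro a b hab
    have h := congrArg Subtype.val hab
    change g * (a : M6 F) * gi = g * (b : M6 F) * gi at h
    apply Subtype.ext
    calc (a : M6 F) = gi * (g * (a : M6 F) * gi) * g := by
          rw [← Matrix.mul_assoc, ← Matrix.mul_assoc, h2, Matrix.one_mul, Matrix.mul_assoc, h2,
            Matrix.mul_one]
      _ = gi * (g * (b : M6 F) * gi) * g := by rw [h]
      _ = (b : M6 F) := by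
          rw [← Matrix.mul_assoc, ← Matrix.mul_assoc, h2, Matrix.one_mul, Matrix.mul_assoc, h2,
            Matrix.mul_one]
  obtain ⟨k'', hk''⟩ := LinearMap.surjective_of_injective hinj ⟨g * k * gi, hk⟩
  have h := congrArg Subtype.val hk''
  change g * (k'' : M6 F) * gi = g * k * gi at h
  have : (k'' : M6 F) = k := by
    calc (k'' : M6 F) = gi * (g * (k'' : M6 F) * gi) * g := by
          rw [← Matrix.mul_assoc, ← Matrix.mul_assoc, h2, Matrix.one_mul, Matrix.mul_assoc, h2,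
            Matrix.mul_one]
      _ = gi * (g * k * gi) * g := by rw [h]
      _ = k := by
          rw [← Matrix.mul_assoc, ← Matrix.mul_assoc, h2, Matrix.one_mul, Matrix.mul_assoc, h2,
            Matrix.mul_one]
  rw [← this]
  exact k''.2

/-- transport of the generated subalgebra -/
theorem c7_transport {K K₀ : Subalgebra F (M6 F)} {θ θ₀ : M6 F} {a₀ a₁ a₂ : F}
    (hθ : C7Gen K θ a₀ a₁ a₂) (hθ₀ : C7Gen K₀ θ₀ a₀ a₁ a₂) (X Xi : M6 F)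
    (h1 : X * Xi = 1) (h2 : Xi * X = 1) (hX : X * θ = θ₀ * X) (k : M6 F) :
    k ∈ K ↔ X * k * Xi ∈ K₀ := by
  have hθ' : X * θ * Xi = θ₀ := by rw [hX, Matrix.mul_assoc, h1, Matrix.mul_one]
  have hθ2 : X * θ ^ 2 * Xi = θ₀ ^ 2 := by
    rw [pow_two, pow_two, ← Matrix.mul_assoc, hX, Matrix.mul_assoc θ₀, hX, Matrix.mul_assoc,
      Matrix.mul_assoc, h1, Matrix.mul_one]
  have hcomb : ∀ c₀ c₁ c₂ : F, X * (c₀ • (1 : M6 F) + c₁ • θ + c₂ • θ ^ 2) * Xi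
      = c₀ • (1 : M6 F) + c₁ • θ₀ + c₂ • θ₀ ^ 2 := by
    intro c₀ c₁ c₂
    rw [Matrix.mul_add, Matrix.mul_add, Matrix.add_mul, Matrix.add_mul, Matrix.mul_smul,
      Matrix.mul_smul, Matrix.mul_smul, Matrix.smul_mul, Matrix.smul_mul, Matrix.smul_mul, hθ',
      hθ2, Matrix.mul_one, h1]
  have hin₀ : ∀ c₀ c₁ c₂ : F, c₀ • (1 : M6 F) + c₁ • θ₀ + c₂ • θ₀ ^ 2 ∈ K₀ := fun c₀ c₁ c₂ =>
    K₀.add_mem (K₀.add_mem (K₀.smul_mem K₀.one_mem _) (K₀.smul_mem hθ₀.1 _))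
      (K₀.smul_mem (K₀.pow_mem hθ₀.1 2) _)
  have hin : ∀ c₀ c₁ c₂ : F, c₀ • (1 : M6 F) + c₁ • θ + c₂ • θ ^ 2 ∈ K := fun c₀ c₁ c₂ =>
    K.add_mem (K.add_mem (K.smul_mem K.one_mem _) (K.smul_mem hθ.1 _))
      (K.smul_mem (K.pow_mem hθ.1 2) _)
  constructor
  · intro hk
    obtain ⟨c₀, c₁, c₂, rfl⟩ := hθ.2.2.2 k hk
    rw [hcomb]
    exact hin₀ _ _ _
  · intro hk
    obtain ⟨c₀, c₁, c₂, h⟩ := hθ₀.2.2.2 _ hk
    rw [← hcomb] at h
    have : k = c₀ • (1 : M6 F) + c₁ • θ + c₂ • θ ^ 2 := by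
      calc k = Xi * (X * k * Xi) * X := by
            rw [← Matrix.mul_assoc, ← Matrix.mul_assoc, h2, Matrix.one_mul, Matrix.mul_assoc, h2,
              Matrix.mul_one]
        _ = Xi * (X * (c₀ • (1 : M6 F) + c₁ • θ + c₂ • θ ^ 2) * Xi) * X := by rw [h]
        _ = c₀ • (1 : M6 F) + c₁ • θ + c₂ • θ ^ 2 := by
            rw [← Matrix.mul_assoc, ← Matrix.mul_assoc, h2, Matrix.one_mul, Matrix.mul_assoc, h2,
              Matrix.mul_one]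
    rw [this]
    exact hin _ _ _

/-! ### the main theorem -/

/-- (7C) -/
theorem conj_into_normK [Fintype F] (h2 : (2 : F) ≠ 0) (K₀ : Subalgebra F (M6 F)) (hK₀ : IsCubic K₀)
    (g : Sp6 F) (h : NormCubic (g : M6 F)) : ∃ x : Sp6 F, x * g * x⁻¹ ∈ normK K₀ := by
  obtain ⟨K, hK, hn⟩ := h
  obtain ⟨θ, θ₀, a₀, a₁, a₂, hθ, hθ₀⟩ := c7_exists_gens hK.1 hK₀.1
  obtain ⟨Y, hG, hC⟩ := c7_basis h2 hK.1.inv hK.2 hθ
  obtain ⟨Y₀, hG₀, hC₀⟩ := c7_basis h2 hK₀.1.inv hK₀.2 hθ₀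
  obtain ⟨X, hX, hXθ⟩ := c7_conj Y Y₀ θ θ₀ a₀ a₁ a₂ hG hC hG₀ hC₀
  let x : Sp6 F := ⟨X, SymplecticGroup.mem_iff'.2 hX⟩
  have hx1 : X * ((x⁻¹ : Sp6 F) : M6 F) = 1 := coe_mul_inv_Sp6 x
  have hx2 : ((x⁻¹ : Sp6 F) : M6 F) * X = 1 := coe_inv_mul_Sp6 x
  have hg1 : (g : M6 F) * ((g⁻¹ : Sp6 F) : M6 F) = 1 := coe_mul_inv_Sp6 g
  have hg2 : ((g⁻¹ : Sp6 F) : M6 F) * (g : M6 F) = 1 := coe_inv_mul_Sp6 g
  set Xi : M6 F := ((x⁻¹ : Sp6 F) : M6 F) with hXi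
  set gi : M6 F := ((g⁻¹ : Sp6 F) : M6 F) with hgi
  have hN1 := c7_norm_iff hK.1.finrank_eq (g : M6 F) gi hg1 hg2 hn
  have hN2 := c7_transport hθ hθ₀ X Xi hx1 hx2 hXθ
  refine ⟨x, ?_⟩
  rw [mem_normK]
  intro k
  have e1 : ((x * g * x⁻¹ : Sp6 F) : M6 F) = X * (g : M6 F) * Xi := rfl
  have e2 : (((x * g * x⁻¹)⁻¹ : Sp6 F) : M6 F) = X * gi * Xi := by
    have : (x * g * x⁻¹)⁻¹ = x * g⁻¹ * x⁻¹ := by group
    rw [this]; rfl
  rw [e1, e2]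
  have hk : k = X * (Xi * k * X) * Xi := by
    rw [← Matrix.mul_assoc, ← Matrix.mul_assoc, hx1, Matrix.one_mul, Matrix.mul_assoc, hx1,
      Matrix.mul_one]
  have e3 : X * (g : M6 F) * Xi * k * (X * gi * Xi) = X * ((g : M6 F) * (Xi * k * X) * gi) * Xi := by
    simp only [Matrix.mul_assoc]
  rw [e3, ← hN2, ← hN1]
  conv_lhs => rw [hk]
  exact (hN2 _).symm

end Cfsg.Agent.Helper80.Cov2.P7
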