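import Mathlib

/-!
# Dihedral Sylow 2-subgroups: odd automorphisms are trivial, generation by involutions

Consequences used for the simplicity of the 2-fusion system of `PSL₂(q)`.
-/

set_option autoImplicit false

namespace Cfsg.Agent.Helper80.DihSylow

open DihedralGroup

section Aut

variable {j : ℕ}

/-- In `ZMod (2 ^ j)`, an element with an odd power equal to one is one. -/
theorem eq_one_of_odd_pow_eq_one {a : ZMod (2 ^ j)} {n : ℕ} (hn : Odd n) (h : a ^ n = 1) :
    a = 1 := by
  have hnpos : 0 < n := hn.pos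
  have hu : IsUnit a := by
    apply IsUnit.of_pow_eq_one h (by omega)
  obtain ⟨u, rfl⟩ := hu
  have h' : u ^ n = 1 := by
    apply Units.ext
    simpa using h
  have h1 : orderOf u ∣ n := orderOf_dvd_of_pow_eq_one h'
  have : NeZero (2 ^ j) := ⟨by positivity⟩
  have h2 : orderOf u ∣ Fintype.card (ZMod (2 ^ j))ˣ := orderOf_dvd_card
  rw [ZMod.card_units_eq_totient] at h2
  have h3 : orderOf u = 1 := by
    rcases Nat.eq_zero_or_pos j with hj | hj
    · subst hj
      simpa using h2
    · rw [Nat.totient_prime_pow Nat.prime_two hj] at h2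
      have h4 : orderOf u ∣ 2 ^ (j - 1) := by simpa using h2
      obtain ⟨t, -, ht⟩ := (Nat.dvd_prime_pow Nat.prime_two).1 h4
      rw [ht] at h1 ⊢
      rcases Nat.eq_zero_or_pos t with h0 | h0
      · simp [h0]
      · exfalso
        have : 2 ∣ n := dvd_trans (dvd_pow_self 2 (by omega)) h1
        rcases hn with ⟨c, hc⟩
        omega
  have := orderOf_eq_one_iff.1 h3
  simp [this]

/-- In `ZMod (2 ^ j)`, an element killed by an odd number is zero. -/
theorem eq_zero_of_odd_mul_eq_zero {b : ZMod (2 ^ j)} {n : ℕ} (hn : Odd n)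
    (h : (n : ZMod (2 ^ j)) * b = 0) : b = 0 := by
  have hc : Nat.Coprime n (2 ^ j) := by
    apply Nat.Coprime.pow_right
    exact hn.coprime_two_right
  have hu : IsUnit (n : ZMod (2 ^ j)) := by
    rw [← ZMod.coe_unitOfCoprime n hc]
    exact Units.isUnit _
  exact (hu.mul_right_eq_zero).1 h

/-- An automorphism of the dihedral group of order `2 * 2 ^ j ≥ 8` of odd order is trivial. -/
theorem aut_eq_one_of_odd (hj : 2 ≤ j) (φ : MulAut (DihedralGroup (2 ^ j))) {n : ℕ}
    (hn : Odd n) (hφ : φ ^ n = 1) (x : DihedralGroup (2 ^ j)) : φ x = x := by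
  have hk : 3 ≤ 2 ^ j := by
    calc 3 ≤ 2 ^ 2 := by norm_num
      _ ≤ 2 ^ j := Nat.pow_le_pow_right (by norm_num) hj
  have : NeZero (2 ^ j) := ⟨by positivity⟩
  -- image of `r 1`
  obtain ⟨a, ha⟩ : ∃ a, φ (r 1) = r a := by
    cases hv : φ (r 1) with
    | r a => exact ⟨a, rfl⟩
    | sr a =>
      exfalso
      have h1 : orderOf (φ (r 1)) = 2 ^ j := by
        rw [MulEquiv.orderOf_eq, orderOf_r_one]
      rw [hv, orderOf_sr] at h1
      omega
  have hr : ∀ i : ZMod (2 ^ j), φ (r i) = r (a * i) := by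
    intro i
    have : r i = (r 1 : DihedralGroup (2 ^ j)) ^ i.val := by
      rw [r_one_pow, ZMod.natCast_zmod_val]
    rw [this, map_pow, ha, r_pow, ZMod.natCast_zmod_val]
  have hrn : ∀ m : ℕ, ∀ i : ZMod (2 ^ j), (φ ^ m) (r i) = r (a ^ m * i) := by
    intro m
    induction m with
    | zero => intro i; simp
    | succ m ih =>
      intro i
      rw [pow_succ', MulAut.mul_apply, ih, hr]
      congr 1
      ring
  have ha1 : a = 1 := by
    have h1 := hrn n 1
    rw [hφ, MulAut.one_apply, mul_one] at h1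
    have h2 : (1 : ZMod (2 ^ j)) = a ^ n := by
      injection h1
    exact eq_one_of_odd_pow_eq_one hn h2.symm
  subst ha1
  have hr' : ∀ i : ZMod (2 ^ j), φ (r i) = r i := by
    intro i; rw [hr, one_mul]
  -- image of `sr 0`
  obtain ⟨b, hb⟩ : ∃ b, φ (sr 0) = sr b := by
    cases hv : φ (sr 0) with
    | sr b => exact ⟨b, rfl⟩
    | r c =>
      exfalso
      obtain ⟨y, hy⟩ := φ.surjective (sr 0)
      cases y with
      | r i => rw [hr'] at hy; cases hy
      | sr i =>
        have : (sr i : DihedralGroup (2 ^ j)) = sr 0 * r i := by rw [sr_mul_r, zero_add]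
        rw [this, map_mul, hv, hr', r_mul_r] at hy
        cases hy
  have hs : ∀ i : ZMod (2 ^ j), φ (sr i) = sr (b + i) := by
    intro i
    have : (sr i : DihedralGroup (2 ^ j)) = sr 0 * r i := by rw [sr_mul_r, zero_add]
    rw [this, map_mul, hb, hr', sr_mul_r]
  have hsn : ∀ m : ℕ, ∀ i : ZMod (2 ^ j), (φ ^ m) (sr i) = sr ((m : ZMod (2 ^ j)) * b + i) := by
    intro m
    induction m with
    | zero => intro i; simp
    | succ m ih =>
      intro i
      rw [pow_succ', MulAut.mul_apply, ih, hs]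
      congr 1
      push_cast
      ring
  have hb0 : b = 0 := by
    have h1 := hsn n 0
    rw [hφ, MulAut.one_apply, add_zero] at h1
    have h2 : (0 : ZMod (2 ^ j)) = (n : ZMod (2 ^ j)) * b := by
      injection h1
    exact eq_zero_of_odd_mul_eq_zero hn h2.symm
  subst hb0
  cases x with
  | r i => exact hr' i
  | sr i => rw [hs, zero_add]

end Aut

/-- Every element of a dihedral group is a product of elements of order two. -/
theorem mem_closure_involutions {k : ℕ} (x : DihedralGroup k) :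
    x ∈ Subgroup.closure {y : DihedralGroup k | orderOf y = 2} := by
  have hs : ∀ i : ZMod k, (sr i : DihedralGroup k) ∈
      Subgroup.closure {y : DihedralGroup k | orderOf y = 2} :=
    fun i => Subgroup.subset_closure (orderOf_sr i)
  cases x with
  | sr i => exact hs i
  | r i =>
    have : (r i : DihedralGroup k) = sr 0 * sr i := by rw [sr_mul_sr, sub_zero]
    rw [this]
    exact mul_mem (hs 0) (hs i)

section Abstract

variable {G : Type*} [Group G]

/-- A group isomorphic to a dihedral group of order `2 * 2 ^ j ≥ 8` has no nontrivial automorphism of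
odd order. -/
theorem aut_eq_one_of_odd' {S : Type*} [Group S] {j : ℕ} (hj : 2 ≤ j)
    (e : S ≃* DihedralGroup (2 ^ j)) (ψ : MulAut S) {n : ℕ} (hn : Odd n) (hψ : ψ ^ n = 1)
    (x : S) : ψ x = x := by
  have h1 : (MulAut.congr e ψ) ^ n = 1 := by
    rw [← map_pow, hψ, map_one]
  have h2 := aut_eq_one_of_odd hj (MulAut.congr e ψ) hn h1 (e x)
  rw [MulAut.congr_apply] at h2
  have h3 : e (ψ (e.symm (e x))) = e x := h2
  rw [MulEquiv.symm_apply_apply] at h3
  exact e.injective h3

/-- An element of `2`-power order normalizing a Sylow `2`-subgroup lies in it. -/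
theorem mem_sylow_of_pow_two [Finite G] (S : Sylow 2 G) {u : G}
    (hu : u ∈ Subgroup.normalizer ((S : Subgroup G) : Set G)) {a : ℕ} (hua : u ^ (2 ^ a) = 1) :
    u ∈ (S : Subgroup G) := by
  have hZ : IsPGroup 2 (Subgroup.zpowers u) := by
    have h1 : orderOf u ∣ 2 ^ a := orderOf_dvd_of_pow_eq_one hua
    obtain ⟨b, -, hb⟩ := (Nat.dvd_prime_pow Nat.prime_two).1 h1
    apply IsPGroup.of_card (n := b)
    rw [Nat.card_zpowers, hb]
  have hle : Subgroup.zpowers u ≤ Subgroup.normalizer ((S : Subgroup G) : Set G) := by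
    rw [Subgroup.zpowers_le]
    exact hu
  have hP : IsPGroup 2 ((S : Subgroup G) ⊔ Subgroup.zpowers u : Subgroup G) :=
    IsPGroup.to_sup_of_normal_left' S.isPGroup' hZ hle
  have hEq := S.is_maximal' hP le_sup_left
  have : u ∈ ((S : Subgroup G) ⊔ Subgroup.zpowers u : Subgroup G) :=
    (le_sup_right : Subgroup.zpowers u ≤ _) (Subgroup.mem_zpowers u)
  rw [hEq] at this
  exact this

/-- If a Sylow `2`-subgroup `S` is dihedral of order at least `8`, then every element of `N_G(S)` acts
on `S` as an element of `S`. -/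
theorem selfNorm_of_dihedral [Finite G] (S : Sylow 2 G) {j : ℕ} (hj : 2 ≤ j)
    (e : (S : Subgroup G) ≃* DihedralGroup (2 ^ j)) (g : G)
    (hg : g ∈ Subgroup.normalizer ((S : Subgroup G) : Set G)) :
    ∃ s ∈ (S : Subgroup G), ∀ x ∈ (S : Subgroup G), g * x * g⁻¹ = s * x * s⁻¹ := by
  have ho : orderOf g ≠ 0 := (orderOf_pos g).ne'
  obtain ⟨a, m, hm, hom⟩ := Nat.exists_eq_two_pow_mul_odd ho
  -- the `2`-part
  have hu : g ^ m ∈ (S : Subgroup G) := by
    apply mem_sylow_of_pow_two S (pow_mem hg m) (a := a)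
    rw [← pow_mul, mul_comm, ← hom, pow_orderOf_eq_one]
  -- the odd part centralizes `S`
  have hv : ∀ x ∈ (S : Subgroup G), g ^ (2 ^ a) * x * (g ^ (2 ^ a))⁻¹ = x := by
    intro x hx
    let v : Subgroup.normalizer ((S : Subgroup G) : Set G) := ⟨g ^ (2 ^ a), pow_mem hg _⟩
    have hvm : v ^ m = 1 := by
      apply Subtype.ext
      show (g ^ (2 ^ a)) ^ m = 1
      rw [← pow_mul, ← hom, pow_orderOf_eq_one]
    have hψ : ((S : Subgroup G).normalizerMonoidHom v) ^ m = 1 := by
      rw [← map_pow, hvm, map_one]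
    have := aut_eq_one_of_odd' hj e _ hm hψ ⟨x, hx⟩
    have h2 := congrArg (Subtype.val) this
    exact h2
  -- Bezout
  have hcop : Nat.Coprime m (2 ^ a) := by
    apply Nat.Coprime.pow_right
    exact hm.coprime_two_right
  have hbez := Int.gcd_eq_gcd_ab (m : ℤ) ((2 ^ a : ℕ) : ℤ)
  rw [Int.gcd_natCast_natCast, hcop] at hbez
  set X := Int.gcdA (m : ℤ) ((2 ^ a : ℕ) : ℤ) with hX
  set Y := Int.gcdB (m : ℤ) ((2 ^ a : ℕ) : ℤ) with hY
  have hgdec : g = (g ^ m) ^ X * (g ^ (2 ^ a)) ^ Y := by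
    rw [← zpow_natCast g m, ← zpow_natCast g (2 ^ a), ← zpow_mul, ← zpow_mul, ← zpow_add, ← hbez]
    simp
  refine ⟨(g ^ m) ^ X, zpow_mem hu X, ?_⟩
  intro x hx
  have hvY : ∀ x ∈ (S : Subgroup G), (g ^ (2 ^ a)) ^ Y * x * ((g ^ (2 ^ a)) ^ Y)⁻¹ = x := by
    intro x hx
    have hc : Commute (g ^ (2 ^ a)) x := by
      have := hv x hx
      rw [Commute, SemiconjBy]
      calc g ^ (2 ^ a) * x = (g ^ (2 ^ a) * x * (g ^ (2 ^ a))⁻¹) * g ^ (2 ^ a) := by group
        _ = x * g ^ (2 ^ a) := by rw [this]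
    have hc' : Commute ((g ^ (2 ^ a)) ^ Y) x := hc.zpow_left Y
    rw [hc'.eq, mul_assoc, mul_inv_cancel, mul_one]
  calc g * x * g⁻¹
      = (g ^ m) ^ X * ((g ^ (2 ^ a)) ^ Y * x * ((g ^ (2 ^ a)) ^ Y)⁻¹) * ((g ^ m) ^ X)⁻¹ := by
        conv_lhs => rw [hgdec]
        group
    _ = (g ^ m) ^ X * x * ((g ^ m) ^ X)⁻¹ := by rw [hvY x hx]

/-- If a Sylow `2`-subgroup `S` is dihedral and all involutions of `G` are conjugate, no proper nontrivial
subgroup of `S` is closed under `G`-conjugation inside `S`. -/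
theorem noStrClosed_of_dihedral [Finite G] (S : Sylow 2 G) {k : ℕ}
    (e : (S : Subgroup G) ≃* DihedralGroup k)
    (hconj : ∀ x y : G, orderOf x = 2 → orderOf y = 2 → IsConj x y)
    (T : Subgroup G) (hT : T ≤ (S : Subgroup G))
    (hcl : ∀ t ∈ T, ∀ g : G, g * t * g⁻¹ ∈ (S : Subgroup G) → g * t * g⁻¹ ∈ T) :
    T = ⊥ ∨ T = (S : Subgroup G) := by
  by_cases hbot : T = ⊥
  · exact Or.inl hbot
  right
  -- an involution in `T`
  have hTp : IsPGroup 2 T := S.isPGroup'.to_le hT
  have hTnt : Nontrivial T := by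
    rw [Subgroup.nontrivial_iff_ne_bot]; exact hbot
  obtain ⟨t, ht⟩ : ∃ t : T, orderOf t = 2 := by
    have h2 : 2 ∣ Nat.card T := by
      obtain ⟨n, hn⟩ := IsPGroup.iff_card.1 hTp
      have hn0 : n ≠ 0 := by
        rintro rfl
        rw [pow_zero] at hn
        have := (Nat.card_eq_one_iff_unique.1 hn).1
        exact not_subsingleton T this
      rw [hn]
      exact dvd_pow_self 2 hn0
    exact exists_prime_orderOf_dvd_card' 2 h2
  have ht' : orderOf (t : G) = 2 := by rw [Subgroup.orderOf_coe]; exact ht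
  -- all involutions of `S` lie in `T`
  have hinv : ∀ y : (S : Subgroup G), orderOf y = 2 → (y : G) ∈ T := by
    intro y hy
    have hy' : orderOf (y : G) = 2 := by rw [Subgroup.orderOf_coe]; exact hy
    obtain ⟨c, hc⟩ := isConj_iff.1 (hconj t y ht' hy')
    have := hcl t t.2 c (by rw [hc]; exact y.2)
    rw [hc] at this
    exact this
  apply le_antisymm hT
  intro x hx
  -- `x` is a product of involutions of `S`
  have hmem := mem_closure_involutions (e ⟨x, hx⟩)
  have hle : Subgroup.closure {y : DihedralGroup k | orderOf y = 2} ≤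
      (T.subgroupOf (S : Subgroup G)).map e.toMonoidHom := by
    rw [Subgroup.closure_le]
    intro y hy
    refine ⟨e.symm y, ?_, by simp⟩
    rw [SetLike.mem_coe, Subgroup.mem_subgroupOf]
    apply hinv
    rw [MulEquiv.orderOf_eq]
    exact hy
  obtain ⟨z, hz, hze⟩ := hle hmem
  have : z = ⟨x, hx⟩ := e.injective hze
  rw [this] at hz
  exact Subgroup.mem_subgroupOf.1 hz

end Abstract

end Cfsg.Agent.Helper80.DihSylow
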