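import Cfsg.Agent.Helper40.E6Tor.Defs2
import Cfsg.Agent.Helper84.TorEXPV
import Cfsg.Agent.Helper45.E6Tor_TR6
import Cfsg.Agent.Helper23.E6Tor_LINALG

/-!
helper80, piece (STAB6) `stab_trivial6` of helper40's `E₆` torus farm (#14814, S2373): fork of
`Cfsg.Agent.Helper87.Tor.stab_trivial`; the irreducibility argument is replaced by helper40's trace argument.
-/

set_option autoImplicit false
set_option linter.unusedVariables false
set_option linter.style.haveILetI false

namespace Cfsg.Agent.Helper80.E6Tor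

open Cfsg Cfsg.Lie Cfsg.Agent.Helper18 Cfsg.Agent.Helper19.Cox Cfsg.Agent.Helper19.Poinc
  Cfsg.Agent.Helper80.Tor Cfsg.Agent.Helper36.TorD Cfsg.Agent.Helper83.E6C Cfsg.Agent.Helper40.E6Tor
open Polynomial

/-- `v A = a v`, `v B = v`, `v C = a⁻¹ v` ⟹ `v (A B C) = v` -/
theorem STAB6_conj_fix {l r : ℕ} [Fact r.Prime] (v : Fin l → ZMod r) (A B C : Matrix (Fin l) (Fin l) (ZMod r))
    (a : ZMod r) (ha : a ≠ 0) (hA : Matrix.vecMul v A = a • v) (hB : Matrix.vecMul v B = v)
    (hC : Matrix.vecMul v C = a⁻¹ • v) : Matrix.vecMul v (A * B * C) = v := by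
  rw [← Matrix.vecMul_vecMul, ← Matrix.vecMul_vecMul, hA, Matrix.smul_vecMul, hB, Matrix.smul_vecMul, hC,
    smul_smul, mul_inv_cancel₀ ha, one_smul]

/-- `vecMul v` of a finite sum -/
theorem STAB6_vecMul_sum {l r : ℕ} {ι : Type*} (t : Finset ι) (v : Fin l → ZMod r)
    (A : ι → Matrix (Fin l) (Fin l) (ZMod r)) :
    Matrix.vecMul v (∑ s ∈ t, A s) = ∑ s ∈ t, Matrix.vecMul v (A s) := by
  classical
  induction t using Finset.induction_on with
  | empty => simp
  | insert a t ha ih => rw [Finset.sum_insert ha, Finset.sum_insert ha, Matrix.vecMul_add, ih]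

/-- powers of an eigenvalue -/
theorem STAB6_vecMul_pow {l r : ℕ} (v : Fin l → ZMod r) (A : Matrix (Fin l) (Fin l) (ZMod r)) (a : ZMod r)
    (hA : Matrix.vecMul v A = a • v) (k : ℕ) : Matrix.vecMul v (A ^ k) = a ^ k • v := by
  induction k with
  | zero => simp
  | succ k ih =>
    rw [pow_succ, ← Matrix.vecMul_vecMul, ih, Matrix.smul_vecMul, hA, smul_smul, pow_succ]

/-- a prime `≥ 13` does not divide `51840` -/
theorem STAB6_not_dvd {r : ℕ} (hr : r.Prime) (hr13 : 13 ≤ r) : ¬ r ∣ 51840 := by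
  intro h
  have h1 : (51840 : ℕ) = 2 ^ 7 * 3 ^ 4 * 5 := by norm_num
  rw [h1] at h
  rcases (Nat.Prime.dvd_mul hr).mp h with h2 | h2
  · rcases (Nat.Prime.dvd_mul hr).mp h2 with h3 | h3
    · have := Nat.le_of_dvd (by norm_num) (hr.dvd_of_dvd_pow h3); omega
    · have := Nat.le_of_dvd (by norm_num) (hr.dvd_of_dvd_pow h3); omega
  · have := Nat.le_of_dvd (by norm_num) h2; omega

/-- (STAB6), conditional form: the stabiliser in `W(E₆)` of the eigenvector is trivial, given the pieces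
(WRHO) `weylAlt_rhoM` (as `hWA`) and (EIGCOX) `coxLike_of_eigen` (as `hEC`) of the farm. -/
theorem stab_trivial6_of {K : Type*} [Field K] {q r : ℕ} [Fact r.Prime] (hr13 : 13 ≤ r)
    (hWA : ∀ s : W6, WeylAlt (rhoM s))
    (hEC : ∀ (M : Matrix (Fin 6) (Fin 6) ℤ), WeylAlt M → ∀ v : Fin 6 → ZMod r, v ≠ 0 →
      ∀ lam : ZMod r, orderOf lam = 12 →
      Matrix.vecMul v (M.map (Int.cast : ℤ → ZMod r)) = lam • v → CoxLike M)
    (hqr : orderOf (q : ZMod r) = 12) (c₀ : Fin 6 → Kˣ) (hc1 : c₀ ≠ 1) (hcr : ∀ i, c₀ i ^ r = 1) (w₀ : W6)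
    (hw : zact (rhoM w₀) (c₀ ^ q) = c₀) :
    CoxLike (rhoM w₀) ∧ ∀ s : W6, zact (rhoM s) c₀ = c₀ → rhoM s = 1 := by
  classical
  have hrp : r.Prime := Fact.out
  have : NeZero r := ⟨hrp.ne_zero⟩
  have hcardW : Nat.card W6 = 51840 := Cfsg.Agent.Helper19.Cox.E6.card_eq
  haveI : Finite W6 := Nat.finite_of_card_ne_zero (by rw [hcardW]; norm_num)
  have hrW : ¬ r ∣ Nat.card W6 := by rw [hcardW]; exact STAB6_not_dvd hrp hr13
  obtain ⟨ζ, v, hζ, hv, hcv⟩ := Cfsg.Agent.Helper84.Tor.exists_expVec c₀ hc1 hcr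
  have hc₀ : c₀ = fun i => ζ ^ (v i).val := funext hcv
  -- reduction mod `r`
  let red : Matrix (Fin 6) (Fin 6) ℤ →+* Matrix (Fin 6) (Fin 6) (ZMod r) :=
    (Int.castRingHom (ZMod r)).mapMatrix
  let ρb : W6 →* Matrix (Fin 6) (Fin 6) (ZMod r) := red.toMonoidHom.comp ((Units.coeHom _).comp rho6)
  have hρb : ∀ s, ρb s = (rhoM s).map (Int.cast : ℤ → ZMod r) := fun s => rfl
  have hρb' : ∀ s, ρb s = red (rhoM s) := fun s => rfl
  -- fixing `c₀` is fixing `v`
  have hfix : ∀ s : W6, zact (rhoM s) c₀ = c₀ ↔ Matrix.vecMul v (ρb s) = v := by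
    intro s
    constructor
    · intro h
      rw [hc₀, Cfsg.Agent.Helper84.Tor.zact_expVec ζ hζ v] at h
      rw [hρb]
      exact Cfsg.Agent.Helper84.Tor.expVec_injective ζ hζ _ _ h
    · intro h
      rw [hρb] at h
      rw [hc₀, Cfsg.Agent.Helper84.Tor.zact_expVec ζ hζ v, h]
  -- the eigenvector equation
  have hq0 : (q : ZMod r) ≠ 0 := by
    intro h0
    rw [h0] at hqr
    have : orderOf (0 : ZMod r) = 0 := by
      rw [orderOf_eq_zero_iff']
      intro n hn
      rw [zero_pow hn.ne']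
      exact zero_ne_one
    omega
  set lam : ZMod r := (q : ZMod r)⁻¹ with hlamdef
  have hlam0 : lam ≠ 0 := inv_ne_zero hq0
  have hlam : orderOf lam = 12 := by
    rw [← hqr]
    apply orderOf_eq_orderOf_iff.mpr
    intro n
    rw [hlamdef, inv_pow, inv_eq_one]
  have hpowq : c₀ ^ q = fun i => ζ ^ (((q : ZMod r) • v) i).val := by
    funext i
    rw [Pi.pow_apply, hcv i, ← pow_mul]
    apply (pow_eq_pow_iff_modEq).mpr
    rw [hζ]
    apply (ZMod.natCast_eq_natCast_iff _ _ _).mp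
    rw [ZMod.natCast_zmod_val]
    push_cast
    rw [ZMod.natCast_zmod_val, Pi.smul_apply, smul_eq_mul, mul_comm]
  have heig : Matrix.vecMul v ((rhoM w₀).map (Int.cast : ℤ → ZMod r)) = lam • v := by
    have h1 := hw
    rw [hpowq, Cfsg.Agent.Helper84.Tor.zact_expVec ζ hζ] at h1
    rw [hc₀] at h1
    have h2 := Cfsg.Agent.Helper84.Tor.expVec_injective ζ hζ _ _ h1
    rw [Matrix.smul_vecMul] at h2
    rw [hlamdef]
    exact (eq_inv_smul_iff₀ hq0).mpr h2
  have heig' : Matrix.vecMul v (ρb w₀) = lam • v := by rw [hρb]; exact heig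
  -- first conjunct
  have hCox : CoxLike (rhoM w₀) := hEC (rhoM w₀) (hWA w₀) v hv lam hlam heig
  refine ⟨hCox, ?_⟩
  -- the stabiliser of `v`
  have hinv : ∀ a : W6, ρb a * ρb a⁻¹ = 1 := fun a => by rw [← map_mul, mul_inv_cancel, map_one]
  let S : Subgroup W6 :=
    { carrier := {s | Matrix.vecMul v (ρb s) = v}
      mul_mem' := by
        intro a b ha hb
        simp only [Set.mem_ofPred_eq] at ha hb ⊢
        rw [map_mul, ← Matrix.vecMul_vecMul, ha, hb]
      one_mem' := by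
        simp only [Set.mem_ofPred_eq]
        rw [map_one, Matrix.vecMul_one]
      inv_mem' := by
        intro a ha
        simp only [Set.mem_ofPred_eq] at ha ⊢
        calc Matrix.vecMul v (ρb a⁻¹) = Matrix.vecMul (Matrix.vecMul v (ρb a)) (ρb a⁻¹) := by rw [ha]
          _ = v := by rw [Matrix.vecMul_vecMul, hinv, Matrix.vecMul_one] }
  have hSmem : ∀ s : W6, s ∈ S ↔ Matrix.vecMul v (ρb s) = v := fun s => Iff.rfl
  letI : Fintype S := Fintype.ofFinite S
  have heiginv : Matrix.vecMul v (ρb w₀⁻¹) = lam⁻¹ • v := by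
    have h1 : Matrix.vecMul (Matrix.vecMul v (ρb w₀)) (ρb w₀⁻¹) = v := by
      rw [Matrix.vecMul_vecMul, hinv, Matrix.vecMul_one]
    rw [heig', Matrix.smul_vecMul] at h1
    exact (eq_inv_smul_iff₀ hlam0).mpr h1
  have hnorm : ∀ s : W6, s ∈ S → w₀ * s * w₀⁻¹ ∈ S := by
    intro s hs
    rw [hSmem] at hs ⊢
    rw [map_mul, map_mul]
    exact STAB6_conj_fix v _ _ _ lam hlam0 heig' hs heiginv
  have hnorm' : ∀ s : W6, s ∈ S → w₀⁻¹ * s * w₀ ∈ S := by
    intro s hs
    rw [hSmem] at hs ⊢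
    rw [map_mul, map_mul]
    refine STAB6_conj_fix v _ _ _ lam⁻¹ (inv_ne_zero hlam0) heiginv hs ?_
    rw [inv_inv]; exact heig'
  let σ : S ≃ S :=
    { toFun := fun s => ⟨w₀ * s * w₀⁻¹, hnorm s s.2⟩
      invFun := fun s => ⟨w₀⁻¹ * s * w₀, hnorm' s s.2⟩
      left_inv := fun s => by
        apply Subtype.ext
        show w₀⁻¹ * (w₀ * (s : W6) * w₀⁻¹) * w₀ = s
        group
      right_inv := fun s => by
        apply Subtype.ext
        show w₀ * (w₀⁻¹ * (s : W6) * w₀) * w₀⁻¹ = s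
        group }
  set M : Matrix (Fin 6) (Fin 6) ℤ := rhoM w₀ with hM
  have hfmul : ∀ a b : W6, rhoM (a * b) = rhoM a * rhoM b := fun a b => by
    show ((rho6 (a * b) : (Matrix (Fin 6) (Fin 6) ℤ)ˣ) : Matrix (Fin 6) (Fin 6) ℤ) = _
    rw [map_mul, Units.val_mul]; rfl
  have hfpow : ∀ (a : W6) (k : ℕ), rhoM (a ^ k) = rhoM a ^ k := fun a k => by
    show ((rho6 (a ^ k) : (Matrix (Fin 6) (Fin 6) ℤ)ˣ) : Matrix (Fin 6) (Fin 6) ℤ) = _
    rw [map_pow, Units.val_pow_eq_pow_val]; rfl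
  set e : Matrix (Fin 6) (Fin 6) ℤ := ∑ s : S, rhoM (s : W6) with he
  -- `e` commutes with `M`
  have hcomm : Commute M e := by
    show M * e = e * M
    rw [he, Finset.mul_sum, Finset.sum_mul]
    rw [← Equiv.sum_comp σ (fun s : S => rhoM (s : W6) * M)]
    refine Finset.sum_congr rfl fun s _ => ?_
    show M * rhoM (s : W6) = rhoM (w₀ * (s : W6) * w₀⁻¹) * M
    rw [hM, ← hfmul, ← hfmul]
    congr 1
    group
  have hcardS : ¬ r ∣ Fintype.card S := by
    intro h
    apply hrW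
    have h1 : Nat.card S ∣ Nat.card W6 := Subgroup.card_subgroup_dvd_card S
    rw [Nat.card_eq_fintype_card] at h1
    exact dvd_trans h h1
  have hcardS0 : ((Fintype.card S : ℕ) : ZMod r) ≠ 0 := by
    intro h4
    exact hcardS ((ZMod.natCast_eq_zero_iff _ _).mp h4)
  have hcpos : (0 : ℤ) < (Fintype.card S : ℤ) := by
    have : 0 < Fintype.card S := Fintype.card_pos_iff.mpr ⟨1⟩
    exact_mod_cast this
  -- `e ρ(s) = e` for `s ∈ S`
  have hes : ∀ s : W6, s ∈ S → e * rhoM s = e := by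
    intro s hsS
    rw [he, Finset.sum_mul]
    rw [← Equiv.sum_comp (Equiv.mulRight (⟨s, hsS⟩ : S)) (fun x : S => rhoM (x : W6))]
    refine Finset.sum_congr rfl fun x _ => ?_
    rw [← hfmul]
    rfl
  -- `e e = |S| e`
  have hee : e * e = (Fintype.card S : ℤ) • e := by
    conv_lhs => rw [he, Finset.mul_sum]
    rw [Finset.sum_congr rfl (fun (s : S) _ => hes (s : W6) s.2)]
    rw [Finset.sum_const, Finset.card_univ, Nat.cast_smul_eq_nsmul]
  -- `v red(e) = |S| v`
  have hve : Matrix.vecMul v (red e) = ((Fintype.card S : ℕ) : ZMod r) • v := by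
    rw [he, map_sum, STAB6_vecMul_sum]
    rw [Finset.sum_congr rfl (fun (s : S) _ => (by rw [← hρb']; exact (hSmem _).mp s.2 :
      Matrix.vecMul v (red (rhoM (s : W6))) = v))]
    rw [Finset.sum_const, Finset.card_univ, Nat.cast_smul_eq_nsmul]
  have hvM : Matrix.vecMul v (red M) = lam • v := heig'
  have hvMk : ∀ k : ℕ, Matrix.vecMul v (red M ^ k) = lam ^ k • v := STAB6_vecMul_pow v _ lam hvM
  -- `e Φ₃(M) ≠ 0`
  have h12 : e * (M ^ 2 + M + 1) ≠ 0 := by
    intro h0
    have h1 : red (e * (M ^ 2 + M + 1)) = 0 := by rw [h0, map_zero]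
    rw [map_mul, map_add, map_add, map_pow, map_one] at h1
    have h2 : Matrix.vecMul v (red e * (red M ^ 2 + red M + 1)) =
        (((Fintype.card S : ℕ) : ZMod r) * (lam ^ 2 + lam + 1)) • v := by
      rw [← Matrix.vecMul_vecMul, hve, Matrix.smul_vecMul, Matrix.vecMul_add, Matrix.vecMul_add,
        hvMk 2, hvM, Matrix.vecMul_one]
      module
    rw [h1, Matrix.vecMul_zero] at h2
    rcases smul_eq_zero.mp h2.symm with h3 | h3
    · rcases mul_eq_zero.mp h3 with h4 | h4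
      · exact hcardS0 h4
      · -- `lam³ = 1`
        have h5 : lam ^ 3 = 1 := by
          have : lam ^ 3 - 1 = (lam - 1) * (lam ^ 2 + lam + 1) := by ring
          rw [h4, mul_zero] at this
          exact sub_eq_zero.mp this
        have h6 := orderOf_dvd_of_pow_eq_one h5
        rw [hlam] at h6
        omega
    · exact hv h3
  -- `e Φ₁₂(M) ≠ 0`: the trace argument
  have htr : ∀ k : ℕ, Nat.Coprime 12 k → (e * M ^ k).trace = -(Fintype.card S : ℤ) := by
    intro k hk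
    rw [he, Finset.sum_mul, Matrix.trace_sum]
    have h1 : ∀ s : S, (rhoM (s : W6) * M ^ k).trace = -1 := by
      intro s
      have h2 : rhoM (s : W6) * M ^ k = rhoM ((s : W6) * w₀ ^ k) := by
        rw [hfmul, hfpow]
      rw [h2]
      apply Cfsg.Agent.Helper45.E6Tor.trace_of_coxLike
      refine hEC _ (hWA _) v hv (lam ^ k) ?_ ?_
      · rw [← hlam]
        apply Nat.Coprime.orderOf_pow
        rw [hlam]; exact hk
      · rw [← h2]
        have h3 : (rhoM (s : W6) * M ^ k).map (Int.cast : ℤ → ZMod r) = ρb (s : W6) * red M ^ k := by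
          have : (rhoM (s : W6) * M ^ k).map (Int.cast : ℤ → ZMod r) = red (rhoM (s : W6) * M ^ k) := rfl
          rw [this, map_mul, map_pow]
          rfl
        rw [h3, ← Matrix.vecMul_vecMul, (hSmem _).mp s.2, hvMk k]
    rw [Finset.sum_congr rfl (fun (s : S) _ => h1 s)]
    rw [Finset.sum_const, Finset.card_univ]
    simp
  have h3 : e * (M ^ 4 - M ^ 2 + 1) ≠ 0 := by
    intro h0
    -- `e M^(k+4) = e M^(k+2) - e M^k`
    have hrec : ∀ k : ℕ, e * M ^ (k + 4) = e * M ^ (k + 2) - e * M ^ k := by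
      intro k
      have h1 : e * (M ^ 4 - M ^ 2 + 1) * M ^ k = 0 := by rw [h0, Matrix.zero_mul]
      have h2 : e * (M ^ 4 - M ^ 2 + 1) * M ^ k = e * M ^ (k + 4) - e * M ^ (k + 2) + e * M ^ k := by
        rw [Matrix.mul_assoc, add_mul, sub_mul, one_mul, ← pow_add, ← pow_add, mul_add, mul_sub,
          add_comm 4 k, add_comm 2 k]
      rw [h2] at h1
      have h3 := sub_eq_zero.mp (by rw [← h1]; abel :
        e * M ^ (k + 4) - (e * M ^ (k + 2) - e * M ^ k) = 0)
      exact h3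
    have t1 := htr 1 (by decide)
    rw [pow_one] at t1
    have t5 := htr 5 (by decide)
    have t7 := htr 7 (by decide)
    have r1 := congrArg Matrix.trace (hrec 1)
    have r3 := congrArg Matrix.trace (hrec 3)
    rw [Matrix.trace_sub] at r1 r3
    norm_num at r1 r3
    rw [t5, t1] at r1
    rw [t7, t5] at r3
    linarith
  -- (LINALG)
  have hscal : e = (Fintype.card S : ℤ) • (1 : Matrix (Fin 6) (Fin 6) ℤ) :=
    Cfsg.Agent.Helper23.E6Tor.eq_smul_one_of_coxLike M e _ hcpos.ne' hCox hcomm hee h12 h3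
  -- conclusion
  intro s hs
  have hsS : s ∈ S := (hSmem s).mpr ((hfix s).mp hs)
  have h1 := hes s hsS
  rw [hscal, Matrix.smul_mul, Matrix.one_mul] at h1
  ext i j
  have h2 := congrFun (congrFun h1 i) j
  simp only [Matrix.smul_apply, smul_eq_mul] at h2
  exact mul_left_cancel₀ hcpos.ne' h2

end Cfsg.Agent.Helper80.E6Tor
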