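import Mathlib
import Cfsg.Prelude.Def_Transfer
import Cfsg.Agent.Helper80.OneChar
import Cfsg.Agent.Helper76.CharCentral
import Cfsg.Agent.Helper63.Frattini
import Cfsg.Agent.S0132
import Cfsg.Agent.Lib.Nilpotent
import Cfsg.Agent.S4797

set_option autoImplicit false

/-!
# Extraspecial 2-groups and groups with a single character of degree divisible by `p`
-/

namespace Cfsg.Agent.Helper80

open Cfsg
open scoped ComplexConjugate commutatorElement

universe u

section extraspecial

variable {G : Type u} [Group G] [Finite G]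

/-- A subgroup of prime index is a coatom. -/
theorem isCoatom_of_index_prime' {M : Subgroup G} {p : ℕ} (hp : p.Prime) (h : M.index = p) :
    IsCoatom M := by
  constructor
  · intro htop
    rw [htop, Subgroup.index_top] at h
    exact hp.one_lt.ne h
  · intro K hMK
    have h1 := Subgroup.relIndex_mul_index hMK.le
    rw [h] at h1
    have h2 : M.relIndex K ∣ p := ⟨_, h1.symm⟩
    rcases (Nat.dvd_prime hp).mp h2 with h3 | h3
    · exfalso
      exact hMK.not_ge (Subgroup.relIndex_eq_one.mp h3)
    · rw [h3] at h1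
      have h4 : K.index = 1 := by
        have := hp.pos
        nlinarith
      exact Subgroup.index_eq_one.mp h4

/-- In an extraspecial 2-group the degree of an irreducible character is `1` or even. -/
theorem two_dvd_iff_ne_one_of_isPGroup (hG : IsPGroup 2 G) (χ : IrrCharacter G) :
    2 ∣ charDegree (χ : G → ℂ) ↔ charDegree (χ : G → ℂ) ≠ 1 := by
  obtain ⟨n, hn⟩ := IsPGroup.iff_card.mp hG
  have hd := IsIrrCharacter.charDegree_dvd_card χ.2
  rw [hn] at hd
  obtain ⟨j, -, hj⟩ := (Nat.dvd_prime_pow Nat.prime_two).mp hd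
  rw [hj]
  constructor
  · intro h2 h1
    rw [h1] at h2
    omega
  · intro h1
    rcases Nat.eq_zero_or_pos j with h0 | h0
    · rw [h0, pow_zero] at h1; exact absurd rfl h1
    · exact dvd_pow_self 2 h0.ne'

/-- An extraspecial 2-group has exactly one irreducible character of even degree. -/
theorem card_even_degree_of_extraspecial (h : IsExtraspecial 2 G) :
    Nat.card {χ : IrrCharacter G // 2 ∣ charDegree (χ : G → ℂ)} = 1 := by
  classical
  have := Fintype.ofFinite G
  obtain ⟨⟨hP, hΦ, hD⟩, hZ⟩ := h
  -- the nontrivial central element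
  obtain ⟨z', hz'1, hz'u⟩ := (Nat.card_eq_two_iff' (1 : Subgroup.center G)).mp hZ
  set z : G := (z' : G) with hzdef
  have hzc : z ∈ Subgroup.center G := z'.2
  have hz1 : z ≠ 1 := fun h => hz'1 (Subtype.ext h)
  have hzall : ∀ x ∈ Subgroup.center G, x = 1 ∨ x = z := by
    intro x hx
    by_cases hx1 : x = 1
    · left; exact hx1
    · right
      have := hz'u ⟨x, hx⟩ (fun h => hx1 (congrArg Subtype.val h))
      exact congrArg Subtype.val this
  have hzz : z * z = 1 := by
    rcases hzall (z * z) (Subgroup.mul_mem _ hzc hzc) with h | h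
    · exact h
    · exfalso
      apply hz1
      calc z = z * z * z⁻¹ := by group
        _ = z * z⁻¹ := by rw [h]
        _ = 1 := mul_inv_cancel z
  -- values of a nonlinear irreducible character
  have hvals : ∀ χ : IrrCharacter G, charDegree (χ : G → ℂ) ≠ 1 →
      (χ : G → ℂ) z = - (χ : G → ℂ) 1 ∧ ∀ g, g ≠ 1 → g ≠ z → (χ : G → ℂ) g = 0 := by
    intro χ hχ
    have hχ1 : (χ : G → ℂ) 1 ≠ 0 := Helper79.irr_one_ne_zero χ
    have hzker : (χ : G → ℂ) z ≠ (χ : G → ℂ) 1 := by
      intro hk
      apply hχ
      apply IsIrrCharacter.charDegree_eq_one_of_commutator_le χ.2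
      intro g hg
      rw [hD] at hg
      rcases hzall g hg with rfl | rfl
      · rfl
      · exact hk
    obtain ⟨c, hc⟩ := Helper76.irr_exists_central_scalar χ.2 z hzc
    have hc2 : c * c = 1 := by
      have h1 := hc (z * 1)
      rw [hc 1, ← mul_assoc, hzz, one_mul] at h1
      have h2 : (c * c - 1) * (χ : G → ℂ) 1 = 0 := by linear_combination -h1
      rcases mul_eq_zero.mp h2 with h | h
      · linear_combination h
      · exact absurd h hχ1
    have hcne : c ≠ 1 := by
      intro h
      apply hzker
      have := hc 1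
      rw [mul_one, h, one_mul] at this
      exact this
    have hcm1 : c = -1 := by
      have h3 : (c - 1) * (c + 1) = 0 := by linear_combination hc2
      rcases mul_eq_zero.mp h3 with h | h
      · exact absurd (by linear_combination h) hcne
      · linear_combination h
    refine ⟨?_, ?_⟩
    · have := hc 1
      rw [mul_one, hcm1] at this
      rw [this]; ring
    · intro g hg1 hgz
      have hgc : g ∉ Subgroup.center G := fun h => by
        rcases hzall g h with h | h
        · exact hg1 h
        · exact hgz h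
      rw [Subgroup.mem_center_iff] at hgc
      push Not at hgc
      obtain ⟨x, hx⟩ := hgc
      -- x * g ≠ g * x
      have hcomm : ⁅x, g⁆ ∈ Subgroup.center G := by
        rw [← hD]
        exact Subgroup.commutator_mem_commutator (Subgroup.mem_top _) (Subgroup.mem_top _)
      have hcomm1 : ⁅x, g⁆ ≠ 1 := by
        intro h
        apply hx
        rw [commutatorElement_def] at h
        calc x * g = (x * g * x⁻¹ * g⁻¹) * (g * x) := by group
          _ = g * x := by rw [h, one_mul]
      have hcz : ⁅x, g⁆ = z := (hzall _ hcomm).resolve_left hcomm1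
      have hconj : x * g * x⁻¹ = z * g := by
        rw [← hcz, commutatorElement_def]; group
      have h4 : (χ : G → ℂ) (x * g * x⁻¹) = (χ : G → ℂ) g :=
        IsCharacter.conj_mem (IsIrrCharacter.isCharacter χ.2) g x
      rw [hconj, hc g, hcm1] at h4
      linear_combination (-1 / 2 : ℂ) * h4
  -- uniqueness and existence
  have hcomm : ¬ IsMulCommutative G := by
    intro hc
    apply hz1
    have h1 : commutator G = ⊥ := by
      rw [commutator_def, Subgroup.commutator_eq_bot_iff_le_centralizer]
      intro a _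
      rw [Subgroup.mem_centralizer_iff]
      intro b _
      exact (isMulCommutative_iff.mp hc) b a
    rw [← hD, h1, Subgroup.mem_bot] at hzc
    exact hzc
  obtain ⟨χ₀, hχ₀⟩ := exists_irr_charDegree_ne_one hcomm
  rw [Nat.card_eq_one_iff_unique]
  refine ⟨⟨?_⟩, ⟨⟨χ₀, (two_dvd_iff_ne_one_of_isPGroup hP χ₀).mpr hχ₀⟩⟩⟩
  rintro ⟨χ, hχ⟩ ⟨ψ, hψ⟩
  apply Subtype.ext
  simp only
  rw [two_dvd_iff_ne_one_of_isPGroup hP] at hχ hψ
  by_contra hne
  have hin := Helper79.classInner_irr_ne hne
  obtain ⟨hχz, hχ0⟩ := hvals χ hχ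
  obtain ⟨hψz, hψ0⟩ := hvals ψ hψ
  unfold classInner at hin
  have hs : ∑ g : G, (χ : G → ℂ) g * conj ((ψ : G → ℂ) g) = 0 := by
    rcases mul_eq_zero.mp hin with h | h
    · exact absurd (inv_eq_zero.mp h) Helper79.card_ne_zero_complex
    · exact h
  have hsum : ∑ g : G, (χ : G → ℂ) g * conj ((ψ : G → ℂ) g) =
      (χ : G → ℂ) 1 * conj ((ψ : G → ℂ) 1) + (χ : G → ℂ) z * conj ((ψ : G → ℂ) z) := by
    rw [← Finset.sum_subset (Finset.subset_univ ({1, z} : Finset G))]
    · rw [Finset.sum_pair (Ne.symm hz1)]
    · intro g _ hg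
      simp only [Finset.mem_insert, Finset.mem_singleton, not_or] at hg
      rw [hχ0 g hg.1 hg.2, zero_mul]
  rw [hsum, hχz, hψz, map_neg] at hs
  have hχd := IsCharacter.charDegree_cast (IsIrrCharacter.isCharacter χ.2)
  have hψd := IsCharacter.charDegree_cast (IsIrrCharacter.isCharacter ψ.2)
  rw [← hχd, ← hψd, Complex.conj_natCast] at hs
  have hpos1 := IsIrrCharacter.charDegree_pos χ.2
  have hpos2 := IsIrrCharacter.charDegree_pos ψ.2
  have h5 : ((2 * (charDegree (χ : G → ℂ) * charDegree (ψ : G → ℂ)) : ℕ) : ℂ) = 0 := by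
    push_cast
    linear_combination hs
  have h6 := Nat.cast_eq_zero.mp h5
  have : 0 < charDegree (χ : G → ℂ) * charDegree (ψ : G → ℂ) := Nat.mul_pos hpos1 hpos2
  omega

end extraspecial

section onechar

variable {G : Type u} [Group G] [Finite G]

/-- Uniqueness gives twist invariance. -/
theorem twist_eq_of_unique (p : ℕ) (χ₀ : IrrCharacter G) (h0 : p ∣ charDegree (χ₀ : G → ℂ))
    (huniq : ∀ ψ : IrrCharacter G, p ∣ charDegree (ψ : G → ℂ) → ψ = χ₀) (ν : G →* ℂˣ) :
    (fun g => ((ν g : ℂˣ) : ℂ) * (χ₀ : G → ℂ) g) = (χ₀ : G → ℂ) := by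
  have hirr := Helper81.isIrrCharacter_twist ν χ₀.2
  let ψ : IrrCharacter G := ⟨_, hirr⟩
  have hdeg : charDegree (ψ : G → ℂ) = charDegree (χ₀ : G → ℂ) := by
    unfold charDegree
    simp only [ψ, map_one, Units.val_one, one_mul]
  have := huniq ψ (by rw [hdeg]; exact h0)
  exact congrArg Subtype.val this

/-- Image of a commutator element lies in the derived subgroup of the target. -/
theorem map_mem_commutator {H : Type*} [Group H] (f : G →* H) {g : G} (hg : g ∈ commutator G) :
    f g ∈ commutator H := by
  have h1 : g ∈ ((Abelianization.of (G := H)).comp f).ker :=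
    Abelianization.commutator_subset_ker _ hg
  rw [MonoidHom.mem_ker, MonoidHom.comp_apply] at h1
  have h2 : f g ∈ (Abelianization.of (G := H)).ker := MonoidHom.mem_ker.mpr h1
  rwa [Abelianization.ker_of] at h2

/-- A nilpotent group with exactly one irreducible character of degree divisible by `p` is a
`p`-group. -/
theorem isPGroup_of_nilpotent_of_unique [hnil : Group.IsNilpotent G] (p : ℕ) [Fact p.Prime]
    (χ₀ : IrrCharacter G) (h0 : p ∣ charDegree (χ₀ : G → ℂ))
    (huniq : ∀ ψ : IrrCharacter G, p ∣ charDegree (ψ : G → ℂ) → ψ = χ₀) : IsPGroup p G := by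
  classical
  have hp : p.Prime := Fact.out
  have hd0 : (χ₀ : G → ℂ) 1 ≠ 0 := Helper79.irr_one_ne_zero χ₀
  have htw := twist_eq_of_unique p χ₀ h0 huniq
  have hsupp : ∀ g, (χ₀ : G → ℂ) g ≠ 0 → g ∈ commutator G := fun g hg =>
    mem_commutator_of_twist_invariant htw hg
  have hZG : Subgroup.center G ≤ commutator G := by
    intro z hz
    apply hsupp
    intro h
    have h1 := IsIrrCharacter.norm_eq_of_mem_center χ₀.2 hz
    rw [h, norm_zero] at h1
    have h2 := IsIrrCharacter.charDegree_pos χ₀.2
    have : (charDegree (χ₀ : G → ℂ) : ℝ) = 0 := h1.symm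
    have : charDegree (χ₀ : G → ℂ) = 0 := by exact_mod_cast this
    omega
  obtain P : Sylow p G := default
  have hPn : (P : Subgroup G).Normal := inferInstance
  have hcop : (Nat.card (P : Subgroup G)).Coprime (P : Subgroup G).index := P.card_coprime_index
  obtain ⟨K, hK⟩ := Subgroup.exists_right_complement'_of_coprime hcop
  have hKcard : Nat.card K = (P : Subgroup G).index := by
    have h1 := hK.card_mul_card
    have h2 := Subgroup.card_mul_index (P : Subgroup G)
    rw [← h2] at h1
    exact Nat.eq_of_mul_eq_mul_left Nat.card_pos h1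
  have hPcardp : ∃ n, Nat.card (P : Subgroup G) = p ^ n := IsPGroup.iff_card.mp P.2
  obtain ⟨n, hn⟩ := hPcardp
  have hKcop : (Nat.card K).Coprime p := by
    rw [hKcard]
    have := hcop
    rw [hn] at this
    rcases Nat.eq_zero_or_pos n with h | h
    · exfalso
      -- P trivial but p divides |G|
      have hdvd : p ∣ Nat.card G := h0.trans (IsIrrCharacter.charDegree_dvd_card χ₀.2)
      have h3 := P.card_eq_multiplicity
      rw [hn, h, pow_zero] at h3
      have h4 : (Nat.card G).factorization p = 0 := by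
        by_contra hne
        have : 1 < p ^ (Nat.card G).factorization p :=
          Nat.one_lt_pow hne hp.one_lt
        omega
      have h5 := (hp.dvd_iff_one_le_factorization Nat.card_pos.ne').mp hdvd
      omega
    · exact ((Nat.coprime_pow_left_iff h _ _).mp this).symm
  have hdisj : (P : Subgroup G) ⊓ K = ⊥ := hK.disjoint.eq_bot
  have hdecomp : ∀ g : G, ∃ x ∈ (P : Subgroup G), ∃ k ∈ K, g = x * k := by
    intro g
    obtain ⟨⟨x, k⟩, hxk⟩ := hK.2 g
    exact ⟨x, x.2, k, k.2, hxk.symm⟩
  -- K is normal
  have hKcomm : ∀ k ∈ K, ∀ x ∈ (P : Subgroup G), x * k = k * x := by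
    intro k hk x hx
    have hord : (orderOf k).Coprime p := by
      have h1 : orderOf k ∣ Nat.card K := by
        have := orderOf_dvd_natCard (⟨k, hk⟩ : K)
        rwa [Subgroup.orderOf_mk] at this
      exact Nat.Coprime.coprime_dvd_left h1 hKcop
    exact Cfsg.Agent.S0132.commute_of_nilpotent_coprime hnil (P : Subgroup G) P.2 k hord x hx
  have hKn : K.Normal := by
    constructor
    intro k hk g
    obtain ⟨x, hx, k', hk', rfl⟩ := hdecomp g
    have h1 : x * k' * k * (x * k')⁻¹ = x * (k' * k * k'⁻¹) * x⁻¹ := by group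
    have h2 : k' * k * k'⁻¹ ∈ K := K.mul_mem (K.mul_mem hk' hk) (K.inv_mem hk')
    rw [h1, hKcomm _ h2 x hx]
    have h3 : k' * k * k'⁻¹ * x * x⁻¹ = k' * k * k'⁻¹ := by group
    rw [h3]
    exact h2
  -- the quotient G ⧸ K is a p-group
  have hGKcard : Nat.card (G ⧸ K) = p ^ n := by
    rw [← Subgroup.index_eq_card, ← hn]
    have h1 := hK.card_mul_card
    have h2 := Subgroup.card_mul_index K
    rw [← h2, mul_comm] at h1
    exact (Nat.eq_of_mul_eq_mul_left Nat.card_pos h1).symm
  have hPne : (P : Subgroup G) ≠ ⊥ := by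
    intro hbot
    have hdvd : p ∣ Nat.card G := h0.trans (IsIrrCharacter.charDegree_dvd_card χ₀.2)
    have h3 := P.card_eq_multiplicity
    rw [hbot, Subgroup.card_bot] at h3
    have h4 : (Nat.card G).factorization p = 0 := by
      by_contra hne
      have : 1 < p ^ (Nat.card G).factorization p := Nat.one_lt_pow hne hp.one_lt
      omega
    have h5 := (hp.dvd_iff_one_le_factorization Nat.card_pos.ne').mp hdvd
    omega
  by_cases hGKcomm : IsMulCommutative (G ⧸ K)
  · -- commutative quotient: impossible
    exfalso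
    have hcomK : commutator G ≤ K := by
      rw [commutator_def, Subgroup.commutator_le]
      intro a _ b _
      rw [← QuotientGroup.eq_one_iff, commutatorElement_def]
      simp only [QuotientGroup.mk_mul, QuotientGroup.mk_inv]
      have := (isMulCommutative_iff.mp hGKcomm) (a : G ⧸ K) (b : G ⧸ K)
      rw [this]; group
    have hmeet := Cfsg.Agent.Lib.normal_inf_center_ne_bot (P : Subgroup G) hPne
    obtain ⟨⟨z, hz⟩, hz1⟩ := Subgroup.ne_bot_iff_exists_ne_one.mp hmeet
    have hzP : z ∈ (P : Subgroup G) := (Subgroup.mem_inf.mp hz).1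
    have hzK : z ∈ K := hcomK (hZG (Subgroup.mem_inf.mp hz).2)
    have : z ∈ (P : Subgroup G) ⊓ K := ⟨hzP, hzK⟩
    rw [hdisj, Subgroup.mem_bot] at this
    exact hz1 (Subtype.ext this)
  · -- a nonlinear character of G ⧸ K inflates to χ₀
    obtain ⟨α, hα⟩ := exists_irr_charDegree_ne_one hGKcomm
    have hαd : p ∣ charDegree (α : G ⧸ K → ℂ) := by
      have h1 := IsIrrCharacter.charDegree_dvd_card α.2
      rw [hGKcard] at h1
      obtain ⟨j, -, hj⟩ := (Nat.dvd_prime_pow hp).mp h1
      rw [hj]
      rcases Nat.eq_zero_or_pos j with h | h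
      · rw [hj, h, pow_zero] at hα; exact absurd rfl hα
      · exact dvd_pow_self p h.ne'
    let β : IrrCharacter G := ⟨fun g => (α : G ⧸ K → ℂ) (QuotientGroup.mk' K g),
      IsIrrCharacter.comp_surjective α.2 (QuotientGroup.mk' K) (QuotientGroup.mk'_surjective K)⟩
    have hβd : charDegree (β : G → ℂ) = charDegree (α : G ⧸ K → ℂ) := by
      unfold charDegree
      simp only [β, map_one]
    have hβ := huniq β (by rw [hβd]; exact hαd)
    have hKker : ∀ k ∈ K, (χ₀ : G → ℂ) k = (χ₀ : G → ℂ) 1 := by
      intro k hk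
      rw [← hβ]
      simp only [β, QuotientGroup.mk'_apply, (QuotientGroup.eq_one_iff k).mpr hk,
        QuotientGroup.mk_one]
    have hKcomm' : K ≤ commutator G := by
      intro k hk
      apply hsupp
      rw [hKker k hk]
      exact hd0
    -- K = ⊥
    have hKbot : K = ⊥ := by
      by_contra hKne
      have hnt : Nontrivial (G ⧸ (P : Subgroup G)) := by
        rw [← Finite.one_lt_card_iff_nontrivial, ← Subgroup.index_eq_card, ← hKcard]
        exact (Subgroup.one_lt_card_iff_ne_bot K).mpr hKne
      have hlt := Group.IsSolvable.commutator_lt_top_of_nontrivial (G ⧸ (P : Subgroup G))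
      apply hlt.ne
      rw [eq_top_iff]
      intro y _
      induction y using QuotientGroup.induction_on with
      | H g =>
        obtain ⟨x, hx, k, hk, rfl⟩ := hdecomp g
        have h1 : ((x * k : G) : G ⧸ (P : Subgroup G)) = (k : G ⧸ (P : Subgroup G)) := by
          rw [QuotientGroup.mk_mul, (QuotientGroup.eq_one_iff x).mpr hx, one_mul]
        rw [h1]
        exact map_mem_commutator (QuotientGroup.mk' (P : Subgroup G)) (hKcomm' hk)
    -- so P = ⊤
    have hPtop : (P : Subgroup G) = ⊤ := by
      have h1 := hK.sup_eq_top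
      rwa [hKbot, sup_bot_eq] at h1
    have hPG : IsPGroup p (⊤ : Subgroup G) := hPtop ▸ P.2
    exact hPG.of_equiv Subgroup.topEquiv

/-- A `p`-group with exactly one nonlinear irreducible character is an extraspecial 2-group. -/
theorem extraspecial_of_isPGroup_of_unique (p : ℕ) [Fact p.Prime] (hG : IsPGroup p G)
    (χ₀ : IrrCharacter G) (h0 : charDegree (χ₀ : G → ℂ) ≠ 1)
    (huniq : ∀ ψ : IrrCharacter G, charDegree (ψ : G → ℂ) ≠ 1 → ψ = χ₀) :
    p = 2 ∧ IsExtraspecial 2 G := by
  classical
  have := Fintype.ofFinite G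
  have hfin : Finite (IrrCharacter G) := Helper79.irr_finite'
  have := Fintype.ofFinite (IrrCharacter G)
  have hp : p.Prime := Fact.out
  have hχc := IsIrrCharacter.isCharacter χ₀.2
  have hd0 : (χ₀ : G → ℂ) 1 ≠ 0 := Helper79.irr_one_ne_zero χ₀
  set d := charDegree (χ₀ : G → ℂ) with hd
  have hdpos : 0 < d := IsIrrCharacter.charDegree_pos χ₀.2
  have hd1 : (d : ℂ) = (χ₀ : G → ℂ) 1 := IsCharacter.charDegree_cast hχc
  -- p divides d
  have hpd : ∀ ψ : IrrCharacter G, charDegree (ψ : G → ℂ) ≠ 1 → p ∣ charDegree (ψ : G → ℂ) := by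
    intro ψ hψ
    obtain ⟨n, hn⟩ := IsPGroup.iff_card.mp hG
    have h1 := IsIrrCharacter.charDegree_dvd_card ψ.2
    rw [hn] at h1
    obtain ⟨j, -, hj⟩ := (Nat.dvd_prime_pow hp).mp h1
    rw [hj]
    rcases Nat.eq_zero_or_pos j with h | h
    · rw [hj, h, pow_zero] at hψ; exact absurd rfl hψ
    · exact dvd_pow_self p h.ne'
  have hlin : ∀ ψ : IrrCharacter G, ψ ≠ χ₀ → charDegree (ψ : G → ℂ) = 1 := by
    intro ψ hψ
    by_contra h
    exact hψ (huniq ψ h)
  -- twist invariance
  have htw : ∀ ν : G →* ℂˣ, (fun g => ((ν g : ℂˣ) : ℂ) * (χ₀ : G → ℂ) g) = (χ₀ : G → ℂ) := by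
    intro ν
    have hirr := Helper81.isIrrCharacter_twist ν χ₀.2
    let ψ : IrrCharacter G := ⟨_, hirr⟩
    have hdeg : charDegree (ψ : G → ℂ) = d := by
      rw [hd]
      unfold charDegree
      simp only [ψ, map_one, Units.val_one, one_mul]
    have := huniq ψ (by rw [hdeg]; exact h0)
    exact congrArg Subtype.val this
  have hsupp : ∀ g, (χ₀ : G → ℂ) g ≠ 0 → g ∈ commutator G := fun g hg =>
    mem_commutator_of_twist_invariant htw hg
  have hZval : ∀ z ∈ Subgroup.center G, ‖(χ₀ : G → ℂ) z‖ = (d : ℝ) := fun z hz =>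
    IsIrrCharacter.norm_eq_of_mem_center χ₀.2 hz
  have hZG : Subgroup.center G ≤ commutator G := by
    intro z hz
    apply hsupp
    intro h
    have h1 := hZval z hz
    rw [h, norm_zero] at h1
    have : (d : ℝ) = 0 := h1.symm
    have : d = 0 := by exact_mod_cast this
    omega
  -- faithful
  have hfaith : ∀ x, (χ₀ : G → ℂ) x = (χ₀ : G → ℂ) 1 → x = 1 := by
    intro x hx
    have hxc : x ∈ commutator G := hsupp x (by rw [hx]; exact hd0)
    have hc : IsConj x 1 := by
      rw [Helper79.isConj_iff_forall_irr_eq]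
      intro ψ
      by_cases hψ : ψ = χ₀
      · rw [hψ]; exact hx
      · exact IsCharacter.eq_one_of_mem_commutator (IsIrrCharacter.isCharacter ψ.2)
          (hlin ψ hψ) hxc
    exact isConj_one_left.mp hc
  -- G is not commutative, hence nontrivial
  have hncomm : ¬ IsMulCommutative G := by
    intro hc
    haveI := hc
    exact h0 (IsIrrCharacter.charDegree_eq_one_of_comm χ₀.2)
  have hnt : Nontrivial G := by
    by_contra hnt
    rw [not_nontrivial_iff_subsingleton] at hnt
    apply hncomm
    rw [isMulCommutative_iff]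
    intro a b
    exact Subsingleton.elim _ _
  -- G ⧸ Z(G) commutative
  have hGZ : IsMulCommutative (G ⧸ Subgroup.center G) := by
    by_contra hnc
    obtain ⟨α, hα⟩ := exists_irr_charDegree_ne_one hnc
    let β : IrrCharacter G :=
      ⟨fun g => (α : G ⧸ Subgroup.center G → ℂ) (QuotientGroup.mk' (Subgroup.center G) g),
        IsIrrCharacter.comp_surjective α.2 (QuotientGroup.mk' (Subgroup.center G))
          (QuotientGroup.mk'_surjective _)⟩
    have hβd : charDegree (β : G → ℂ) = charDegree (α : G ⧸ Subgroup.center G → ℂ) := by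
      unfold charDegree
      simp only [β, map_one]
    have hβ := huniq β (by rw [hβd]; exact hα)
    have hcen : Nontrivial (Subgroup.center G) := hG.center_nontrivial
    obtain ⟨z, hz⟩ := exists_ne (1 : Subgroup.center G)
    apply hz
    apply Subtype.ext
    apply hfaith
    rw [← hβ]
    simp only [β, QuotientGroup.mk'_apply, (QuotientGroup.eq_one_iff (z : G)).mpr z.2,
      QuotientGroup.mk_one]
  have hGZ' : commutator G ≤ Subgroup.center G := by
    rw [commutator_def, Subgroup.commutator_le]
    intro a _ b _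
    rw [← QuotientGroup.eq_one_iff, commutatorElement_def]
    simp only [QuotientGroup.mk_mul, QuotientGroup.mk_inv]
    have := (isMulCommutative_iff.mp hGZ) (a : G ⧸ Subgroup.center G) (b : G ⧸ Subgroup.center G)
    rw [this]; group
  have hZeq : commutator G = Subgroup.center G := le_antisymm hGZ' hZG
  -- counting: |G'| d² = |G|
  have hcount1 : Nat.card (commutator G) * d ^ 2 = Nat.card G := by
    have h1 := IsIrrCharacter.sum_mul_conj χ₀.2
    have h2 : ∑ g : G, (χ₀ : G → ℂ) g * conj ((χ₀ : G → ℂ) g) =
        ∑ g ∈ Finset.univ.filter (· ∈ commutator G), ((d : ℂ) ^ 2) := by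
      rw [← Finset.sum_subset (Finset.subset_univ (Finset.univ.filter (· ∈ commutator G)))]
      · refine Finset.sum_congr rfl fun g hg => ?_
        have hgc : g ∈ commutator G := (Finset.mem_filter.mp hg).2
        have h3 := hZval g (hGZ' hgc)
        rw [Complex.mul_conj, Complex.normSq_eq_norm_sq, h3]
        push_cast
        ring
      · intro g _ hg
        have hgc : g ∉ commutator G := fun h => hg (Finset.mem_filter.mpr ⟨Finset.mem_univ _, h⟩)
        have : (χ₀ : G → ℂ) g = 0 := by
          by_contra h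
          exact hgc (hsupp g h)
        rw [this, zero_mul]
    rw [h2, Finset.sum_const, nsmul_eq_mul] at h1
    have h4 : (Finset.univ.filter (· ∈ commutator G)).card = Nat.card (commutator G) := by
      rw [Nat.card_eq_fintype_card, Fintype.card_subtype]
    rw [h4] at h1
    have h5 : ((Nat.card (commutator G) * d ^ 2 : ℕ) : ℂ) = ((Nat.card G : ℕ) : ℂ) := by
      push_cast
      rw [h1, Nat.card_eq_fintype_card]
    exact_mod_cast h5
  -- counting: d² + [G:G'] = |G|
  have hcount2 : d ^ 2 + (commutator G).index = Nat.card G := by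
    have h3 := Cfsg.Agent.S4808.sum_sq_filter_ker (commutator G)
    have h4 := Helper79.sum_charDegree_sq (G := G)
    have hfilter : Finset.univ.filter
        (fun ψ : IrrCharacter G => ∀ n ∈ commutator G, (ψ : G → ℂ) n = (ψ : G → ℂ) 1) =
        Finset.univ.erase χ₀ := by
      ext ψ
      simp only [Finset.mem_filter, Finset.mem_univ, true_and, Finset.mem_erase, and_true]
      constructor
      · intro h hψ
        rw [hψ] at h
        apply h0
        exact IsIrrCharacter.charDegree_eq_one_of_commutator_le χ₀.2 h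
      · intro hψ n hn
        exact IsCharacter.eq_one_of_mem_commutator (IsIrrCharacter.isCharacter ψ.2)
          (hlin ψ hψ) hn
    rw [hfilter] at h3
    rw [← h4, ← h3]
    exact Finset.add_sum_erase Finset.univ
      (fun ψ : IrrCharacter G => charDegree (ψ : G → ℂ) ^ 2) (Finset.mem_univ χ₀)
  have hcount3 : Nat.card (commutator G) * (commutator G).index = Nat.card G :=
    Subgroup.card_mul_index _
  have hcard2 : Nat.card (commutator G) = 2 := by
    have hipos : 0 < (commutator G).index := Nat.pos_of_ne_zero Subgroup.index_ne_zero_of_finite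
    have hd2pos : 0 < d ^ 2 := by positivity
    -- index = d²
    have h6 : Nat.card (commutator G) * (commutator G).index =
        Nat.card (commutator G) * d ^ 2 := by rw [hcount3, hcount1]
    have h7 : (commutator G).index = d ^ 2 :=
      Nat.eq_of_mul_eq_mul_left Nat.card_pos h6
    have h8 : Nat.card (commutator G) * d ^ 2 = 2 * d ^ 2 := by
      rw [hcount1, ← hcount2, h7]; ring
    exact Nat.eq_of_mul_eq_mul_right hd2pos h8
  -- p = 2
  have hp2 : p = 2 := by
    obtain ⟨n, hn⟩ := IsPGroup.iff_card.mp hG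
    have h1 : Nat.card (commutator G) ∣ Nat.card G := Subgroup.card_subgroup_dvd_card _
    rw [hcard2, hn] at h1
    exact ((Nat.prime_dvd_prime_iff_eq Nat.prime_two hp).mp (Nat.prime_two.dvd_of_dvd_pow h1)).symm
  refine ⟨hp2, ?_⟩
  subst hp2
  have hZcard : Nat.card (Subgroup.center G) = 2 := by rw [← hZeq]; exact hcard2
  refine ⟨⟨hG, ?_, hZeq⟩, hZcard⟩
  -- the Frattini subgroup
  apply le_antisymm
  · -- frattini ≤ center
    intro g hg
    by_contra hgZ
    obtain ⟨ν, hνZ, hνg⟩ := exists_hom_ne_one_of_not_mem (Subgroup.center G)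
      (isMulCommutative_iff.mp hGZ) g hgZ
    -- squares are central
    have hsq : ∀ x : G, x ^ 2 ∈ Subgroup.center G := by
      intro x
      rw [Subgroup.mem_center_iff]
      intro y
      have hc : ⁅x, y⁆ ∈ Subgroup.center G :=
        hGZ' (Subgroup.commutator_mem_commutator (Subgroup.mem_top _) (Subgroup.mem_top _))
      have hc2 : ⁅x, y⁆ ^ 2 = 1 := by
        have h1 : (⟨⁅x, y⁆, hc⟩ : Subgroup.center G) ^ Nat.card (Subgroup.center G) = 1 :=
          pow_card_eq_one'
        rw [hZcard] at h1
        have h2 := congrArg Subtype.val h1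
        simpa using h2
      have hcomm := Subgroup.mem_center_iff.mp hc
      have hxy : x * y = ⁅x, y⁆ * (y * x) := by rw [commutatorElement_def]; group
      generalize ⁅x, y⁆ = c at hc2 hcomm hxy
      symm
      calc x ^ 2 * y = x * (x * y) := by rw [pow_two, mul_assoc]
        _ = x * (c * (y * x)) := by rw [hxy]
        _ = (x * c) * (y * x) := by rw [mul_assoc]
        _ = (c * x) * (y * x) := by rw [hcomm x]
        _ = c * ((x * y) * x) := by simp only [mul_assoc]
        _ = c * ((c * (y * x)) * x) := by rw [hxy]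
        _ = c ^ 2 * (y * x ^ 2) := by rw [pow_two, pow_two]; simp only [mul_assoc]
        _ = y * x ^ 2 := by rw [hc2, one_mul]
    have hν1 : ν ≠ 1 := by
      intro h
      apply hνg
      rw [h]; rfl
    have hνpow : ∀ x, ν x ^ 2 = 1 := by
      intro x
      rw [← map_pow]
      exact hνZ _ (hsq x)
    have hidx := Cfsg.Agent.S4797.index_ker_eq_prime ν 2 Nat.prime_two hν1 hνpow
    have hco := isCoatom_of_index_prime' Nat.prime_two hidx
    have hgker : g ∈ ν.ker := frattini_le_coatom hco hg
    exact hνg (MonoidHom.mem_ker.mp hgker)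
  · -- center ≤ frattini
    rw [← hZeq]
    intro g hg
    unfold frattini Order.radical
    simp only [Subgroup.mem_iInf]
    intro M hM
    have hMn : M.Normal := Helper63.normal_of_isCoatom_of_isPGroup hG M hM
    have hMi : M.index = 2 := Helper63.index_of_isCoatom_of_isPGroup hG M hM
    have hcard : Nat.card (G ⧸ M) = 2 := by rw [← Subgroup.index_eq_card]; exact hMi
    have hcyc : IsCyclic (G ⧸ M) := isCyclic_of_prime_card hcard
    letI : CommGroup (G ⧸ M) := IsCyclic.commGroup
    have h1 : g ∈ (QuotientGroup.mk' M).ker := Abelianization.commutator_subset_ker _ hg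
    rwa [QuotientGroup.ker_mk'] at h1

end onechar

end Cfsg.Agent.Helper80
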