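import Cfsg.Agent.Helper91.FTC.Fun

/-!
helper80, piece (PAIRS) of helper91's FastTC farm 2 (#15288, S1690).
-/

set_option autoImplicit false

namespace Cfsg.Agent.Helper80.FTC

open Cfsg.Agent.Helper91.FTC

/-- the list recursor used in `chkPairsF` is a conjunction -/
theorem PAIRS_rec (f : (ℕ → ℕ) → ℕ → Bool) (p : ℕ) (cs : List (ℕ → ℕ))
    (h : List.rec (motive := fun _ => Bool) true
      (fun ty _ ih => frc (ty p) fun b => sel (f ty b) ih false) cs = true) :
    ∀ ty ∈ cs, f ty (ty p) = true := by
  induction cs with
  | nil => intro ty hty; simp at hty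
  | cons t cs ih =>
    have h1 : List.rec (motive := fun _ => Bool) true
        (fun ty _ ih => frc (ty p) fun b => sel (f ty b) ih false) (t :: cs) =
        frc (t p) fun b => sel (f t b) (List.rec (motive := fun _ => Bool) true
        (fun ty _ ih => frc (ty p) fun b => sel (f ty b) ih false) cs) false := rfl
    rw [h1, frc_eq] at h
    intro ty hty
    rcases List.mem_cons.mp hty with rfl | hty
    · cases hf : f ty (ty p)
      · rw [hf] at h; exact absurd h (by simp [sel])
      · rfl
    · apply ih _ ty hty
      cases hf : f t (t p)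
      · rw [hf] at h; exact absurd h (by simp [sel])
      · rw [hf] at h; exact h

/-- (PAIRS) the combined pair test implies the single tests. -/
theorem chkPairsF_sound (tx : ℕ → ℕ) (cs bs : List (ℕ → ℕ)) (p : ℕ)
    (h : chkPairsF tx cs bs p = true) :
    (∀ ty ∈ cs, chkCommF tx ty p = true) ∧ (∀ ty ∈ bs, chkBraidF tx ty p = true) := by
  unfold chkPairsF at h
  rw [frc_eq] at h
  have hC : ∀ ty, chkCommF tx ty p =
      sel (Nat.ble p (tx p)) (sel (Nat.ble p (ty p)) (Nat.beq (ty (tx p)) (tx (ty p))) true) true := by
    intro ty
    unfold chkCommF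
    rw [frc_eq, frc_eq]
  have hB : ∀ ty, chkBraidF tx ty p =
      sel (Nat.ble p (tx p)) (sel (Nat.ble p (ty p)) (Nat.beq (tx (ty (tx p))) (ty (tx (ty p)))) true)
        true := by
    intro ty
    unfold chkBraidF
    rw [frc_eq, frc_eq]
  cases hpa : Nat.ble p (tx p)
  · constructor
    · intro ty _; rw [hC, hpa]
    · intro ty _; rw [hB, hpa]
  · rw [hpa] at h
    have h' : sel (List.rec (motive := fun _ => Bool) true
            (fun ty _ ih => frc (ty p) fun b =>
              sel (sel (Nat.ble p b) (Nat.beq (ty (tx p)) (tx b)) true) ih false) cs)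
          (List.rec (motive := fun _ => Bool) true
            (fun ty _ ih => frc (ty p) fun b =>
              sel (sel (Nat.ble p b) (Nat.beq (tx (ty (tx p))) (ty (tx b))) true) ih false) bs)
          false = true := h
    have h1 : List.rec (motive := fun _ => Bool) true
            (fun ty _ ih => frc (ty p) fun b =>
              sel (sel (Nat.ble p b) (Nat.beq (ty (tx p)) (tx b)) true) ih false) cs = true := by
      cases hx : List.rec (motive := fun _ => Bool) true
            (fun ty _ ih => frc (ty p) fun b =>
              sel (sel (Nat.ble p b) (Nat.beq (ty (tx p)) (tx b)) true) ih false) cs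
      · rw [hx] at h'; exact absurd h' (by simp [sel])
      · rfl
    rw [h1] at h'
    have h2 : List.rec (motive := fun _ => Bool) true
            (fun ty _ ih => frc (ty p) fun b =>
              sel (sel (Nat.ble p b) (Nat.beq (tx (ty (tx p))) (ty (tx b))) true) ih false) bs = true := h'
    constructor
    · intro ty hty
      rw [hC, hpa]
      exact PAIRS_rec (fun ty b => sel (Nat.ble p b) (Nat.beq (ty (tx p)) (tx b)) true) p cs h1 ty hty
    · intro ty hty
      rw [hB, hpa]
      exact PAIRS_rec (fun ty b => sel (Nat.ble p b) (Nat.beq (tx (ty (tx p))) (ty (tx b))) true) p bs h2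
        ty hty

end Cfsg.Agent.Helper80.FTC
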