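import Cfsg.Agent.Helper91.FTC.Fun

/-!
helper80, piece (TRF) of helper91's FastTC farm 2 (#15288, S1690).
-/

set_option autoImplicit false

namespace Cfsg.Agent.Helper80.FTC

open Cfsg.Agent.Helper91.FTC

/-- (TRF) tracing a word = tracing its lookup functions. -/
theorem trace_eq_traceF (P : PTab) (w : List ℕ) (p : ℕ) :
    trace P w p = traceF (w.map P.t) p := by
  induction w generalizing p with
  | nil => rfl
  | cons y w ih =>
    have h1 : trace P (y :: w) p = frc (P.t y p) (trace P w) := rfl
    have h2 : traceF ((y :: w).map P.t) p = frc (P.t y p) (traceF (w.map P.t)) := rfl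
    rw [h1, h2, frc_eq, frc_eq, ih]

end Cfsg.Agent.Helper80.FTC
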