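import Mathlib
import Cfsg.Agent.Helper80.GalConj1
import Cfsg.Agent.Helper76.PGroup

set_option autoImplicit false

/-!
# `p`-groups with cyclic centre and derived subgroup of order `p`

`galConj_of_cyclic_center`: in such a group, any two nonlinear irreducible characters (they all
have the same degree) are Galois conjugate.
-/

namespace Cfsg.Agent.Helper80

open Cfsg

universe u

section cyc

/-- In a finite cyclic group, any two elements of prime order `p` generate the same subgroup. -/
theorem mem_zpowers_of_orderOf_eq_prime {C : Type u} [Group C] [Finite C] [IsCyclic C] {p : ℕ}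
    (hp : p.Prime) {x y : C} (hx : orderOf x = p) (hy : y ^ p = 1) : y ∈ Subgroup.zpowers x := by
  classical
  cases nonempty_fintype C
  have h1 := IsCyclic.card_pow_eq_one_le (α := C) hp.pos
  -- the powers of `x` are among the solutions of `a ^ p = 1`
  let S : Finset C := Finset.univ.filter fun a : C => a ∈ Subgroup.zpowers x
  have hS : S.card = p := by
    have : S.card = Nat.card (Subgroup.zpowers x) := by
      rw [Nat.card_eq_fintype_card, Fintype.card_subtype]
    rw [this, Nat.card_zpowers, hx]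
  have hsub : S ⊆ Finset.univ.filter fun a : C => a ^ p = 1 := by
    intro a ha
    rw [Finset.mem_filter] at ha ⊢
    refine ⟨Finset.mem_univ _, ?_⟩
    obtain ⟨k, rfl⟩ := Subgroup.mem_zpowers_iff.mp ha.2
    rw [← zpow_natCast, ← zpow_mul, mul_comm, zpow_mul, zpow_natCast, ← hx, pow_orderOf_eq_one,
      one_zpow]
  have heq : S = Finset.univ.filter fun a : C => a ^ p = 1 :=
    Finset.eq_of_subset_of_card_le hsub (by rw [hS]; exact h1)
  have hyS : y ∈ S := by
    rw [heq, Finset.mem_filter]
    exact ⟨Finset.mem_univ _, hy⟩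
  exact (Finset.mem_filter.mp hyS).2

end cyc

section conv

variable {P : Type u} [Group P] [Finite P]

/-- In a `p`-group with cyclic centre and derived subgroup of order `p`, a nonlinear irreducible
character is faithful on the centre. -/
theorem eq_one_of_mem_center_of_mem_ker {p : ℕ} [hp : Fact p.Prime] (hP : IsPGroup p P)
    (hZ : IsCyclic (Subgroup.center P)) (hc : Nat.card (commutator P) = p)
    (hcz : commutator P ≤ Subgroup.center P) {χ : P → ℂ} (h : IsIrrCharacter P χ)
    (hχ : charDegree χ ≠ 1) {z : P} (hz : z ∈ Subgroup.center P) (hzk : χ z = χ 1) : z = 1 := by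
  have hχc := IsIrrCharacter.isCharacter h
  by_contra hz1
  apply hχ
  apply IsIrrCharacter.charDegree_eq_one_of_commutator_le h
  -- an element of order `p` in `⟨z⟩`
  obtain ⟨j, hj⟩ : ∃ j, orderOf z = p ^ j := by
    obtain ⟨j', hj'⟩ := hP z
    obtain ⟨j, -, hj⟩ := (Nat.dvd_prime_pow hp.out).mp (orderOf_dvd_of_pow_eq_one hj')
    exact ⟨j, hj⟩
  have hj0 : j ≠ 0 := by
    rintro rfl
    rw [pow_zero, orderOf_eq_one_iff] at hj
    exact hz1 hj
  have hpz : p ∣ orderOf z := by
    rw [hj]
    exact dvd_pow_self p hj0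
  set z' : P := z ^ (orderOf z / p) with hz'
  have hz'o : orderOf z' = p := orderOf_pow_orderOf_div (orderOf_pos z).ne' hpz
  have hz'c : z' ∈ Subgroup.center P := Subgroup.pow_mem _ hz _
  have hz'k : z' ∈ kerChar χ hχc :=
    Subgroup.pow_mem _ ((mem_kerChar hχc z).mpr hzk) _
  -- a generator of the derived subgroup
  have hcyc : IsCyclic (commutator P) := isCyclic_of_prime_card hc
  obtain ⟨⟨c, hcm⟩, hcgen⟩ := hcyc.exists_generator
  have hco : orderOf c = p := by
    have h1 := orderOf_eq_card_of_forall_mem_zpowers hcgen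
    rw [Subgroup.orderOf_mk] at h1
    rw [h1, hc]
  -- `c` is a power of `z'`
  have h2 : (⟨c, hcz hcm⟩ : Subgroup.center P) ∈
      Subgroup.zpowers (⟨z', hz'c⟩ : Subgroup.center P) := by
    apply mem_zpowers_of_orderOf_eq_prime hp.out
    · rw [Subgroup.orderOf_mk, hz'o]
    · apply Subtype.ext
      rw [Subgroup.coe_pow, Subgroup.coe_one]
      show c ^ p = 1
      rw [← hco, pow_orderOf_eq_one]
  obtain ⟨i, hi⟩ := Subgroup.mem_zpowers_iff.mp h2
  have hci : z' ^ i = c := by
    have := congrArg Subtype.val hi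
    simpa using this
  have hck : c ∈ kerChar χ hχc := by
    rw [← hci]
    exact Subgroup.zpow_mem _ hz'k i
  intro g hg
  obtain ⟨m, hm⟩ := Subgroup.mem_zpowers_iff.mp (hcgen ⟨g, hg⟩)
  have hgm : c ^ m = g := by
    have := congrArg Subtype.val hm
    simpa using this
  rw [← hgm]
  exact (mem_kerChar hχc _).mp (Subgroup.zpow_mem _ hck m)

/-- In a `p`-group with cyclic centre and derived subgroup of order `p`, all nonlinear irreducible
characters are Galois conjugate. -/
theorem galConj_of_cyclic_center {p : ℕ} [hp : Fact p.Prime] (hP : IsPGroup p P)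
    (hZ : IsCyclic (Subgroup.center P)) (hc : Nat.card (commutator P) = p) : GalConj P := by
  classical
  have hcz : commutator P ≤ Subgroup.center P :=
    Helper76.normal_le_center_of_card_prime hP (commutator P) hc
  intro χ ψ hχ hd
  have hψ : charDegree (ψ : P → ℂ) ≠ 1 := hd ▸ hχ
  have hχc := IsIrrCharacter.isCharacter χ.2
  have hψc := IsIrrCharacter.isCharacter ψ.2
  have h1eq : (χ : P → ℂ) 1 = (ψ : P → ℂ) 1 := by
    rw [← IsCharacter.charDegree_cast hχc, ← IsCharacter.charDegree_cast hψc, hd]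
  obtain ⟨⟨z₀, hz₀⟩, hgen⟩ := hZ.exists_generator
  set n := orderOf z₀ with hn
  have hnpos : 0 < n := orderOf_pos z₀
  -- the scalars by which `z₀` acts
  have hscal : ∀ (φ : P → ℂ), IsIrrCharacter P φ → ∃ a : ℂ, ∀ (i : ℕ) (g : P),
      φ (g * z₀ ^ i) = a ^ i * φ g := by
    intro φ hφ
    obtain ⟨a, ha⟩ := IsIrrCharacter.exists_central_scalar hφ hz₀
    refine ⟨a, fun i => ?_⟩
    induction i with
    | zero => intro g; simp
    | succ i ih =>
      intro g
      rw [pow_succ, ← mul_assoc, ha, ih, pow_succ]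
      ring
  obtain ⟨a, hai⟩ := hscal χ χ.2
  obtain ⟨b, hbi⟩ := hscal ψ ψ.2
  have hprim : ∀ (φ : P → ℂ), IsIrrCharacter P φ → charDegree φ ≠ 1 → ∀ a : ℂ,
      (∀ (i : ℕ) (g : P), φ (g * z₀ ^ i) = a ^ i * φ g) → IsPrimitiveRoot a n := by
    intro φ hφ hφn a hai
    have h1 : φ 1 ≠ 0 := IsIrrCharacter.map_one_ne_zero hφ
    rw [IsPrimitiveRoot.iff_def]
    constructor
    · have h2 := hai n 1
      rw [one_mul, hn, pow_orderOf_eq_one] at h2
      have h3 : (1 : ℂ) * φ 1 = a ^ orderOf z₀ * φ 1 := by rw [one_mul]; exact h2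
      exact (mul_right_cancel₀ h1 h3).symm
    · intro l hl
      have h2 := hai l 1
      rw [one_mul, hl, one_mul] at h2
      have h3 := eq_one_of_mem_center_of_mem_ker hP hZ hc hcz hφ hφn
        (Subgroup.pow_mem _ hz₀ l) h2
      exact orderOf_dvd_of_pow_eq_one h3
  have hpa := hprim χ χ.2 hχ a hai
  have hpb := hprim ψ ψ.2 hψ b hbi
  haveI : NeZero n := ⟨hnpos.ne'⟩
  obtain ⟨k, -, hk⟩ := hpa.eq_pow_of_pow_eq_one hpb.pow_eq_one
  have hkcop : k.Coprime n := (hpa.pow_iff_coprime hnpos k).mp (hk ▸ hpb)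
  have hpn : p ∣ n := by
    have h1 : n = Nat.card (Subgroup.center P) := by
      have := orderOf_eq_card_of_forall_mem_zpowers hgen
      rwa [Subgroup.orderOf_mk] at this
    rw [h1, ← hc]
    exact Subgroup.card_dvd_of_le hcz
  have hkp : k.Coprime p := Nat.Coprime.coprime_dvd_right hpn hkcop
  obtain ⟨m, hm⟩ := IsPGroup.iff_card.mp hP
  have hkP : k.Coprime (Nat.card P) := by
    rw [hm]
    exact Nat.Coprime.pow_right m hkp
  refine ⟨k, hkP, fun g => ?_⟩
  by_cases hg : g ∈ Subgroup.center P
  · obtain ⟨i, hi⟩ := mem_powers_iff_mem_zpowers.mpr (hgen ⟨g, hg⟩)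
    have hgi : z₀ ^ i = g := by
      have := congrArg Subtype.val hi
      simpa using this
    rw [← hgi]
    have e1 := hbi i 1
    have e2 := hai (i * k) 1
    rw [one_mul] at e1 e2
    rw [e1, ← pow_mul, e2, ← hk, ← pow_mul, h1eq, mul_comm i k]
  · rw [IsIrrCharacter.eq_zero_of_not_mem_center hp.out hc hcz ψ.2 hψ hg]
    have hgk : g ^ k ∉ Subgroup.center P := by
      intro hgk
      have hcop : k.Coprime (orderOf g) :=
        Nat.Coprime.coprime_dvd_right (orderOf_dvd_natCard g) hkP
      obtain ⟨m', hm'⟩ := exists_pow_eq_self_of_coprime hcop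
      exact hg (hm' ▸ Subgroup.pow_mem _ hgk m')
    rw [IsIrrCharacter.eq_zero_of_not_mem_center hp.out hc hcz χ.2 hχ hgk]

end conv

end Cfsg.Agent.Helper80
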