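import Mathlib
import Cfsg.Agent.Helper80.GalConj2
import Cfsg.Agent.Helper73.PGroupCyclic
import Cfsg.Agent.Lib.Nilpotent

set_option autoImplicit false

/-!
# Tools for the converse direction of the Galois conjugacy criterion

* `IsIrrCharacter.charDegree_eq_one_of_commutator_mem_ker`: if `|G'| = p` and a nontrivial element
  of `G'` lies in the kernel of an irreducible character, the character is linear.
* `exists_orderOf_eq_prime_mem_commutator_inf_center`: a nonabelian `p`-group has a central
  element of order `p` in its derived subgroup.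
* `card_comap_center_le`: if `Y` is a central subgroup of exponent `p` and `Z(G/Y)` is cyclic, then
  the preimage of `Z(G/Y)` has order at most `p * |Z(G)|`.
* `exists_charDegree_eq_pow`: the resulting degree formula for nonlinear characters of `G/Y`.
-/

namespace Cfsg.Agent.Helper80

open Cfsg
open scoped commutatorElement

universe u

section tools

variable {G : Type u} [Group G]

/-- The image of an element of the derived subgroup in a quotient lies in the derived subgroup. -/
theorem mk_mem_commutator (N : Subgroup G) [N.Normal] {g : G} (hg : g ∈ commutator G) :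
    (QuotientGroup.mk' N g) ∈ commutator (G ⧸ N) := by
  have h1 : g ∈ ((Abelianization.of (G := G ⧸ N)).comp (QuotientGroup.mk' N)).ker :=
    Abelianization.commutator_subset_ker _ hg
  rw [MonoidHom.mem_ker, MonoidHom.comp_apply] at h1
  have h2 : QuotientGroup.mk' N g ∈ (Abelianization.of (G := G ⧸ N)).ker :=
    MonoidHom.mem_ker.mpr h1
  rwa [Abelianization.ker_of] at h2

/-- A commutator lies in the derived subgroup. -/
theorem commutatorElement_mem_commutator (a b : G) : ⁅a, b⁆ ∈ commutator G := by
  rw [commutator_def]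
  exact Subgroup.commutator_mem_commutator (Subgroup.mem_top _) (Subgroup.mem_top _)

/-- The derived subgroup of a commutative group is trivial. -/
theorem commutator_eq_bot_of_comm (h : IsMulCommutative G) : commutator G = ⊥ := by
  rw [eq_bot_iff, commutator_def, Subgroup.commutator_le]
  intro a _ b _
  rw [Subgroup.mem_bot, commutatorElement_eq_one_iff_mul_comm]
  exact h.is_comm.comm a b

/-- If the derived subgroup is trivial, the group is commutative. -/
theorem isMulCommutative_of_commutator_eq_bot (h : commutator G = ⊥) : IsMulCommutative G := by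
  rw [isMulCommutative_iff]
  intro a b
  have := commutatorElement_mem_commutator a b
  rwa [h, Subgroup.mem_bot, commutatorElement_eq_one_iff_mul_comm] at this

/-- A quotient that does not kill some element of the derived subgroup is not commutative. -/
theorem not_isMulCommutative_quotient (N : Subgroup G) [N.Normal] {z : G}
    (hz : z ∈ commutator G) (hzN : z ∉ N) : ¬ IsMulCommutative (G ⧸ N) := by
  intro h
  have h1 := mk_mem_commutator N hz
  rw [commutator_eq_bot_of_comm h, Subgroup.mem_bot, QuotientGroup.mk'_apply,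
    QuotientGroup.eq_one_iff] at h1
  exact hzN h1

/-- If the quotient by `N` is commutative, `N` contains the derived subgroup. -/
theorem commutator_le_of_comm_quotient (N : Subgroup G) [N.Normal]
    (h : IsMulCommutative (G ⧸ N)) : commutator G ≤ N := by
  intro z hz
  by_contra hzN
  exact not_isMulCommutative_quotient N hz hzN h

variable [Finite G]

/-- If `|G'| = p` and a nontrivial element of `G'` lies in the kernel of an irreducible character,
then the character is linear. -/
theorem IsIrrCharacter.charDegree_eq_one_of_commutator_mem_ker {p : ℕ} (hp : p.Prime)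
    (hc : Nat.card (commutator G) = p) {χ : G → ℂ} (h : IsIrrCharacter G χ) {c : G}
    (hcm : c ∈ commutator G) (hc1 : c ≠ 1) (hck : χ c = χ 1) : charDegree χ = 1 := by
  have hχc := IsIrrCharacter.isCharacter h
  apply IsIrrCharacter.charDegree_eq_one_of_commutator_le h
  set K := kerChar χ hχc ⊓ commutator G with hK
  have hcK : c ∈ K := ⟨(mem_kerChar hχc c).mpr hck, hcm⟩
  have hKd : Nat.card K ∣ p := by
    rw [← hc]
    exact Subgroup.card_dvd_of_le inf_le_right
  have hKp : Nat.card K = p := by
    rcases (Nat.dvd_prime hp).mp hKd with h1 | h1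
    · exfalso
      have := Subgroup.card_eq_one.mp h1
      rw [this, Subgroup.mem_bot] at hcK
      exact hc1 hcK
    · exact h1
  have hKeq : K = commutator G :=
    Subgroup.eq_of_le_of_card_ge inf_le_right (by rw [hKp, hc])
  intro g hg
  rw [← hKeq] at hg
  exact (mem_kerChar hχc g).mp hg.1

/-- A nonabelian `p`-group has a central element of order `p` in its derived subgroup. -/
theorem exists_orderOf_eq_prime_mem_commutator_inf_center {p : ℕ} [hp : Fact p.Prime]
    (hP : IsPGroup p G) (hna : ¬ IsMulCommutative G) :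
    ∃ z : G, z ∈ commutator G ∧ z ∈ Subgroup.center G ∧ orderOf z = p := by
  have : Group.IsNilpotent G := hP.isNilpotent
  have hne : commutator G ≠ ⊥ := fun h => hna (isMulCommutative_of_commutator_eq_bot h)
  have h1 := Lib.normal_inf_center_ne_bot (commutator G) hne
  obtain ⟨⟨x, hxm⟩, hx1⟩ := (Subgroup.ne_bot_iff_exists_ne_one).mp h1
  have hx1' : x ≠ 1 := fun h => hx1 (Subtype.ext h)
  obtain ⟨j, hj⟩ := (IsPGroup.iff_orderOf.1 hP) x
  have hj1 : 1 ≤ j := by
    rcases Nat.eq_zero_or_pos j with h | h
    · rw [h, pow_zero, orderOf_eq_one_iff] at hj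
      exact absurd hj hx1'
    · exact h
  refine ⟨x ^ (p ^ (j - 1)), Subgroup.pow_mem _ hxm.1 _, Subgroup.pow_mem _ hxm.2 _,
    Helper73.orderOf_pow_pred hj hj1⟩

end tools

section cyclic

variable {C : Type u} [Group C] [Finite C]

/-- In a finite cyclic group, an element killed by the order of `x` is a power of `x`. -/
theorem mem_zpowers_of_pow_orderOf_eq_one [IsCyclic C] {x y : C} (hy : y ^ orderOf x = 1) :
    y ∈ Subgroup.zpowers x := by
  classical
  cases nonempty_fintype C
  have h1 := IsCyclic.card_pow_eq_one_le (α := C) (orderOf_pos x)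
  let S : Finset C := Finset.univ.filter fun a : C => a ∈ Subgroup.zpowers x
  have hS : S.card = orderOf x := by
    have : S.card = Nat.card (Subgroup.zpowers x) := by
      rw [Nat.card_eq_fintype_card, Fintype.card_subtype]
    rw [this, Nat.card_zpowers]
  have hsub : S ⊆ Finset.univ.filter fun a : C => a ^ orderOf x = 1 := by
    intro a ha
    rw [Finset.mem_filter] at ha ⊢
    refine ⟨Finset.mem_univ _, ?_⟩
    obtain ⟨k, rfl⟩ := Subgroup.mem_zpowers_iff.mp ha.2
    rw [← zpow_natCast, ← zpow_mul, mul_comm, zpow_mul, zpow_natCast, pow_orderOf_eq_one,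
      one_zpow]
  have heq : S = Finset.univ.filter fun a : C => a ^ orderOf x = 1 :=
    Finset.eq_of_subset_of_card_le hsub (by rw [hS]; exact h1)
  have hyS : y ∈ S := by
    rw [heq, Finset.mem_filter]
    exact ⟨Finset.mem_univ _, hy⟩
  exact (Finset.mem_filter.mp hyS).2

/-- In a cyclic `p`-group, of any two elements one is a power of the other. -/
theorem mem_zpowers_or_mem_zpowers [IsCyclic C] {p : ℕ} [hp : Fact p.Prime] (hC : IsPGroup p C)
    (a b : C) : a ∈ Subgroup.zpowers b ∨ b ∈ Subgroup.zpowers a := by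
  obtain ⟨r, hr⟩ := (IsPGroup.iff_orderOf.1 hC) a
  obtain ⟨s, hs⟩ := (IsPGroup.iff_orderOf.1 hC) b
  rcases le_total r s with h | h
  · left
    apply mem_zpowers_of_pow_orderOf_eq_one
    rw [hs]
    apply orderOf_dvd_iff_pow_eq_one.1
    rw [hr]
    exact pow_dvd_pow p h
  · right
    apply mem_zpowers_of_pow_orderOf_eq_one
    rw [hr]
    apply orderOf_dvd_iff_pow_eq_one.1
    rw [hs]
    exact pow_dvd_pow p h

/-- A noncyclic abelian `p`-group has an element of order `p` outside any given subgroup of
order `p`. -/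
theorem exists_orderOf_eq_prime_not_mem_zpowers {p : ℕ} [hp : Fact p.Prime] (hC : IsPGroup p C)
    (hcomm : ∀ a b : C, a * b = b * a) (hnc : ¬ IsCyclic C) {z : C} (hz : orderOf z = p) :
    ∃ w : C, orderOf w = p ∧ w ∉ Subgroup.zpowers z := by
  by_contra h
  push Not at h
  apply hnc
  apply Helper73.isCyclic_of_comm_of_uniqueOrderP hC hcomm
  intro x y hx hy
  have hxz := h x hx
  have hyz := h y hy
  have hcard : Nat.card (Subgroup.zpowers z) = p := by rw [Nat.card_zpowers, hz]
  have hx1 : (⟨x, hxz⟩ : Subgroup.zpowers z) ≠ 1 := by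
    intro h1
    have h2 : x = 1 := congrArg Subtype.val h1
    rw [h2, orderOf_one] at hx
    exact hp.out.one_lt.ne hx
  have h3 := mem_zpowers_of_prime_card (G := Subgroup.zpowers z) hcard
    (g := ⟨x, hxz⟩) (g' := ⟨y, hyz⟩) hx1
  obtain ⟨k, hk⟩ := Subgroup.mem_zpowers_iff.mp h3
  refine Subgroup.mem_zpowers_iff.mpr ⟨k, ?_⟩
  have := congrArg Subtype.val hk
  simpa using this

end cyclic

section comap

variable {G : Type u} [Group G] [Finite G]

omit [Finite G] in
/-- The centre maps into the centre of a quotient. -/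
theorem center_le_comap_center (Y : Subgroup G) [Y.Normal] :
    Subgroup.center G ≤ (Subgroup.center (G ⧸ Y)).comap (QuotientGroup.mk' Y) := by
  intro z hz
  rw [Subgroup.mem_comap, Subgroup.mem_center_iff]
  intro q
  obtain ⟨g, rfl⟩ := QuotientGroup.mk'_surjective Y q
  rw [← map_mul, ← map_mul, Subgroup.mem_center_iff.mp hz g]

/-- If `Y` is a central subgroup of exponent `p` and `Z(G/Y)` is cyclic, the preimage of `Z(G/Y)`
has order at most `p * |Z(G)|`. -/
theorem card_comap_center_le {p : ℕ} (hp : 0 < p) (Y : Subgroup G) [Y.Normal]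
    (hY : Y ≤ Subgroup.center G) (hYp : ∀ y ∈ Y, y ^ p = 1)
    (hcyc : IsCyclic (Subgroup.center (G ⧸ Y))) :
    Nat.card ((Subgroup.center (G ⧸ Y)).comap (QuotientGroup.mk' Y)) ≤
      p * Nat.card (Subgroup.center G) := by
  classical
  obtain ⟨⟨q, hq⟩, hgen⟩ := hcyc.exists_generator
  obtain ⟨t, rfl⟩ := QuotientGroup.mk'_surjective Y q
  have hZW := center_le_comap_center Y
  -- commutators with `t` lie in `Y`
  have hcomm : ∀ g : G, t⁻¹ * g⁻¹ * t * g ∈ Y := by
    intro g
    have h1 := Subgroup.mem_center_iff.mp hq (QuotientGroup.mk' Y g)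
    rw [← map_mul, ← map_mul, QuotientGroup.mk'_apply, QuotientGroup.mk'_apply,
      QuotientGroup.eq] at h1
    have h2 : t⁻¹ * g⁻¹ * t * g = (g * t)⁻¹ * (t * g) := by group
    rw [h2]
    exact h1
  -- so `t ^ p` is central
  have htp : t ^ p ∈ Subgroup.center G := by
    rw [Subgroup.mem_center_iff]
    intro g
    have hc := hY (hcomm g)
    have h2 : g⁻¹ * t * g = t * (t⁻¹ * g⁻¹ * t * g) := by group
    have h3 : g⁻¹ * t ^ p * g = (g⁻¹ * t * g) ^ p := by
      have := conj_pow (i := p) (a := g⁻¹) (b := t)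
      rw [inv_inv] at this
      exact this.symm
    have hct : Commute t (t⁻¹ * g⁻¹ * t * g) := Subgroup.mem_center_iff.mp hc t
    have h4 : (t * (t⁻¹ * g⁻¹ * t * g)) ^ p = t ^ p := by
      rw [hct.mul_pow, hYp _ (hcomm g), mul_one]
    rw [h2, h4] at h3
    calc g * t ^ p = g * (g⁻¹ * t ^ p * g) := by rw [h3]
      _ = t ^ p * g := by group
  set W := (Subgroup.center (G ⧸ Y)).comap (QuotientGroup.mk' Y) with hW
  have htW : t ∈ W := by
    rw [hW, Subgroup.mem_comap]
    exact hq
  let f : Fin p × Subgroup.center G → W := fun x =>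
    ⟨t ^ (x.1 : ℕ) * (x.2 : G), W.mul_mem (W.pow_mem htW _) (hZW x.2.2)⟩
  have hf : Function.Surjective f := by
    rintro ⟨w, hw⟩
    have hw' : QuotientGroup.mk' Y w ∈ Subgroup.center (G ⧸ Y) := hw
    obtain ⟨i, hi⟩ := mem_powers_iff_mem_zpowers.mpr (hgen ⟨_, hw'⟩)
    have hi' : (QuotientGroup.mk' Y t) ^ i = QuotientGroup.mk' Y w := by
      have := congrArg Subtype.val hi
      simpa using this
    rw [← map_pow, QuotientGroup.mk'_apply, QuotientGroup.mk'_apply, QuotientGroup.eq] at hi'
    have hy := hY hi'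
    have hdm : t ^ i = t ^ (i % p) * (t ^ p) ^ (i / p) := by
      rw [← pow_mul, ← pow_add, Nat.mod_add_div]
    have hz' : (t ^ p) ^ (i / p) * ((t ^ i)⁻¹ * w) ∈ Subgroup.center G :=
      Subgroup.mul_mem _ (Subgroup.pow_mem _ htp _) hy
    refine ⟨(⟨i % p, Nat.mod_lt _ hp⟩, ⟨_, hz'⟩), ?_⟩
    apply Subtype.ext
    show t ^ (i % p) * ((t ^ p) ^ (i / p) * ((t ^ i)⁻¹ * w)) = w
    rw [← mul_assoc, ← hdm]
    group
  have h5 := Nat.card_le_card_of_surjective f hf
  rwa [Nat.card_prod, Nat.card_fin] at h5

end comap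

section degree

variable {P : Type u} [Group P] [Finite P]

/-- Let `Y` be a central subgroup of exponent `p` of the `p`-group `P` such that `P/Y` has cyclic
centre and derived subgroup of order `p`. If `|P| = p ^ m` and `|Z(P)| = p ^ c`, a nonlinear
irreducible character of `P/Y` has degree `p ^ a` with `2a + c = m` or `2a + c + 1 = m`. -/
theorem exists_charDegree_eq_pow {p : ℕ} [hp : Fact p.Prime] (hP : IsPGroup p P)
    (Y : Subgroup P) [Y.Normal] (hY : Y ≤ Subgroup.center P) (hYp : ∀ y ∈ Y, y ^ p = 1)
    (hZ' : IsCyclic (Subgroup.center (P ⧸ Y))) (hc' : Nat.card (commutator (P ⧸ Y)) = p)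
    {m c : ℕ} (hm : Nat.card P = p ^ m) (hcZ : Nat.card (Subgroup.center P) = p ^ c)
    {χ : P ⧸ Y → ℂ} (hχ : IsIrrCharacter (P ⧸ Y) χ) (hχn : charDegree χ ≠ 1) :
    ∃ a : ℕ, charDegree χ = p ^ a ∧ (2 * a + c = m ∨ 2 * a + c + 1 = m) := by
  have hPQ : IsPGroup p (P ⧸ Y) := hP.to_quotient Y
  have hcz' : commutator (P ⧸ Y) ≤ Subgroup.center (P ⧸ Y) :=
    Helper76.normal_le_center_of_card_prime hPQ (commutator (P ⧸ Y)) hc'
  have h1 := IsIrrCharacter.charDegree_sq_eq_index_center hp.out hc' hcz' hχ hχn
  have hZW := center_le_comap_center Y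
  have hWle := card_comap_center_le hp.out.pos Y hY hYp hZ'
  set W := (Subgroup.center (P ⧸ Y)).comap (QuotientGroup.mk' Y) with hW
  have hWi : W.index = (Subgroup.center (P ⧸ Y)).index :=
    Subgroup.index_comap_of_surjective _ (QuotientGroup.mk'_surjective Y)
  obtain ⟨c', hc'W⟩ := IsPGroup.iff_card.mp (hP.to_subgroup W)
  have h2 : c ≤ c' := by
    have := Subgroup.card_le_of_le hZW
    rw [hcZ, hc'W] at this
    exact (Nat.pow_le_pow_iff_right hp.out.one_lt).1 this
  have h3 : c' ≤ c + 1 := by
    rw [hc'W, hcZ, ← pow_succ'] at hWle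
    exact (Nat.pow_le_pow_iff_right hp.out.one_lt).1 hWle
  have hd : charDegree χ ∣ p ^ m := by
    have h4 := IsIrrCharacter.charDegree_dvd_card hχ
    have h5 : Nat.card (P ⧸ Y) ∣ Nat.card P := by
      rw [Subgroup.card_eq_card_quotient_mul_card_subgroup Y]
      exact Dvd.intro _ rfl
    rw [← hm]
    exact h4.trans h5
  obtain ⟨a, -, ha⟩ := (Nat.dvd_prime_pow hp.out).mp hd
  refine ⟨a, ha, ?_⟩
  have h6 := Subgroup.index_mul_card W
  rw [hWi, ← h1, ha, hc'W, hm, ← pow_mul, ← pow_add] at h6
  have h7 := Nat.pow_right_injective hp.out.two_le h6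
  omega

end degree

end Cfsg.Agent.Helper80
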