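import Mathlib
import Cfsg.Agent.Helper80.GalConj3

set_option autoImplicit false

/-!
# Galois conjugacy of equal-degree characters forces a cyclic centre

`isCyclic_center_of_galConj`: a nonabelian `p`-group in which nonlinear irreducible characters of
equal degree are Galois conjugate has cyclic centre, provided the nonabelian proper quotients have
cyclic centre and derived subgroup of order `p` (the inductive hypothesis `GalConjIH`).
-/

namespace Cfsg.Agent.Helper80

open Cfsg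
open scoped commutatorElement

universe u

/-- The inductive hypothesis: nonabelian proper quotients have cyclic centre and derived subgroup
of order `p`. -/
def GalConjIH (p : ℕ) (P : Type u) [Group P] : Prop :=
  ∀ (N : Subgroup P) [N.Normal], N ≠ ⊥ → ¬ IsMulCommutative (P ⧸ N) →
    IsCyclic (Subgroup.center (P ⧸ N)) ∧ Nat.card (commutator (P ⧸ N)) = p

section part1

variable {P : Type u} [Group P] [Finite P]

/-- Data attached to a small central subgroup `Y` avoiding an element `z` of the derived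
subgroup. -/
theorem exists_irr_quotient_data {p : ℕ} [hp : Fact p.Prime] (hP : IsPGroup p P)
    (IH : GalConjIH p P) {z : P} (hzc : z ∈ commutator P)
    (Y : Subgroup P) [Y.Normal] (hY : Y ≤ Subgroup.center P) (hYp : ∀ y ∈ Y, y ^ p = 1)
    (hYne : Y ≠ ⊥) (hzY : z ∉ Y)
    {m c : ℕ} (hm : Nat.card P = p ^ m) (hcZ : Nat.card (Subgroup.center P) = p ^ c) :
    ∃ χ : IrrCharacter (P ⧸ Y), charDegree (χ : P ⧸ Y → ℂ) ≠ 1 ∧
      (∃ a : ℕ, charDegree (χ : P ⧸ Y → ℂ) = p ^ a ∧ (2 * a + c = m ∨ 2 * a + c + 1 = m)) ∧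
      (χ : P ⧸ Y → ℂ) (QuotientGroup.mk' Y z) ≠ (χ : P ⧸ Y → ℂ) 1 := by
  have hnaY := not_isMulCommutative_quotient Y hzc hzY
  obtain ⟨hZ', hc'⟩ := IH Y hYne hnaY
  obtain ⟨χ, hχ⟩ := exists_irr_charDegree_ne_one hnaY
  refine ⟨χ, hχ, exists_charDegree_eq_pow hP Y hY hYp hZ' hc' hm hcZ χ.2 hχ, ?_⟩
  intro h
  apply hχ
  refine IsIrrCharacter.charDegree_eq_one_of_commutator_mem_ker hp.out hc' χ.2
    (mk_mem_commutator Y hzc) ?_ h
  rw [QuotientGroup.mk'_apply, Ne, QuotientGroup.eq_one_iff]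
  exact hzY

omit [Finite P] in
/-- Facts on the subgroup generated by a central element of order `p`. -/
theorem zpowers_central_facts {p : ℕ} [hp : Fact p.Prime] {y : P}
    (hyZ : y ∈ Subgroup.center P) (hyo : orderOf y = p) :
    Subgroup.zpowers y ≤ Subgroup.center P ∧ (∀ x ∈ Subgroup.zpowers y, x ^ p = 1) ∧
      Subgroup.zpowers y ≠ ⊥ := by
  refine ⟨Subgroup.zpowers_le.mpr hyZ, ?_, ?_⟩
  · intro x hx
    obtain ⟨k, rfl⟩ := Subgroup.mem_zpowers_iff.mp hx
    rw [← zpow_natCast, ← zpow_mul, mul_comm, zpow_mul, zpow_natCast, ← hyo, pow_orderOf_eq_one,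
      one_zpow]
  · intro h
    have h1 : y ∈ Subgroup.zpowers y := Subgroup.mem_zpowers y
    rw [h, Subgroup.mem_bot] at h1
    rw [h1, orderOf_one] at hyo
    exact hp.out.one_lt.ne hyo

/-- Under the inductive hypothesis, Galois conjugacy of equal-degree nonlinear characters forces
the centre to be cyclic. -/
theorem isCyclic_center_of_galConj {p : ℕ} [hp : Fact p.Prime] (hP : IsPGroup p P)
    (hna : ¬ IsMulCommutative P) (hG : GalConj P) (IH : GalConjIH p P) :
    IsCyclic (Subgroup.center P) := by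
  by_contra hZ
  obtain ⟨z, hzc, hzZ, hzo⟩ := exists_orderOf_eq_prime_mem_commutator_inf_center hP hna
  obtain ⟨⟨w, hwZ⟩, hwo, hwz⟩ := exists_orderOf_eq_prime_not_mem_zpowers
    (hP.to_subgroup (Subgroup.center P))
    (fun a b => Subtype.ext (Subgroup.mem_center_iff.mp b.2 a)) hZ
    (z := ⟨z, hzZ⟩) (by rw [Subgroup.orderOf_mk]; exact hzo)
  rw [Subgroup.orderOf_mk] at hwo
  have hwz' : w ∉ Subgroup.zpowers z := by
    intro h
    apply hwz
    obtain ⟨k, hk⟩ := Subgroup.mem_zpowers_iff.mp h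
    refine Subgroup.mem_zpowers_iff.mpr ⟨k, ?_⟩
    apply Subtype.ext
    simpa using hk
  obtain ⟨m, hm⟩ := IsPGroup.iff_card.mp hP
  obtain ⟨c, hcZ⟩ := IsPGroup.iff_card.mp (hP.to_subgroup (Subgroup.center P))
  -- the second central element `w * z`
  have hwzZ : w * z ∈ Subgroup.center P := Subgroup.mul_mem _ hwZ hzZ
  have hcomm : Commute w z := (Subgroup.mem_center_iff.mp hzZ w)
  have hwz1 : w * z ≠ 1 := by
    intro h
    apply hwz'
    have : w = z⁻¹ := eq_inv_of_mul_eq_one_left h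
    rw [this]
    exact Subgroup.inv_mem _ (Subgroup.mem_zpowers z)
  have hwzo : orderOf (w * z) = p := by
    apply orderOf_eq_prime _ hwz1
    rw [hcomm.mul_pow, ← hwo, pow_orderOf_eq_one, hwo, ← hzo, pow_orderOf_eq_one, one_mul]
  -- `z` is in neither subgroup
  have key : ∀ y : P, orderOf y = p → z ∈ Subgroup.zpowers y → y ∈ Subgroup.zpowers z := by
    intro y hyo hzy
    have hcard : Nat.card (Subgroup.zpowers y) = p := by rw [Nat.card_zpowers, hyo]
    have hz1 : (⟨z, hzy⟩ : Subgroup.zpowers y) ≠ 1 := by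
      intro h1
      have h2 : z = 1 := congrArg Subtype.val h1
      rw [h2, orderOf_one] at hzo
      exact hp.out.one_lt.ne hzo
    have h3 := mem_zpowers_of_prime_card (G := Subgroup.zpowers y) hcard
      (g := ⟨z, hzy⟩) (g' := ⟨y, Subgroup.mem_zpowers y⟩) hz1
    obtain ⟨k, hk⟩ := Subgroup.mem_zpowers_iff.mp h3
    refine Subgroup.mem_zpowers_iff.mpr ⟨k, ?_⟩
    have := congrArg Subtype.val hk
    simpa using this
  have hz1 : z ∉ Subgroup.zpowers w := fun h => hwz' (key w hwo h)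
  have hz2 : z ∉ Subgroup.zpowers (w * z) := by
    intro h
    apply hwz'
    have h1 := key (w * z) hwzo h
    have : w = w * z * z⁻¹ := by group
    rw [this]
    exact Subgroup.mul_mem _ h1 (Subgroup.inv_mem _ (Subgroup.mem_zpowers z))
  obtain ⟨hY1, hY1p, hY1ne⟩ := zpowers_central_facts hwZ hwo
  obtain ⟨hY2, hY2p, hY2ne⟩ := zpowers_central_facts hwzZ hwzo
  have hn1 : (Subgroup.zpowers w).Normal := Helper76.normal_of_le_center' _ hY1
  have hn2 : (Subgroup.zpowers (w * z)).Normal := Helper76.normal_of_le_center' _ hY2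
  obtain ⟨χ₁, hχ₁, ⟨a₁, ha₁, hf₁⟩, -⟩ :=
    exists_irr_quotient_data hP IH hzc (Subgroup.zpowers w) hY1 hY1p hY1ne hz1 hm hcZ
  obtain ⟨χ₂, hχ₂, ⟨a₂, ha₂, hf₂⟩, hk₂⟩ :=
    exists_irr_quotient_data hP IH hzc (Subgroup.zpowers (w * z)) hY2 hY2p hY2ne hz2 hm hcZ
  have ha : a₁ = a₂ := by omega
  -- the inflations
  set χ₁' : IrrCharacter P := (irrQuotientEquiv (Subgroup.zpowers w) χ₁).1 with hχ₁'
  set χ₂' : IrrCharacter P := (irrQuotientEquiv (Subgroup.zpowers (w * z)) χ₂).1 with hχ₂'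
  have e1 : charDegree (χ₁' : P → ℂ) = charDegree (χ₁ : P ⧸ Subgroup.zpowers w → ℂ) := by
    unfold charDegree
    rw [hχ₁', irrQuotientEquiv_apply]
    rfl
  have e2 : charDegree (χ₂' : P → ℂ) =
      charDegree (χ₂ : P ⧸ Subgroup.zpowers (w * z) → ℂ) := by
    unfold charDegree
    rw [hχ₂', irrQuotientEquiv_apply]
    rfl
  have hd : charDegree (χ₁' : P → ℂ) = charDegree (χ₂' : P → ℂ) := by
    rw [e1, e2, ha₁, ha₂, ha]
  have hχ₁n : charDegree (χ₁' : P → ℂ) ≠ 1 := by rw [e1]; exact hχ₁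
  -- `w` lies in the kernel of the first inflation, hence of the second
  have hw1 : (χ₁' : P → ℂ) w = (χ₁' : P → ℂ) 1 :=
    (irrQuotientEquiv (Subgroup.zpowers w) χ₁).2 w (Subgroup.mem_zpowers w)
  have hw2 : (χ₂' : P → ℂ) w = (χ₂' : P → ℂ) 1 := hG.ker_le χ₁' χ₂' hχ₁n hd hw1
  have hwz2 : (χ₂' : P → ℂ) (w * z) = (χ₂' : P → ℂ) 1 :=
    (irrQuotientEquiv (Subgroup.zpowers (w * z)) χ₂).2 (w * z) (Subgroup.mem_zpowers (w * z))
  have hχ₂c := IsIrrCharacter.isCharacter χ₂'.2
  have hzk : z ∈ kerChar (χ₂' : P → ℂ) hχ₂c := by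
    have h1 : w ∈ kerChar (χ₂' : P → ℂ) hχ₂c := (mem_kerChar hχ₂c w).mpr hw2
    have h2 : w * z ∈ kerChar (χ₂' : P → ℂ) hχ₂c := (mem_kerChar hχ₂c (w * z)).mpr hwz2
    have : z = w⁻¹ * (w * z) := by group
    rw [this]
    exact Subgroup.mul_mem _ (Subgroup.inv_mem _ h1) h2
  have hzk' := (mem_kerChar hχ₂c z).mp hzk
  apply hk₂
  rw [hχ₂', irrQuotientEquiv_apply, irrQuotientEquiv_apply] at hzk'
  exact hzk'

end part1

end Cfsg.Agent.Helper80
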