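import Mathlib
import Cfsg.Agent.Helper80.GalConj4

set_option autoImplicit false

/-!
# The class two case

`commutator_le_of_class_two`: let `P` be a `p`-group of class two with cyclic centre, `N` its
central subgroup of order `p`. If `P/N` has cyclic centre and derived subgroup of order `p`, then
`P' ≤ N`.
-/

namespace Cfsg.Agent.Helper80

open Cfsg
open scoped commutatorElement

universe u

section caseA

variable {P : Type u} [Group P] [Finite P]

/-- The class two case. -/
theorem commutator_le_of_class_two {p : ℕ} [hp : Fact p.Prime] (hP : IsPGroup p P)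
    (hZ : IsCyclic (Subgroup.center P)) {z : P} (hzZ : z ∈ Subgroup.center P)
    (hzo : orderOf z = p) (N : Subgroup P) [N.Normal] (hN : N = Subgroup.zpowers z)
    (hZ' : IsCyclic (Subgroup.center (P ⧸ N))) (hc' : Nat.card (commutator (P ⧸ N)) = p)
    (hcz : commutator P ≤ Subgroup.center P) : commutator P ≤ N := by
  have hcm : ∀ a g : P, a * g * a⁻¹ * g⁻¹ ∈ commutator P := fun a g => by
    rw [← commutatorElement_def]
    exact commutatorElement_mem_commutator a g
  have hcen : ∀ a g : P, a * g * a⁻¹ * g⁻¹ ∈ Subgroup.center P := fun a g => hcz (hcm a g)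
  -- `p`-th powers of commutators lie in `N`
  have hpowN : ∀ a g : P, (a * g * a⁻¹ * g⁻¹) ^ p ∈ N := by
    intro a g
    have h1 : QuotientGroup.mk' N (a * g * a⁻¹ * g⁻¹) ∈ commutator (P ⧸ N) :=
      mk_mem_commutator N (hcm a g)
    have h2 : (⟨_, h1⟩ : commutator (P ⧸ N)) ^ p = 1 := by
      have := pow_card_eq_one' (G := commutator (P ⧸ N)) (x := ⟨_, h1⟩)
      rwa [hc'] at this
    have h3 := congrArg Subtype.val h2
    rw [Subgroup.coe_pow, Subgroup.coe_one] at h3
    rw [← QuotientGroup.eq_one_iff, ← QuotientGroup.mk'_apply, map_pow]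
    exact h3
  -- `p`-th powers are central modulo `N`
  have hpc : ∀ v : P, QuotientGroup.mk' N (v ^ p) ∈ Subgroup.center (P ⧸ N) := by
    intro v
    rw [Subgroup.mem_center_iff]
    intro q
    obtain ⟨g, rfl⟩ := QuotientGroup.mk'_surjective N q
    rw [← commutatorElement_eq_one_iff_mul_comm, ← map_commutatorElement, commutatorElement_def]
    have h1 : g * v ^ p * g⁻¹ * (v ^ p)⁻¹ = (g * v * g⁻¹ * v⁻¹) ^ p := by
      have := map_pow (Helper76.commHom g (hcen g)) v p
      simpa using this
    rw [h1, QuotientGroup.mk'_apply, QuotientGroup.eq_one_iff]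
    exact hpowN g v
  -- if `v ^ p` is a power of `u ^ p` modulo `N`, then `⁅u, v⁆ ^ p = 1`
  have hA1 : ∀ u v : P,
      QuotientGroup.mk' N (v ^ p) ∈ Subgroup.zpowers (QuotientGroup.mk' N (u ^ p)) →
      (u * v * u⁻¹ * v⁻¹) ^ p = 1 := by
    intro u v h
    obtain ⟨i, hi⟩ := Subgroup.mem_zpowers_iff.mp h
    rw [← map_zpow, QuotientGroup.mk'_apply, QuotientGroup.mk'_apply, QuotientGroup.eq] at hi
    set n := ((u ^ p) ^ i)⁻¹ * v ^ p with hn
    have hvp : v ^ p = (u ^ p) ^ i * n := by rw [hn]; group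
    have hnZ : n ∈ Subgroup.center P := by
      rw [hN] at hi
      exact (Subgroup.zpowers_le.mpr hzZ) hi
    have h1 : (u * v * u⁻¹ * v⁻¹) ^ p = Helper76.commHom u (hcen u) (v ^ p) := by
      rw [map_pow]
      rfl
    rw [h1, hvp, map_mul]
    have h2 : (u ^ p) ^ i ∈ (Helper76.commHom u (hcen u)).ker := by
      rw [Helper76.mem_ker_commHom]
      exact ((Commute.refl u).pow_right p).zpow_right i
    have h3 : n ∈ (Helper76.commHom u (hcen u)).ker := by
      rw [Helper76.mem_ker_commHom]
      exact (Subgroup.mem_center_iff.mp hnZ u)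
    rw [MonoidHom.mem_ker.mp h2, MonoidHom.mem_ker.mp h3, one_mul]
  rw [commutator_def, Subgroup.commutator_le]
  intro u _ v _
  have hPQ : IsPGroup p (P ⧸ N) := hP.to_quotient N
  have hkp : ⁅u, v⁆ ^ p = 1 := by
    rcases mem_zpowers_or_mem_zpowers (hPQ.to_subgroup (Subgroup.center (P ⧸ N)))
      (⟨_, hpc u⟩ : Subgroup.center (P ⧸ N)) ⟨_, hpc v⟩ with h | h
    · have h' : QuotientGroup.mk' N (u ^ p) ∈
          Subgroup.zpowers (QuotientGroup.mk' N (v ^ p)) := by
        obtain ⟨k, hk⟩ := Subgroup.mem_zpowers_iff.mp h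
        refine Subgroup.mem_zpowers_iff.mpr ⟨k, ?_⟩
        have := congrArg Subtype.val hk
        simpa using this
      have h1 := hA1 v u h'
      rw [← commutatorElement_def] at h1
      rw [← commutatorElement_inv, inv_pow, h1, inv_one]
    · have h' : QuotientGroup.mk' N (v ^ p) ∈
          Subgroup.zpowers (QuotientGroup.mk' N (u ^ p)) := by
        obtain ⟨k, hk⟩ := Subgroup.mem_zpowers_iff.mp h
        refine Subgroup.mem_zpowers_iff.mpr ⟨k, ?_⟩
        have := congrArg Subtype.val hk
        simpa using this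
      have h1 := hA1 u v h'
      rwa [← commutatorElement_def] at h1
  have hkZ : ⁅u, v⁆ ∈ Subgroup.center P := hcz (commutatorElement_mem_commutator u v)
  have h2 := mem_zpowers_of_orderOf_eq_prime (C := Subgroup.center P) hp.out
    (x := ⟨z, hzZ⟩) (y := ⟨⁅u, v⁆, hkZ⟩) (by rw [Subgroup.orderOf_mk]; exact hzo)
    (by apply Subtype.ext; rw [Subgroup.coe_pow, Subgroup.coe_one]; exact hkp)
  obtain ⟨k, hk⟩ := Subgroup.mem_zpowers_iff.mp h2
  rw [hN]
  refine Subgroup.mem_zpowers_iff.mpr ⟨k, ?_⟩
  have := congrArg Subtype.val hk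
  simpa using this

end caseA

end Cfsg.Agent.Helper80
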