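import Mathlib
import Cfsg.Agent.Helper80.GalConj5
import Cfsg.Agent.Helper74.Ito

set_option autoImplicit false

/-!
# The case of class at least three, and the converse direction

* `exists_abelian_normal_index_dvd`: if `N` is a central subgroup of order `p`, `|(P/N)'| = p` and
  `P'` is not central, then `P/N` has an abelian normal subgroup of index dividing `p`.
* `card_commutator_of_galConj`, `cyclic_center_and_card_commutator_of_galConj`, `galConj_iff`: a
  nonabelian `p`-group has its equal-degree nonlinear irreducible characters Galois conjugate iff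
  its centre is cyclic and its derived subgroup has order `p`.
-/

namespace Cfsg.Agent.Helper80

open Cfsg
open scoped commutatorElement

universe u

section caseB

variable {P : Type u} [Group P] [Finite P]

/-- If `N` is a central subgroup of order `p`, `|(P/N)'| = p` and `P'` is not central, then `P/N`
has an abelian normal subgroup of index dividing `p`. -/
theorem exists_abelian_normal_index_dvd {p : ℕ} [hp : Fact p.Prime] (hP : IsPGroup p P)
    (N : Subgroup P) [N.Normal] (hNZ : N ≤ Subgroup.center P) (hNp : Nat.card N = p)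
    (hc' : Nat.card (commutator (P ⧸ N)) = p)
    {a : P} (hac : a ∈ commutator P) (haZ : a ∉ Subgroup.center P) :
    ∃ A : Subgroup (P ⧸ N), A.Normal ∧ (∀ x ∈ A, ∀ y ∈ A, x * y = y * x) ∧ A.index ∣ p := by
  have hPQ : IsPGroup p (P ⧸ N) := hP.to_quotient N
  have hcz' : commutator (P ⧸ N) ≤ Subgroup.center (P ⧸ N) :=
    Helper76.normal_le_center_of_card_prime hPQ (commutator (P ⧸ N)) hc'
  have haN : a ∉ N := fun h => haZ (hNZ h)
  have hma : QuotientGroup.mk' N a ∈ commutator (P ⧸ N) := mk_mem_commutator N hac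
  have hma1 : (⟨_, hma⟩ : commutator (P ⧸ N)) ≠ 1 := by
    intro h
    have h1 : QuotientGroup.mk' N a = 1 := congrArg Subtype.val h
    rw [QuotientGroup.mk'_apply, QuotientGroup.eq_one_iff] at h1
    exact haN h1
  -- every element of `P'` is a power of `a` times an element of `N`
  have hform : ∀ y ∈ commutator P, ∃ i : ℤ, (a ^ i)⁻¹ * y ∈ N := by
    intro y hy
    have hmy : QuotientGroup.mk' N y ∈ commutator (P ⧸ N) := mk_mem_commutator N hy
    have h3 := mem_zpowers_of_prime_card (G := commutator (P ⧸ N)) hc'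
      (g := ⟨_, hma⟩) (g' := ⟨_, hmy⟩) hma1
    obtain ⟨i, hi⟩ := Subgroup.mem_zpowers_iff.mp h3
    have hi' : (QuotientGroup.mk' N a) ^ i = QuotientGroup.mk' N y := by
      have := congrArg Subtype.val hi
      simpa using this
    refine ⟨i, ?_⟩
    rw [← map_zpow, QuotientGroup.mk'_apply, QuotientGroup.mk'_apply, QuotientGroup.eq] at hi'
    exact hi'
  -- commutators with `a` lie in `N`
  have hcomN : ∀ g : P, a * g * a⁻¹ * g⁻¹ ∈ N := by
    intro g
    rw [← QuotientGroup.eq_one_iff, ← QuotientGroup.mk'_apply, ← commutatorElement_def,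
      map_commutatorElement, commutatorElement_eq_one_iff_mul_comm]
    exact (Subgroup.mem_center_iff.mp (hcz' hma) (QuotientGroup.mk' N g)).symm
  set ν := Helper76.commHom a (fun g => hNZ (hcomN g)) with hν
  set C := ν.ker with hC
  have hCmem : ∀ g : P, g ∈ C ↔ a * g = g * a := fun g => Helper76.mem_ker_commHom a _ g
  have hCidx : C.index ∣ p := by
    rw [hC, Subgroup.index_ker, ← hNp]
    apply Subgroup.card_dvd_of_le
    rintro _ ⟨g, rfl⟩
    exact hcomN g
  have hNC : N ≤ C := by
    intro n hn
    rw [hCmem]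
    exact Subgroup.mem_center_iff.mp (hNZ hn) a
  -- `C` centralizes `P'`
  have hcomC : ∀ c ∈ C, ∀ y ∈ commutator P, c * y = y * c := by
    intro c hc y hy
    obtain ⟨i, hi⟩ := hform y hy
    have hy' : y = a ^ i * ((a ^ i)⁻¹ * y) := by group
    have h1 : Commute c (a ^ i) := by
      have : Commute a c := (hCmem c).mp hc
      exact this.symm.zpow_right i
    have h2 : Commute c ((a ^ i)⁻¹ * y) := (Subgroup.mem_center_iff.mp (hNZ hi) c)
    rw [hy']
    exact h1.mul_right h2
  have hcle : commutator P ≤ Subgroup.centralizer (C : Set P) := by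
    intro y hy
    rw [Subgroup.mem_centralizer_iff]
    intro c hc
    exact hcomC c hc y hy
  -- three subgroups lemma
  have hCC : ⁅C, C⁆ ≤ Subgroup.center P := by
    have h1 : ⁅⁅C, (⊤ : Subgroup P)⁆, C⁆ = ⊥ := by
      rw [Subgroup.commutator_eq_bot_iff_le_centralizer]
      refine le_trans ?_ hcle
      rw [commutator_def]
      exact Subgroup.commutator_mono le_top le_rfl
    have h2 : ⁅⁅(⊤ : Subgroup P), C⁆, C⁆ = ⊥ := by
      rw [Subgroup.commutator_eq_bot_iff_le_centralizer]
      refine le_trans ?_ hcle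
      rw [commutator_def]
      exact Subgroup.commutator_mono le_rfl le_top
    have h3 : ⁅⁅C, C⁆, (⊤ : Subgroup P)⁆ = ⊥ :=
      Subgroup.commutator_commutator_eq_bot_of_rotate h1 h2
    have h4 := Subgroup.commutator_eq_bot_iff_le_centralizer.mp h3
    rwa [Subgroup.coe_top, Subgroup.centralizer_univ] at h4
  -- `a ^ p ∈ N`
  have hap : a ^ p ∈ N := by
    have h2 : (⟨_, hma⟩ : commutator (P ⧸ N)) ^ p = 1 := by
      have := pow_card_eq_one' (G := commutator (P ⧸ N)) (x := ⟨_, hma⟩)
      rwa [hc'] at this
    have h3 := congrArg Subtype.val h2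
    rw [Subgroup.coe_pow, Subgroup.coe_one] at h3
    rw [← QuotientGroup.eq_one_iff, ← QuotientGroup.mk'_apply, map_pow]
    exact h3
  -- `⁅C, C⁆ ≤ N`
  have hCCN : ⁅C, C⁆ ≤ N := by
    intro k hk
    have hkc : k ∈ commutator P := by
      rw [commutator_def]
      exact Subgroup.commutator_mono le_top le_top hk
    obtain ⟨i, hi⟩ := hform k hkc
    have hkZ := hCC hk
    have haiZ : a ^ i ∈ Subgroup.center P := by
      have : a ^ i = k * ((a ^ i)⁻¹ * k)⁻¹ := by group
      rw [this]
      exact Subgroup.mul_mem _ hkZ (Subgroup.inv_mem _ (hNZ hi))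
    have haiN : a ^ i ∈ N := by
      by_cases hpi : (p : ℤ) ∣ i
      · obtain ⟨j, rfl⟩ := hpi
        rw [zpow_mul, zpow_natCast]
        exact N.zpow_mem hap j
      · exfalso
        have hcop : IsCoprime (p : ℤ) i :=
          (Nat.prime_iff_prime_int.mp hp.out).coprime_iff_not_dvd.mpr hpi
        obtain ⟨s, t, hst⟩ := hcop
        apply haZ
        have : a = (a ^ p) ^ s * (a ^ i) ^ t := by
          rw [← zpow_natCast a p, ← zpow_mul', ← zpow_mul', ← zpow_add, hst, zpow_one]
        rw [this]
        exact Subgroup.mul_mem _ (Subgroup.zpow_mem _ (hNZ hap) s) (Subgroup.zpow_mem _ haiZ t)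
    have : k = a ^ i * ((a ^ i)⁻¹ * k) := by group
    rw [this]
    exact N.mul_mem haiN hi
  refine ⟨C.map (QuotientGroup.mk' N), ?_, ?_, ?_⟩
  · exact (MonoidHom.normal_ker ν).map _ (QuotientGroup.mk'_surjective N)
  · rintro _ ⟨c₁, hc₁, rfl⟩ _ ⟨c₂, hc₂, rfl⟩
    rw [← commutatorElement_eq_one_iff_mul_comm, ← map_commutatorElement,
      QuotientGroup.mk'_apply, QuotientGroup.eq_one_iff]
    exact hCCN (Subgroup.commutator_mem_commutator hc₁ hc₂)
  · rw [Subgroup.index_map_eq C (QuotientGroup.mk'_surjective N)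
      (by rw [QuotientGroup.ker_mk']; exact hNC)]
    exact hCidx

end caseB

section main

variable {P : Type u} [Group P] [Finite P]

/-- Under the inductive hypothesis and with cyclic centre, Galois conjugacy of equal-degree
nonlinear characters forces the derived subgroup to have order `p`. -/
theorem card_commutator_of_galConj {p : ℕ} [hp : Fact p.Prime] (hP : IsPGroup p P)
    (hna : ¬ IsMulCommutative P) (hG : GalConj P) (IH : GalConjIH p P)
    (hZ : IsCyclic (Subgroup.center P)) : Nat.card (commutator P) = p := by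
  classical
  by_contra hne
  obtain ⟨z, hzc, hzZ, hzo⟩ := exists_orderOf_eq_prime_mem_commutator_inf_center hP hna
  obtain ⟨hNZ, hNpow, hNne⟩ := zpowers_central_facts hzZ hzo
  have hNn : (Subgroup.zpowers z).Normal := Helper76.normal_of_le_center' _ hNZ
  have hNp : Nat.card (Subgroup.zpowers z) = p := by rw [Nat.card_zpowers, hzo]
  have hNc : Subgroup.zpowers z ≤ commutator P := Subgroup.zpowers_le.mpr hzc
  have hnaN : ¬ IsMulCommutative (P ⧸ Subgroup.zpowers z) := by
    intro h
    have h1 := commutator_le_of_comm_quotient (Subgroup.zpowers z) h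
    have h2 : commutator P = Subgroup.zpowers z := le_antisymm h1 hNc
    exact hne (by rw [h2]; exact hNp)
  obtain ⟨hZ', hc'⟩ := IH (Subgroup.zpowers z) hNne hnaN
  by_cases hcz : commutator P ≤ Subgroup.center P
  · have h1 := commutator_le_of_class_two hP hZ hzZ hzo (Subgroup.zpowers z) rfl hZ' hc' hcz
    have h2 : commutator P = Subgroup.zpowers z := le_antisymm h1 hNc
    exact hne (by rw [h2]; exact hNp)
  · obtain ⟨a, hac, haZ⟩ := SetLike.not_le_iff_exists.mp hcz
    obtain ⟨A, hAn, hAc, hAi⟩ :=
      exists_abelian_normal_index_dvd hP (Subgroup.zpowers z) hNZ hNp hc' hac haZ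
    obtain ⟨m, hm⟩ := IsPGroup.iff_card.mp hP
    obtain ⟨c, hcZ⟩ := IsPGroup.iff_card.mp (hP.to_subgroup (Subgroup.center P))
    -- a nonlinear character of the quotient has degree `p`
    obtain ⟨χ₁, hχ₁⟩ := exists_irr_charDegree_ne_one hnaN
    have := Fintype.ofFinite (P ⧸ Subgroup.zpowers z)
    obtain ⟨n, hn1, hn2⟩ := Helper74.ito_degree_dvd_index A hAc χ₁.2
    have hd1 : charDegree (χ₁ : P ⧸ Subgroup.zpowers z → ℂ) = p := by
      have h1 : (charDegree (χ₁ : P ⧸ Subgroup.zpowers z → ℂ) : ℂ) = n := by
        rw [IsCharacter.charDegree_cast (IsIrrCharacter.isCharacter χ₁.2)]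
        exact hn1
      have h2 : charDegree (χ₁ : P ⧸ Subgroup.zpowers z → ℂ) = n := by exact_mod_cast h1
      rcases (Nat.dvd_prime hp.out).mp (hn2.trans hAi) with h | h
      · exact absurd (h2.trans h) hχ₁
      · exact h2.trans h
    obtain ⟨a₁, ha₁, hf⟩ :=
      exists_charDegree_eq_pow hP (Subgroup.zpowers z) hNZ hNpow hZ' hc' hm hcZ χ₁.2 hχ₁
    have ha1 : a₁ = 1 := by
      rw [hd1] at ha₁
      have : p ^ 1 = p ^ a₁ := by rw [pow_one]; exact ha₁
      exact (Nat.pow_right_injective hp.out.two_le this).symm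
    have hmc : m ≤ c + 3 := by omega
    have hidx : (Subgroup.center P).index * p ^ c = p ^ m := by
      rw [← hcZ, ← hm]
      exact Subgroup.index_mul_card _
    -- every nonlinear irreducible character of `P` has degree `p`
    have hdeg : ∀ χ : IrrCharacter P, charDegree (χ : P → ℂ) ≠ 1 →
        charDegree (χ : P → ℂ) = p := by
      intro χ hχ
      have h1 := IsIrrCharacter.charDegree_sq_le_index_center χ.2
      have h2 := IsIrrCharacter.charDegree_dvd_card χ.2
      rw [hm] at h2
      obtain ⟨b, -, hb⟩ := (Nat.dvd_prime_pow hp.out).mp h2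
      have h3 : (p ^ b) ^ 2 * p ^ c ≤ p ^ m := by
        rw [← hidx, ← hb]
        exact Nat.mul_le_mul_right _ h1
      rw [← pow_mul, ← pow_add] at h3
      have h4 := (Nat.pow_le_pow_iff_right hp.out.one_lt).1 h3
      have hb1 : b = 1 := by
        have hb0 : b ≠ 0 := by
          rintro rfl
          rw [pow_zero] at hb
          exact hχ hb
        omega
      rw [hb, hb1, pow_one]
    -- the inflation of `χ₁`
    set χ₁' : IrrCharacter P := (irrQuotientEquiv (Subgroup.zpowers z) χ₁).1 with hχ₁'
    have e1 : charDegree (χ₁' : P → ℂ) =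
        charDegree (χ₁ : P ⧸ Subgroup.zpowers z → ℂ) := by
      unfold charDegree
      rw [hχ₁', irrQuotientEquiv_apply]
      rfl
    have hz1 : (χ₁' : P → ℂ) z = (χ₁' : P → ℂ) 1 :=
      (irrQuotientEquiv (Subgroup.zpowers z) χ₁).2 z (Subgroup.mem_zpowers z)
    -- a character without `z` in its kernel
    have hz_ne : z ≠ 1 := by
      rintro rfl
      rw [orderOf_one] at hzo
      exact hp.out.one_lt.ne hzo
    have := Fintype.ofFinite P
    obtain ⟨χ₂, hχ₂⟩ : ∃ χ₂ : IrrCharacter P, (χ₂ : P → ℂ) z ≠ (χ₂ : P → ℂ) 1 := by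
      by_contra hcon
      push Not at hcon
      have := (Helper79.isConj_iff_forall_irr_eq z 1).mpr hcon
      exact hz_ne (isConj_one_left.mp this)
    have hχ₂n : charDegree (χ₂ : P → ℂ) ≠ 1 := fun h =>
      hχ₂ (IsCharacter.eq_one_of_mem_commutator (IsIrrCharacter.isCharacter χ₂.2) h hzc)
    have hd : charDegree (χ₁' : P → ℂ) = charDegree (χ₂ : P → ℂ) := by
      rw [e1, hd1, hdeg χ₂ hχ₂n]
    exact hχ₂ (hG.ker_le χ₁' χ₂ (by rw [e1]; exact hχ₁) hd hz1)

end main

section induction

/-- The converse direction, by induction on the order. -/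
theorem cyclic_center_and_card_commutator_of_galConj {p : ℕ} [hp : Fact p.Prime] :
    ∀ (n : ℕ) (P : Type u) [Group P] [Finite P], Nat.card P = n → IsPGroup p P →
      ¬ IsMulCommutative P → GalConj P →
      IsCyclic (Subgroup.center P) ∧ Nat.card (commutator P) = p := by
  intro n
  induction n using Nat.strong_induction_on with
  | _ n ih =>
    intro P _ _ hn hP hna hG
    have IH : GalConjIH p P := by
      intro N _ hNne hnaN
      have hlt : Nat.card (P ⧸ N) < n := by
        rw [← hn, Subgroup.card_eq_card_quotient_mul_card_subgroup N]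
        have h1 : 1 < Nat.card N := (Subgroup.one_lt_card_iff_ne_bot N).mpr hNne
        have h2 : 0 < Nat.card (P ⧸ N) := Nat.card_pos
        nlinarith
      exact ih _ hlt (P ⧸ N) rfl (hP.to_quotient N) hnaN (hG.quotient N)
    have hZ := isCyclic_center_of_galConj hP hna hG IH
    exact ⟨hZ, card_commutator_of_galConj hP hna hG IH hZ⟩

variable {P : Type u} [Group P] [Finite P]

/-- A nonabelian `p`-group has its nonlinear irreducible characters of equal degree Galois
conjugate iff its centre is cyclic and its derived subgroup has order `p`. -/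
theorem galConj_iff {p : ℕ} [hp : Fact p.Prime] (hP : IsPGroup p P)
    (hna : ¬ IsMulCommutative P) :
    GalConj P ↔ IsCyclic (Subgroup.center P) ∧ Nat.card (commutator P) = p :=
  ⟨fun h => cyclic_center_and_card_commutator_of_galConj _ P rfl hP hna h,
    fun h => galConj_of_cyclic_center hP h.1 h.2⟩

end induction

end Cfsg.Agent.Helper80
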