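import Mathlib

set_option autoImplicit false

/-!
# Operator lemmas for Jordan's theorem on finite linear groups

For a finite dimensional complex inner product space `E` and unitary operators on it:

* `norm_lt_of_eigenvalues`: a normal operator all of whose eigenvalues have modulus `< r` has
  operator norm `< r`;
* `EigRe T`: all eigenvalues of `T` have real part `> √3/2` (argument of absolute value `< π/6`);
* `norm_sub_smul_lt`, `norm_sub_one_lt`: the resulting bounds for unitary operators;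
* `norm_commutator_sub_one_le`: `‖X⁻¹Y⁻¹XY - 1‖ ≤ 2 ‖X - c‖ ‖Y - 1‖`;
* `commute_of_commute_commutator` (Frobenius): if `X` commutes with `X⁻¹Y⁻¹XY` and `‖Y - 1‖ < 1`
  then `X` and `Y` commute.
-/

namespace Cfsg.Agent.Helper80.Jordan

open scoped ComplexConjugate

universe u

variable {E : Type u} [NormedAddCommGroup E] [InnerProductSpace ℂ E] [FiniteDimensional ℂ E]

/-- In finite dimension, spectral values of a continuous linear map are eigenvalues. -/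
theorem exists_eigenvector_of_mem_spectrum (T : E →L[ℂ] E) {μ : ℂ} (hμ : μ ∈ spectrum ℂ T) :
    ∃ v : E, v ≠ 0 ∧ T v = μ • v := by
  have h1 : T = Module.End.toContinuousLinearMap E (T : E →ₗ[ℂ] E) := by
    ext v
    rfl
  rw [h1, AlgEquiv.spectrum_eq] at hμ
  have h2 := Module.End.hasEigenvalue_iff_mem_spectrum.mpr hμ
  obtain ⟨v, hv⟩ := h2.exists_hasEigenvector
  rw [Module.End.hasEigenvector_iff, Module.End.mem_eigenspace_iff] at hv
  exact ⟨v, hv.2, hv.1⟩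

/-- A normal operator all of whose eigenvalues have modulus `< r` has norm `< r`. -/
theorem norm_lt_of_eigenvalues (T : E →L[ℂ] E) [IsStarNormal T] {r : ℝ} (hr : 0 < r)
    (h : ∀ (μ : ℂ) (v : E), v ≠ 0 → T v = μ • v → ‖μ‖ < r) : ‖T‖ < r := by
  rcases subsingleton_or_nontrivial E with hE | hE
  · have : T = 0 := by
      ext v
      exact Subsingleton.elim _ _
    rw [this, norm_zero]
    exact hr
  · obtain ⟨z, hz, hzr⟩ := spectrum.exists_nnnorm_eq_spectralRadius T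
    rw [IsStarNormal.spectralRadius_eq_nnnorm] at hzr
    have h1 : ‖z‖₊ = ‖T‖₊ := by exact_mod_cast hzr
    have h2 : ‖z‖ = ‖T‖ := congrArg NNReal.toReal h1
    obtain ⟨v, hv0, hv⟩ := exists_eigenvector_of_mem_spectrum T hz
    rw [← h2]
    exact h z v hv0 hv

/-- All eigenvalues of `T` have real part greater than `√3/2`. -/
def EigRe (T : E →L[ℂ] E) : Prop :=
  ∀ (μ : ℂ) (v : E), v ≠ 0 → T v = μ • v → √3 / 2 < μ.re

/-- Eigenvalues of unitary operators have modulus one. -/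
theorem norm_eigenvalue_eq_one (U : unitary (E →L[ℂ] E)) {μ : ℂ} {v : E} (hv0 : v ≠ 0)
    (hv : (U : E →L[ℂ] E) v = μ • v) : ‖μ‖ = 1 := by
  have h1 := Unitary.norm_map U v
  rw [hv, norm_smul] at h1
  have h2 : ‖v‖ ≠ 0 := norm_ne_zero_iff.mpr hv0
  have h3 : ‖μ‖ * ‖v‖ = 1 * ‖v‖ := by rw [one_mul]; exact h1
  exact mul_right_cancel₀ h2 h3

/-- A unitary operator minus a scalar is normal. -/
theorem isStarNormal_sub_smul (U : unitary (E →L[ℂ] E)) (c : ℂ) :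
    IsStarNormal ((U : E →L[ℂ] E) - c • (1 : E →L[ℂ] E)) := by
  constructor
  have h1 : star (U : E →L[ℂ] E) * U = 1 := Unitary.coe_star_mul_self U
  have h2 : (U : E →L[ℂ] E) * star (U : E →L[ℂ] E) = 1 := Unitary.coe_mul_star_self U
  show star ((U : E →L[ℂ] E) - c • (1 : E →L[ℂ] E)) * ((U : E →L[ℂ] E) - c • 1) =
    ((U : E →L[ℂ] E) - c • 1) * star ((U : E →L[ℂ] E) - c • (1 : E →L[ℂ] E))
  rw [star_sub, star_smul, star_one]
  simp only [sub_mul, mul_sub, smul_mul_assoc, mul_smul_comm, one_mul, mul_one, h1, h2]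
  rw [smul_sub, smul_sub, smul_comm c (star c) (1 : E →L[ℂ] E)]
  abel

omit [FiniteDimensional ℂ E] in
/-- Eigenvalues of `U - c` are eigenvalues of `U` shifted by `c`. -/
theorem eigen_shift (U : E →L[ℂ] E) (c : ℂ) {ν : ℂ} {v : E}
    (hv : (U - c • (1 : E →L[ℂ] E)) v = ν • v) : U v = (ν + c) • v := by
  have h1 : (U - c • (1 : E →L[ℂ] E)) v = U v - c • v := rfl
  rw [h1, sub_eq_iff_eq_add] at hv
  rw [hv, add_smul]

theorem sqrt_three_sq : (√3 : ℝ) * √3 = 3 := Real.mul_self_sqrt (by norm_num)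

/-- For a unitary operator with eigenvalues of real part `> √3/2`: `‖U - √3/2‖ < 1/2`. -/
theorem norm_sub_smul_lt (U : unitary (E →L[ℂ] E)) (hU : EigRe (U : E →L[ℂ] E)) :
    ‖(U : E →L[ℂ] E) - ((√3 / 2 : ℝ) : ℂ) • (1 : E →L[ℂ] E)‖ < 1 / 2 := by
  have := isStarNormal_sub_smul U ((√3 / 2 : ℝ) : ℂ)
  apply norm_lt_of_eigenvalues _ (by norm_num)
  intro ν v hv0 hv
  have h1 := eigen_shift _ _ hv
  have h2 := hU _ v hv0 h1
  have h3 := norm_eigenvalue_eq_one U hv0 h1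
  set μ := ν + ((√3 / 2 : ℝ) : ℂ) with hμ
  have hν : ν = μ - ((√3 / 2 : ℝ) : ℂ) := by rw [hμ]; ring
  have h4 : μ.re * μ.re + μ.im * μ.im = 1 := by
    have := Complex.normSq_apply μ
    rw [Complex.normSq_eq_norm_sq, h3] at this
    linarith
  have h5 : ‖ν‖ ^ 2 < (1 / 2) ^ 2 := by
    rw [← Complex.normSq_eq_norm_sq, Complex.normSq_apply, hν]
    simp only [Complex.sub_re, Complex.sub_im, Complex.ofReal_re, Complex.ofReal_im, sub_zero]
    have h6 : (0 : ℝ) < √3 := Real.sqrt_pos.mpr (by norm_num)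
    have h7 : 3 / 2 < √3 * μ.re := by nlinarith [sqrt_three_sq]
    have h8 : (μ.re - √3 / 2) * (μ.re - √3 / 2) + μ.im * μ.im =
        (μ.re * μ.re + μ.im * μ.im) - √3 * μ.re + (√3 * √3) / 4 := by ring
    rw [h8, h4, sqrt_three_sq]
    linarith
  exact lt_of_pow_lt_pow_left₀ 2 (by norm_num) h5

/-- For a unitary operator with eigenvalues of real part `> √3/2`: `‖U - 1‖ < 1`. -/
theorem norm_sub_one_lt (U : unitary (E →L[ℂ] E)) (hU : EigRe (U : E →L[ℂ] E)) :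
    ‖(U : E →L[ℂ] E) - 1‖ < 1 := by
  have h0 : (U : E →L[ℂ] E) - 1 = (U : E →L[ℂ] E) - (1 : ℂ) • (1 : E →L[ℂ] E) := by
    rw [one_smul]
  rw [h0]
  have := isStarNormal_sub_smul U (1 : ℂ)
  apply norm_lt_of_eigenvalues _ (by norm_num)
  intro ν v hv0 hv
  have h1 := eigen_shift _ _ hv
  have h2 := hU _ v hv0 h1
  have h3 := norm_eigenvalue_eq_one U hv0 h1
  set μ := ν + (1 : ℂ) with hμ
  have hν : ν = μ - 1 := by rw [hμ]; ring
  have h4 : μ.re * μ.re + μ.im * μ.im = 1 := by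
    have := Complex.normSq_apply μ
    rw [Complex.normSq_eq_norm_sq, h3] at this
    linarith
  have h5 : ‖ν‖ ^ 2 < 1 ^ 2 := by
    rw [← Complex.normSq_eq_norm_sq, Complex.normSq_apply, hν]
    simp only [Complex.sub_re, Complex.sub_im, Complex.one_re, Complex.one_im, sub_zero]
    have h6 : (1 : ℝ) < √3 := by
      rw [show (1 : ℝ) = √1 by simp]
      exact Real.sqrt_lt_sqrt (by norm_num) (by norm_num)
    have h8 : (μ.re - 1) * (μ.re - 1) + μ.im * μ.im =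
        (μ.re * μ.re + μ.im * μ.im) - 2 * μ.re + 1 := by ring
    rw [h8, h4]
    linarith
  exact lt_of_pow_lt_pow_left₀ 2 (by norm_num) h5

/-- The commutator estimate: `‖X⁻¹Y⁻¹XY - 1‖ ≤ 2 ‖X - c‖ ‖Y - 1‖`. -/
theorem norm_commutator_sub_one_le (X Y : unitary (E →L[ℂ] E)) (c : ℂ) :
    ‖((X⁻¹ * Y⁻¹ * X * Y : unitary (E →L[ℂ] E)) : E →L[ℂ] E) - 1‖ ≤
      2 * ‖(X : E →L[ℂ] E) - c • (1 : E →L[ℂ] E)‖ * ‖(Y : E →L[ℂ] E) - 1‖ := by
  have h1 : ((X⁻¹ * Y⁻¹ * X * Y : unitary (E →L[ℂ] E)) : E →L[ℂ] E) - 1 =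
      ((X⁻¹ * Y⁻¹ : unitary (E →L[ℂ] E)) : E →L[ℂ] E) *
        ((X : E →L[ℂ] E) * (Y : E →L[ℂ] E) - (Y : E →L[ℂ] E) * (X : E →L[ℂ] E)) := by
    have e : ((X⁻¹ * Y⁻¹ : unitary (E →L[ℂ] E)) : E →L[ℂ] E) *
        ((Y : E →L[ℂ] E) * (X : E →L[ℂ] E)) = 1 := by
      have h : (X⁻¹ * Y⁻¹ * (Y * X) : unitary (E →L[ℂ] E)) = 1 := by group
      have h' := congrArg Subtype.val h
      rw [Submonoid.coe_mul] at h'
      have h'' : ((Y * X : unitary (E →L[ℂ] E)) : E →L[ℂ] E) =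
          (Y : E →L[ℂ] E) * (X : E →L[ℂ] E) := rfl
      rw [h''] at h'
      exact h'
    rw [mul_sub, e, ← Submonoid.coe_mul, ← Submonoid.coe_mul, mul_assoc (X⁻¹ * Y⁻¹) X Y]
  rw [h1, CStarRing.norm_coe_unitary_mul]
  have h2 : (X : E →L[ℂ] E) * (Y : E →L[ℂ] E) - (Y : E →L[ℂ] E) * (X : E →L[ℂ] E) =
      ((X : E →L[ℂ] E) - c • 1) * ((Y : E →L[ℂ] E) - 1) -
        ((Y : E →L[ℂ] E) - 1) * ((X : E →L[ℂ] E) - c • 1) := by
    simp only [sub_mul, mul_sub, smul_mul_assoc, mul_smul_comm, one_mul, mul_one, smul_sub]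
    abel
  rw [h2]
  calc ‖((X : E →L[ℂ] E) - c • 1) * ((Y : E →L[ℂ] E) - 1) -
        ((Y : E →L[ℂ] E) - 1) * ((X : E →L[ℂ] E) - c • 1)‖
      ≤ ‖((X : E →L[ℂ] E) - c • 1) * ((Y : E →L[ℂ] E) - 1)‖ +
        ‖((Y : E →L[ℂ] E) - 1) * ((X : E →L[ℂ] E) - c • 1)‖ := norm_sub_le _ _
    _ ≤ ‖(X : E →L[ℂ] E) - c • 1‖ * ‖(Y : E →L[ℂ] E) - 1‖ +
        ‖(Y : E →L[ℂ] E) - 1‖ * ‖(X : E →L[ℂ] E) - c • 1‖ :=
      add_le_add (norm_mul_le _ _) (norm_mul_le _ _)
    _ = 2 * ‖(X : E →L[ℂ] E) - c • (1 : E →L[ℂ] E)‖ * ‖(Y : E →L[ℂ] E) - 1‖ := by ring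

omit [FiniteDimensional ℂ E] in
/-- If `‖Y - 1‖ < 1` then `⟪Y w, w⟫ ≠ 0` for `w ≠ 0`. -/
theorem inner_map_self_ne_zero (Y : E →L[ℂ] E) (hY : ‖Y - 1‖ < 1) {w : E} (hw : w ≠ 0) :
    inner ℂ (Y w) w ≠ 0 := by
  intro h0
  have h1 : Y w = w + (Y - 1) w := by
    have : (Y - 1) w = Y w - w := rfl
    rw [this]
    abel
  rw [h1, inner_add_left] at h0
  have h2 : inner ℂ w w = - inner ℂ ((Y - 1) w) w := eq_neg_of_add_eq_zero_left h0
  have h3 : ‖inner ℂ w w‖ = ‖w‖ * ‖w‖ := by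
    rw [inner_self_eq_norm_sq_to_K]
    simp [sq]
  have h4 : ‖inner ℂ ((Y - 1) w) w‖ ≤ ‖Y - 1‖ * ‖w‖ * ‖w‖ :=
    (norm_inner_le_norm _ _).trans
      (mul_le_mul_of_nonneg_right (ContinuousLinearMap.le_opNorm _ _) (norm_nonneg _))
  have h5 : 0 < ‖w‖ := norm_pos_iff.mpr hw
  rw [h2, norm_neg] at h3
  have h6 : ‖Y - 1‖ * ‖w‖ * ‖w‖ < 1 * ‖w‖ * ‖w‖ := by
    apply mul_lt_mul_of_pos_right _ h5
    exact mul_lt_mul_of_pos_right hY h5
  linarith

/-- **Frobenius' lemma**: if `X` commutes with `X⁻¹Y⁻¹XY` and `‖Y - 1‖ < 1`, then `X` and `Y`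
commute. -/
theorem commute_of_commute_commutator (X Y : unitary (E →L[ℂ] E))
    (hc : X * (X⁻¹ * Y⁻¹ * X * Y) = (X⁻¹ * Y⁻¹ * X * Y) * X)
    (hY : ‖(Y : E →L[ℂ] E) - 1‖ < 1) : X * Y = Y * X := by
  set C := X⁻¹ * Y⁻¹ * X * Y with hC
  suffices h : C = 1 by
    have h1 : X * Y = Y * X * C := by rw [hC]; group
    rw [h1, h, mul_one]
  have hXC : ∀ w : E, (X : E →L[ℂ] E) ((C : E →L[ℂ] E) w) =
      (C : E →L[ℂ] E) ((X : E →L[ℂ] E) w) := by
    intro w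
    have h1 := congrArg Subtype.val hc
    rw [Submonoid.coe_mul, Submonoid.coe_mul] at h1
    exact congrArg (fun T : E →L[ℂ] E => T w) h1
  have hYXC : ∀ w : E, (X : E →L[ℂ] E) ((Y : E →L[ℂ] E) w) =
      (Y : E →L[ℂ] E) ((X : E →L[ℂ] E) ((C : E →L[ℂ] E) w)) := by
    intro w
    have h1 : X * Y = Y * (X * C) := by rw [hC]; group
    have h2 := congrArg Subtype.val h1
    rw [Submonoid.coe_mul, Submonoid.coe_mul, Submonoid.coe_mul] at h2
    exact congrArg (fun T : E →L[ℂ] E => T w) h2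
  -- every eigenvalue of `C` is `1`
  have key : ∀ (c : ℂ) (v : E), v ≠ 0 → (C : E →L[ℂ] E) v = c • v → c = 1 := by
    intro c v hv0 hv
    set F := Module.End.eigenspace ((C : E →L[ℂ] E) : E →ₗ[ℂ] E) c with hF
    have hFm : ∀ w : E, w ∈ F ↔ (C : E →L[ℂ] E) w = c • w := fun w =>
      Module.End.mem_eigenspace_iff
    have hinv : ∀ w ∈ F, ((X : E →L[ℂ] E) : E →ₗ[ℂ] E) w ∈ F := by
      intro w hw
      rw [hFm] at hw
      rw [hFm]
      show (C : E →L[ℂ] E) ((X : E →L[ℂ] E) w) = c • (X : E →L[ℂ] E) w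
      rw [← hXC, hw, map_smul]
    have hnt : Nontrivial F := ⟨⟨⟨v, (hFm v).mpr hv⟩, 0, fun h => hv0 (congrArg Subtype.val h)⟩⟩
    obtain ⟨a, ha⟩ := Module.End.exists_eigenvalue
      ((((X : E →L[ℂ] E) : E →ₗ[ℂ] E).restrict hinv : F →ₗ[ℂ] F))
    obtain ⟨w', hw'⟩ := ha.exists_hasEigenvector
    rw [Module.End.hasEigenvector_iff, Module.End.mem_eigenspace_iff] at hw'
    obtain ⟨hw'1, hw'0⟩ := hw'
    obtain ⟨w, hwF⟩ := w'
    have hw0 : w ≠ 0 := fun h => hw'0 (Subtype.ext h)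
    have hXw : (X : E →L[ℂ] E) w = a • w := by
      have := congrArg Subtype.val hw'1
      simpa using this
    have hCw : (C : E →L[ℂ] E) w = c • w := (hFm w).mp hwF
    have hna : ‖a‖ = 1 := norm_eigenvalue_eq_one X hw0 hXw
    have h1 : (X : E →L[ℂ] E) ((Y : E →L[ℂ] E) w) = (c * a) • (Y : E →L[ℂ] E) w := by
      rw [hYXC, hCw, map_smul, hXw, map_smul, map_smul, smul_smul]
    have h2 := ContinuousLinearMap.inner_map_map_of_mem_unitary X.2 ((Y : E →L[ℂ] E) w) w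
    rw [h1, hXw, inner_smul_left, inner_smul_right] at h2
    have h3 := inner_map_self_ne_zero (Y : E →L[ℂ] E) hY hw0
    have h4 : (starRingEnd ℂ) (c * a) * a = (starRingEnd ℂ) c := by
      rw [map_mul, mul_assoc, mul_comm ((starRingEnd ℂ) a) a, Complex.mul_conj,
        Complex.normSq_eq_norm_sq, hna]
      simp
    have h5 : (starRingEnd ℂ) c * inner ℂ ((Y : E →L[ℂ] E) w) w =
        1 * inner ℂ ((Y : E →L[ℂ] E) w) w := by
      rw [one_mul, ← h4, mul_assoc]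
      exact h2
    have h6 := mul_right_cancel₀ h3 h5
    have h7 := congrArg (starRingEnd ℂ) h6
    simpa using h7
  have hn : ‖(C : E →L[ℂ] E) - 1‖ = 0 := by
    by_contra hne
    have hpos : 0 < ‖(C : E →L[ℂ] E) - 1‖ := lt_of_le_of_ne (norm_nonneg _) (Ne.symm hne)
    have h0 : (C : E →L[ℂ] E) - 1 = (C : E →L[ℂ] E) - (1 : ℂ) • (1 : E →L[ℂ] E) := by
      rw [one_smul]
    have := isStarNormal_sub_smul C (1 : ℂ)
    have hlt : ‖(C : E →L[ℂ] E) - (1 : ℂ) • (1 : E →L[ℂ] E)‖ < ‖(C : E →L[ℂ] E) - 1‖ := by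
      apply norm_lt_of_eigenvalues _ hpos
      intro ν v hv0 hv
      have h1 := eigen_shift _ _ hv
      have h2 := key _ v hv0 h1
      have hν : ν = 0 := by linear_combination h2
      rw [hν, norm_zero]
      exact hpos
    rw [← h0] at hlt
    exact lt_irrefl _ hlt
  apply Subtype.ext
  have h1 := sub_eq_zero.mp (norm_eq_zero.mp hn)
  rw [h1]
  rfl

end Cfsg.Agent.Helper80.Jordan
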