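import Mathlib
import Cfsg.Agent.Helper80.Jordan1

set_option autoImplicit false

/-!
# The abelian normal subgroup generated by the elements near the identity

For a faithful unitary representation `τ` of a finite group `G`, the elements all of whose
eigenvalues have real part `> √3/2` commute pairwise and are permuted by conjugation; they generate
an abelian normal subgroup `nearSubgroup τ`.
-/

namespace Cfsg.Agent.Helper80.Jordan

universe u v

variable {E : Type u} [NormedAddCommGroup E] [InnerProductSpace ℂ E] [FiniteDimensional ℂ E]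
variable {G : Type v} [Group G] (τ : G →* unitary (E →L[ℂ] E))

/-- The operator of a group element. -/
noncomputable abbrev op (g : G) : E →L[ℂ] E := ((τ g : unitary (E →L[ℂ] E)) : E →L[ℂ] E)

theorem op_mul (a b : G) (w : E) : op τ (a * b) w = op τ a (op τ b w) := by
  unfold op
  rw [map_mul]
  rfl

theorem op_one (w : E) : op τ (1 : G) w = w := by
  unfold op
  rw [map_one]
  rfl

theorem op_inv_op (g : G) (w : E) : op τ g⁻¹ (op τ g w) = w := by
  rw [← op_mul, inv_mul_cancel, op_one]

/-- The elements near the identity: all eigenvalues have real part `> √3/2`. -/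
def nearSet : Set G := {g | EigRe (op τ g)}

theorem conj_mem_nearSet {x : G} (hx : x ∈ nearSet τ) (g : G) : g * x * g⁻¹ ∈ nearSet τ := by
  intro μ v hv0 hv
  apply hx μ (op τ g⁻¹ v)
  · intro h
    apply hv0
    have := congrArg (op τ g) h
    rw [map_zero, ← op_mul, mul_inv_cancel, op_one] at this
    exact this
  · rw [op_mul, op_mul] at hv
    have h1 := congrArg (op τ g⁻¹) hv
    rw [op_inv_op, map_smul] at h1
    exact h1

variable [Finite G]

/-- An element near the identity commutes with every `y` such that `‖τ y - 1‖ < 1`. -/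
theorem comm_of_mem_nearSet (hτ : Function.Injective τ) {x : G} (hx : x ∈ nearSet τ) :
    ∀ y : G, ‖op τ y - 1‖ < 1 → x * y = y * x := by
  classical
  have := Fintype.ofFinite G
  have hκ := norm_sub_smul_lt (τ x) hx
  set κ := ‖op τ x - ((√3 / 2 : ℝ) : ℂ) • (1 : E →L[ℂ] E)‖ with hκdef
  intro y
  induction h : (Finset.univ.filter fun g : G => ‖op τ g - 1‖ < ‖op τ y - 1‖).card
    using Nat.strong_induction_on generalizing y with
  | _ k ih =>
    intro hy
    by_cases h0 : ‖op τ y - 1‖ = 0
    · have h1 : op τ y = 1 := sub_eq_zero.mp (norm_eq_zero.mp h0)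
      have h2 : τ y = 1 := Subtype.ext h1
      have h3 : y = 1 := hτ (by rw [h2, map_one])
      rw [h3, mul_one, one_mul]
    · have hpos : 0 < ‖op τ y - 1‖ := lt_of_le_of_ne (norm_nonneg _) (Ne.symm h0)
      set y' := x⁻¹ * y⁻¹ * x * y with hy'
      have hτy' : τ y' = (τ x)⁻¹ * (τ y)⁻¹ * τ x * τ y := by
        rw [hy', map_mul, map_mul, map_mul, map_inv, map_inv]
      have h1 : ‖op τ y' - 1‖ ≤ 2 * κ * ‖op τ y - 1‖ := by
        have := norm_commutator_sub_one_le (τ x) (τ y) ((√3 / 2 : ℝ) : ℂ)
        rw [← hτy'] at this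
        exact this
      have h2 : ‖op τ y' - 1‖ < ‖op τ y - 1‖ := by
        have : 2 * κ * ‖op τ y - 1‖ < 1 * ‖op τ y - 1‖ :=
          mul_lt_mul_of_pos_right (by linarith) hpos
        linarith
      have h3 : (Finset.univ.filter fun g : G => ‖op τ g - 1‖ < ‖op τ y' - 1‖).card < k := by
        rw [← h]
        apply Finset.card_lt_card
        constructor
        · intro g hg
          rw [Finset.mem_filter] at hg ⊢
          exact ⟨hg.1, hg.2.trans h2⟩
        · intro hsub
          have h4 : y' ∈ Finset.univ.filter fun g : G => ‖op τ g - 1‖ < ‖op τ y - 1‖ :=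
            Finset.mem_filter.mpr ⟨Finset.mem_univ _, h2⟩
          have h5 := hsub h4
          rw [Finset.mem_filter] at h5
          exact lt_irrefl _ h5.2
      have h6 : x * y' = y' * x := ih _ h3 y' rfl (h2.trans hy)
      have h7 : τ x * ((τ x)⁻¹ * (τ y)⁻¹ * τ x * τ y) = ((τ x)⁻¹ * (τ y)⁻¹ * τ x * τ y) * τ x := by
        rw [← hτy', ← map_mul, ← map_mul, h6]
      have h8 := commute_of_commute_commutator (τ x) (τ y) h7 hy
      apply hτ
      rw [map_mul, map_mul, h8]

omit [Finite G] in
/-- The closure of a conjugation invariant set is a normal subgroup. -/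
theorem closure_normal_of_conj_mem {S : Set G} (h : ∀ s ∈ S, ∀ g : G, g * s * g⁻¹ ∈ S) :
    (Subgroup.closure S).Normal := by
  constructor
  intro n hn g
  induction hn using Subgroup.closure_induction with
  | mem x hx => exact Subgroup.subset_closure (h x hx g)
  | one => simp
  | mul x y _ _ hx hy =>
    have : g * (x * y) * g⁻¹ = (g * x * g⁻¹) * (g * y * g⁻¹) := by group
    rw [this]
    exact Subgroup.mul_mem _ hx hy
  | inv x _ hx =>
    have : g * x⁻¹ * g⁻¹ = (g * x * g⁻¹)⁻¹ := by group
    rw [this]
    exact Subgroup.inv_mem _ hx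

omit [Finite G] in
/-- The closure of a set of pairwise commuting elements is commutative. -/
theorem closure_comm_of_comm {S : Set G} (h : ∀ a ∈ S, ∀ b ∈ S, a * b = b * a) :
    ∀ a ∈ Subgroup.closure S, ∀ b ∈ Subgroup.closure S, a * b = b * a := by
  have h1 : Subgroup.closure S ≤ Subgroup.centralizer S := by
    rw [Subgroup.closure_le]
    intro a ha
    rw [SetLike.mem_coe, Subgroup.mem_centralizer_iff]
    intro b hb
    exact h b hb a ha
  have h2 : Subgroup.closure S ≤ Subgroup.centralizer (Subgroup.closure S : Set G) := by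
    rw [Subgroup.closure_le]
    intro a ha
    rw [SetLike.mem_coe, Subgroup.mem_centralizer_iff]
    intro b hb
    have := Subgroup.mem_centralizer_iff.mp (h1 hb) a ha
    exact this.symm
  intro a ha b hb
  exact (Subgroup.mem_centralizer_iff.mp (h2 ha) b hb).symm

/-- The subgroup generated by the elements near the identity. -/
def nearSubgroup : Subgroup G := Subgroup.closure (nearSet τ)

omit [Finite G] in
theorem nearSubgroup_normal : (nearSubgroup τ).Normal :=
  closure_normal_of_conj_mem fun _ hs g => conj_mem_nearSet τ hs g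

theorem nearSubgroup_comm (hτ : Function.Injective τ) :
    ∀ a ∈ nearSubgroup τ, ∀ b ∈ nearSubgroup τ, a * b = b * a :=
  closure_comm_of_comm fun _ ha b hb =>
    comm_of_mem_nearSet τ hτ ha b (norm_sub_one_lt (τ b) hb)

end Cfsg.Agent.Helper80.Jordan
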