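import Mathlib

set_option autoImplicit false

/-!
# The box argument for abelian linear groups

* `box`: the unit circle is cut into 12 half-open arcs; two points in the same arc have a quotient
  of real part `> √3/2`.
* `exists_common_eigenvector`: a finite commuting family of operators given by a homomorphism from a
  group with commuting elements has a common eigenvector.
* `exists_box_map`: for an abelian group `H` acting on an `n`-dimensional space there is a map `f`
  from `H` to a set with at most `12 ^ n` elements such that `f h = f k` forces all eigenvalues of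
  `h⁻¹ k` to have real part `> √3/2`.
-/

namespace Cfsg.Agent.Helper80.Jordan

open scoped ComplexConjugate

universe u v

section box

/-- The arc (out of 12) containing a complex number. -/
noncomputable def box (z : ℂ) : Fin 12 :=
  ⟨⌊(Real.pi - Complex.arg z) * 6 / Real.pi⌋₊ % 12, Nat.mod_lt _ (by norm_num)⟩

theorem box_arg {z w : ℂ} (h : box z = box w) : |Complex.arg w - Complex.arg z| < Real.pi / 6 := by
  have hpi : 0 < Real.pi := Real.pi_pos
  have key : ∀ x : ℂ, 0 ≤ (Real.pi - Complex.arg x) * 6 / Real.pi ∧
      (Real.pi - Complex.arg x) * 6 / Real.pi < 12 := by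
    intro x
    have h1 := Complex.arg_le_pi x
    have h2 := Complex.neg_pi_lt_arg x
    constructor
    · apply div_nonneg _ hpi.le
      nlinarith
    · rw [div_lt_iff₀ hpi]
      nlinarith
  set a := (Real.pi - Complex.arg z) * 6 / Real.pi with ha
  set b := (Real.pi - Complex.arg w) * 6 / Real.pi with hb
  have hfa : ⌊a⌋₊ < 12 := (Nat.floor_lt (key z).1).mpr (by exact_mod_cast (key z).2)
  have hfb : ⌊b⌋₊ < 12 := (Nat.floor_lt (key w).1).mpr (by exact_mod_cast (key w).2)
  have h1 : ⌊a⌋₊ = ⌊b⌋₊ := by
    have := congrArg Fin.val h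
    simp only [box] at this
    rw [← ha, ← hb, Nat.mod_eq_of_lt hfa, Nat.mod_eq_of_lt hfb] at this
    exact this
  have h2 := Nat.floor_le (key z).1
  have h3 := Nat.lt_floor_add_one a
  have h4 := Nat.floor_le (key w).1
  have h5 := Nat.lt_floor_add_one b
  rw [h1] at h2 h3
  have h6 : |a - b| < 1 := by
    rw [abs_lt]
    constructor <;> linarith
  have h7 : a - b = (Complex.arg w - Complex.arg z) * (6 / Real.pi) := by
    rw [ha, hb]
    field_simp
    ring
  rw [h7, abs_mul, abs_of_pos (div_pos (by norm_num : (0 : ℝ) < 6) hpi)] at h6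
  have h8 : |Complex.arg w - Complex.arg z| * (6 / Real.pi) < 1 := h6
  rw [← lt_div_iff₀ (div_pos (by norm_num : (0 : ℝ) < 6) hpi)] at h8
  have h9 : (1 : ℝ) / (6 / Real.pi) = Real.pi / 6 := by field_simp
  rw [h9] at h8
  exact h8

/-- Two points of the unit circle in the same arc have a quotient of real part `> √3/2`. -/
theorem box_re {z w : ℂ} (hz : ‖z‖ = 1) (hw : ‖w‖ = 1) (h : box z = box w) :
    √3 / 2 < (w * conj z).re := by
  have h1 := box_arg h
  have ez : z = Complex.exp (Complex.arg z * Complex.I) := by
    have := Complex.norm_mul_exp_arg_mul_I z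
    rw [hz, Complex.ofReal_one, one_mul] at this
    exact this.symm
  have ew : w = Complex.exp (Complex.arg w * Complex.I) := by
    have := Complex.norm_mul_exp_arg_mul_I w
    rw [hw, Complex.ofReal_one, one_mul] at this
    exact this.symm
  have h2 : w * conj z =
      Complex.exp (((Complex.arg w - Complex.arg z : ℝ) : ℂ) * Complex.I) := by
    conv_lhs => rw [ez, ew]
    rw [← Complex.exp_conj, ← Complex.exp_add]
    congr 1
    simp only [map_mul, Complex.conj_ofReal, Complex.conj_I, Complex.ofReal_sub]
    ring
  rw [h2, Complex.exp_ofReal_mul_I_re, ← Real.cos_abs, ← Real.cos_pi_div_six]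
  apply Real.cos_lt_cos_of_nonneg_of_le_pi (abs_nonneg _) _ h1
  linarith [Real.pi_pos]

end box

section eigen

variable {E : Type u} [AddCommGroup E] [Module ℂ E] [FiniteDimensional ℂ E]
variable {H : Type v} [Group H]

/-- A family of operators coming from a group with commuting elements has a common eigenvector in
every nonzero invariant subspace. -/
theorem exists_common_eigenvector_mem (σ : H →* Module.End ℂ E) (hcomm : ∀ a b : H, a * b = b * a) :
    ∀ (k : ℕ) (W : Submodule ℂ E), Module.finrank ℂ W = k → W ≠ ⊥ →
      (∀ h : H, ∀ w ∈ W, σ h w ∈ W) →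
      ∃ v ∈ W, v ≠ 0 ∧ ∀ h : H, ∃ c : ℂ, σ h v = c • v := by
  intro k
  induction k using Nat.strong_induction_on with
  | _ k ih =>
    intro W hk hW hinv
    by_cases hsc : ∀ h : H, ∃ c : ℂ, ∀ w ∈ W, σ h w = c • w
    · obtain ⟨v, hv, hv0⟩ := (Submodule.ne_bot_iff W).mp hW
      refine ⟨v, hv, hv0, fun h => ?_⟩
      obtain ⟨c, hc⟩ := hsc h
      exact ⟨c, hc v hv⟩
    · push Not at hsc
      obtain ⟨h₀, hh₀⟩ := hsc
      have hnt : Nontrivial W := by
        obtain ⟨v, hv, hv0⟩ := (Submodule.ne_bot_iff W).mp hW
        exact ⟨⟨⟨v, hv⟩, 0, fun h => hv0 (congrArg Subtype.val h)⟩⟩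
      obtain ⟨c, hc⟩ := Module.End.exists_eigenvalue
        (((σ h₀ : E →ₗ[ℂ] E).restrict (hinv h₀) : W →ₗ[ℂ] W))
      obtain ⟨w', hw'⟩ := hc.exists_hasEigenvector
      rw [Module.End.hasEigenvector_iff, Module.End.mem_eigenspace_iff] at hw'
      obtain ⟨hw'1, hw'0⟩ := hw'
      obtain ⟨w₀, hw₀W⟩ := w'
      have hw₀0 : w₀ ≠ 0 := fun h => hw'0 (Subtype.ext h)
      have hw₀ : σ h₀ w₀ = c • w₀ := by
        have := congrArg Subtype.val hw'1
        simpa using this
      set W' : Submodule ℂ E := W ⊓ Module.End.eigenspace (σ h₀) c with hW'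
      have hW'mem : ∀ w : E, w ∈ W' ↔ w ∈ W ∧ σ h₀ w = c • w := by
        intro w
        rw [hW', Submodule.mem_inf, Module.End.mem_eigenspace_iff]
      have hW'ne : W' ≠ ⊥ := by
        rw [Submodule.ne_bot_iff]
        exact ⟨w₀, (hW'mem w₀).mpr ⟨hw₀W, hw₀⟩, hw₀0⟩
      have hW'lt : W' < W := by
        refine lt_of_le_of_ne inf_le_left ?_
        intro heq
        obtain ⟨w, hwW, hw⟩ := hh₀ c
        apply hw
        rw [← heq] at hwW
        exact ((hW'mem w).mp hwW).2
      have hlt : Module.finrank ℂ W' < k := by
        rw [← hk]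
        exact Submodule.finrank_lt_finrank_of_lt hW'lt
      have hinv' : ∀ h : H, ∀ w ∈ W', σ h w ∈ W' := by
        intro h w hw
        rw [hW'mem] at hw ⊢
        refine ⟨hinv h w hw.1, ?_⟩
        have h1 : σ h₀ (σ h w) = σ h (σ h₀ w) := by
          rw [← Module.End.mul_apply, ← Module.End.mul_apply, ← map_mul, ← map_mul, hcomm h₀ h]
        rw [h1, hw.2, map_smul]
      obtain ⟨v, hv, hv0, hvc⟩ := ih _ hlt W' rfl hW'ne hinv'
      exact ⟨v, hW'lt.le hv, hv0, hvc⟩

/-- A family of operators coming from a group with commuting elements has a common eigenvector. -/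
theorem exists_common_eigenvector [Nontrivial E] (σ : H →* Module.End ℂ E)
    (hcomm : ∀ a b : H, a * b = b * a) :
    ∃ v : E, v ≠ 0 ∧ ∀ h : H, ∃ c : ℂ, σ h v = c • v := by
  obtain ⟨v, -, hv0, hv⟩ := exists_common_eigenvector_mem σ hcomm _ ⊤ rfl
    (by exact top_ne_bot) (fun _ _ _ => Submodule.mem_top)
  exact ⟨v, hv0, hv⟩

end eigen

section pigeon

variable {H : Type v} [Group H] [Finite H]

/-- The box map: for a group `H` with commuting elements acting on an `n`-dimensional space there
is a map `f` from `H` to a set with at most `12 ^ n` elements such that `f h = f k` forces all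
eigenvalues of `h⁻¹ k` to have real part `> √3/2`. -/
theorem exists_box_map (hcomm : ∀ a b : H, a * b = b * a) :
    ∀ (n : ℕ) (E : Type u) [AddCommGroup E] [Module ℂ E] [FiniteDimensional ℂ E],
      Module.finrank ℂ E = n → ∀ σ : H →* Module.End ℂ E,
      ∃ (C : Type) (_ : Fintype C) (f : H → C), Fintype.card C ≤ 12 ^ n ∧
        ∀ h k : H, f h = f k → ∀ (μ : ℂ) (v : E), v ≠ 0 → σ (h⁻¹ * k) v = μ • v →
          √3 / 2 < μ.re := by
  intro n
  induction n with
  | zero =>
    intro E _ _ _ hE σ
    have : Subsingleton E := Module.finrank_zero_iff.mp hE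
    exact ⟨Unit, inferInstance, fun _ => (), by simp,
      fun h k _ μ v hv0 _ => absurd (Subsingleton.elim v 0) hv0⟩
  | succ n ih =>
    intro E _ _ _ hE σ
    have hnt : Nontrivial E :=
      Module.nontrivial_of_finrank_pos (R := ℂ) (by rw [hE]; exact Nat.succ_pos n)
    obtain ⟨v₀, hv₀, hev⟩ := exists_common_eigenvector σ hcomm
    choose lam hlam using hev
    have hinj := smul_left_injective ℂ hv₀
    have hmul : ∀ a b : H, lam (a * b) = lam a * lam b := by
      intro a b
      apply hinj
      show lam (a * b) • v₀ = (lam a * lam b) • v₀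
      rw [← hlam, map_mul, Module.End.mul_apply, hlam b, map_smul, hlam a, smul_smul, mul_comm]
    have hone : lam 1 = 1 := by
      apply hinj
      show lam 1 • v₀ = (1 : ℂ) • v₀
      rw [← hlam, map_one, Module.End.one_apply, one_smul]
    have hpow : ∀ (a : H) (m : ℕ), lam (a ^ m) = lam a ^ m := by
      intro a m
      induction m with
      | zero => rw [pow_zero, pow_zero, hone]
      | succ m ihm => rw [pow_succ, pow_succ, hmul, ihm]
    have hnorm : ∀ a : H, ‖lam a‖ = 1 := by
      intro a
      have h1 : lam a ^ (orderOf a) = 1 := by rw [← hpow, pow_orderOf_eq_one, hone]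
      have h2 : ‖lam a‖ ^ orderOf a = 1 := by rw [← norm_pow, h1, norm_one]
      exact (pow_eq_one_iff_of_nonneg (norm_nonneg _) (orderOf_pos a).ne').mp h2
    have hinvl : ∀ a : H, lam a⁻¹ * lam a = 1 := by
      intro a
      rw [← hmul, inv_mul_cancel, hone]
    set L : Submodule ℂ E := ℂ ∙ v₀ with hL
    have hLinv : ∀ h : H, L ≤ L.comap (σ h) := by
      intro h w hw
      rw [Submodule.mem_comap]
      obtain ⟨a, rfl⟩ := Submodule.mem_span_singleton.mp hw
      rw [map_smul, hlam, smul_smul]
      exact Submodule.mem_span_singleton.mpr ⟨_, rfl⟩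
    let σq : H →* Module.End ℂ (E ⧸ L) :=
      { toFun := fun h => L.mapQ L (σ h) (hLinv h)
        map_one' := by
          apply LinearMap.ext
          intro q
          obtain ⟨w, rfl⟩ := Submodule.Quotient.mk_surjective L q
          rw [Submodule.mapQ_apply, map_one]
          rfl
        map_mul' := by
          intro a b
          apply LinearMap.ext
          intro q
          obtain ⟨w, rfl⟩ := Submodule.Quotient.mk_surjective L q
          rw [Module.End.mul_apply, Submodule.mapQ_apply, Submodule.mapQ_apply,
            Submodule.mapQ_apply, map_mul]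
          rfl }
    have hσq : ∀ (h : H) (w : E), σq h (Submodule.Quotient.mk w) =
        Submodule.Quotient.mk (σ h w) := fun h w => Submodule.mapQ_apply L L (σ h) (h := hLinv h) w
    have hfr : Module.finrank ℂ (E ⧸ L) = n := by
      have h1 := Submodule.finrank_quotient_add_finrank L
      have h2 : Module.finrank ℂ L = 1 := finrank_span_singleton hv₀
      rw [hE, h2] at h1
      omega
    obtain ⟨C, hC, f, hcard, hf⟩ := ih (E ⧸ L) hfr σq
    refine ⟨Fin 12 × C, inferInstance, fun h => (box (lam h), f h), ?_, ?_⟩
    · rw [Fintype.card_prod, Fintype.card_fin, pow_succ, mul_comm]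
      exact Nat.mul_le_mul_right 12 hcard
    · intro h k hfk μ v hv0 hv
      have h1 : box (lam h) = box (lam k) := congrArg Prod.fst hfk
      have h2 : f h = f k := congrArg Prod.snd hfk
      by_cases hvL : v ∈ L
      · obtain ⟨a, rfl⟩ := Submodule.mem_span_singleton.mp hvL
        have ha : a ≠ 0 := by
          rintro rfl
          exact hv0 (zero_smul _ _)
        have h3 : μ = lam (h⁻¹ * k) := by
          rw [map_smul, hlam, smul_smul, smul_smul] at hv
          have h4 := hinj hv
          have h5 : a * lam (h⁻¹ * k) = a * μ := by rw [h4, mul_comm]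
          exact (mul_left_cancel₀ ha h5).symm
        have h4 : lam (h⁻¹ * k) = lam k * conj (lam h) := by
          rw [hmul]
          have h5 : lam h⁻¹ = conj (lam h) := by
            have e1 := hinvl h
            have e2 : conj (lam h) * lam h = 1 := by
              rw [mul_comm, Complex.mul_conj, Complex.normSq_eq_norm_sq, hnorm]
              simp
            have hne : lam h ≠ 0 := by
              intro h0
              rw [h0, mul_zero] at e1
              exact zero_ne_one e1
            exact mul_right_cancel₀ hne (e1.trans e2.symm)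
          rw [h5, mul_comm]
        rw [h3, h4]
        exact box_re (hnorm h) (hnorm k) h1
      · have hq : (Submodule.Quotient.mk v : E ⧸ L) ≠ 0 := by
          rw [Ne, Submodule.Quotient.mk_eq_zero]
          exact hvL
        apply hf h k h2 μ (Submodule.Quotient.mk v) hq
        rw [hσq, hv]
        rfl

end pigeon

end Cfsg.Agent.Helper80.Jordan
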