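import Mathlib
import Cfsg.Prelude.Def_Characters
import Cfsg.Agent.Helper80.Jordan2
import Cfsg.Agent.Helper80.Jordan3
import Cfsg.Agent.Helper80.CharLevel

set_option autoImplicit false

/-!
# Unitarization and the Jordan-type theorem

Every representation of a finite group on `ℂⁿ` is unitary for the averaged inner product. Combined
with the operator lemmas this gives: a finite group with a faithful character of degree `n` has an
abelian normal subgroup `A` with `[H : H ∩ A] ≤ 12 ^ n` for every abelian subgroup `H`.
-/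

namespace Cfsg.Agent.Helper80.Jordan

open scoped ComplexConjugate

universe v

section unitarize

variable {G : Type v} [Group G] [Fintype G] {n : ℕ}

/-- The space `ℂⁿ`, to be equipped with the inner product averaged over the group. -/
def USpace (_ρ : Representation ℂ G (Fin n → ℂ)) : Type := Fin n → ℂ

variable (ρ : Representation ℂ G (Fin n → ℂ))

instance : AddCommGroup (USpace ρ) := inferInstanceAs (AddCommGroup (Fin n → ℂ))

instance : Module ℂ (USpace ρ) := inferInstanceAs (Module ℂ (Fin n → ℂ))

instance : FiniteDimensional ℂ (USpace ρ) := inferInstanceAs (FiniteDimensional ℂ (Fin n → ℂ))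

/-- The representation, acting on `USpace ρ`. -/
def uhom : G →* Module.End ℂ (USpace ρ) := ρ

/-- The coordinates of a vector of `USpace ρ`. -/
def toF : USpace ρ ≃ₗ[ℂ] (Fin n → ℂ) := LinearEquiv.refl ℂ (Fin n → ℂ)

/-- The averaged inner product. -/
noncomputable def uinner (v w : USpace ρ) : ℂ :=
  ∑ g : G, ∑ i : Fin n, conj (toF ρ (uhom ρ g v) i) * toF ρ (uhom ρ g w) i

theorem uinner_self_re (v : USpace ρ) :
    (uinner ρ v v).re = ∑ g : G, ∑ i : Fin n, Complex.normSq (toF ρ (uhom ρ g v) i) := by
  unfold uinner
  rw [Complex.re_sum]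
  refine Finset.sum_congr rfl fun g _ => ?_
  rw [Complex.re_sum]
  refine Finset.sum_congr rfl fun i _ => ?_
  rw [mul_comm, Complex.mul_conj]
  simp

/-- The averaged inner product, as a core. -/
noncomputable def ucore : InnerProductSpace.Core ℂ (USpace ρ) where
  inner := uinner ρ
  conj_inner_symm v w := by
    show conj (uinner ρ w v) = uinner ρ v w
    unfold uinner
    rw [map_sum]
    refine Finset.sum_congr rfl fun g _ => ?_
    rw [map_sum]
    refine Finset.sum_congr rfl fun i _ => ?_
    rw [map_mul, Complex.conj_conj, mul_comm]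
  re_inner_nonneg v := by
    show 0 ≤ (uinner ρ v v).re
    rw [uinner_self_re]
    exact Finset.sum_nonneg fun g _ => Finset.sum_nonneg fun i _ => Complex.normSq_nonneg _
  add_left u v w := by
    show uinner ρ (u + v) w = uinner ρ u w + uinner ρ v w
    unfold uinner
    rw [← Finset.sum_add_distrib]
    refine Finset.sum_congr rfl fun g _ => ?_
    rw [← Finset.sum_add_distrib]
    refine Finset.sum_congr rfl fun i _ => ?_
    rw [map_add, map_add, Pi.add_apply, map_add, add_mul]
  smul_left v w r := by
    show uinner ρ (r • v) w = conj r * uinner ρ v w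
    unfold uinner
    rw [Finset.mul_sum]
    refine Finset.sum_congr rfl fun g _ => ?_
    rw [Finset.mul_sum]
    refine Finset.sum_congr rfl fun i _ => ?_
    rw [map_smul, map_smul, Pi.smul_apply, smul_eq_mul, map_mul, mul_assoc]
  definite v h := by
    have h1 : (uinner ρ v v).re = 0 := by
      have : uinner ρ v v = 0 := h
      rw [this, Complex.zero_re]
    rw [uinner_self_re] at h1
    have h2 := (Finset.sum_eq_zero_iff_of_nonneg
      (fun g _ => Finset.sum_nonneg fun i _ => Complex.normSq_nonneg _)).mp h1 1 (Finset.mem_univ _)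
    have h3 := (Finset.sum_eq_zero_iff_of_nonneg (fun i _ => Complex.normSq_nonneg _)).mp h2
    have h5 : uhom ρ 1 v = v := by
      rw [map_one]
      rfl
    apply (toF ρ).injective
    rw [map_zero]
    funext i
    have h4 := h3 i (Finset.mem_univ _)
    rw [Complex.normSq_eq_zero, h5] at h4
    exact h4

noncomputable instance : NormedAddCommGroup (USpace ρ) :=
  @InnerProductSpace.Core.toNormedAddCommGroup ℂ (USpace ρ) _ _ _ (ucore ρ)

noncomputable instance : InnerProductSpace ℂ (USpace ρ) :=
  InnerProductSpace.ofCore (ucore ρ).toCore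

theorem inner_eq_uinner (v w : USpace ρ) : inner ℂ v w = uinner ρ v w := rfl

/-- The representation preserves the averaged inner product. -/
theorem uinner_map (h : G) (v w : USpace ρ) :
    uinner ρ (uhom ρ h v) (uhom ρ h w) = uinner ρ v w := by
  unfold uinner
  have e : ∀ (g : G) (u : USpace ρ), uhom ρ g (uhom ρ h u) = uhom ρ (g * h) u := by
    intro g u
    rw [map_mul]
    rfl
  simp only [e]
  exact Equiv.sum_comp (Equiv.mulRight h)
    (fun g => ∑ i : Fin n, conj (toF ρ (uhom ρ g v) i) * toF ρ (uhom ρ g w) i)

/-- The operator of `g`, as a linear equivalence. -/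
def uequiv (g : G) : USpace ρ ≃ₗ[ℂ] USpace ρ where
  toFun := uhom ρ g
  map_add' := map_add _
  map_smul' := map_smul _
  invFun := uhom ρ g⁻¹
  left_inv v := by
    show uhom ρ g⁻¹ (uhom ρ g v) = v
    rw [← Module.End.mul_apply, ← map_mul, inv_mul_cancel, map_one]
    rfl
  right_inv v := by
    show uhom ρ g (uhom ρ g⁻¹ v) = v
    rw [← Module.End.mul_apply, ← map_mul, mul_inv_cancel, map_one]
    rfl

/-- The operator of `g`, as a linear isometry equivalence. -/
noncomputable def uisom (g : G) : USpace ρ ≃ₗᵢ[ℂ] USpace ρ :=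
  (uequiv ρ g).isometryOfInner fun v w => by
    rw [inner_eq_uinner, inner_eq_uinner]
    exact uinner_map ρ g v w

/-- The representation, as a homomorphism to the linear isometry equivalences. -/
noncomputable def uisomHom : G →* (USpace ρ ≃ₗᵢ[ℂ] USpace ρ) where
  toFun := uisom ρ
  map_one' := by
    ext v
    show uhom ρ 1 v = v
    rw [map_one]
    rfl
  map_mul' a b := by
    ext v
    show uhom ρ (a * b) v = uhom ρ a (uhom ρ b v)
    rw [map_mul]
    rfl

/-- The representation, as a unitary representation. -/
noncomputable def utau : G →* unitary (USpace ρ →L[ℂ] USpace ρ) :=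
  (Unitary.linearIsometryEquiv.symm.toMonoidHom).comp (uisomHom ρ)

theorem op_utau (g : G) (v : USpace ρ) : op (utau ρ) g v = uhom ρ g v := rfl

theorem utau_injective (hfaith : ∀ g : G, ρ.character g = ρ.character 1 → g = 1) :
    Function.Injective (utau ρ) := by
  rw [injective_iff_map_eq_one]
  intro g hg
  apply hfaith
  have h1 : ρ g = 1 := by
    apply LinearMap.ext
    intro v
    have h2 : op (utau ρ) g v = v := by
      unfold op
      rw [hg]
      rfl
    exact h2
  show LinearMap.trace ℂ _ (ρ g) = LinearMap.trace ℂ _ (ρ 1)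
  rw [h1, ← map_one ρ]

end unitarize

/-- **Jordan-type theorem.** A finite group with a faithful representation on `ℂⁿ` has an abelian
normal subgroup `A` with `[H : H ∩ A] ≤ 12 ^ n` for every abelian subgroup `H`. -/
theorem exists_abelian_normal_index_le {G : Type v} [Group G] [Finite G] {n : ℕ}
    (ρ : Representation ℂ G (Fin n → ℂ))
    (hfaith : ∀ g : G, ρ.character g = ρ.character 1 → g = 1) :
    ∃ A : Subgroup G, A.Normal ∧ (∀ x ∈ A, ∀ y ∈ A, x * y = y * x) ∧
      ∀ H : Subgroup G, (∀ x ∈ H, ∀ y ∈ H, x * y = y * x) →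
        (A.subgroupOf H).index ≤ 12 ^ n := by
  classical
  have := Fintype.ofFinite G
  refine ⟨nearSubgroup (utau ρ), nearSubgroup_normal _,
    nearSubgroup_comm _ (utau_injective ρ hfaith), ?_⟩
  intro H hH
  have hcomm : ∀ a b : H, a * b = b * a := fun a b => Subtype.ext (hH a a.2 b b.2)
  have hrank : Module.finrank ℂ (USpace ρ) = n := by
    show Module.finrank ℂ (Fin n → ℂ) = n
    exact Module.finrank_fin_fun ℂ
  obtain ⟨C, hC, f, hcard, hf⟩ :=
    exists_box_map hcomm n (USpace ρ) hrank ((uhom ρ).comp H.subtype)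
  have hinj : Function.Injective
      (fun q : H ⧸ (nearSubgroup (utau ρ)).subgroupOf H => f q.out) := by
    intro q1 q2 h
    have h2 := hf _ _ h
    have h3 : (q1.out⁻¹ * q2.out : H) ∈ (nearSubgroup (utau ρ)).subgroupOf H := by
      rw [Subgroup.mem_subgroupOf]
      apply Subgroup.subset_closure
      intro μ v hv0 hv
      exact h2 μ v hv0 hv
    rw [← QuotientGroup.out_eq' q1, ← QuotientGroup.out_eq' q2]
    exact QuotientGroup.eq.mpr h3
  calc ((nearSubgroup (utau ρ)).subgroupOf H).index
      = Nat.card (H ⧸ (nearSubgroup (utau ρ)).subgroupOf H) := rfl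
    _ ≤ Nat.card C := Nat.card_le_card_of_injective _ hinj
    _ = Fintype.card C := Nat.card_eq_fintype_card
    _ ≤ 12 ^ n := hcard

/-- The statement for characters. -/
theorem exists_abelian_normal_index_le_of_character {G : Type v} [Group G] [Finite G] (χ : G → ℂ)
    (hχ : Cfsg.IsCharacter G χ) (hfaith : ∀ g : G, χ g = χ 1 → g = 1) (n : ℕ)
    (hn : Cfsg.charDegree χ = n) :
    ∃ A : Subgroup G, A.Normal ∧ (∀ x ∈ A, ∀ y ∈ A, x * y = y * x) ∧
      ∀ H : Subgroup G, (∀ x ∈ H, ∀ y ∈ H, x * y = y * x) →
        (A.subgroupOf H).index ≤ 12 ^ n := by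
  have hdeg := Cfsg.Agent.Helper80.IsCharacter.charDegree_cast hχ
  obtain ⟨m, ρ, rfl⟩ := hχ
  have hm : m = n := by
    have h1 : ρ.character 1 = (m : ℂ) := by
      rw [Representation.char_one]
      simp
    rw [h1, hn] at hdeg
    exact_mod_cast hdeg.symm
  subst hm
  exact exists_abelian_normal_index_le ρ hfaith

end Cfsg.Agent.Helper80.Jordan
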