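import Mathlib
import Cfsg.Prelude.Def_LocalStructure
import Cfsg.Agent.Helper71.FrobConstructCard

/-!
# Piece (EX-1) of helper25's WANTED #6129 (S3875)

For a prime `p` and a prime power `m ≡ 1 (mod p)` there is a group (in `Type`) of order `p * m`
which is not `p`-closed: the Frobenius group `F_m ⋊ C_p`.
-/

set_option autoImplicit false

namespace Cfsg.Agent.Helper80.NPCFrob

open Cfsg

theorem exists_frobenius (p : ℕ) [Fact p.Prime] (m : ℕ) (hm : IsPrimePow m) (hm1 : m % p = 1) :
    ∃ (H : Type) (_ : Group H) (_ : Finite H), Nat.card H = p * m ∧ ¬ Cfsg.IsPClosed p H := by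
  have hp : p.Prime := Fact.out
  obtain ⟨q, a, hq, ha, hqa⟩ := (isPrimePow_nat_iff m).1 hm
  have : Fact q.Prime := ⟨hq⟩
  let F := GaloisField q a
  have hcardF : Nat.card F = m := by
    rw [← hqa]; exact GaloisField.card q a ha.ne'
  have hmpos : 0 < m := by rw [← hqa]; exact pow_pos hq.pos a
  have hpm : ¬ p ∣ m := by
    intro hd
    have := Nat.mod_eq_zero_of_dvd hd
    omega
  -- an element of order `p` in the multiplicative group
  have hdvd : p ∣ Nat.card Fˣ := by
    rw [Nat.card_units, hcardF]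
    refine ⟨m / p, ?_⟩
    have := Nat.div_add_mod m p
    omega
  obtain ⟨u, hu⟩ := exists_prime_orderOf_dvd_card' p hdvd
  let U : Subgroup Fˣ := Subgroup.zpowers u
  have hcardU : Nat.card U = p := by
    show Nat.card (Subgroup.zpowers u) = p
    rw [Nat.card_zpowers, hu]
  have : Nontrivial U := by
    rw [← Finite.one_lt_card_iff_nontrivial, hcardU]; exact hp.one_lt
  have : Nontrivial F := inferInstance
  have hfpf : ∀ h : U, h ≠ 1 → ∀ v : F, h • v = v → v = 0 := by
    intro h hh v hv
    have h1 : ((h : Fˣ) : F) * v = v := hv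
    have h2 : (((h : Fˣ) : F) - 1) * v = 0 := by rw [sub_mul, one_mul, h1, sub_self]
    rcases mul_eq_zero.1 h2 with h3 | h3
    · exfalso
      apply hh
      have h4 : ((h : Fˣ) : F) = 1 := sub_eq_zero.1 h3
      have h5 : (h : Fˣ) = 1 := Units.ext h4
      exact Subtype.ext h5
    · exact h3
  obtain ⟨L, hLg, hLf, C, hC, ⟨e⟩, hker⟩ :=
    Cfsg.Agent.Helper71.exists_frobenius_of_fpf_add_card (V := F) (H := U) hfpf
  have hcardC : Nat.card C = p := by rw [← Nat.card_congr e.toEquiv, hcardU]
  have hidx : C.index = m := by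
    rw [← Cfsg.Agent.Helper63.frob_card_kernel hC, ← Nat.card_coe_set_eq, hker, hcardF]
  have hcardL : Nat.card L = p * m := by
    rw [← Subgroup.card_mul_index C, hcardC, hidx]
  refine ⟨L, hLg, hLf, hcardL, ?_⟩
  intro hcl
  have hfac : (Nat.card L).factorization p = 1 := by
    rw [hcardL, Nat.factorization_mul hp.ne_zero hmpos.ne', Finsupp.add_apply,
      hp.factorization_self, Nat.factorization_eq_zero_of_not_dvd hpm]
  have hSyl : Nat.card C = p ^ (Nat.card L).factorization p := by rw [hfac, pow_one, hcardC]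
  have hnorm : (C : Subgroup L).Normal := hcl (Sylow.ofCard C hSyl)
  obtain ⟨hCbot, hCtop, hCfrob⟩ := hC
  obtain ⟨g, -, hg⟩ := SetLike.exists_of_lt (lt_top_iff_ne_top.2 hCtop)
  have := hCfrob g hg
  rw [Subgroup.Normal.conj_smul_eq_self g C, inf_idem] at this
  exact hCbot this

end Cfsg.Agent.Helper80.NPCFrob
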