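-- helper80: piece (TOP3) of #4790 for helper82 (S4892): ascent through a p-group quotient.
import Mathlib
import Cfsg.Agent.Helper82.PRat.Defs
import Cfsg.Agent.Helper82.PRat.Rat
import Cfsg.Agent.Helper82.CanonicalGalois
import Cfsg.Agent.Helper48.PRatR0
import Cfsg.Agent.S0867
import Cfsg.Agent.S0966
import Cfsg.Agent.Helper79.Linear
import Cfsg.Agent.Helper79.CharBasic
import Cfsg.Agent.Helper78.BlockBasic

set_option autoImplicit false

namespace Cfsg.Agent.Helper80.PRatTOP3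

open Cfsg Cfsg.Agent.Helper82.PRat

variable {G : Type*} [Group G] [Finite G] (p : ℕ) [Fact p.Prime] (M : Ideal AlgInt)

/-- (TOP-3) ascent through a `p`-group quotient: the canonical extension is `p`-rational and lies in the principal
block. -/
theorem exists_prat_ext_of_p_quotient (hM : IsPModular p M) (hp : p ≠ 2) (H : Subgroup G)
    [H.Normal] (hidx : ∃ a : ℕ, H.index = p ^ a) (χ₂ : IrrCharacter ↥H)
    (hB : χ₂ ∈ principalBlock M ↥H) (hrat : IsPRat p (χ₂ : ↥H → ℂ))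
    (hdeg : ¬ p ∣ charDegree (χ₂ : ↥H → ℂ))
    (hinv : ∀ (g : G) (h h' : ↥H), (h' : G) = g * (h : G) * g⁻¹ →
        (χ₂ : ↥H → ℂ) h' = (χ₂ : ↥H → ℂ) h) :
    ∃ χ : IrrCharacter G, χ ∈ principalBlock M G ∧ IsPRat p (χ : G → ℂ) ∧
      ∀ h : ↥H, (χ : G → ℂ) h = (χ₂ : ↥H → ℂ) h := by
  classical
  have hpp : p.Prime := Fact.out
  have hMp : M.IsPrime := hM.2.1.isPrime
  obtain ⟨a, ha⟩ := hidx
  have hχ₂c : IsCharacter ↥H (χ₂ : ↥H → ℂ) := Helper74.isCharacter_of_isIrr χ₂.2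
  -- the canonical extension
  have hdet₂ : ¬ p ∣ detOrder (χ₂ : ↥H → ℂ) := not_dvd_detOrder_of_isPRat p hp hχ₂c hrat
  have hinv' : ∀ (g : G) (n : ↥H),
      (χ₂ : ↥H → ℂ) ⟨g * n * g⁻¹, (inferInstance : H.Normal).conj_mem (n : G) n.2 g⟩ = (χ₂ : ↥H → ℂ) n :=
    fun g n => hinv g n _ rfl
  have hd : (χ₂ : ↥H → ℂ) 1 = (charDegree (χ₂ : ↥H → ℂ) : ℂ) :=
    (Helper80.IsCharacter.charDegree_cast hχ₂c).symm
  have hcop : Nat.Coprime H.index (detOrder (χ₂ : ↥H → ℂ) * charDegree (χ₂ : ↥H → ℂ)) := by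
    rw [ha]
    apply Nat.Coprime.pow_left
    rw [Nat.Prime.coprime_iff_not_dvd hpp]
    intro h
    rcases (Nat.Prime.dvd_mul hpp).mp h with h | h
    · exact hdet₂ h
    · exact hdeg h
  obtain ⟨χ, ⟨hχirr, hχH, hχdet⟩, hχuniq⟩ :=
    Cfsg.Agent.S0867.result H (χ₂ : ↥H → ℂ) χ₂.2 hinv' (charDegree (χ₂ : ↥H → ℂ)) hd hcop
  have hχc : IsCharacter G χ := Helper74.isCharacter_of_isIrr hχirr
  have hcopdet : Nat.Coprime H.index (detOrder χ) := by
    rw [hχdet, ha]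
    apply Nat.Coprime.pow_left
    rw [Nat.Prime.coprime_iff_not_dvd hpp]
    exact hdet₂
  -- p-rationality
  have hn0 : 0 < Nat.card G := Nat.card_pos
  obtain ⟨k, hk⟩ := Cfsg.Agent.Helper48.PRatR0.exists_isPGen p hp (Nat.card G) hn0
  have hkG : k.Coprime (Nat.card G) := hk.2.1
  have hpowG : ∀ x : G, x ^ Nat.card G = 1 := fun x => pow_card_eq_one'
  have hpowH : ∀ x : ↥H, x ^ Nat.card G = 1 := by
    intro x
    apply Subtype.ext
    simp
  have hχ₂fix : ∀ x : ↥H, (χ₂ : ↥H → ℂ) (x ^ k) = (χ₂ : ↥H → ℂ) x := fun x =>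
    powFix_of_isPRat p (Nat.card G) k hn0 hpowH hk.2.1 hk.2.2.1 hχ₂c hrat x
  obtain ⟨τ, hτ⟩ := Helper82.exists_ringAut_complex_pow (Nat.card G) hn0 k hkG
  have heq : (fun y => τ (χ y)) = fun y => χ (y ^ k) := by
    funext y
    exact Helper82.ringAut_char_eq_pow τ (Nat.card G) k hτ hχc y pow_card_eq_one'
  have hirrk : IsIrrCharacter G (fun y => χ (y ^ k)) := Helper82.galoisConj_isIrrCharacter hχirr k hkG
  have hextk : ∀ h : ↥H, (fun y => χ (y ^ k)) h = (χ₂ : ↥H → ℂ) h := by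
    intro h
    show χ ((h : G) ^ k) = (χ₂ : ↥H → ℂ) h
    have e : ((h : G)) ^ k = ((h ^ k : ↥H) : G) := by simp
    rw [e, hχH, hχ₂fix]
  have hdetk : Nat.Coprime H.index (detOrder (fun y => χ (y ^ k))) := by
    rw [← heq, Helper82.detOrder_ringAut τ hχc]
    exact hcopdet
  have hχk : (fun y => χ (y ^ k)) = χ := hχuniq _ hirrk hextk hdetk
  have hχfix : ∀ x : G, χ (x ^ k) = χ x := fun x => congrFun hχk x
  have hχrat : IsPRat p χ := isPRat_of_powFix p (Nat.card G) k hn0 hpowG hk hχc hχfix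
  -- the block
  have : Fintype G := Fintype.ofFinite G
  have : Fintype ↥H := Fintype.ofFinite ↥H
  have hb : IsPBlock M (principalBlock M ↥H) := ⟨Helper79.principalIrr ↥H, rfl⟩
  obtain ⟨B₀, -, hB₀⟩ := Cfsg.Agent.S0966.result p M hM H ⟨a, ha⟩ (principalBlock M ↥H) hb
  have h1 : principalBlock M G = B₀ := by
    apply hB₀
    refine ⟨⟨Helper79.principalIrr G, rfl⟩, Helper79.principalIrr G, Helper78.sameBlock_refl hMp _,
      Helper79.principalIrr ↥H, Helper78.sameBlock_refl hMp _, ?_⟩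
    have := Helper79.classInner_irr_self (Helper79.principalIrr ↥H)
    show classInner (fun n : ↥H => (1 : ℂ)) (fun _ : ↥H => (1 : ℂ)) ≠ 0
    have e : classInner (fun n : ↥H => (1 : ℂ)) (fun _ : ↥H => (1 : ℂ)) = 1 := this
    rw [e]
    exact one_ne_zero
  have h2 : blockOf M χ = B₀ := by
    apply hB₀
    refine ⟨⟨⟨χ, hχirr⟩, rfl⟩, ⟨χ, hχirr⟩, Helper78.sameBlock_refl hMp _, χ₂, hB, ?_⟩
    have e : (fun n : ↥H => ((⟨χ, hχirr⟩ : IrrCharacter G) : G → ℂ) n) = (χ₂ : ↥H → ℂ) := by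
      funext n
      exact hχH n
    rw [e, Helper79.classInner_irr_self]
    exact one_ne_zero
  refine ⟨⟨χ, hχirr⟩, ?_, hχrat, hχH⟩
  rw [h1, ← h2]
  exact Helper78.sameBlock_refl hMp _

end Cfsg.Agent.Helper80.PRatTOP3
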