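import Mathlib
import Cfsg.Agent.S0799
import Cfsg.Agent.S0807
import Cfsg.Agent.S0809
import Cfsg.Agent.S0265
import Cfsg.Agent.Helper41.PSL2Klein
import Cfsg.Agent.Helper46.MxTorus
import Cfsg.Agent.Helper5.ProjLine
import Cfsg.Agent.Helper80.DihSylow

/-!
# Sylow 2-subgroups of `PSL₂(q)`, `q ≡ ±1 (mod 8)`, are dihedral of order at least 8
(from Dickson's list), and all involutions are conjugate.
-/

set_option autoImplicit false

namespace Cfsg.Agent.Helper80.PSL2Fusion

open Matrix

variable {F : Type*} [Field F] [Fintype F]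

local notation "SL2F" => Matrix.SpecialLinearGroup (Fin 2) F
local notation "PSL2F" => Matrix.ProjectiveSpecialLinearGroup (Fin 2) F

/-- A power of two divisible by three does not exist. -/
theorem not_three_dvd_two_pow (n : ℕ) : ¬ 3 ∣ 2 ^ n := by
  intro h
  have := Nat.Prime.dvd_of_dvd_pow Nat.prime_three h
  omega

/-- An odd number dividing a power of two is one. -/
theorem eq_one_of_odd_of_dvd_two_pow {r n : ℕ} (hr : Odd r) (h : r ∣ 2 ^ n) : r = 1 := by
  have hc : Nat.Coprime r (2 ^ n) := Nat.Coprime.pow_right n hr.coprime_two_right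
  exact Nat.Coprime.eq_one_of_dvd hc h

theorem card_ne_zero : Nat.card PSL2F ≠ 0 := Nat.card_pos.ne'

/-- `8 ∣ |PSL₂(q)|` when `16 ∣ q² - 1`. -/
theorem eight_dvd_card (hodd : Odd (Fintype.card F)) (h16 : 16 ∣ Fintype.card F ^ 2 - 1) :
    8 ∣ Nat.card PSL2F := by
  have h := Cfsg.Agent.Helper41.two_mul_card_PSL2 (F := F) hodd
  obtain ⟨c, hc⟩ := h16
  rw [hc] at h
  have : 2 * Nat.card PSL2F = 2 * (8 * (Fintype.card F * c)) := by rw [h]; ring
  have h2 : Nat.card PSL2F = 8 * (Fintype.card F * c) := by omega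
  exact ⟨_, h2⟩

/-- There is a Klein four-subgroup in `PSL₂(q)`, `q` odd. -/
theorem exists_kleinFour (hodd : Odd (Fintype.card F)) :
    ∃ V : Subgroup PSL2F, IsKleinFour V := by
  have h := Cfsg.Agent.S0807.result (F := F) rfl hodd
  have hne : Nat.card {V : Subgroup PSL2F // IsKleinFour V} ≠ 0 := by
    intro h0
    rw [h0, mul_zero] at h
    exact card_ne_zero h.symm
  have : Nonempty {V : Subgroup PSL2F // IsKleinFour V} := by
    by_contra hcon
    rw [not_nonempty_iff] at hcon
    exact hne Nat.card_of_isEmpty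
  obtain ⟨V, hV⟩ := this
  exact ⟨V, hV⟩

/-- A Sylow `2`-subgroup of `PSL₂(q)`, `q` odd, is not cyclic. -/
theorem sylow_not_isCyclic (hodd : Odd (Fintype.card F)) (S : Sylow 2 PSL2F) :
    ¬ IsCyclic (S : Subgroup PSL2F) := by
  intro hc
  obtain ⟨V, hV⟩ := exists_kleinFour (F := F) hodd
  have hVp : IsPGroup 2 V := by
    apply IsPGroup.of_card (n := 2)
    rw [hV.card_four]
    norm_num
  obtain ⟨Q, hQ⟩ := hVp.exists_le_sylow
  obtain ⟨g, hg⟩ := MulAction.exists_smul_eq PSL2F S Q
  have hQc : IsCyclic (Q : Subgroup PSL2F) := by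
    have e : (S : Subgroup PSL2F) ≃* (Q : Subgroup PSL2F) := by
      rw [← hg]
      exact Sylow.equivSMul S g
    exact isCyclic_of_surjective e e.surjective
  have hVc : IsCyclic (V.subgroupOf (Q : Subgroup PSL2F)) := Subgroup.isCyclic _
  have hVc' : IsCyclic V :=
    isCyclic_of_surjective (Subgroup.subgroupOfEquivOfLe hQ) (Subgroup.subgroupOfEquivOfLe hQ).surjective
  exact IsKleinFour.not_isCyclic hVc'

/-- A Sylow `2`-subgroup of `PSL₂(q)`, `16 ∣ q² - 1`, is dihedral of order at least `8`. -/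
theorem sylow_dihedral (hodd : Odd (Fintype.card F)) (h16 : 16 ∣ Fintype.card F ^ 2 - 1)
    (S : Sylow 2 PSL2F) :
    ∃ j : ℕ, 2 ≤ j ∧ Nonempty ((S : Subgroup PSL2F) ≃* DihedralGroup (2 ^ j)) := by
  obtain ⟨p, hp⟩ := CharP.exists F
  have : Fact p.Prime := ⟨CharP.char_is_prime F p⟩
  set q := Fintype.card F with hq
  have hq2 : 2 ≤ q := Fintype.one_lt_card
  set n := (Nat.card PSL2F).factorization 2 with hn
  have hcardS : Nat.card (S : Subgroup PSL2F) = 2 ^ n := S.card_eq_multiplicity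
  have hn3 : 3 ≤ n := by
    have h8 := eight_dvd_card (F := F) hodd h16
    have : 2 ^ 3 ∣ Nat.card PSL2F := by simpa using h8
    exact (Nat.prime_two.pow_dvd_iff_le_factorization card_ne_zero).1 this
  have hnodvd : ¬ 2 ^ (n + 1) ∣ Nat.card PSL2F := by
    intro h
    have := (Nat.prime_two.pow_dvd_iff_le_factorization card_ne_zero).1 h
    omega
  have hG := Cfsg.Agent.Helper41.two_mul_card_PSL2 (F := F) hodd
  rcases Cfsg.Agent.S0799.result (F := F) (q := q) rfl p (S : Subgroup PSL2F) with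
    ⟨k, -, hk⟩ | ⟨P, K, hKP, ⟨e⟩⟩ | ⟨⟨e⟩⟩ | ⟨⟨e⟩⟩ | ⟨⟨e⟩⟩ | ⟨K, _, _, m, hKm, hK⟩
  · rcases hk with ⟨hc, -⟩ | ⟨⟨e⟩⟩
    · exact absurd hc (sylow_not_isCyclic hodd S)
    · have h1 : Nat.card (S : Subgroup PSL2F) = 2 * k := by
        rw [Nat.card_congr e.toEquiv, DihedralGroup.nat_card]
      rw [hcardS] at h1
      have hk' : k = 2 ^ (n - 1) := by
        have : 2 ^ n = 2 * 2 ^ (n - 1) := by
          rw [← pow_succ']; congr 1; omega
        omega
      subst hk'
      exact ⟨n - 1, by omega, ⟨e⟩⟩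
  · exfalso
    have h1 : Nat.card K = 2 ^ n := by rw [← Nat.card_congr e.toEquiv, hcardS]
    have h2 : Nat.card K ∣ Nat.card (Subgroup.normalizer ((P : Subgroup PSL2F) : Set PSL2F)) :=
      Subgroup.card_dvd_of_le hKP
    have h3 := Cfsg.Agent.Helper46.Mx.two_mul_card_normalizer_sylow (F := F) p hodd P
    rw [h1] at h2
    obtain ⟨c, hc⟩ := h2
    apply hnodvd
    -- |G| = |N| (q + 1)
    have hq1 : q ^ 2 - 1 = (q - 1) * (q + 1) := by
      have : 1 ≤ q := by omega
      zify [this, Nat.one_le_pow 2 q (by omega)]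
      ring
    have h4 : 2 * Nat.card PSL2F =
        2 * (Nat.card (Subgroup.normalizer ((P : Subgroup PSL2F) : Set PSL2F)) * (q + 1)) := by
      rw [hG, hq1, ← mul_assoc, ← h3]; ring
    have h5 : Nat.card PSL2F =
        Nat.card (Subgroup.normalizer ((P : Subgroup PSL2F) : Set PSL2F)) * (q + 1) := by omega
    obtain ⟨t, ht⟩ := hodd
    have h6 : q + 1 = 2 * (t + 1) := by omega
    rw [h5, hc, h6]
    exact ⟨c * (t + 1), by rw [pow_succ]; ring⟩
  · exfalso
    have h1 : Nat.card (S : Subgroup PSL2F) = 12 := by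
      rw [Nat.card_congr e.toEquiv, Nat.card_eq_fintype_card]
      have := two_mul_card_alternatingGroup (α := Fin 4)
      rw [Fintype.card_perm, Fintype.card_fin] at this
      have h24 : Nat.factorial 4 = 24 := rfl
      rw [h24] at this
      convert (show Fintype.card (alternatingGroup (Fin 4)) = 12 by omega) using 2
    rw [hcardS] at h1
    exact not_three_dvd_two_pow n ⟨4, by omega⟩
  · exfalso
    have h1 : Nat.card (S : Subgroup PSL2F) = 24 := by
      rw [Nat.card_congr e.toEquiv, Nat.card_eq_fintype_card, Fintype.card_perm]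
      rfl
    rw [hcardS] at h1
    exact not_three_dvd_two_pow n ⟨8, by omega⟩
  · exfalso
    have h1 : Nat.card (S : Subgroup PSL2F) = 60 := by
      rw [Nat.card_congr e.toEquiv, Nat.card_eq_fintype_card]
      have := two_mul_card_alternatingGroup (α := Fin 5)
      rw [Fintype.card_perm, Fintype.card_fin] at this
      have h120 : Nat.factorial 5 = 120 := rfl
      rw [h120] at this
      convert (show Fintype.card (alternatingGroup (Fin 5)) = 60 by omega) using 2
    rw [hcardS] at h1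
    exact not_three_dvd_two_pow n ⟨20, by omega⟩
  · exfalso
    set r := Fintype.card K with hr
    have hm0 : m ≠ 0 := by
      rintro rfl
      rw [pow_zero] at hKm
      omega
    have hrodd : Odd r := by
      by_contra hne
      rw [Nat.not_odd_iff_even] at hne
      have : Even (r ^ m) := hne.pow_of_ne_zero hm0
      rw [hKm] at this
      exact (Nat.not_even_iff_odd.2 hodd) this
    have hr2 : 2 ≤ r := Fintype.one_lt_card
    have hr1 : r ≠ 1 := by omega
    rcases hK with ⟨⟨e⟩⟩ | ⟨⟨e⟩⟩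
    · have h1 := Cfsg.Agent.Helper41.two_mul_card_PSL2 (F := K) hrodd
      rw [← Nat.card_congr e.toEquiv, hcardS] at h1
      apply hr1
      apply eq_one_of_odd_of_dvd_two_pow hrodd (n := n + 1)
      exact ⟨r ^ 2 - 1, by rw [← hr] at h1; rw [pow_succ']; exact h1⟩
    · have h1 := Cfsg.Agent.S0265.result (F := K) 2
      rw [Cfsg.Agent.Helper5.card_SL2, ← Nat.card_congr e.toEquiv, hcardS] at h1
      apply hr1
      apply eq_one_of_odd_of_dvd_two_pow hrodd (n := n)
      exact ⟨r ^ 2 - 1, by rw [← hr] at h1; exact h1⟩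

/-- All involutions of `PSL₂(q)`, `q` odd with `16 ∣ q² - 1`, are conjugate. -/
theorem involutions_conj (hodd : Odd (Fintype.card F)) (h16 : 16 ∣ Fintype.card F ^ 2 - 1)
    (x y : PSL2F) (hx : orderOf x = 2) (hy : orderOf y = 2) : IsConj x y := by
  have hcard := Cfsg.Agent.Helper5.card_SL2 (F := F)
  have h4 : 2 ^ 2 ∣ Nat.card SL2F := by
    rw [hcard]
    obtain ⟨c, hc⟩ := h16
    rw [hc]
    exact ⟨Fintype.card F * (4 * c), by ring⟩
  obtain ⟨A, hA⟩ := Sylow.exists_subgroup_card_pow_prime 2 h4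
  exact (Cfsg.Agent.S0809.result (F := F) rfl hodd A (by simpa using hA)).2.2.2 x y hx hy

end Cfsg.Agent.Helper80.PSL2Fusion
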