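import Cfsg.Agent.Helper58.PsuIo.OdDefs
import Cfsg.Agent.Helper58.PsuIo.AbsDefs
import Cfsg.Agent.Helper5.SuBN.Defs
import Cfsg.Agent.Helper61.PsuM_AQ
import Cfsg.Agent.Helper55.PsuM_AROOTa
import Cfsg.Agent.Helper80.PsuIo_OZ

/-!
helper80, piece (OGEN) of helper58's farm #15378 (S2089 block I-odd, model part): generation of `Qsub`, `Zsub`.
-/

set_option autoImplicit false
set_option linter.unusedVariables false

namespace Cfsg.Agent.Helper80.PsuIo

open Matrix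
open scoped commutatorElement
open Cfsg.Agent.Helper43.PsuM
open Cfsg.Agent.Helper58.PsuIo.Od
open Cfsg.Agent.Helper55.PsuIo

universe u

variable {F : Type*} [Field F] {m : ℕ} {σ : F →+* F}

/-- (OGEN1) `qO σ y B = (∏ i, qO σ (Pi.single i (y i)) (B_i)) * z` with `z ∈ Zsub` -/
theorem Qsub_le_sup (hσ : ∀ x, σ (σ x) = x) {θ : F} (hθ : θ + σ θ = 1) :
    Qsub m σ ≤ Zsub m σ ⊔ Subgroup.closure (⋃ i, Yset σ i) := by
  classical
  set R := Zsub m σ ⊔ Subgroup.closure (⋃ i, Yset σ i) with hR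
  have hZ : Zsub m σ ≤ R := le_sup_left
  have hY : ∀ i, ∀ g ∈ Yset σ i, g ∈ R := fun i g hg =>
    (le_sup_right : Subgroup.closure (⋃ i, Yset σ i) ≤ R)
      (Subgroup.subset_closure (Set.mem_iUnion.mpr ⟨i, hg⟩))
  have key : ∀ s : Finset (Fin m), ∀ y : Fin m → F, (∀ l, l ∉ s → y l = 0) →
      ∀ B, QP σ y B → qO σ y B ∈ R := by
    intro s
    induction s using Finset.induction_on with
    | empty =>
      intro y hy B hQ
      have h0 : y = 0 := funext fun l => hy l (Finset.notMem_empty l)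
      subst h0
      exact hZ ((mem_Zsub_iff hσ _).mpr ⟨B, (QP_zero_left B).mp hQ, rfl⟩)
    | insert i s hi ih =>
      intro y hy B hQ
      have hsum : y = Function.update y i 0 + Pi.single i (y i) := by
        funext l
        by_cases h : l = i
        · subst h; simp
        · simp [h]
      have hQ1 := OZ_exists_QP hσ hθ (Function.update y i 0)
      have hQ2 := OZ_exists_QP hσ hθ (Pi.single i (y i) : Fin m → F)
      have h1 : qO σ (Function.update y i 0) _ ∈ R := ih (Function.update y i 0) (fun l hl => by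
        by_cases h : l = i
        · subst h; simp
        · rw [Function.update_of_ne h]
          exact hy l (by simp [h, hl])) _ hQ1
      have h2 : qO σ (Pi.single i (y i) : Fin m → F) _ ∈ R :=
        hY i _ ⟨Pi.single i (y i), _, hQ2, fun l hl => by simp [hl], rfl⟩
      have h12 := qO_mul hσ hQ1 hQ2
      have hQ12 := QP_mul hσ hQ1 hQ2
      rw [← hsum] at h12 hQ12
      obtain ⟨hS, hE⟩ := OZ_qO_eq_mul_Z hσ hQ hQ12
      rw [hE, ← h12]
      exact R.mul_mem (R.mul_mem h1 h2) (hZ ((mem_Zsub_iff hσ _).mpr ⟨_, hS, rfl⟩))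
  intro g hg
  obtain ⟨y, B, hQ, rfl⟩ := (OZ_mem_Qsub_iff hσ g).mp hg
  exact key Finset.univ y (fun l hl => absurd (Finset.mem_univ l) hl) B hQ

/-- every `qE σ B` lies in `Ev.Qsub` (it is `1` if `B` is not skew-hermitian) -/
theorem OGEN_qE_mem (B : Matrix (Fin m) (Fin m) F) : Ev.qE σ B ∈ Ev.Qsub m σ := by
  by_cases h : (Ev.qM B).det = 1 ∧ Ev.IsU σ (Ev.qM B)
  · have h1 : Ev.mat (Ev.qE σ B) = Ev.qM B := Ev.mat_ofMat σ h.1 h.2
    change (Ev.mat (Ev.qE σ B)).toBlocks₁₁ = 1 ∧ (Ev.mat (Ev.qE σ B)).toBlocks₂₁ = 0 ∧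
      (Ev.mat (Ev.qE σ B)).toBlocks₂₂ = 1
    rw [h1]
    unfold Ev.qM
    rw [Matrix.toBlocks_fromBlocks₁₁, Matrix.toBlocks_fromBlocks₂₁, Matrix.toBlocks_fromBlocks₂₂]
    exact ⟨rfl, rfl, rfl⟩
  · have h1 : Ev.qE σ B = 1 := by
      unfold Ev.qE Ev.ofMat
      rw [dif_neg h]
    rw [h1]
    exact one_mem _

/-- (OGEN2) -/
theorem Xr_le_Zsub (r : Fin m × Fin m) : Xr σ r ≤ Zsub m σ := by
  unfold Xr Zsub
  split_ifs with h
  · apply Subgroup.map_mono
    unfold Ev.Xl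
    rw [Subgroup.closure_le]
    rintro g ⟨c, hc, rfl⟩
    exact OGEN_qE_mem _
  · rw [Subgroup.closure_le]
    rintro g ⟨t, rfl⟩
    exact Subgroup.mem_map_of_mem _ (OGEN_qE_mem _)

/-- (OGEN3) image under `emb σ` of `Ev.Qsub_le_closure` -/
theorem Zsub_le_iSup (hσ : ∀ x, σ (σ x) = x) : Zsub m σ ≤ ⨆ r, Xr σ r := by
  unfold Zsub
  refine le_trans (Subgroup.map_mono (Cfsg.Agent.Helper55.PsuM.Qsub_le_closure hσ)) ?_
  rw [MonoidHom.map_closure, Subgroup.closure_le]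
  rintro g ⟨x, hx, rfl⟩
  rcases hx with ⟨i, c, hc, rfl⟩ | ⟨i, j, hij, t, rfl⟩
  · have h1 : Xr σ (i, i) ≤ ⨆ r, Xr σ r := le_iSup (fun r => Xr σ r) (i, i)
    apply h1
    unfold Xr
    rw [if_pos rfl]
    exact Subgroup.mem_map_of_mem _ (Subgroup.subset_closure ⟨c, hc, rfl⟩)
  · have h1 : Xr σ (i, j) ≤ ⨆ r, Xr σ r := le_iSup (fun r => Xr σ r) (i, j)
    apply h1
    unfold Xr
    rw [if_neg hij]
    exact Subgroup.subset_closure ⟨t, rfl⟩

end Cfsg.Agent.Helper80.PsuIo
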