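import Mathlib
import Cfsg.Agent.Helper81.RO0
import Cfsg.Agent.Helper81.ConjIrr
import Cfsg.Agent.Helper74.DegP
import Cfsg.Agent.Helper80.Linear

/-!
# (E1) of the real/odd-degree correspondence: a real character of odd degree of `G` has a sign
character of odd multiplicity on (the source of) a Sylow `2`-subgroup

The parity argument is isolated in `exists_real_irr_odd`: a real-valued character of odd degree
has a real-valued irreducible constituent of odd degree and odd multiplicity.
-/

set_option autoImplicit false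

namespace Cfsg.Agent.Helper80.ROE

open Cfsg Cfsg.Agent.Helper81.RO
open scoped ComplexConjugate

universe u

section general
variable {S : Type u} [Group S] [Fintype S]

/-- For a real-valued `θ`, the multiplicity of `conj ψ` in `θ` is the conjugate of that of `ψ`. -/
theorem classInner_conj_right_of_real {θ : S → ℂ} (hθ : ∀ s, conj (θ s) = θ s) (ψ : S → ℂ) :
    classInner θ (fun s => conj (ψ s)) = conj (classInner θ ψ) := by
  unfold classInner
  rw [map_mul, map_inv₀, Complex.conj_natCast, map_sum]
  congr 1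
  refine Finset.sum_congr rfl fun s _ => ?_
  rw [map_mul, hθ s]

/-- The degree of the conjugate of an irreducible character. -/
theorem charDegree_irrConj (ψ : IrrCharacter S) :
    charDegree ((Helper81.irrConj S ψ : IrrCharacter S) : S → ℂ) = charDegree (ψ : S → ℂ) := by
  have h := Helper74.charDegree_cast (Helper74.irr_isCharacter ψ)
  unfold charDegree
  rw [Helper81.irrConj_apply, ← h, Complex.conj_natCast]

/-- **Parity argument.** A real-valued character of odd degree has a real-valued irreducible
constituent of odd degree and odd multiplicity. -/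
theorem exists_real_irr_odd {θ : S → ℂ} (hθc : IsCharacter S θ)
    (hθr : ∀ s, conj (θ s) = θ s) (hodd : Odd (charDegree θ)) :
    ∃ (ψ : IrrCharacter S) (m : ℕ), (∀ s, conj ((ψ : S → ℂ) s) = (ψ : S → ℂ) s) ∧
      Odd (charDegree (ψ : S → ℂ)) ∧ Odd m ∧ classInner θ (ψ : S → ℂ) = m := by
  classical
  have := Helper74.irrFintype S
  -- multiplicities
  have hm : ∀ ψ : IrrCharacter S, ∃ m : ℕ, classInner θ (ψ : S → ℂ) = m :=
    fun ψ => Helper74.isCharacter_inner_irr_nat hθc ψ
  choose m hm using hm
  -- invariance of the multiplicities under conjugation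
  have hmσ : ∀ ψ : IrrCharacter S, m (Helper81.irrConj S ψ) = m ψ := by
    intro ψ
    have h1 : classInner θ ((Helper81.irrConj S ψ : IrrCharacter S) : S → ℂ)
        = conj (classInner θ (ψ : S → ℂ)) :=
      classInner_conj_right_of_real hθr _
    rw [hm, hm, Complex.conj_natCast] at h1
    exact_mod_cast h1
  -- the degree equation
  have hdeg : charDegree θ = ∑ ψ : IrrCharacter S, m ψ * charDegree (ψ : S → ℂ) := by
    have h1 := congrFun (Helper74.isCharacter_eq_sum_irr hθc) 1
    rw [Finset.sum_apply] at h1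
    have h2 : θ 1 = (charDegree θ : ℂ) := (Helper74.charDegree_cast hθc).symm
    rw [h2] at h1
    have h3 : ∀ ψ : IrrCharacter S, (classInner θ (ψ : S → ℂ) • (ψ : S → ℂ)) 1
        = ((m ψ * charDegree (ψ : S → ℂ) : ℕ) : ℂ) := by
      intro ψ
      rw [Pi.smul_apply, smul_eq_mul, hm, Nat.cast_mul,
        Helper74.charDegree_cast (Helper74.irr_isCharacter ψ)]
    rw [Finset.sum_congr rfl (fun ψ _ => h3 ψ), ← Nat.cast_sum] at h1
    exact_mod_cast h1
  by_contra hcon
  -- the sum vanishes mod 2 by the involution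
  have hzero : ∑ ψ : IrrCharacter S, ((m ψ * charDegree (ψ : S → ℂ) : ℕ) : ZMod 2) = 0 := by
    refine Finset.sum_involution (fun ψ _ => Helper81.irrConj S ψ) ?_ ?_ ?_ ?_
    · intro ψ _
      rw [hmσ, charDegree_irrConj]
      have : (2 : ZMod 2) = 0 := by decide
      linear_combination ((m ψ * charDegree (ψ : S → ℂ) : ℕ) : ZMod 2) * this
    · intro ψ _ hne hfix
      apply hcon
      have hoddprod : Odd (m ψ * charDegree (ψ : S → ℂ)) := by
        rw [← Nat.not_even_iff_odd]
        intro hev
        apply hne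
        exact (ZMod.natCast_eq_zero_iff_even).mpr hev
      have hmodd : Odd (m ψ) := (Nat.odd_mul.mp hoddprod).1
      have hdodd : Odd (charDegree (ψ : S → ℂ)) := (Nat.odd_mul.mp hoddprod).2
      have hreal : ∀ s, conj ((ψ : S → ℂ) s) = (ψ : S → ℂ) s := by
        intro s
        have := congrArg (fun φ : IrrCharacter S => (φ : S → ℂ) s) hfix
        simpa using this
      exact ⟨ψ, m ψ, hreal, hdodd, hmodd, hm ψ⟩
    · intro ψ _
      exact Finset.mem_univ _
    · intro ψ _
      apply Subtype.ext
      funext s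
      simp
  rw [← Nat.cast_sum, ← hdeg] at hzero
  have hev : Even (charDegree θ) := (ZMod.natCast_eq_zero_iff_even).mp hzero
  exact (Nat.not_odd_iff_even.mpr hev) hodd

/-- An irreducible character of a `2`-group of odd degree is linear. -/
theorem charDegree_eq_one_of_odd (hS : IsPGroup 2 S) (ψ : IrrCharacter S)
    (hodd : Odd (charDegree (ψ : S → ℂ))) : charDegree (ψ : S → ℂ) = 1 := by
  obtain ⟨k, hk⟩ := IsPGroup.iff_card.mp hS
  have hdvd := Helper74.charDegree_dvd_card ψ
  rw [hk] at hdvd
  obtain ⟨j, -, hj⟩ := (Nat.dvd_prime_pow Nat.prime_two).mp hdvd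
  rw [hj] at hodd ⊢
  rcases Nat.eq_zero_or_pos j with h0 | h0
  · rw [h0, pow_zero]
  · exfalso
    have : Even (2 ^ j) := (Nat.even_pow' (Nat.pos_iff_ne_zero.mp h0)).mpr even_two
    exact (Nat.not_odd_iff_even.mpr this) hodd

/-- A real-valued linear character is (the function of) a sign character. -/
theorem exists_sign_of_real_linear (ψ : IrrCharacter S)
    (hdeg : charDegree (ψ : S → ℂ) = 1) (hreal : ∀ s, conj ((ψ : S → ℂ) s) = (ψ : S → ℂ) s) :
    ∃ ν : S →* ℂˣ, IsSign ν ∧ (ψ : S → ℂ) = Helper74.linFun ν := by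
  have hc := Helper74.irr_isCharacter ψ
  have h1 : (ψ : S → ℂ) 1 = 1 := by
    rw [← Helper74.charDegree_cast hc, hdeg, Nat.cast_one]
  obtain ⟨ν, hν⟩ := Cfsg.Agent.Helper80.IsCharacter.exists_monoidHom hc h1
  refine ⟨ν, fun s => ?_, funext fun s => hν s⟩
  apply Units.ext
  rw [Units.val_mul, Units.val_one]
  have h2 := Helper74.monoidHom_mul_conj ν s
  rw [← hν s, hreal s] at h2
  rw [← hν s]
  exact h2

end general

variable {S G : Type u}

/-- **(E1)** A real irreducible character of odd degree of `G` has a sign character of odd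
multiplicity on the `2`-group `S`. -/
theorem exists_sign_oddMult [Group S] [Fintype S] [Group G] [Fintype G] (hS : IsPGroup 2 S)
    (ι : S →* G) (χ : IrrCharacter G) (hχ : RealOdd (χ : G → ℂ)) :
    ∃ ν : S →* ℂˣ, IsSign ν ∧ OddMult ι (χ : G → ℂ) ν := by
  classical
  have hθc : IsCharacter S (fun s => (χ : G → ℂ) (ι s)) :=
    Helper74.isCharacter_comp ι (Helper74.irr_isCharacter χ)
  have hθr : ∀ s, conj ((χ : G → ℂ) (ι s)) = (χ : G → ℂ) (ι s) := fun s => hχ.1 (ι s)
  have hθd : charDegree (fun s => (χ : G → ℂ) (ι s)) = charDegree (χ : G → ℂ) := by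
    unfold charDegree
    simp only [map_one]
  obtain ⟨ψ, m, hreal, hdodd, hmodd, hmψ⟩ :=
    exists_real_irr_odd hθc hθr (by rw [hθd]; exact hχ.2)
  have hd1 := charDegree_eq_one_of_odd hS ψ hdodd
  obtain ⟨ν, hν, hψν⟩ := exists_sign_of_real_linear ψ hd1 hreal
  refine ⟨ν, hν, m, hmodd, ?_⟩
  rw [← hψν]
  exact hmψ

end Cfsg.Agent.Helper80.ROE
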