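import Mathlib
import Cfsg.Agent.Helper80.RO_E1
import Cfsg.Agent.Helper15.IndChar
import Cfsg.Agent.Helper15.ConjChar

/-!
# (E2) of the real/odd-degree correspondence: every sign character of a Sylow `2`-subgroup has
odd multiplicity in some real irreducible character of odd degree
-/

set_option autoImplicit false

namespace Cfsg.Agent.Helper80.ROE

open Cfsg Cfsg.Agent.Helper81.RO
open scoped ComplexConjugate

universe u

section ind
variable {G : Type u} [Group G] [Fintype G]

omit [Fintype G] in
/-- Extension by zero of a real-valued function is real-valued. -/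
theorem conj_extendByZero_of_real (H : Subgroup G) {θ : H → ℂ} (hθ : ∀ h, conj (θ h) = θ h)
    (g : G) : conj (extendByZero H θ g) = extendByZero H θ g := by
  by_cases hg : g ∈ H
  · rw [Helper15.extendByZero_of_mem H θ hg, hθ]
  · rw [Helper15.extendByZero_of_not_mem H θ hg, map_zero]

/-- The function induced from a real-valued function is real-valued. -/
theorem conj_indFun_of_real (H : Subgroup G) {θ : H → ℂ} (hθ : ∀ h, conj (θ h) = θ h)
    (g : G) : conj (indFun H θ g) = indFun H θ g := by
  rw [Helper15.indFun_apply, map_mul, map_inv₀, Complex.conj_natCast, map_sum]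
  congr 1
  exact Finset.sum_congr rfl fun x _ => conj_extendByZero_of_real H hθ _

end ind

variable {S G : Type u}

/-- Transport of the inner product along an isomorphism onto a subgroup. -/
theorem classInner_comp_equiv [Group S] [Fintype S] [Group G] (P : Subgroup G) [Fintype P]
    (e : S ≃* P) (f₁ f₂ : P → ℂ) :
    classInner (fun s => f₁ (e s)) (fun s => f₂ (e s)) = classInner f₁ f₂ := by
  unfold classInner
  rw [Nat.card_congr e.toEquiv]
  congr 1
  exact Fintype.sum_equiv e.toEquiv _ _ (fun s => rfl)

/-- **(E2)** Every sign character of a Sylow `2`-subgroup has odd multiplicity in some real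
irreducible character of odd degree. -/
theorem exists_realOdd_oddMult [Group S] [Fintype S] [Group G] [Fintype G] (ι : S →* G)
    (hinj : Function.Injective ι) (hidx : ¬ 2 ∣ ι.range.index) (ν : S →* ℂˣ) (hν : IsSign ν) :
    ∃ χ : IrrCharacter G, RealOdd (χ : G → ℂ) ∧ OddMult ι (χ : G → ℂ) ν := by
  classical
  have : Fintype ι.range := Fintype.ofFinite _
  let e : S ≃* ι.range := MonoidHom.ofInjective hinj
  -- the sign character transported to the range
  let νP : ι.range →* ℂˣ := ν.comp e.symm.toMonoidHom
  have hνPe : ∀ s, νP (e s) = ν s := by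
    intro s
    show ν (e.symm (e s)) = ν s
    rw [MulEquiv.symm_apply_apply]
  have hes : ∀ s, ((e s : ι.range) : G) = ι s := fun s => rfl
  have hνPsign : IsSign νP := fun x => hν _
  set φ : ι.range → ℂ := Helper74.linFun νP with hφdef
  have hφc : IsCharacter ι.range φ := Helper74.linFun_isCharacter νP
  have hφr : ∀ x, conj (φ x) = φ x := fun x => hνPsign.conj_eq x
  set Θ : G → ℂ := indFun ι.range φ with hΘdef
  have hΘc : IsCharacter G Θ := Helper15.isCharacter_indFun ι.range hφc
  have hΘr : ∀ g, conj (Θ g) = Θ g := fun g => conj_indFun_of_real ι.range hφr g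
  have hΘ1 : Θ 1 = (ι.range.index : ℂ) := by
    rw [hΘdef, Helper15.indFun_apply_one]
    show (ι.range.index : ℂ) * ((νP 1 : ℂˣ) : ℂ) = _
    rw [map_one, Units.val_one, mul_one]
  have hΘd : charDegree Θ = ι.range.index := by
    have h := Helper74.charDegree_cast hΘc
    rw [hΘ1] at h
    exact_mod_cast h
  have hodd : Odd (charDegree Θ) := by
    rw [hΘd, ← Nat.not_even_iff_odd, even_iff_two_dvd]
    exact hidx
  obtain ⟨χ, m, hreal, hdodd, hmodd, hmχ⟩ := exists_real_irr_odd hΘc hΘr hodd
  refine ⟨χ, ⟨hreal, hdodd⟩, m, hmodd, ?_⟩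
  -- Frobenius reciprocity
  have h1 : classInner (χ : G → ℂ) Θ = (m : ℂ) := by
    rw [← Helper15.classInner_conj_symm, hmχ, Complex.conj_natCast]
  rw [hΘdef, Helper15.frobenius_reciprocity' ι.range φ (χ : G → ℂ)
    (Helper74.irr_isClassFunction χ)] at h1
  rw [← h1, ← classInner_comp_equiv ι.range e]
  congr 1
  funext s
  show ((ν s : ℂˣ) : ℂ) = ((νP (e s) : ℂˣ) : ℂ)
  rw [hνPe]

end Cfsg.Agent.Helper80.ROE
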