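import Mathlib
import Cfsg.Agent.Helper80.RO_E2

/-!
# (E1'), (E2'): the variants of (E1), (E2) without the conjugation pairing

* `exists_irr_odd`: a character of odd degree has an irreducible constituent of odd degree and
  odd multiplicity;
* `exists_lin_oddMult` (E1'), `exists_odd_oddMult` (E2').
-/

set_option autoImplicit false

namespace Cfsg.Agent.Helper80.ROE

open Cfsg Cfsg.Agent.Helper81.RO
open scoped ComplexConjugate

universe u

/-- A character of odd degree has an irreducible constituent of odd degree and odd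
multiplicity. -/
theorem exists_irr_odd {S : Type u} [Group S] [Fintype S] {θ : S → ℂ} (hθc : IsCharacter S θ)
    (hodd : Odd (charDegree θ)) :
    ∃ (ψ : IrrCharacter S) (m : ℕ), Odd (charDegree (ψ : S → ℂ)) ∧ Odd m ∧
      classInner θ (ψ : S → ℂ) = m := by
  classical
  have := Helper74.irrFintype S
  have hm : ∀ ψ : IrrCharacter S, ∃ m : ℕ, classInner θ (ψ : S → ℂ) = m :=
    fun ψ => Helper74.isCharacter_inner_irr_nat hθc ψ
  choose m hm using hm
  have hdeg : charDegree θ = ∑ ψ : IrrCharacter S, m ψ * charDegree (ψ : S → ℂ) := by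
    have h1 := congrFun (Helper74.isCharacter_eq_sum_irr hθc) 1
    rw [Finset.sum_apply] at h1
    have h2 : θ 1 = (charDegree θ : ℂ) := (Helper74.charDegree_cast hθc).symm
    rw [h2] at h1
    have h3 : ∀ ψ : IrrCharacter S, (classInner θ (ψ : S → ℂ) • (ψ : S → ℂ)) 1
        = ((m ψ * charDegree (ψ : S → ℂ) : ℕ) : ℂ) := by
      intro ψ
      rw [Pi.smul_apply, smul_eq_mul, hm, Nat.cast_mul,
        Helper74.charDegree_cast (Helper74.irr_isCharacter ψ)]
    rw [Finset.sum_congr rfl (fun ψ _ => h3 ψ), ← Nat.cast_sum] at h1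
    exact_mod_cast h1
  by_contra hcon
  have heven : ∀ ψ : IrrCharacter S, Even (m ψ * charDegree (ψ : S → ℂ)) := by
    intro ψ
    rw [← Nat.not_odd_iff_even]
    intro ho
    exact hcon ⟨ψ, m ψ, (Nat.odd_mul.mp ho).2, (Nat.odd_mul.mp ho).1, hm ψ⟩
  have : Even (charDegree θ) := by
    rw [hdeg]
    exact Finset.even_sum _ (fun ψ _ => heven ψ)
  exact (Nat.not_odd_iff_even.mpr this) hodd

variable {S G : Type u}

/-- **(E1')** An irreducible character of odd degree of `G` has a linear character of odd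
multiplicity on the `2`-group `S`. -/
theorem exists_lin_oddMult [Group S] [Fintype S] [Group G] [Fintype G] (hS : IsPGroup 2 S)
    (ι : S →* G) (χ : IrrCharacter G) (hχ : Odd (charDegree (χ : G → ℂ))) :
    ∃ μ : S →* ℂˣ, OddMult ι (χ : G → ℂ) μ := by
  classical
  have hθc : IsCharacter S (fun s => (χ : G → ℂ) (ι s)) :=
    Helper74.isCharacter_comp ι (Helper74.irr_isCharacter χ)
  have hθd : charDegree (fun s => (χ : G → ℂ) (ι s)) = charDegree (χ : G → ℂ) := by
    unfold charDegree
    simp only [map_one]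
  obtain ⟨ψ, m, hdodd, hmodd, hmψ⟩ := exists_irr_odd hθc (by rw [hθd]; exact hχ)
  have hd1 := charDegree_eq_one_of_odd hS ψ hdodd
  have hc := Helper74.irr_isCharacter ψ
  have h1 : (ψ : S → ℂ) 1 = 1 := by
    rw [← Helper74.charDegree_cast hc, hd1, Nat.cast_one]
  obtain ⟨μ, hμ⟩ := Cfsg.Agent.Helper80.IsCharacter.exists_monoidHom hc h1
  refine ⟨μ, m, hmodd, ?_⟩
  have : (ψ : S → ℂ) = Helper74.linFun μ := funext fun s => hμ s
  rw [← this]
  exact hmψ

/-- **(E2')** Every linear character of a Sylow `2`-subgroup has odd multiplicity in some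
irreducible character of odd degree. -/
theorem exists_odd_oddMult [Group S] [Fintype S] [Group G] [Fintype G] (ι : S →* G)
    (hinj : Function.Injective ι) (hidx : ¬ 2 ∣ ι.range.index) (μ : S →* ℂˣ) :
    ∃ χ : IrrCharacter G, Odd (charDegree (χ : G → ℂ)) ∧ OddMult ι (χ : G → ℂ) μ := by
  classical
  have : Fintype ι.range := Fintype.ofFinite _
  let e : S ≃* ι.range := MonoidHom.ofInjective hinj
  let μP : ι.range →* ℂˣ := μ.comp e.symm.toMonoidHom
  have hμPe : ∀ s, μP (e s) = μ s := by
    intro s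
    show μ (e.symm (e s)) = μ s
    rw [MulEquiv.symm_apply_apply]
  set φ : ι.range → ℂ := Helper74.linFun μP with hφdef
  have hφc : IsCharacter ι.range φ := Helper74.linFun_isCharacter μP
  set Θ : G → ℂ := indFun ι.range φ with hΘdef
  have hΘc : IsCharacter G Θ := Helper15.isCharacter_indFun ι.range hφc
  have hΘ1 : Θ 1 = (ι.range.index : ℂ) := by
    rw [hΘdef, Helper15.indFun_apply_one]
    show (ι.range.index : ℂ) * ((μP 1 : ℂˣ) : ℂ) = _
    rw [map_one, Units.val_one, mul_one]
  have hΘd : charDegree Θ = ι.range.index := by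
    have h := Helper74.charDegree_cast hΘc
    rw [hΘ1] at h
    exact_mod_cast h
  have hodd : Odd (charDegree Θ) := by
    rw [hΘd, ← Nat.not_even_iff_odd, even_iff_two_dvd]
    exact hidx
  obtain ⟨χ, m, hdodd, hmodd, hmχ⟩ := exists_irr_odd hΘc hodd
  refine ⟨χ, hdodd, m, hmodd, ?_⟩
  have h1 : classInner (χ : G → ℂ) Θ = (m : ℂ) := by
    rw [← Helper15.classInner_conj_symm, hmχ, Complex.conj_natCast]
  rw [hΘdef, Helper15.frobenius_reciprocity' ι.range φ (χ : G → ℂ)
    (Helper74.irr_isClassFunction χ)] at h1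
  rw [← h1, ← classInner_comp_equiv ι.range e]
  congr 1
  funext s
  show ((μ s : ℂˣ) : ℂ) = ((μP (e s) : ℂˣ) : ℂ)
  rw [hμPe]

end Cfsg.Agent.Helper80.ROE
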