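import Mathlib
import Cfsg.Prelude.Def_Characters
import Cfsg.Agent.Helper80.RelM
import Cfsg.Agent.Helper80.GoingDown
import Cfsg.Agent.S0857
import Cfsg.Agent.Helper15.CliffordCorr
import Cfsg.Agent.Helper81.IndTrans

/-!
# Relative M-groups: Isaacs 6.22
-/

set_option autoImplicit false

namespace Cfsg.Agent.Helper80

open Cfsg

universe u

theorem isIrr_restrict_top {G : Type u} [Group G] {χ : G → ℂ} (hχ : IsIrrCharacter G χ) :
    IsIrrCharacter (⊤ : Subgroup G) (fun x : (⊤ : Subgroup G) => χ x) :=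
  IsIrrCharacter.comp_surjective hχ (Subgroup.topEquiv : (⊤ : Subgroup G) ≃* G).toMonoidHom
    (Subgroup.topEquiv : (⊤ : Subgroup G) ≃* G).surjective

/-- Isaacs 6.22 by induction on the group order. -/
theorem relM_aux : ∀ (n : ℕ) (G : Type u) [Group G] [Fintype G] (N : Subgroup G) [N.Normal],
    Fintype.card G = n → Group.IsSolvable (G ⧸ N) → NonsquareChief G N →
    ∀ χ : G → ℂ, IsIrrCharacter G χ →
    ∃ (H : Subgroup G) (hNH : N ≤ H) (ψ : H → ℂ), IsIrrCharacter H ψ ∧ indFun H ψ = χ ∧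
      IsIrrCharacter N (fun n : N => ψ ⟨(n : G), hNH n.2⟩) := by
  intro n
  induction n using Nat.strong_induction_on with
  | _ n ih =>
  intro G _ _ N _ hn hs hch χ hχ
  classical
  have hχc : IsCharacter G χ := IsIrrCharacter.isCharacter hχ
  by_cases hN : IsIrrCharacter N (fun n : N => χ n)
  · refine ⟨⊤, le_top, fun x => χ x, isIrr_restrict_top hχ, ?_, hN⟩
    rw [Helper81.indFun_top]
    intro x g
    show χ (x⁻¹ * g * x) = χ g
    have := IsCharacter.conj_mem hχc g x⁻¹
    rwa [inv_inv] at this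
  · obtain ⟨K, hK⟩ := exists_minimal_of_wellFoundedLT
      (fun K : Subgroup G => K.Normal ∧ N ≤ K ∧ IsIrrCharacter K (fun k : K => χ k))
      ⟨⊤, inferInstance, le_top, isIrr_restrict_top hχ⟩
    obtain ⟨⟨hKn, hNK, hKirr⟩, hKmin⟩ := hK
    have hNK' : N < K := by
      refine lt_of_le_of_ne hNK ?_
      rintro rfl
      exact hN hKirr
    obtain ⟨L, hL⟩ := exists_maximal_of_wellFoundedGT
      (fun L : Subgroup G => L.Normal ∧ N ≤ L ∧ L < K) ⟨N, inferInstance, le_rfl, hNK'⟩
    obtain ⟨⟨hLn, hNL, hLK⟩, hLmax⟩ := hL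
    have := hKn
    have := hLn
    have hchief : ∀ M : Subgroup G, M.Normal → L ≤ M → M ≤ K → M = L ∨ M = K := by
      intro M hMn hLM hMK
      by_cases hMK' : M = K
      · right; exact hMK'
      · left
        have : M ≤ L := hLmax ⟨hMn, hNL.trans hLM, lt_of_le_of_ne hMK hMK'⟩ hLM
        exact le_antisymm this hLM
    have hab := commutator_le_of_chief_of_solvable N K L hs hNL hLK hchief
    have hinv : ∀ (g : G) (k : K), (fun k : K => χ k) ⟨g * k * g⁻¹, hKn.conj_mem (k : G) k.2 g⟩ =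
        (fun k : K => χ k) k := by
      intro g k; exact IsCharacter.conj_mem hχc k g
    rcases Cfsg.Agent.S0857.result K L hLK hchief hab (fun k : K => χ k) hKirr hinv with
      h1 | ⟨φ, e, hφ, hsm, he⟩ | ⟨F, hF, hcard, hsum⟩
    · exfalso
      have : K ≤ L := hKmin ⟨hLn, hNL, h1⟩ hLK.le
      exact not_le_of_gt hLK this
    · exfalso
      refine hch ⊤ K L hNL hLK le_top (fun h _ k hk => hKn.conj_mem k hk h)
        (fun h _ l hl => hLn.conj_mem l hl h) ?_ ⟨e, by rw [← he, pow_two]⟩
      intro M hLM hMK hM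
      exact hchief M ⟨fun m hm g => hM g (Subgroup.mem_top g) m hm⟩ hLM hMK
    · let _ : Fintype L := Fintype.ofFinite L
      obtain ⟨resL, hresL⟩ : ∃ resL : L → ℂ, resL = fun x : L => χ x := ⟨_, rfl⟩
      have hsum' : resL = ∑ φ ∈ F, φ := by rw [hresL]; exact hsum
      have hinner : ∀ φ ∈ F, classInner resL φ = 1 := by
        intro φ hφF
        rw [hsum', Helper74.classInner_sum_left, Finset.sum_eq_single φ]
        · exact Helper74.irr_inner_self ⟨φ, hF φ hφF⟩
        · intro φ' hφ'F hne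
          exact Helper74.irr_inner_ne (χ := ⟨φ', hF φ' hφ'F⟩) (ψ := ⟨φ, hF φ hφF⟩)
            (fun h => hne (congrArg Subtype.val h))
        · intro h; exact absurd hφF h
      have hrel2 : 1 < F.card := by
        rw [hcard]
        have h0 : L.relIndex K ≠ 0 := (L.subgroupOf K).index_ne_zero_of_finite
        have h1 : L.relIndex K ≠ 1 := by
          intro h
          exact not_le_of_gt hLK (Subgroup.relIndex_eq_one.1 h)
        omega
      obtain ⟨φ₁, hφ₁F, φ₂, hφ₂F, hne⟩ := Finset.one_lt_card.1 hrel2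
      have hφ₁ := hF φ₁ hφ₁F
      have hcon : classInner resL φ₁ ≠ 0 := by rw [hinner φ₁ hφ₁F]; exact one_ne_zero
      rw [hresL] at hcon
      obtain ⟨T, hTdef⟩ : ∃ T : Subgroup G, T = Helper15.inertia L φ₁ := ⟨_, rfl⟩
      have hLT : L ≤ T := by
        rw [hTdef]
        exact Helper15.le_inertia L (IsCharacter.isClassFunction (IsIrrCharacter.isCharacter hφ₁))
      have hTne : T ≠ ⊤ := by
        intro htop
        have hinvφ : ∀ g : G, Helper15.conjFun L g φ₁ = φ₁ := fun g =>
          (Helper15.mem_inertia L φ₁ g).1 (by rw [← hTdef, htop]; exact Subgroup.mem_top g)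
        have hsm := Helper15.restrict_eq_smul_of_invariant L hχ hφ₁ hcon hinvφ
        have h2 := hinner φ₂ hφ₂F
        rw [hresL, hsm, Helper74.classInner_smul_left,
          Helper74.irr_inner_ne (χ := ⟨φ₁, hφ₁⟩) (ψ := ⟨φ₂, hF φ₂ hφ₂F⟩)
            (fun h => hne (congrArg Subtype.val h)), mul_zero] at h2
        exact zero_ne_one h2
      let _ : Fintype T := Fintype.ofFinite T
      obtain ⟨ψ, hψ, hind, -⟩ :=
        Helper15.clifford_correspondence_exists L hφ₁ T hTdef hLT hχ hcon
      have hcardT : Fintype.card T < n := by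
        rw [← hn, ← Nat.card_eq_fintype_card, ← Nat.card_eq_fintype_card]
        refine lt_of_le_of_ne (Subgroup.card_le_card_group T) ?_
        intro h
        exact hTne (Subgroup.eq_top_of_card_eq T h)
      have hNT : N ≤ T := hNL.trans hLT
      obtain ⟨H', hNH', ψ', hψ', hind', hres'⟩ := ih (Fintype.card T) hcardT T (N.subgroupOf T) rfl
        (isSolvable_quotient_subgroupOf N hs T) (nonsquareChief_subgroupOf N T hNT hch) ψ hψ
      obtain ⟨H, hNH, ξ, hξ, hindξ, hresξ⟩ := relM_transport N T hNT H' hNH' ψ' hψ' hres'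
      exact ⟨H, hNH, ξ, hξ, by rw [hindξ, hind', hind], hresξ⟩

end Cfsg.Agent.Helper80
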