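import Cfsg.Agent.Helper2.SC3R.Defs
import Cfsg.Agent.Helper80.SC3R_BURN

/-!
helper80, piece (QUO) of helper2's farm #15653 (S3331 block R): the hypothesis `SC` passes to quotients by
normal `3'`-subgroups.
-/

set_option autoImplicit false
set_option linter.unusedVariables false
set_option linter.style.haveILetI false

namespace Cfsg.Agent.Helper80.SC3R

open Cfsg.Agent.Helper62.SC3 Cfsg.Agent.Helper2.SC3R

universe u v

variable {G : Type u} [Group G]

/-- `x ∉ N` for a `3'`-subgroup `N` -/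
theorem QUO_not_mem [Finite G] {x : G} (hx3 : orderOf x = 3) (N : Subgroup G)
    (hN3 : (Nat.card N).Coprime 3) : x ∉ N := by
  intro hxN
  have h1 : orderOf (⟨x, hxN⟩ : N) = 3 := by rw [Subgroup.orderOf_mk, hx3]
  have h2 : orderOf (⟨x, hxN⟩ : N) ∣ Nat.card N := orderOf_dvd_natCard _
  rw [h1] at h2
  have h3 : (3 : ℕ) ∣ Nat.gcd (Nat.card N) 3 := Nat.dvd_gcd h2 dvd_rfl
  rw [hN3] at h3
  omega

/-- `⟨x⟩ ∩ N = 1` -/
theorem QUO_inf [Finite G] {x : G} (hx3 : orderOf x = 3) (N : Subgroup G)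
    (hN3 : (Nat.card N).Coprime 3) {y : G} (hy : y ∈ Subgroup.zpowers x) (hyN : y ∈ N) : y = 1 := by
  rcases BURN_mem_zpowers hx3 hy with h | h | h
  · exact h
  · exact absurd (h ▸ hyN) (QUO_not_mem hx3 N hN3)
  · exfalso
    apply QUO_not_mem hx3 N hN3
    have := N.inv_mem hyN
    rw [h, inv_inv] at this
    exact this

/-- (QUO) the hypothesis passes to quotients by normal `3'`-subgroups. -/
theorem SC_quotient [Finite G] {x : G} (hx : SC G x) (N : Subgroup G) [N.Normal]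
    (hN3 : (Nat.card N).Coprime 3) : SC (G ⧸ N) (QuotientGroup.mk x : G ⧸ N) := by
  obtain ⟨hx3, hxC⟩ := hx
  have hxN : x ∉ N := QUO_not_mem hx3 N hN3
  refine ⟨?_, ?_⟩
  · -- the order
    have h1 : (QuotientGroup.mk x : G ⧸ N) ^ 3 = 1 := by
      rw [← QuotientGroup.mk_pow, ← hx3, pow_orderOf_eq_one, QuotientGroup.mk_one]
    have h2 : orderOf (QuotientGroup.mk x : G ⧸ N) ∣ 3 := orderOf_dvd_of_pow_eq_one h1
    rcases (Nat.dvd_prime (by norm_num : Nat.Prime 3)).mp h2 with h | h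
    · exfalso
      apply hxN
      rw [orderOf_eq_one_iff] at h
      exact (QuotientGroup.eq_one_iff x).mp h
    · exact h
  · apply le_antisymm
    · -- the centralizer is contained in `⟨x̄⟩`
      intro gb hgb
      obtain ⟨g, rfl⟩ := QuotientGroup.mk_surjective gb
      rw [Subgroup.mem_centralizer_singleton_iff] at hgb
      -- `x⁻¹ (g x g⁻¹) ∈ N`
      have h1 : x⁻¹ * (g * x * g⁻¹) ∈ N := by
        apply QuotientGroup.eq.mp
        rw [QuotientGroup.mk_mul, QuotientGroup.mk_mul, QuotientGroup.mk_inv, hgb]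
        group
      -- the map `n ↦ x⁻¹ (n x n⁻¹)` on `N`
      have hmem : ∀ n : N, x⁻¹ * ((n : G) * x * (n : G)⁻¹) ∈ N := by
        intro n
        have h2 : x⁻¹ * (n : G) * x⁻¹⁻¹ ∈ N := ‹N.Normal›.conj_mem _ n.2 _
        have h3 : x⁻¹ * ((n : G) * x * (n : G)⁻¹) = (x⁻¹ * (n : G) * x⁻¹⁻¹) * (n : G)⁻¹ := by group
        rw [h3]
        exact N.mul_mem h2 (N.inv_mem n.2)
      let f : N → N := fun n => ⟨x⁻¹ * ((n : G) * x * (n : G)⁻¹), hmem n⟩
      have hinj : Function.Injective f := by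
        intro n m hnm
        have h2 : x⁻¹ * ((n : G) * x * (n : G)⁻¹) = x⁻¹ * ((m : G) * x * (m : G)⁻¹) :=
          congrArg Subtype.val hnm
        have h3 : (n : G) * x * (n : G)⁻¹ = (m : G) * x * (m : G)⁻¹ := mul_left_cancel h2
        have h4 : ((m : G)⁻¹ * (n : G)) * x = x * ((m : G)⁻¹ * (n : G)) := by
          calc ((m : G)⁻¹ * (n : G)) * x = (m : G)⁻¹ * ((n : G) * x * (n : G)⁻¹) * (n : G) := by group
            _ = (m : G)⁻¹ * ((m : G) * x * (m : G)⁻¹) * (n : G) := by rw [h3]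
            _ = x * ((m : G)⁻¹ * (n : G)) := by group
        have h5 : (m : G)⁻¹ * (n : G) ∈ Subgroup.zpowers x := by
          rw [← hxC, Subgroup.mem_centralizer_singleton_iff]
          exact h4
        have h6 : (m : G)⁻¹ * (n : G) = 1 :=
          QUO_inf hx3 N hN3 h5 (N.mul_mem (N.inv_mem m.2) n.2)
        apply Subtype.ext
        exact (inv_mul_eq_one.mp h6).symm
      have hsurj : Function.Surjective f := Finite.injective_iff_surjective.mp hinj
      obtain ⟨n, hn⟩ := hsurj ⟨x⁻¹ * (g * x * g⁻¹), h1⟩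
      have h2 : x⁻¹ * ((n : G) * x * (n : G)⁻¹) = x⁻¹ * (g * x * g⁻¹) := congrArg Subtype.val hn
      have h3 : (n : G) * x * (n : G)⁻¹ = g * x * g⁻¹ := mul_left_cancel h2
      have h4 : ((n : G)⁻¹ * g) * x = x * ((n : G)⁻¹ * g) := by
        calc ((n : G)⁻¹ * g) * x = (n : G)⁻¹ * (g * x * g⁻¹) * g := by group
          _ = (n : G)⁻¹ * ((n : G) * x * (n : G)⁻¹) * g := by rw [h3]
          _ = x * ((n : G)⁻¹ * g) := by group
      have h5 : (n : G)⁻¹ * g ∈ Subgroup.zpowers x := by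
        rw [← hxC, Subgroup.mem_centralizer_singleton_iff]
        exact h4
      have h6 : (QuotientGroup.mk g : G ⧸ N) = QuotientGroup.mk ((n : G)⁻¹ * g) := by
        rw [QuotientGroup.mk_mul, QuotientGroup.mk_inv,
          (QuotientGroup.eq_one_iff (n : G)).mpr n.2, inv_one, one_mul]
      rw [h6]
      obtain ⟨k, hk⟩ := Subgroup.mem_zpowers_iff.mp h5
      rw [← hk, QuotientGroup.mk_zpow]
      exact Subgroup.zpow_mem_zpowers _ k
    · rw [Subgroup.zpowers_le, Subgroup.mem_centralizer_singleton_iff]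

end Cfsg.Agent.Helper80.SC3R
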