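-- helper80: piece (X2) of #4432 for helper85 (S5287): a bad saturated fusion system on every dihedral 2-group.
import Mathlib
import Cfsg.Agent.Helper85.SS.Chain
import Cfsg.Agent.Helper85.SS.AddAut
import Cfsg.Agent.Helper67.SSX1b
import Cfsg.Agent.Helper10.SSX1a

set_option autoImplicit false

namespace Cfsg.Agent.Helper80.SSX2

open Cfsg Cfsg.FusionSystem Cfsg.Agent.Helper87 Cfsg.Agent.Helper85.AddAut Cfsg.Agent.Helper85.SS DihedralGroup

variable {Ω : Type*} [Group Ω]

/-- The statement of piece (V) (`exists_bad_of_four`) for a fixed `S`, as a hypothesis. -/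
def VStatement (S : Subgroup Ω) : Prop :=
  ∀ (z s : Ω), z ∈ S → s ∈ S → orderOf z = 2 → orderOf s = 2 → z ≠ s → (∀ g ∈ S, g * z = z * g) →
    (∀ g ∈ S, g * s = s * g → g = 1 ∨ g = z ∨ g = s ∨ g = z * s) →
    (∃ g ∈ S, ¬ (g = 1 ∨ g = z ∨ g = s ∨ g = z * s)) →
    ∃ F : FusionSystem S, F.IsSaturated 2 ∧ ¬ HasChain F

/-- The dihedral group of order 4 is `C₂ × C₂`. -/
noncomputable def dih2Equiv :
    DihedralGroup 2 ≃* Multiplicative (ZMod (2 ^ 1)) × Multiplicative (ZMod (2 ^ 1)) :=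
  MulEquiv.ofBijective
    (MonoidHom.mk' (fun g => match g with
      | DihedralGroup.r i => (Multiplicative.ofAdd (i : ZMod (2 ^ 1)), Multiplicative.ofAdd (0 : ZMod (2 ^ 1)))
      | DihedralGroup.sr i => (Multiplicative.ofAdd (i : ZMod (2 ^ 1)), Multiplicative.ofAdd (1 : ZMod (2 ^ 1))))
      (by decide))
    (by decide)

/-- Transport of `exists_bad_of_four` along an isomorphism `S ≃* D`. -/
theorem exists_bad_of_four_iso {S : Subgroup Ω} [Finite S] (hV : VStatement S) {D : Type*} [Group D]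
    (e : ↥S ≃* D) (z s : D) (hz2 : orderOf z = 2) (hs2 : orderOf s = 2) (hzs : z ≠ s)
    (hzc : ∀ g : D, g * z = z * g)
    (hcent : ∀ g : D, g * s = s * g → g = 1 ∨ g = z ∨ g = s ∨ g = z * s)
    (hne : ∃ g : D, ¬ (g = 1 ∨ g = z ∨ g = s ∨ g = z * s)) :
    ∃ F : FusionSystem S, F.IsSaturated 2 ∧ ¬ HasChain F := by
  have hmul : ∀ a b : D, ((e.symm a : S) : Ω) * ((e.symm b : S) : Ω) = ((e.symm (a * b) : S) : Ω) := by
    intro a b
    rw [map_mul]
    rfl
  have hinj : ∀ a b : D, ((e.symm a : S) : Ω) = ((e.symm b : S) : Ω) → a = b := by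
    intro a b hab
    exact e.symm.injective (Subtype.ext hab)
  have hrep : ∀ g ∈ S, ∃ d : D, g = ((e.symm d : S) : Ω) := by
    intro g hg
    exact ⟨e ⟨g, hg⟩, by rw [MulEquiv.symm_apply_apply]⟩
  have hone : ((e.symm (1 : D) : S) : Ω) = 1 := by
    rw [map_one]
    rfl
  have hord : ∀ d : D, orderOf ((e.symm d : S) : Ω) = orderOf d := by
    intro d
    rw [Subgroup.orderOf_coe, MulEquiv.orderOf_eq]
  have hcases : ∀ d : D, (d = 1 ∨ d = z ∨ d = s ∨ d = z * s) ↔
      (((e.symm d : S) : Ω) = 1 ∨ ((e.symm d : S) : Ω) = ((e.symm z : S) : Ω) ∨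
        ((e.symm d : S) : Ω) = ((e.symm s : S) : Ω) ∨
        ((e.symm d : S) : Ω) = ((e.symm z : S) : Ω) * ((e.symm s : S) : Ω)) := by
    intro d
    rw [hmul, ← hone]
    constructor
    · rintro (h | h | h | h)
      · exact Or.inl (by rw [h])
      · exact Or.inr (Or.inl (by rw [h]))
      · exact Or.inr (Or.inr (Or.inl (by rw [h])))
      · exact Or.inr (Or.inr (Or.inr (by rw [h])))
    · rintro (h | h | h | h)
      · exact Or.inl (hinj _ _ h)
      · exact Or.inr (Or.inl (hinj _ _ h))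
      · exact Or.inr (Or.inr (Or.inl (hinj _ _ h)))
      · exact Or.inr (Or.inr (Or.inr (hinj _ _ h)))
  refine hV ((e.symm z : S) : Ω) ((e.symm s : S) : Ω) (e.symm z).2 (e.symm s).2
    ((hord z).trans hz2) ((hord s).trans hs2) (fun h => hzs (hinj _ _ h)) ?_ ?_ ?_
  · intro g hg
    obtain ⟨d, rfl⟩ := hrep g hg
    rw [hmul, hmul, hzc]
  · intro g hg hgs
    obtain ⟨d, rfl⟩ := hrep g hg
    rw [hmul, hmul] at hgs
    exact (hcases d).mp (hcent d (hinj _ _ hgs))
  · obtain ⟨d, hd⟩ := hne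
    exact ⟨((e.symm d : S) : Ω), (e.symm d).2, fun h => hd ((hcases d).mpr h)⟩

section zmod

variable (h : ℕ)

theorem zmod_half_add_half : ((h : ℕ) : ZMod (2 * h)) + (h : ZMod (2 * h)) = 0 := by
  rw [← Nat.cast_add, ← two_mul]
  exact ZMod.natCast_self _

theorem zmod_half_ne_zero (hh : 1 ≤ h) : ((h : ℕ) : ZMod (2 * h)) ≠ 0 := by
  intro h0
  rw [ZMod.natCast_eq_zero_iff] at h0
  have := Nat.le_of_dvd (by omega) h0
  omega

theorem zmod_two_torsion (hh : 1 ≤ h) (i : ZMod (2 * h)) (hi : i + i = 0) : i = 0 ∨ i = (h : ZMod (2 * h)) := by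
  have : NeZero (2 * h) := ⟨by omega⟩
  have hlt := ZMod.val_lt i
  have hdvd : 2 * h ∣ i.val + i.val := by
    rw [← ZMod.natCast_eq_zero_iff]
    push_cast
    rw [ZMod.natCast_zmod_val]
    exact hi
  obtain ⟨c, hc⟩ := hdvd
  have hc01 : c = 0 ∨ c = 1 := by
    have hc2 : c < 2 := by
      by_contra hc2
      push Not at hc2
      have h4 : 2 * h * 2 ≤ 2 * h * c := Nat.mul_le_mul_left _ hc2
      omega
    omega
  rcases hc01 with rfl | rfl
  · left
    have : i.val = 0 := by omega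
    exact (ZMod.val_eq_zero i).mp this
  · right
    have hv : i.val = h := by omega
    have h3 : ((i.val : ℕ) : ZMod (2 * h)) = i := ZMod.natCast_zmod_val i
    rw [← h3, hv]

theorem zmod_one_ne_zero (hh : 1 ≤ h) : (1 : ZMod (2 * h)) ≠ 0 := by
  intro h0
  have h1 : ((1 : ℕ) : ZMod (2 * h)) = 0 := by simpa using h0
  rw [ZMod.natCast_eq_zero_iff] at h1
  have := Nat.le_of_dvd (by omega) h1
  omega

theorem zmod_one_ne_half (hh : 2 ≤ h) : (1 : ZMod (2 * h)) ≠ (h : ZMod (2 * h)) := by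
  intro h0
  have h1 : ((1 : ℕ) : ZMod (2 * h)) = ((h : ℕ) : ZMod (2 * h)) := by simpa using h0
  rw [ZMod.natCast_eq_natCast_iff'] at h1
  rw [Nat.mod_eq_of_lt (by omega), Nat.mod_eq_of_lt (by omega)] at h1
  omega

end zmod

/-- Piece (X2) with the statement of piece (V) for `S` as a hypothesis. -/
theorem exists_bad_dihedral_of {S : Subgroup Ω} [Finite S] (hV : VStatement S) (hS : IsPGroup 2 S) (n : ℕ) (hn : 2 ≤ n)
    (e : ↥S ≃* DihedralGroup n) : ∃ F : FusionSystem S, F.IsSaturated 2 ∧ ¬ HasChain F := by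
  obtain ⟨k, hk⟩ := (IsPGroup.iff_card).mp hS
  have hcard : 2 * n = 2 ^ k := by
    rw [← hk, Nat.card_congr e.toEquiv, DihedralGroup.nat_card]
  have hk1 : 2 ≤ k := by
    by_contra hlt
    push Not at hlt
    interval_cases k <;> omega
  obtain ⟨j, rfl⟩ : ∃ j, k = j + 2 := ⟨k - 2, by omega⟩
  have hn' : n = 2 * 2 ^ j := by
    rw [pow_succ, pow_succ] at hcard
    omega
  rcases Nat.eq_zero_or_pos j with rfl | hj
  · have h2 : n = 2 := by simpa using hn'
    subst h2
    exact Cfsg.Agent.Helper67.SSX1b.exists_bad_homocyclic_of 2 1 one_pos (e.trans dih2Equiv)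
      (Cfsg.Agent.Helper10.SSX1a.exists_irreducible_aut 2 1 one_pos)
  · obtain ⟨h, hh2, rfl⟩ : ∃ h, 2 ≤ h ∧ n = 2 * h := by
      refine ⟨2 ^ j, ?_, hn'⟩
      calc 2 = 2 ^ 1 := by norm_num
        _ ≤ 2 ^ j := Nat.pow_le_pow_right (by norm_num) hj
    have hh1 : 1 ≤ h := by omega
    have hhh := zmod_half_add_half h
    have hneg : -((h : ℕ) : ZMod (2 * h)) = (h : ZMod (2 * h)) := neg_eq_of_add_eq_zero_left hhh
    refine exists_bad_of_four_iso hV e (r ((h : ℕ) : ZMod (2 * h))) (sr 0) ?_ (orderOf_sr 0) ?_ ?_ ?_ ?_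
    · refine orderOf_eq_prime ?_ ?_
      · rw [pow_two, r_mul_r, hhh]
        rfl
      · intro h1
        rw [one_def] at h1
        exact zmod_half_ne_zero h hh1 (r.inj h1)
    · intro h1
      cases h1
    · intro g
      rcases g with i | i
      · rw [r_mul_r, r_mul_r, add_comm]
      · rw [sr_mul_r, r_mul_sr]
        congr 1
        rw [sub_eq_add_neg, hneg]
    · intro g hg
      rcases g with i | i
      · rw [r_mul_sr, sr_mul_r] at hg
        have h1 : (0 : ZMod (2 * h)) - i = 0 + i := sr.inj hg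
        have h2 : i + i = 0 := by
          have : i + i = (0 + i) - (0 - i) := by ring
          rw [this, h1]
          ring
        rcases zmod_two_torsion h hh1 i h2 with rfl | rfl
        · exact Or.inl rfl
        · exact Or.inr (Or.inl rfl)
      · rw [sr_mul_sr, sr_mul_sr] at hg
        have h1 : (0 : ZMod (2 * h)) - i = i - 0 := r.inj hg
        have h2 : i + i = 0 := by
          have : i + i = (i - 0) - (0 - i) := by ring
          rw [this, h1]
          ring
        rcases zmod_two_torsion h hh1 i h2 with rfl | rfl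
        · exact Or.inr (Or.inr (Or.inl rfl))
        · refine Or.inr (Or.inr (Or.inr ?_))
          rw [r_mul_sr, zero_sub, hneg]
    · refine ⟨r 1, ?_⟩
      rintro (h1 | h1 | h1 | h1)
      · rw [one_def] at h1
        exact zmod_one_ne_zero h hh1 (r.inj h1)
      · exact zmod_one_ne_half h hh2 (r.inj h1)
      · cases h1
      · rw [r_mul_sr] at h1
        cases h1

end Cfsg.Agent.Helper80.SSX2
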