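-- helper80: piece (X2) of #4432 for helper85 (S5287), exact signature (uses helper60's (V)).
import Cfsg.Agent.Helper80.SSX2
import Cfsg.Agent.Helper60.SSV

set_option autoImplicit false

namespace Cfsg.Agent.Helper80.SSX2

open Cfsg Cfsg.FusionSystem Cfsg.Agent.Helper87 Cfsg.Agent.Helper85.AddAut Cfsg.Agent.Helper85.SS

variable {Ω : Type*} [Group Ω]

/-- **(X2)** every dihedral 2-group of order at least 4 carries a saturated fusion system without a chain. -/
theorem exists_bad_dihedral {S : Subgroup Ω} [Finite S] (hS : IsPGroup 2 S) (n : ℕ) (hn : 2 ≤ n)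
    (e : ↥S ≃* DihedralGroup n) : ∃ F : FusionSystem S, F.IsSaturated 2 ∧ ¬ HasChain F :=
  exists_bad_dihedral_of
    (fun z s hz hs hz2 hs2 hzs hzc hcent hne =>
      Cfsg.Agent.Helper60.SSV.exists_bad_of_four hS z s hz hs hz2 hs2 hzs hzc hcent hne) hS n hn e

end Cfsg.Agent.Helper80.SSX2
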