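-- helper80: piece (AUT-WR) of #4706 for helper84 (S5319): odd-order automorphisms of a wreathed 2-group are trivial.
import Mathlib
import Cfsg.Prelude.Def_CaseTheorems

set_option autoImplicit false

namespace Cfsg.Agent.Helper80.SU3F

/-- Stability: an automorphism of odd order of a 2-group which fixes `N` pointwise and moves `x` inside its coset of
`N` fixes `x` (after helper65's `T1237.stab_fix`, copied here to avoid its imports). -/
theorem stab_fix {T : Type*} [Group T] (hT : IsPGroup 2 T) (ψ : MulAut T) {m : ℕ}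
    (hm : Odd m) (hψ : ψ ^ m = 1) (N : Subgroup T) (hN : ∀ n ∈ N, ψ n = n) {x : T}
    (hx : ψ x * x⁻¹ ∈ N) : ψ x = x := by
  obtain ⟨k, hk⟩ : ∃ k, k = ψ x * x⁻¹ := ⟨_, rfl⟩
  rw [← hk] at hx
  have hψx : ψ x = k * x := by rw [hk]; group
  have hpow : ∀ j : ℕ, (ψ ^ j) x = k ^ j * x := by
    intro j
    induction j with
    | zero => simp
    | succ j ih =>
      rw [pow_succ', MulAut.mul_apply, ih, map_mul, map_pow, hN k hx, hψx, pow_succ, mul_assoc]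
  have h1 := hpow m
  rw [hψ, MulAut.one_apply] at h1
  have hkm : k ^ m = 1 := by
    have h2 : k ^ m * x = 1 * x := by rw [one_mul]; exact h1.symm
    exact mul_right_cancel h2
  obtain ⟨e, he⟩ := (IsPGroup.iff_orderOf.mp hT) k
  have hdvd : orderOf k ∣ m := orderOf_dvd_of_pow_eq_one hkm
  rw [he] at hdvd
  have he0 : e = 0 := by
    by_contra h0
    have : 2 ∣ m := dvd_trans (dvd_pow_self 2 h0) hdvd
    exact (Nat.not_even_iff_odd.mpr hm) (even_iff_two_dvd.mpr this)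
  rw [he0, pow_zero, orderOf_eq_one_iff] at he
  rw [hψx, he, one_mul]

/-- An automorphism of odd order mapping an element `w` of 2-power order to a power of itself fixes `w`. -/
theorem aut_fix_of_pow {S : Type*} [Group S] (α : MulAut S) (k : ℕ) (hk : Odd k) (hα : α ^ k = 1) (w : S)
    (m r : ℕ) (hw : orderOf w = 2 ^ m) (hr : α w = w ^ r) : α w = w := by
  rcases Nat.eq_zero_or_pos m with rfl | hm
  · rw [pow_zero, orderOf_eq_one_iff] at hw
    rw [hw, map_one]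
  have hpow : ∀ j : ℕ, (α ^ j) w = w ^ (r ^ j) := by
    intro j
    induction j with
    | zero => simp
    | succ j ih =>
      rw [pow_succ', MulAut.mul_apply, ih, map_pow, hr, ← pow_mul, pow_succ']
  have h1 : w ^ (r ^ k) = w ^ 1 := by
    rw [← hpow k, hα, pow_one]
    rfl
  rw [pow_eq_pow_iff_modEq, hw] at h1
  have h2 : ((r : ZMod (2 ^ m)) ^ k) = 1 := by
    have h3 := (ZMod.natCast_eq_natCast_iff (r ^ k) 1 (2 ^ m)).mpr h1
    simpa using h3
  have hk0 : k ≠ 0 := hk.pos.ne'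
  obtain ⟨u, hu⟩ : IsUnit (r : ZMod (2 ^ m)) := IsUnit.of_pow_eq_one h2 hk0
  have huk : u ^ k = 1 := by
    apply Units.ext
    rw [Units.val_pow_eq_pow_val, hu, h2]
    rfl
  have : NeZero (2 ^ m) := ⟨pow_ne_zero _ two_ne_zero⟩
  have hcard : Fintype.card (ZMod (2 ^ m))ˣ = 2 ^ (m - 1) := by
    rw [ZMod.card_units_eq_totient, Nat.totient_prime_pow Nat.prime_two hm]
    simp
  have huc : u ^ (2 ^ (m - 1)) = 1 := by
    rw [← hcard]
    exact pow_card_eq_one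
  have hgcd : Nat.gcd k (2 ^ (m - 1)) = 1 := Nat.Coprime.pow_right _ (Nat.coprime_two_right.mpr hk)
  have hu1 : u = 1 := by
    have h3 := pow_gcd_eq_one.mpr ⟨huk, huc⟩
    rwa [hgcd, pow_one] at h3
  have hr1 : (r : ZMod (2 ^ m)) = 1 := by
    rw [← hu, hu1]
    rfl
  have hr2 : r ≡ 1 [MOD 2 ^ m] := by
    have h3 : ((r : ℕ) : ZMod (2 ^ m)) = ((1 : ℕ) : ZMod (2 ^ m)) := by simpa using hr1
    exact (ZMod.natCast_eq_natCast_iff r 1 (2 ^ m)).mp h3
  have h4 : w ^ r = w ^ 1 := by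
    rw [pow_eq_pow_iff_modEq, hw]
    exact hr2
  rw [hr, h4, pow_one]

section wr

variable {S : Type*} [Group S] {x y z : S}

theorem wr_pow_eq_one (hinf : Subgroup.zpowers x ⊓ Subgroup.zpowers y = ⊥) {i j : ℤ} (h : x ^ i = y ^ j) :
    x ^ i = 1 := by
  have h1 : x ^ i ∈ Subgroup.zpowers x ⊓ Subgroup.zpowers y := ⟨⟨i, rfl⟩, ⟨j, h.symm⟩⟩
  rw [hinf] at h1
  exact Subgroup.mem_bot.mp h1

theorem wr_key (hinf : Subgroup.zpowers x ⊓ Subgroup.zpowers y = ⊥) {i j i' j' : ℤ}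
    (h : x ^ i * y ^ j = x ^ i' * y ^ j') : x ^ (i - i') = 1 ∧ y ^ (j - j') = 1 := by
  have h1 : x ^ (i - i') = y ^ (j' - j) := by
    have e1 : x ^ (i - i') = (x ^ i')⁻¹ * (x ^ i * y ^ j) * (y ^ j)⁻¹ := by group
    rw [e1, h]
    group
  have h2 := wr_pow_eq_one hinf h1
  refine ⟨h2, ?_⟩
  have h3 : y ^ (j' - j) = 1 := h1 ▸ h2
  have e2 : y ^ (j - j') = (y ^ (j' - j))⁻¹ := by
    rw [← zpow_neg]
    congr 1
    ring
  rw [e2, h3, inv_one]

/-- The abelian subgroup `⟨x⟩⟨y⟩`. -/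
def wrA (x y : S) (hxy : Commute x y) : Subgroup S where
  carrier := {g | ∃ i j : ℤ, g = x ^ i * y ^ j}
  one_mem' := ⟨0, 0, by simp⟩
  mul_mem' := by
    rintro _ _ ⟨i, j, rfl⟩ ⟨i', j', rfl⟩
    refine ⟨i + i', j + j', ?_⟩
    rw [zpow_add, zpow_add]
    calc x ^ i * y ^ j * (x ^ i' * y ^ j') = x ^ i * (y ^ j * x ^ i') * y ^ j' := by group
      _ = x ^ i * (x ^ i' * y ^ j) * y ^ j' := by rw [(hxy.zpow_zpow i' j).eq]
      _ = x ^ i * x ^ i' * (y ^ j * y ^ j') := by group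
  inv_mem' := by
    rintro _ ⟨i, j, rfl⟩
    refine ⟨-i, -j, ?_⟩
    rw [mul_inv_rev, zpow_neg, zpow_neg]
    exact ((hxy.zpow_zpow i j).inv_inv).eq.symm

theorem mem_wrA (hxy : Commute x y) (g : S) : g ∈ wrA x y hxy ↔ ∃ i j : ℤ, g = x ^ i * y ^ j := Iff.rfl

theorem wrA_comm (hxy : Commute x y) {a b : S} (ha : a ∈ wrA x y hxy) (hb : b ∈ wrA x y hxy) : a * b = b * a := by
  obtain ⟨i, j, rfl⟩ := ha
  obtain ⟨i', j', rfl⟩ := hb
  have h1 : Commute (x ^ i) (x ^ i' * y ^ j') :=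
    Commute.mul_right ((Commute.refl x).zpow_zpow i i') (hxy.zpow_zpow i j')
  have h2 : Commute (y ^ j) (x ^ i' * y ^ j') :=
    Commute.mul_right (hxy.symm.zpow_zpow j i') ((Commute.refl y).zpow_zpow j j')
  exact (Commute.mul_left h1 h2).eq

theorem x_mem_wrA (hxy : Commute x y) : x ∈ wrA x y hxy := ⟨1, 0, by simp⟩

theorem y_mem_wrA (hxy : Commute x y) : y ∈ wrA x y hxy := ⟨0, 1, by simp⟩

theorem card_wrA [Finite S] (hxy : Commute x y) (hinf : Subgroup.zpowers x ⊓ Subgroup.zpowers y = ⊥) :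
    Nat.card (wrA x y hxy) = orderOf x * orderOf y := by
  rw [← Nat.card_zpowers x, ← Nat.card_zpowers y, ← Nat.card_prod]
  symm
  refine Nat.card_congr (Equiv.ofBijective
    (fun hk : Subgroup.zpowers x × Subgroup.zpowers y => (⟨(hk.1 : S) * (hk.2 : S), ?_⟩ : wrA x y hxy)) ⟨?_, ?_⟩)
  · obtain ⟨i, hi⟩ := Subgroup.mem_zpowers_iff.mp hk.1.2
    obtain ⟨j, hj⟩ := Subgroup.mem_zpowers_iff.mp hk.2.2
    exact ⟨i, j, by rw [hi, hj]⟩
  · rintro ⟨⟨h, hh⟩, ⟨k, hk⟩⟩ ⟨⟨h', hh'⟩, ⟨k', hk'⟩⟩ heq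
    have h0 : h * k = h' * k' := congrArg Subtype.val heq
    have h1 : h'⁻¹ * h = k' * k⁻¹ := by
      have e1 : h'⁻¹ * h = h'⁻¹ * (h * k) * k⁻¹ := by group
      rw [e1, h0]
      group
    have h2 : h'⁻¹ * h ∈ Subgroup.zpowers x ⊓ Subgroup.zpowers y :=
      ⟨Subgroup.mul_mem _ (Subgroup.inv_mem _ hh') hh, h1 ▸ Subgroup.mul_mem _ hk' (Subgroup.inv_mem _ hk)⟩
    rw [hinf, Subgroup.mem_bot] at h2
    have h3 : k' * k⁻¹ = 1 := h1 ▸ h2
    have e2 : h = h' := by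
      have := inv_mul_eq_one.mp h2
      exact this.symm
    have e3 : k = k' := by
      have := mul_inv_eq_one.mp h3
      exact this.symm
    subst e2
    subst e3
    rfl
  · rintro ⟨g, i, j, rfl⟩
    exact ⟨(⟨x ^ i, ⟨i, rfl⟩⟩, ⟨y ^ j, ⟨j, rfl⟩⟩), rfl⟩

theorem wr_zy (hz2 : orderOf z = 2) (hzx : z * x * z⁻¹ = y) : z * y * z⁻¹ = x := by
  have hzz : z * z = 1 := by rw [← pow_two, ← hz2, pow_orderOf_eq_one]
  have hzinv : z⁻¹ = z := inv_eq_of_mul_eq_one_left hzz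
  rw [← hzx, hzinv]
  calc z * (z * x * z) * z = (z * z) * x * (z * z) := by group
    _ = x := by rw [hzz, one_mul, mul_one]

theorem wr_conj (hz2 : orderOf z = 2) (hzx : z * x * z⁻¹ = y) (hxy : Commute x y) (i j : ℤ) :
    z * (x ^ i * y ^ j) * z⁻¹ = x ^ j * y ^ i := by
  have e : z * (x ^ i * y ^ j) * z⁻¹ = (z * x ^ i * z⁻¹) * (z * y ^ j * z⁻¹) := by group
  rw [e, ← conj_zpow, ← conj_zpow, hzx, wr_zy hz2 hzx]
  exact (hxy.zpow_zpow j i).eq.symm

theorem wr_fix_mem (hinf : Subgroup.zpowers x ⊓ Subgroup.zpowers y = ⊥) (hz2 : orderOf z = 2)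
    (hzx : z * x * z⁻¹ = y) (hxy : Commute x y) {a : S} (ha : a ∈ wrA x y hxy) (hza : z * a * z⁻¹ = a) :
    a ∈ Subgroup.zpowers (x * y) := by
  obtain ⟨i, j, rfl⟩ := ha
  rw [wr_conj hz2 hzx hxy] at hza
  obtain ⟨-, h2⟩ := wr_key hinf hza
  have h3 : y ^ i = y ^ j := by
    rw [zpow_sub] at h2
    exact mul_inv_eq_one.mp h2
  refine Subgroup.mem_zpowers_iff.mpr ⟨i, ?_⟩
  rw [hxy.mul_zpow, h3]

theorem wr_inv_mem (hinf : Subgroup.zpowers x ⊓ Subgroup.zpowers y = ⊥) (hz2 : orderOf z = 2)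
    (hzx : z * x * z⁻¹ = y) (hxy : Commute x y) {a : S} (ha : a ∈ wrA x y hxy) (hza : z * a * z⁻¹ = a⁻¹) :
    a ∈ Subgroup.zpowers (x * y⁻¹) := by
  obtain ⟨i, j, rfl⟩ := ha
  rw [wr_conj hz2 hzx hxy] at hza
  have e : (x ^ i * y ^ j)⁻¹ = x ^ (-i) * y ^ (-j) := by
    rw [mul_inv_rev, zpow_neg, zpow_neg]
    exact ((hxy.zpow_zpow i j).inv_inv).eq.symm
  rw [e] at hza
  obtain ⟨-, h2⟩ := wr_key hinf hza
  have h3 : y ^ j = (y ^ i)⁻¹ := by
    rw [sub_neg_eq_add, zpow_add] at h2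
    exact (inv_eq_of_mul_eq_one_right h2).symm
  refine Subgroup.mem_zpowers_iff.mpr ⟨i, ?_⟩
  rw [(hxy.inv_right).mul_zpow, h3, inv_zpow]

theorem wr_sq_mem (hinf : Subgroup.zpowers x ⊓ Subgroup.zpowers y = ⊥) (hxy : Commute x y) {n : ℕ} (hn : 2 ≤ n)
    (hx : orderOf x = 2 ^ n) (hy : orderOf y = 2 ^ n) (N : Subgroup S) (hxN : x * x ∈ N) (hyN : y * y ∈ N)
    {a : S} (ha : a ∈ wrA x y hxy) (ha2 : a * a = 1) : a ∈ N := by
  obtain ⟨i, j, rfl⟩ := ha
  have h1 : x ^ (i + i) * y ^ (j + j) = x ^ (0 : ℤ) * y ^ (0 : ℤ) := by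
    rw [zpow_zero, zpow_zero, one_mul, ← ha2, zpow_add, zpow_add]
    calc x ^ i * x ^ i * (y ^ j * y ^ j) = x ^ i * (x ^ i * y ^ j) * y ^ j := by group
      _ = x ^ i * (y ^ j * x ^ i) * y ^ j := by rw [(hxy.zpow_zpow i j).eq]
      _ = x ^ i * y ^ j * (x ^ i * y ^ j) := by group
  obtain ⟨h2, h3⟩ := wr_key hinf h1
  rw [sub_zero] at h2 h3
  have h4 : ((2 : ℤ) ^ 2) ∣ (2 : ℤ) ^ n := pow_dvd_pow 2 hn
  have hxi : ((2 : ℤ) ^ n) ∣ i + i := by
    have := orderOf_dvd_iff_zpow_eq_one.mpr h2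
    rwa [hx, Nat.cast_pow, Nat.cast_ofNat] at this
  have hyj : ((2 : ℤ) ^ n) ∣ j + j := by
    have := orderOf_dvd_iff_zpow_eq_one.mpr h3
    rwa [hy, Nat.cast_pow, Nat.cast_ofNat] at this
  obtain ⟨c, hc⟩ := dvd_trans h4 hxi
  obtain ⟨d, hd⟩ := dvd_trans h4 hyj
  have hi : i = 2 * c := by omega
  have hj : j = 2 * d := by omega
  rw [hi, hj, zpow_mul, zpow_mul, zpow_two, zpow_two]
  exact N.mul_mem (N.zpow_mem hxN c) (N.zpow_mem hyN d)

theorem wr_z_not_mem (hinf : Subgroup.zpowers x ⊓ Subgroup.zpowers y = ⊥) (hzx : z * x * z⁻¹ = y)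
    (hxy : Commute x y) (hx1 : x ≠ 1) : z ∉ wrA x y hxy := by
  intro hz
  have h1 := wrA_comm hxy hz (x_mem_wrA hxy)
  have h2 : y = x := by rw [← hzx, h1, mul_inv_cancel_right]
  have h3 : x ^ (1 : ℤ) = y ^ (1 : ℤ) := by rw [h2]
  have h4 := wr_pow_eq_one hinf h3
  rw [zpow_one] at h4
  exact hx1 h4

end wr

/-- **(AUT-WR)** an automorphism of odd order of a wreathed 2-group is trivial. -/
theorem aut_eq_one_of_wreathed {S : Type*} [Group S] (h : Cfsg.IsWreathed S) (α : MulAut S) (k : ℕ) (hk : Odd k)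
    (hα : α ^ k = 1) : α = 1 := by
  obtain ⟨n, hn, hcard, x, y, z, hx, hxy', hinf, hz2, hzx⟩ := h
  have hxy : Commute x y := hxy'
  have : Finite S := Nat.finite_of_card_ne_zero (by rw [hcard]; positivity)
  have hS2 : IsPGroup 2 S := IsPGroup.of_card hcard
  have hy : orderOf y = 2 ^ n := by
    rw [← hzx, ← hx]
    exact (MulAut.conj z).orderOf_eq x
  have hx1 : x ≠ 1 := by
    intro h1
    rw [h1, orderOf_one] at hx
    have h2 : 2 ^ 2 ≤ 2 ^ n := Nat.pow_le_pow_right (by norm_num) hn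
    omega
  have hcardA : Nat.card (wrA x y hxy) = 2 ^ (2 * n) := by
    rw [card_wrA hxy hinf, hx, hy, ← pow_add, two_mul]
  have hidxA : (wrA x y hxy).index = 2 := by
    have h1 := (wrA x y hxy).card_mul_index
    rw [hcardA, hcard, pow_succ] at h1
    exact Nat.eq_of_mul_eq_mul_left (by positivity) h1
  have hzA : z ∉ wrA x y hxy := wr_z_not_mem hinf hzx hxy hx1
  have hzinvA : z⁻¹ ∉ wrA x y hxy := fun h1 => hzA (by simpa using (wrA x y hxy).inv_mem h1)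
  have hxyord : orderOf (x * y) ≤ 2 ^ n := by
    apply Nat.le_of_dvd (by positivity)
    apply orderOf_dvd_of_pow_eq_one
    rw [hxy.mul_pow]
    have h1 : x ^ 2 ^ n = 1 := by rw [← hx, pow_orderOf_eq_one]
    have h2 : y ^ 2 ^ n = 1 := by rw [← hy, pow_orderOf_eq_one]
    rw [h1, h2, one_mul]
  -- (1) `α` maps `A` into `A`
  have hcardB : Nat.card ((wrA x y hxy).map α.toMonoidHom) = 2 ^ (2 * n) := by
    rw [← hcardA]
    exact Subgroup.card_map_of_injective α.injective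
  have hidxB : ((wrA x y hxy).map α.toMonoidHom).index = 2 := by
    have h1 := ((wrA x y hxy).map α.toMonoidHom).card_mul_index
    rw [hcardB, hcard, pow_succ] at h1
    exact Nat.eq_of_mul_eq_mul_left (by positivity) h1
  have hBcomm : ∀ b ∈ (wrA x y hxy).map α.toMonoidHom, ∀ c ∈ (wrA x y hxy).map α.toMonoidHom, b * c = c * b := by
    rintro _ ⟨a, ha, rfl⟩ _ ⟨c, hc, rfl⟩
    show α a * α c = α c * α a
    rw [← map_mul, ← map_mul, wrA_comm hxy ha hc]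
  have hBA : (wrA x y hxy).map α.toMonoidHom ≤ wrA x y hxy := by
    by_contra hnot
    obtain ⟨b, hbB, hbA⟩ := SetLike.not_le_iff_exists.mp hnot
    have ha0 : b * z⁻¹ ∈ wrA x y hxy :=
      (Subgroup.mul_mem_iff_of_index_two hidxA).mpr ⟨fun h1 => absurd h1 hbA, fun h1 => absurd h1 hzinvA⟩
    have hle : wrA x y hxy ⊓ (wrA x y hxy).map α.toMonoidHom ≤ Subgroup.zpowers (x * y) := by
      rintro c ⟨hcA, hcB⟩
      apply wr_fix_mem hinf hz2 hzx hxy hcA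
      have hc1 : Commute (b * z⁻¹) c := wrA_comm hxy ha0 hcA
      have hc2 : Commute b c := hBcomm b hbB c hcB
      have hc3 : Commute ((b * z⁻¹)⁻¹ * b) c := (hc1.inv_left).mul_left hc2
      have e : (b * z⁻¹)⁻¹ * b = z := by group
      rw [e] at hc3
      rw [hc3.eq, mul_inv_cancel_right]
    have hcard1 : Nat.card ↥(wrA x y hxy ⊓ (wrA x y hxy).map α.toMonoidHom) ≤ 2 ^ n := by
      calc Nat.card ↥(wrA x y hxy ⊓ (wrA x y hxy).map α.toMonoidHom)
          ≤ Nat.card (Subgroup.zpowers (x * y)) := Subgroup.card_le_of_le hle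
        _ = orderOf (x * y) := Nat.card_zpowers _
        _ ≤ 2 ^ n := hxyord
    have hidx : (wrA x y hxy ⊓ (wrA x y hxy).map α.toMonoidHom).index ≤ 4 := by
      calc (wrA x y hxy ⊓ (wrA x y hxy).map α.toMonoidHom).index
          ≤ (wrA x y hxy).index * ((wrA x y hxy).map α.toMonoidHom).index := Subgroup.index_inf_le
        _ = 4 := by rw [hidxA, hidxB]
    have h5 := (wrA x y hxy ⊓ (wrA x y hxy).map α.toMonoidHom).card_mul_index
    rw [hcard] at h5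
    have h6 : 2 ^ (2 * n + 1) ≤ 2 ^ n * 4 := by
      rw [← h5]
      exact Nat.mul_le_mul hcard1 hidx
    have h7 : 2 ^ n * 4 = 2 ^ (n + 2) := by
      rw [pow_add]
      norm_num
    rw [h7] at h6
    have h8 := (Nat.pow_le_pow_iff_right (by norm_num : 1 < 2)).mp h6
    omega
  have hBeqA : (wrA x y hxy).map α.toMonoidHom = wrA x y hxy :=
    Subgroup.eq_of_le_of_card_ge hBA (by rw [hcardA, hcardB])
  have hαA : ∀ a ∈ wrA x y hxy, α a ∈ wrA x y hxy := fun a ha => hBA ⟨a, ha, rfl⟩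
  have hαzA : α z ∉ wrA x y hxy := by
    intro h1
    rw [← hBeqA] at h1
    obtain ⟨a, ha, hae⟩ := h1
    have h2 : a = z := α.injective hae
    exact hzA (h2 ▸ ha)
  have ha1 : α z * z⁻¹ ∈ wrA x y hxy :=
    (Subgroup.mul_mem_iff_of_index_two hidxA).mpr ⟨fun h1 => absurd h1 hαzA, fun h1 => absurd h1 hzinvA⟩
  have hzAz : ∀ a ∈ wrA x y hxy, z * a * z⁻¹ ∈ wrA x y hxy := by
    rintro _ ⟨i, j, rfl⟩
    rw [wr_conj hz2 hzx hxy]
    exact ⟨j, i, rfl⟩
  -- (2) `α` commutes with conjugation by `z` on `A`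
  have hcomm : ∀ a ∈ wrA x y hxy, z * α a * z⁻¹ = α (z * a * z⁻¹) := by
    intro a ha
    rw [map_mul, map_mul, map_inv]
    generalize hα1 : α z * z⁻¹ = a1 at ha1
    have h2 : α z = a1 * z := by
      rw [← hα1]
      group
    rw [h2]
    have h3 : a1 * z * α a * (a1 * z)⁻¹ = a1 * (z * α a * z⁻¹) * a1⁻¹ := by group
    rw [h3, wrA_comm hxy ha1 (hzAz _ (hαA a ha)), mul_inv_cancel_right]
  -- the subgroup of fixed points of `α`
  have hNmem : ∀ g, g ∈ α.toMonoidHom.eqLocus (MonoidHom.id S) ↔ α g = g := fun g => Iff.rfl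
  generalize α.toMonoidHom.eqLocus (MonoidHom.id S) = N at hNmem
  have hxyA : x * y ∈ wrA x y hxy := (wrA x y hxy).mul_mem (x_mem_wrA hxy) (y_mem_wrA hxy)
  have hxyN : x * y ∈ N := by
    rw [hNmem]
    have h1 : z * (x * y) * z⁻¹ = x * y := by
      have h0 := wr_conj hz2 hzx hxy 1 1
      simpa using h0
    have h2 : z * α (x * y) * z⁻¹ = α (x * y) := by rw [hcomm _ hxyA, h1]
    have h3 := wr_fix_mem hinf hz2 hzx hxy (hαA _ hxyA) h2
    rw [← mem_powers_iff_mem_zpowers] at h3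
    obtain ⟨r, hr⟩ := h3
    obtain ⟨m, hm⟩ := IsPGroup.iff_orderOf.mp hS2 (x * y)
    exact aut_fix_of_pow α k hk hα (x * y) m r hm hr.symm
  have hxy'A : x * y⁻¹ ∈ wrA x y hxy :=
    (wrA x y hxy).mul_mem (x_mem_wrA hxy) ((wrA x y hxy).inv_mem (y_mem_wrA hxy))
  have hxy'N : x * y⁻¹ ∈ N := by
    rw [hNmem]
    have h1 : z * (x * y⁻¹) * z⁻¹ = (x * y⁻¹)⁻¹ := by
      have h0 := wr_conj hz2 hzx hxy 1 (-1)
      simp only [zpow_one, zpow_neg] at h0
      rw [h0, mul_inv_rev, inv_inv]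
      exact (hxy.inv_left).eq
    have h2 : z * α (x * y⁻¹) * z⁻¹ = (α (x * y⁻¹))⁻¹ := by rw [hcomm _ hxy'A, h1, map_inv]
    have h3 := wr_inv_mem hinf hz2 hzx hxy (hαA _ hxy'A) h2
    rw [← mem_powers_iff_mem_zpowers] at h3
    obtain ⟨r, hr⟩ := h3
    obtain ⟨m, hm⟩ := IsPGroup.iff_orderOf.mp hS2 (x * y⁻¹)
    exact aut_fix_of_pow α k hk hα (x * y⁻¹) m r hm hr.symm
  have hxxN : x * x ∈ N := by
    have e : x * x = (x * y⁻¹) * (y * x) := by group
    rw [e, ← hxy.eq]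
    exact N.mul_mem hxy'N hxyN
  have hyyN : y * y ∈ N := by
    have e : y * y = (x * y⁻¹)⁻¹ * (x * y) := by group
    rw [e]
    exact N.mul_mem (N.inv_mem hxy'N) hxyN
  -- (3) `α x = x`
  have hxN : x ∈ N := by
    rw [hNmem]
    have heA : α x * x⁻¹ ∈ wrA x y hxy :=
      (wrA x y hxy).mul_mem (hαA x (x_mem_wrA hxy)) ((wrA x y hxy).inv_mem (x_mem_wrA hxy))
    have he2 : (α x * x⁻¹) * (α x * x⁻¹) = 1 := by
      have h1 : x⁻¹ * α x = α x * x⁻¹ :=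
        wrA_comm hxy ((wrA x y hxy).inv_mem (x_mem_wrA hxy)) (hαA x (x_mem_wrA hxy))
      have h2 : α (x * x) = x * x := (hNmem _).mp hxxN
      calc (α x * x⁻¹) * (α x * x⁻¹) = α x * (x⁻¹ * α x) * x⁻¹ := by group
        _ = α x * (α x * x⁻¹) * x⁻¹ := by rw [h1]
        _ = α (x * x) * (x * x)⁻¹ := by rw [map_mul]; group
        _ = 1 := by rw [h2, mul_inv_cancel]
    have heN := wr_sq_mem hinf hxy hn hx hy N hxxN hyyN heA he2
    exact stab_fix hS2 α hk hα N (fun g hg => (hNmem g).mp hg) heN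
  have hyN : y ∈ N := by
    have e : y = x⁻¹ * (x * y) := by group
    rw [e]
    exact N.mul_mem (N.inv_mem hxN) hxyN
  have hAN : wrA x y hxy ≤ N := by
    rintro _ ⟨i, j, rfl⟩
    exact N.mul_mem (N.zpow_mem hxN i) (N.zpow_mem hyN j)
  have hzN : z ∈ N := by
    rw [hNmem]
    exact stab_fix hS2 α hk hα N (fun g hg => (hNmem g).mp hg) (hAN ha1)
  ext g
  show α g = g
  rw [← hNmem]
  by_cases hg : g ∈ wrA x y hxy
  · exact hAN hg
  · have h1 : g * z⁻¹ ∈ wrA x y hxy :=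
      (Subgroup.mul_mem_iff_of_index_two hidxA).mpr ⟨fun h1 => absurd h1 hg, fun h1 => absurd h1 hzinvA⟩
    have e : g = (g * z⁻¹) * z := by group
    rw [e]
    exact N.mul_mem (hAN h1) hzN

end Cfsg.Agent.Helper80.SU3F
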