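import Mathlib
import Cfsg.Agent.Helper53.Spec4M3

/-!
# (GM30) and (DV) for helper43's S2511: helper53's (M3) without `det = 1`, and the degree of an
irreducible minimal polynomial divides `n`.
-/

set_option autoImplicit false
set_option linter.unusedSectionVars false
set_option linter.style.haveILetI false

namespace Cfsg.Agent.Helper80.Spec5

open Matrix Polynomial Cfsg.Agent.Helper53.Spec4

variable {F : Type*} [Field F] [Fintype F]

/-- (GM30) helper53's (M3) without `det = 1`. -/
theorem pow_eq_det_smul_of_irreducible {k : ℕ} (t : Matrix (Fin k) (Fin k) F)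
    (hirr : Irreducible (minpoly F t)) :
    t ^ ((Fintype.card F ^ k - 1) / (Fintype.card F - 1)) = t.det • (1 : Matrix (Fin k) (Fin k) F) := by
  rcases Nat.eq_zero_or_pos k with hn0 | hn
  · subst hn0
    exact Subsingleton.elim _ _
  haveI : Fact (Irreducible (minpoly F t)) := ⟨hirr⟩
  have hq2 : 2 ≤ Fintype.card F := Fintype.one_lt_card
  have hint : IsIntegral F t := Algebra.IsIntegral.isIntegral t
  haveI : Module.Finite F (AdjoinRoot (minpoly F t)) := (minpoly.monic hint).finite_adjoinRoot
  haveI : Finite (AdjoinRoot (minpoly F t)) := Module.finite_of_finite F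
  let ψ : AdjoinRoot (minpoly F t) →ₐ[F] Module.End F (Fin k → F) :=
    (Matrix.toLinAlgEquiv' : Matrix (Fin k) (Fin k) F ≃ₐ[F] Module.End F (Fin k → F)).toAlgHom.comp
      (phiM t)
  letI : Module (AdjoinRoot (minpoly F t)) (Fin k → F) := Module.compHom (Fin k → F) ψ.toRingHom
  have hsmul : ∀ (e : AdjoinRoot (minpoly F t)) (v : Fin k → F), e • v = (phiM t e) *ᵥ v := by
    intro e v
    rfl
  haveI : IsScalarTower F (AdjoinRoot (minpoly F t)) (Fin k → F) := by
    refine IsScalarTower.of_algebraMap_smul ?_
    intro c v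
    rw [hsmul, AlgHom.commutes, Algebra.algebraMap_eq_smul_one, Matrix.smul_mulVec,
      Matrix.one_mulVec]
  have hlin : ((AdjoinRoot.root (minpoly F t) •
      (LinearMap.id : (Fin k → F) →ₗ[AdjoinRoot (minpoly F t)] (Fin k → F))).restrictScalars F) =
      Matrix.toLin' t := by
    apply LinearMap.ext
    intro v
    rw [LinearMap.restrictScalars_apply, LinearMap.smul_apply, LinearMap.id_apply, hsmul,
      phiM_root, Matrix.toLin'_apply]
  have hdet2 : t.det = Algebra.norm F (AdjoinRoot.root (minpoly F t) ^
      Module.finrank (AdjoinRoot (minpoly F t)) (Fin k → F)) := by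
    rw [← LinearMap.det_toLin', ← hlin, LinearMap.det_restrictScalars, LinearMap.det_smul,
      LinearMap.det_id, mul_one]
  have hdk : Module.finrank F (AdjoinRoot (minpoly F t)) *
      Module.finrank (AdjoinRoot (minpoly F t)) (Fin k → F) = k := by
    have h := Module.finrank_mul_finrank F (AdjoinRoot (minpoly F t)) (Fin k → F)
    rwa [Module.finrank_fin_fun] at h
  have hd1 : 1 ≤ Module.finrank F (AdjoinRoot (minpoly F t)) := by
    rcases Nat.eq_zero_or_pos (Module.finrank F (AdjoinRoot (minpoly F t))) with h0 | h0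
    · rw [h0, zero_mul] at hdk
      omega
    · exact h0
  have hνk : (Algebra.norm F (AdjoinRoot.root (minpoly F t))) ^
      Module.finrank (AdjoinRoot (minpoly F t)) (Fin k → F) = t.det := by
    rw [← map_pow, ← hdet2]
  have hcardE : Nat.card (AdjoinRoot (minpoly F t)) =
      Fintype.card F ^ Module.finrank F (AdjoinRoot (minpoly F t)) := by
    rw [Module.natCard_eq_pow_finrank (K := F) (V := AdjoinRoot (minpoly F t)),
      Nat.card_eq_fintype_card]
  have hnorm : algebraMap F (AdjoinRoot (minpoly F t))
      (Algebra.norm F (AdjoinRoot.root (minpoly F t))) =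
      AdjoinRoot.root (minpoly F t) ^
        ((Fintype.card F ^ Module.finrank F (AdjoinRoot (minpoly F t)) - 1) /
          (Fintype.card F - 1)) := by
    have h := FiniteField.algebraMap_norm_eq_pow (K := F) (K' := AdjoinRoot (minpoly F t))
      (x := AdjoinRoot.root (minpoly F t))
    rwa [hcardE, Nat.card_eq_fintype_card] at h
  have hνsum : (Algebra.norm F (AdjoinRoot.root (minpoly F t))) ^
      (∑ i ∈ Finset.range (Module.finrank (AdjoinRoot (minpoly F t)) (Fin k → F)),
        (Fintype.card F ^ Module.finrank F (AdjoinRoot (minpoly F t))) ^ i) = t.det := by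
    rw [← Finset.prod_pow_eq_pow_sum]
    have h : ∀ i ∈ Finset.range (Module.finrank (AdjoinRoot (minpoly F t)) (Fin k → F)),
        (Algebra.norm F (AdjoinRoot.root (minpoly F t))) ^
          ((Fintype.card F ^ Module.finrank F (AdjoinRoot (minpoly F t))) ^ i) =
        Algebra.norm F (AdjoinRoot.root (minpoly F t)) := by
      intro i _
      rw [← pow_mul, FiniteField.pow_card_pow]
    rw [Finset.prod_congr rfl h, Finset.prod_const, Finset.card_range, hνk]
  have hrN : AdjoinRoot.root (minpoly F t) ^
      ((Fintype.card F ^ k - 1) / (Fintype.card F - 1)) =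
      algebraMap F (AdjoinRoot (minpoly F t)) t.det := by
    have hexp := geom_div_split (Fintype.card F) (Module.finrank F (AdjoinRoot (minpoly F t)))
      (Module.finrank (AdjoinRoot (minpoly F t)) (Fin k → F)) hq2 hd1
    rw [hdk] at hexp
    rw [hexp, pow_mul, ← hnorm, ← map_pow, hνsum]
  rw [← phiM_root_pow, hrN, AlgHom.commutes, Algebra.algebraMap_eq_smul_one]

/-- (DV) the degree of an irreducible minimal polynomial divides `n`. -/
theorem natDegree_minpoly_dvd {n : ℕ} (s : Matrix (Fin n) (Fin n) F)
    (hirr : Irreducible (minpoly F s)) : (minpoly F s).natDegree ∣ n := by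
  haveI : Fact (Irreducible (minpoly F s)) := ⟨hirr⟩
  have hint : IsIntegral F s := Algebra.IsIntegral.isIntegral s
  haveI : Module.Finite F (AdjoinRoot (minpoly F s)) := (minpoly.monic hint).finite_adjoinRoot
  let ψ : AdjoinRoot (minpoly F s) →ₐ[F] Module.End F (Fin n → F) :=
    (Matrix.toLinAlgEquiv' : Matrix (Fin n) (Fin n) F ≃ₐ[F] Module.End F (Fin n → F)).toAlgHom.comp
      (phiM s)
  letI : Module (AdjoinRoot (minpoly F s)) (Fin n → F) := Module.compHom (Fin n → F) ψ.toRingHom
  have hsmul : ∀ (e : AdjoinRoot (minpoly F s)) (v : Fin n → F), e • v = (phiM s e) *ᵥ v := by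
    intro e v
    rfl
  haveI : IsScalarTower F (AdjoinRoot (minpoly F s)) (Fin n → F) := by
    refine IsScalarTower.of_algebraMap_smul ?_
    intro c v
    rw [hsmul, AlgHom.commutes, Algebra.algebraMap_eq_smul_one, Matrix.smul_mulVec,
      Matrix.one_mulVec]
  have hdk : Module.finrank F (AdjoinRoot (minpoly F s)) *
      Module.finrank (AdjoinRoot (minpoly F s)) (Fin n → F) = n := by
    have h := Module.finrank_mul_finrank F (AdjoinRoot (minpoly F s)) (Fin n → F)
    rwa [Module.finrank_fin_fun] at h
  have hfr : Module.finrank F (AdjoinRoot (minpoly F s)) = (minpoly F s).natDegree := by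
    rw [(AdjoinRoot.powerBasis hirr.ne_zero).finrank, AdjoinRoot.powerBasis_dim]
  rw [← hfr]
  exact ⟨_, hdk.symm⟩

end Cfsg.Agent.Helper80.Spec5
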