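import Mathlib

/-!
# (M2a) for helper43's S2511: a primitive idempotent of `F[s]`
-/

set_option autoImplicit false
set_option linter.unusedSectionVars false

namespace Cfsg.Agent.Helper80.Spec5

open Matrix Polynomial

variable {F : Type*} [Field F] [Fintype F]

/-- (M2a) a primitive idempotent of `F[s]` (pure linear algebra, no unitary structure). -/
theorem exists_primitive_idem {n : ℕ} (hn : 1 ≤ n) (s : Matrix (Fin n) (Fin n) F) (m : ℕ)
    (hm : (m : F) ≠ 0) (hsm : s ^ m = 1) :
    ∃ (g P : F[X]), Irreducible g ∧ g.Monic ∧ g.coeff 0 ≠ 0 ∧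
      aeval s P * aeval s P = aeval s P ∧ aeval s P ≠ 0 ∧ aeval s g * aeval s P = 0 ∧
      (aeval s P = 1 → Irreducible (minpoly F s)) := by
  classical
  have hne : NeZero n := ⟨by omega⟩
  have hm0 : m ≠ 0 := by
    rintro rfl
    exact hm (by simp)
  have hdvd : minpoly F s ∣ (X ^ m - C (1 : F)) := by
    apply minpoly.dvd
    simp [hsm]
  have hsep : (minpoly F s).Separable :=
    (separable_X_pow_sub_C (1 : F) hm one_ne_zero).of_dvd hdvd
  have hμ0 : minpoly F s ≠ 0 := minpoly.ne_zero (Matrix.isIntegral s)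
  obtain ⟨g0, hg0i, hg0d⟩ := WfDvdMonoid.exists_irreducible_factor (minpoly.not_isUnit F s) hμ0
  have hg0ne : g0 ≠ 0 := hg0i.ne_zero
  have hlc : g0.leadingCoeff ≠ 0 := leadingCoeff_ne_zero.2 hg0ne
  set g : F[X] := g0 * C g0.leadingCoeff⁻¹ with hg
  have hgm : g.Monic := monic_mul_leadingCoeff_inv hg0ne
  have hassoc : Associated g0 g :=
    ⟨⟨C g0.leadingCoeff⁻¹, C g0.leadingCoeff, by rw [← C_mul, inv_mul_cancel₀ hlc, C_1],
      by rw [← C_mul, mul_inv_cancel₀ hlc, C_1]⟩, rfl⟩
  have hgi : Irreducible g := hassoc.irreducible hg0i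
  have hgd : g ∣ minpoly F s := hassoc.symm.dvd.trans hg0d
  obtain ⟨μ', hμ'⟩ := id hgd
  have hcop : IsCoprime g μ' := by
    rw [hμ'] at hsep
    exact hsep.isCoprime
  obtain ⟨a, b, hab⟩ := hcop
  have hμs : aeval s (g * μ') = 0 := by
    rw [← hμ']
    exact minpoly.aeval F s
  refine ⟨g, b * μ', hgi, hgm, ?_, ?_, ?_, ?_, ?_⟩
  · -- constant coefficient
    intro h0
    have hX : (X : F[X]) ∣ g := X_dvd_iff.2 h0
    have h1 : (X : F[X]) ∣ X ^ m - C (1 : F) := hX.trans hgd |>.trans hdvd
    have h2 : (X : F[X]) ∣ C (1 : F) := by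
      have h3 : (X : F[X]) ∣ X ^ m := dvd_pow_self X hm0
      have := dvd_sub h3 h1
      simpa using this
    rw [X_dvd_iff, coeff_C_zero] at h2
    exact one_ne_zero h2
  · -- idempotent
    have hsum : aeval s (a * g) + aeval s (b * μ') = 1 := by
      rw [← map_add, hab, map_one]
    have hmul0 : aeval s (b * μ') * aeval s (a * g) = 0 := by
      rw [← map_mul]
      have : b * μ' * (a * g) = (a * b) * (g * μ') := by ring
      rw [this, map_mul, hμs, mul_zero]
    have h1 : aeval s (b * μ') * (aeval s (a * g) + aeval s (b * μ')) = aeval s (b * μ') := by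
      rw [hsum, mul_one]
    rw [mul_add, hmul0, zero_add] at h1
    exact h1
  · -- nonzero
    intro h0
    have h1 : minpoly F s ∣ b * μ' := minpoly.dvd F s h0
    have h2 : g ∣ b * μ' := hgd.trans h1
    have h3 : g ∣ a * g + b * μ' := dvd_add (dvd_mul_left g a) h2
    rw [hab] at h3
    exact hgi.not_isUnit (isUnit_of_dvd_one h3)
  · -- annihilated by g
    rw [← map_mul]
    have : g * (b * μ') = b * (g * μ') := by ring
    rw [this, map_mul, hμs, mul_zero]
  · -- e = 1 gives irreducibility
    intro h1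
    have h0 : aeval s g * aeval s (b * μ') = 0 := by
      rw [← map_mul]
      have : g * (b * μ') = b * (g * μ') := by ring
      rw [this, map_mul, hμs, mul_zero]
    rw [h1, mul_one] at h0
    have h2 : minpoly F s ∣ g := minpoly.dvd F s h0
    have h3 : Associated g (minpoly F s) :=
      associated_of_dvd_dvd hgd h2
    exact h3.irreducible hgi

end Cfsg.Agent.Helper80.Spec5
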