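import Mathlib
import Cfsg.Agent.S2587
import Cfsg.Agent.Helper43.GUPrimeB

/-!
# (M2b) for helper43's S2511: the unitary dichotomy, given the primitive idempotent of (M2a)
-/

set_option autoImplicit false
set_option linter.unusedSectionVars false
set_option linter.unusedVariables false

namespace Cfsg.Agent.Helper80.Spec5

open Matrix Polynomial Cfsg.Agent.S2587

variable {F : Type*} [Field F] [Fintype F]

/-- evaluation of a reflected polynomial at an invertible matrix -/
theorem aeval_reflect_of_inv {n : ℕ} (s s' : Matrix (Fin n) (Fin n) F) (hss' : s * s' = 1)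
    (N : ℕ) (p : F[X]) (hp : p.natDegree ≤ N) :
    aeval s (reflect N p) = s ^ N * aeval s' p := by
  have hcomm : Commute s s' := by
    have h2 : s' * s = 1 := mul_eq_one_comm.mp hss'
    exact hss'.trans h2.symm
  refine Polynomial.induction_with_natDegree_le
    (motive := fun p => aeval s (reflect N p) = s ^ N * aeval s' p) N ?_ ?_ ?_ p hp
  · simp
  · intro k r hr hk
    rw [reflect_C_mul_X_pow, revAt_le hk]
    simp only [map_mul, map_pow, aeval_X, aeval_C]
    have h1 : s ^ N = s ^ (N - k) * s ^ k := by rw [← pow_add, Nat.sub_add_cancel hk]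
    have h2 : s ^ k * s' ^ k = 1 := by rw [← hcomm.mul_pow, hss', one_pow]
    have hA : ∀ M : Matrix (Fin n) (Fin n) F,
        M * algebraMap F (Matrix (Fin n) (Fin n) F) r = algebraMap F (Matrix (Fin n) (Fin n) F) r * M :=
      fun M => (Algebra.commute_algebraMap_right r M).eq
    rw [← mul_assoc, hA, mul_assoc, h1, mul_assoc, h2, mul_one]
  · intro f g _ _ hf hg
    rw [reflect_add, map_add, map_add, mul_add, hf, hg]

/-- (M2b) the unitary dichotomy, given the primitive idempotent `aeval s P` of (M2a). -/
theorem structure_of_indec_aux {n q : ℕ} (hF : Fintype.card F = q ^ 2) (bar : F →+* F)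
    (hbar : ∀ x, bar x = x ^ q) (hn : 1 ≤ n) (x s : Matrix (Fin n) (Fin n) F)
    (hx : st bar x * x = 1) (j m : ℕ) (hs : s = x ^ j) (hm0 : 0 < m) (hsm : s ^ m = 1)
    (hind : ∀ e : Matrix (Fin n) (Fin n) F, e * e = e → st bar e = e → e * x = x * e →
      e = 0 ∨ e = 1)
    (g P : F[X]) (hgi : Irreducible g) (hgm : g.Monic) (hg0 : g.coeff 0 ≠ 0)
    (hPP : aeval s P * aeval s P = aeval s P) (hP0 : aeval s P ≠ 0)
    (hgP : aeval s g * aeval s P = 0) (hP1 : aeval s P = 1 → Irreducible (minpoly F s)) :
    Irreducible (minpoly F s) ∨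
      ∃ (e : Matrix (Fin n) (Fin n) F) (g h : F[X]), e * e = e ∧ st bar e = 1 - e ∧ e * s = s * e ∧
        Irreducible g ∧ Irreducible h ∧ aeval s g * e = 0 ∧ aeval s h * (1 - e) = 0 := by
  classical
  have hbar2 : ∀ y, bar (bar y) = y := by
    intro y
    rw [hbar, hbar, ← pow_mul, ← sq, ← hF, FiniteField.pow_card]
  -- `x` commutes with every polynomial in `s`
  have hxs : Commute x s := by
    rw [hs]
    exact (Commute.refl x).pow_right j
  have hcomm : ∀ p : F[X], Commute x (aeval s p) := by
    intro p
    induction p using Polynomial.induction_on' with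
    | add p q hp hq =>
      rw [map_add]
      exact hp.add_right hq
    | monomial k a =>
      rw [aeval_monomial]
      exact (Algebra.commute_algebraMap_right a x).mul_right (hxs.pow_right k)
  have hpp : ∀ p p' : F[X], aeval s p * aeval s p' = aeval s p' * aeval s p := by
    intro p p'
    rw [← map_mul, ← map_mul, mul_comm]
  -- `s` is unitary
  have hx' : x * st bar x = 1 := mul_eq_one_comm.mp hx
  have hxc : Commute (st bar x) x := hx.trans hx'.symm
  have hsu : st bar s * s = 1 := by
    rw [hs, st_pow, ← hxc.mul_pow, hx, one_pow]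
  have hsu' : s * st bar s = 1 := mul_eq_one_comm.mp hsu
  have hsm1 : s * s ^ (m - 1) = 1 := by
    rw [← pow_succ', Nat.sub_add_cancel hm0, hsm]
  have hsinv : st bar s = s ^ (m - 1) := by
    calc st bar s = st bar s * (s * s ^ (m - 1)) := by rw [hsm1, mul_one]
      _ = (st bar s * s) * s ^ (m - 1) := by rw [mul_assoc]
      _ = s ^ (m - 1) := by rw [hsu, one_mul]
  -- the adjoint of a polynomial in `s` is a polynomial in `s`
  have hstp : ∀ p : F[X], st bar (aeval s p) = aeval s ((p.map bar).comp (X ^ (m - 1))) := by
    intro p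
    rw [st_aeval, hsinv, aeval_comp]
    simp
  set e := aeval s P with he
  set P' : F[X] := (P.map bar).comp (X ^ (m - 1)) with hP'
  have he' : st bar e = aeval s P' := hstp P
  have hste' : st bar (aeval s P') = e := by rw [← he', st_st bar hbar2]
  have hee' : e * aeval s P' = aeval s P' * e := hpp P P'
  have he'e' : aeval s P' * aeval s P' = aeval s P' := by
    rw [← he', ← st_mul, hPP]
  -- `f₁ = e e'`
  have hf1idem : (e * aeval s P') * (e * aeval s P') = e * aeval s P' := by
    calc (e * aeval s P') * (e * aeval s P') = e * (aeval s P' * e) * aeval s P' := by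
          simp only [mul_assoc]
      _ = e * (e * aeval s P') * aeval s P' := by rw [hee']
      _ = (e * e) * (aeval s P' * aeval s P') := by simp only [mul_assoc]
      _ = e * aeval s P' := by rw [hPP, he'e']
  have hf1sa : st bar (e * aeval s P') = e * aeval s P' := by
    rw [st_mul, hste', he']
  have hf1x : (e * aeval s P') * x = x * (e * aeval s P') := by
    rw [he, ← map_mul]
    exact ((hcomm _).eq).symm
  rcases hind _ hf1idem hf1sa hf1x with h0 | h1
  · -- `e e' = 0`
    have hf2idem : (e + aeval s P') * (e + aeval s P') = e + aeval s P' := by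
      rw [mul_add, add_mul, add_mul, hPP, he'e', ← hee', h0, add_zero, zero_add]
    have hf2sa : st bar (e + aeval s P') = e + aeval s P' := by
      rw [st_add, hste', he', add_comm]
    have hf2x : (e + aeval s P') * x = x * (e + aeval s P') := by
      rw [he, ← map_add]
      exact ((hcomm _).eq).symm
    rcases hind _ hf2idem hf2sa hf2x with h20 | h21
    · exfalso
      apply hP0
      have : e * (e + aeval s P') = e := by rw [mul_add, hPP, h0, add_zero]
      rw [h20, mul_zero] at this
      exact this.symm
    · right
      have he'1 : aeval s P' = 1 - e := by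
        rw [← h21]
        abel
      refine ⟨e, g, Cfsg.Agent.Helper43.GUPrime.utilde bar g, hPP, ?_, ?_, hgi,
        Cfsg.Agent.Helper43.GUPrime.utilde_irreducible bar hbar2 g hgm hgi hg0, hgP, ?_⟩
      · rw [he', he'1]
      · have := hpp P X
        simpa using this
      · -- `h(s) e' = 0`
        rw [← he'1]
        have h1 : st bar (e * aeval s g) = 0 := by
          rw [he, hpp P g, hgP]
          ext a b
          simp [st_apply]
        rw [st_mul, he', st_aeval] at h1
        unfold Cfsg.Agent.Helper43.GUPrime.utilde Cfsg.Agent.Helper43.SpPrime.star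
        rw [map_mul, aeval_C]
        have h2 : aeval s (g.map bar).reverse
            = s ^ (g.map bar).natDegree * aeval (st bar s) (g.map bar) := by
          unfold Polynomial.reverse
          exact aeval_reflect_of_inv s (st bar s) hsu' _ _ le_rfl
        rw [h2, mul_assoc, mul_assoc, h1, mul_zero, mul_zero]
  · -- `e e' = 1`, so `e = 1`
    left
    apply hP1
    calc e = e * (e * aeval s P') := by rw [h1, mul_one]
      _ = (e * e) * aeval s P' := by rw [mul_assoc]
      _ = 1 := by rw [hPP, h1]

end Cfsg.Agent.Helper80.Spec5
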