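import Mathlib
import Cfsg.Agent.Helper43.Spec5.Defs
import Cfsg.Agent.Helper48.Spec4M6

/-!
# (M6) for helper43's S2511: `p`-elements of `PSU_n` have order `p^j` with `p^(j-1) < n`
-/

set_option autoImplicit false
set_option linter.unusedSectionVars false
set_option linter.unusedVariables false

namespace Cfsg.Agent.Helper80.Spec5

open Matrix Polynomial Cfsg.Agent.S2587 Cfsg.Agent.Helper86.Spec4 Cfsg.Agent.Helper43.Spec5

variable {F : Type*} [Field F] [Fintype F]

/-- (M6) `p`-elements of `PSU_n` have order `p^j` with `p^(j-1) < n`. -/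
theorem p_order_bound {p n q j : ℕ} [Fact p.Prime] [CharP F p] (hF : Fintype.card F = q ^ 2)
    (hj : 1 ≤ j) (w : Cfsg.PSU n F q) (hw : orderOf w = p ^ j) : p ^ (j - 1) < n := by
  classical
  have hp : p.Prime := Fact.out
  by_contra hlt
  push Not at hlt
  rcases Nat.eq_zero_or_pos n with rfl | hn
  · have hsub : Subsingleton (SpecialLinearGroup (Fin 0) F) :=
      ⟨fun a b => Subtype.ext (Subsingleton.elim _ _)⟩
    have hsub1 : Subsingleton (Cfsg.SU 0 F q) := ⟨fun a b => Subtype.ext (Subsingleton.elim _ _)⟩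
    have hsub2 : Subsingleton (Cfsg.PSU 0 F q) :=
      (QuotientGroup.mk_surjective (s := Subgroup.center (Cfsg.SU 0 F q))).subsingleton
    rw [Subsingleton.elim w 1, orderOf_one] at hw
    have h2 : 1 < p ^ j := Nat.one_lt_pow (by omega) hp.one_lt
    omega
  have hne : NeZero n := ⟨by omega⟩
  obtain ⟨x, rfl⟩ := QuotientGroup.mk_surjective w
  have ho0 : orderOf x ≠ 0 := (orderOf_pos x).ne'
  obtain ⟨i, m', hm', ho⟩ := Nat.exists_eq_pow_mul_and_not_dvd ho0 p hp.ne_one
  -- the `p`-part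
  have hu : (x ^ m') ^ (p ^ i) = 1 := by
    rw [← pow_mul, mul_comm, ← ho, pow_orderOf_eq_one]
  have hU : ((x ^ m' : Cfsg.SU n F q).1.1 : Matrix (Fin n) (Fin n) F) ^ (p ^ i) = 1 := by
    have := congrArg (fun y : Cfsg.SU n F q => (y.1.1 : Matrix (Fin n) (Fin n) F)) hu
    simpa using this
  have hN : IsNilpotent
      (((x ^ m' : Cfsg.SU n F q).1.1 : Matrix (Fin n) (Fin n) F) - 1) := by
    refine ⟨p ^ i, ?_⟩
    rw [sub_pow_char_pow_of_commute p i (Commute.one_right _), hU, one_pow, sub_self]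
  have hNn := Cfsg.Agent.Helper48.Spec4.pow_eq_zero_of_isNilpotent _ hN
  have hNj := pow_eq_zero_of_le hlt hNn
  rw [sub_pow_char_pow_of_commute p (j - 1) (Commute.one_right _), one_pow, sub_eq_zero] at hNj
  have hx1 : (x ^ m') ^ (p ^ (j - 1)) = 1 := by
    apply Subtype.ext
    apply Subtype.ext
    simpa using hNj
  have hw1 : (QuotientGroup.mk x : Cfsg.PSU n F q) ^ (m' * p ^ (j - 1)) = 1 := by
    rw [← QuotientGroup.mk_pow, pow_mul, hx1]
    rfl
  have hdvd : p ^ j ∣ m' * p ^ (j - 1) := by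
    rw [← hw]
    exact orderOf_dvd_of_pow_eq_one hw1
  have hcop : Nat.Coprime (p ^ j) m' := Nat.Coprime.pow_left j ((Nat.Prime.coprime_iff_not_dvd hp).mpr hm')
  have hdvd2 : p ^ j ∣ p ^ (j - 1) := hcop.dvd_of_dvd_mul_left hdvd
  have := (Nat.pow_dvd_pow_iff_le_right hp.one_lt).mp hdvd2
  omega

end Cfsg.Agent.Helper80.Spec5
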