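import Mathlib
import Cfsg.Agent.Helper43.Spec5.Defs
import Cfsg.Agent.Helper43.RegUnip
import Cfsg.Agent.Helper5.UnitaryCenter
import Cfsg.Agent.Helper73.GURegUnip

/-!
# (M7) for helper43's S2511: a unipotent element of `SU_n` of order `p^j` in `PSU_n` commuting with a
nontrivial self-adjoint idempotent, whenever `p^(j-1) < n - 1`
-/

set_option autoImplicit false
set_option linter.unusedSectionVars false
set_option linter.unusedVariables false

namespace Cfsg.Agent.Helper80.Spec5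

open Matrix Polynomial Cfsg.Agent.S2587 Cfsg.Agent.Helper86.Spec4 Cfsg.Agent.Helper43.Spec5

section Block
variable {F : Type*} [Field F] {m k : ℕ}

/-- the block diagonal embedding `Mat_m × Mat_k → Mat_(m+k)` -/
noncomputable def bd (X : Matrix (Fin m) (Fin m) F) (Y : Matrix (Fin k) (Fin k) F) :
    Matrix (Fin (m + k)) (Fin (m + k)) F :=
  Matrix.reindexAlgEquiv F F finSumFinEquiv (Matrix.fromBlocks X 0 0 Y)

theorem bd_mul (X X' : Matrix (Fin m) (Fin m) F) (Y Y' : Matrix (Fin k) (Fin k) F) :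
    bd X Y * bd X' Y' = bd (X * X') (Y * Y') := by
  unfold bd
  rw [← map_mul, Matrix.fromBlocks_multiply]
  simp

theorem bd_one : bd (1 : Matrix (Fin m) (Fin m) F) (1 : Matrix (Fin k) (Fin k) F) = 1 := by
  unfold bd
  rw [Matrix.fromBlocks_one, map_one]

theorem bd_pow (X : Matrix (Fin m) (Fin m) F) (Y : Matrix (Fin k) (Fin k) F) (t : ℕ) :
    bd X Y ^ t = bd (X ^ t) (Y ^ t) := by
  induction t with
  | zero => simp [bd_one]
  | succ t ih => rw [pow_succ, ih, bd_mul, pow_succ, pow_succ]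

theorem bd_det (X : Matrix (Fin m) (Fin m) F) (Y : Matrix (Fin k) (Fin k) F) :
    (bd X Y).det = X.det * Y.det := by
  unfold bd
  rw [Matrix.det_reindexAlgEquiv, Matrix.det_fromBlocks_zero₂₁]

theorem bd_apply_inl (X : Matrix (Fin m) (Fin m) F) (Y : Matrix (Fin k) (Fin k) F) (i j : Fin m) :
    bd X Y (finSumFinEquiv (Sum.inl i)) (finSumFinEquiv (Sum.inl j)) = X i j := by
  unfold bd
  simp [Matrix.coe_reindexAlgEquiv]

theorem bd_apply_inr (X : Matrix (Fin m) (Fin m) F) (Y : Matrix (Fin k) (Fin k) F) (i j : Fin k) :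
    bd X Y (finSumFinEquiv (Sum.inr i)) (finSumFinEquiv (Sum.inr j)) = Y i j := by
  unfold bd
  simp [Matrix.coe_reindexAlgEquiv]

theorem bd_st (bar : F →+* F) (X : Matrix (Fin m) (Fin m) F) (Y : Matrix (Fin k) (Fin k) F) :
    st bar (bd X Y) = bd (st bar X) (st bar Y) := by
  ext a b
  obtain ⟨a', rfl⟩ := (finSumFinEquiv (m := m) (n := k)).surjective a
  obtain ⟨b', rfl⟩ := (finSumFinEquiv (m := m) (n := k)).surjective b
  rw [st_apply]
  unfold bd
  rcases a' with a' | a' <;> rcases b' with b' | b' <;>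
    simp [Matrix.coe_reindexAlgEquiv, st_apply]

end Block

variable {F : Type*} [Field F] [Fintype F]

/-- (M7) a unipotent element of order `p^j` commuting with a nontrivial self-adjoint idempotent,
whenever `p^(j-1) < n - 1`. -/
theorem exists_unipotent {p n q j : ℕ} [Fact p.Prime] [CharP F p] (hF : Fintype.card F = q ^ 2)
    (bar : F →+* F) (hbar : ∀ x, bar x = x ^ q) (hj : 1 ≤ j) (hjn : p ^ (j - 1) < n - 1) :
    ∃ (u : Cfsg.SU n F q) (e : Matrix (Fin n) (Fin n) F),
      e * e = e ∧ st bar e = e ∧ e ≠ 0 ∧ e ≠ 1 ∧ e * u.1.1 = u.1.1 * e ∧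
      orderOf (QuotientGroup.mk u : Cfsg.PSU n F q) = p ^ j := by
  classical
  have hp : p.Prime := Fact.out
  set m := p ^ (j - 1) + 1 with hm
  obtain ⟨k, rfl⟩ : ∃ k, n = m + k := ⟨n - m, by omega⟩
  have hk1 : 1 ≤ k := by omega
  have hm1 : 1 ≤ m := by omega
  have hmp : m ≤ p ^ j := by
    have h1 : p ^ j = p ^ (j - 1) * p := by
      rw [← pow_succ, Nat.sub_add_cancel hj]
    have h2 : 1 ≤ p ^ (j - 1) := Nat.one_le_pow _ _ hp.pos
    have h3 : p ^ (j - 1) * 2 ≤ p ^ (j - 1) * p := Nat.mul_le_mul_left _ hp.two_le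
    omega
  -- the regular unipotent block
  obtain ⟨B, hBG, hBreg⟩ := Cfsg.Agent.Helper73.GURegUnip.exists_regUnip_GU (K := F) (q := q)
    (n := m) hF hm1
  set Bm : Matrix (Fin m) (Fin m) F := (B : Matrix (Fin m) (Fin m) F) with hBm
  have hBu : st bar Bm * Bm = 1 := by
    have h := (Cfsg.Agent.Helper45.GU.mem_GU_iff m bar hbar B).1 hBG
    have key : st bar Bm * Bm = (Bmᵀ * Bm.map bar)ᵀ := by
      unfold st
      rw [Matrix.transpose_mul, Matrix.transpose_transpose]
    rw [key, Cfsg.Agent.Helper45.GU.unitary_of_herm bar _ h, Matrix.transpose_one]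
  have hBdet : Bm.det = 1 := Cfsg.Agent.S2578.det_eq_one_of_isRegUnipMat hBreg
  have hBnil : (Bm - 1) ^ m = 0 := hBreg.1
  have hBrank : (Bm - 1).rank = m - 1 := hBreg.2
  -- `(B - 1)^(m-1) ≠ 0`
  have hBne : (Bm - 1) ^ (m - 1) ≠ 0 := by
    intro h0
    have h1 := Cfsg.Agent.Helper43.finrank_ker_pow_le (Matrix.toLin' (Bm - 1)) (m - 1)
    have h2 : Matrix.toLin' (Bm - 1) ^ (m - 1) = 0 := by
      rw [← Matrix.toLin'_pow, h0, map_zero]
    rw [h2, LinearMap.ker_zero, finrank_top, Module.finrank_fin_fun] at h1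
    have h3 : Module.finrank F (LinearMap.ker (Matrix.toLin' (Bm - 1))) = 1 := by
      have h4 := LinearMap.finrank_range_add_finrank_ker (Matrix.toLin' (Bm - 1))
      rw [Module.finrank_fin_fun] at h4
      have h5 : Module.finrank F (LinearMap.range (Matrix.toLin' (Bm - 1))) = m - 1 := by
        rw [← hBrank, Matrix.rank, Matrix.toLin'_apply']
      omega
    rw [h3, mul_one] at h1
    omega
  -- the element
  set U : Matrix (Fin (m + k)) (Fin (m + k)) F := bd Bm (1 : Matrix (Fin k) (Fin k) F) with hU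
  have hUdet : U.det = 1 := by rw [hU, bd_det, hBdet, Matrix.det_one, mul_one]
  have hUu : st bar U * U = 1 := by
    rw [hU, bd_st, bd_mul, hBu, st_one, one_mul, bd_one]
  let u0 : SpecialLinearGroup (Fin (m + k)) F := ⟨U, hUdet⟩
  have hu0 : u0 ∈ Cfsg.SU (m + k) F q := (mem_SU_iff_st bar hbar u0).2 hUu
  let u : Cfsg.SU (m + k) F q := ⟨u0, hu0⟩
  have hupow : ∀ t : ℕ, ((u ^ t : Cfsg.SU (m + k) F q).1.1 : Matrix (Fin (m + k)) (Fin (m + k)) F)
      = bd (Bm ^ t) 1 := by
    intro t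
    rw [SubgroupClass.coe_pow, Matrix.SpecialLinearGroup.coe_pow]
    show U ^ t = _
    rw [hU, bd_pow, one_pow]
  have hBpow : ∀ t : ℕ, Bm ^ (p ^ t) = 1 ↔ (Bm - 1) ^ (p ^ t) = 0 := by
    intro t
    rw [sub_pow_char_pow_of_commute p t (Commute.one_right _), one_pow, sub_eq_zero]
  set e : Matrix (Fin (m + k)) (Fin (m + k)) F :=
    bd (1 : Matrix (Fin m) (Fin m) F) (0 : Matrix (Fin k) (Fin k) F) with he
  refine ⟨u, e, ?_, ?_, ?_, ?_, ?_, ?_⟩
  · rw [he, bd_mul, mul_one, mul_zero]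
  · rw [he, bd_st, st_one]
    congr 1
    ext a b
    simp [st_apply]
  · intro h0
    have h1 := bd_apply_inl (1 : Matrix (Fin m) (Fin m) F) (0 : Matrix (Fin k) (Fin k) F)
      ⟨0, hm1⟩ ⟨0, hm1⟩
    rw [← he, h0] at h1
    simp at h1
  · intro h0
    have h1 := bd_apply_inr (1 : Matrix (Fin m) (Fin m) F) (0 : Matrix (Fin k) (Fin k) F)
      ⟨0, hk1⟩ ⟨0, hk1⟩
    rw [← he, h0] at h1
    simp at h1
  · show e * U = U * e
    simp only [he, hU, bd_mul, one_mul, mul_one, mul_zero]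
  · have hj' : j = (j - 1) + 1 := by omega
    rw [hj']
    apply orderOf_eq_prime_pow
    · -- not central
      intro h1
      rw [← QuotientGroup.mk_pow, QuotientGroup.eq_one_iff] at h1
      have hsc := Cfsg.Agent.Helper5.center_eq_scalar hF _ h1 (finSumFinEquiv (Sum.inr ⟨0, hk1⟩))
      rw [hupow] at hsc
      rw [bd_apply_inr, Matrix.one_apply_eq] at hsc
      have h2 : Bm ^ (p ^ (j - 1)) = 1 := by
        ext a b
        have h3 := congrFun (congrFun hsc (finSumFinEquiv (Sum.inl a))) (finSumFinEquiv (Sum.inl b))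
        rw [bd_apply_inl] at h3
        rw [h3]
        simp [Matrix.one_apply]
      rw [hBpow] at h2
      apply hBne
      have : m - 1 = p ^ (j - 1) := by omega
      rw [this]
      exact h2
    · rw [← hj', ← QuotientGroup.mk_pow]
      have h1 : u ^ (p ^ j) = 1 := by
        apply Subtype.ext
        apply Subtype.ext
        rw [hupow]
        have h2 : Bm ^ (p ^ j) = 1 := by
          rw [hBpow]
          exact pow_eq_zero_of_le hmp hBnil
        rw [h2, bd_one]
        rfl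
      rw [h1]
      rfl

end Cfsg.Agent.Helper80.Spec5
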