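import Mathlib
import Cfsg.Agent.Helper43.Spec5.Defs
import Cfsg.Agent.Helper60.Spec5AR

/-!
# (NTA) for helper43's S2511: the arithmetic of the irreducible case
-/

set_option autoImplicit false
set_option linter.unusedVariables false

namespace Cfsg.Agent.Helper80.Spec5

open Cfsg.Agent.Helper43.Spec5

/-- a geometric sum is congruent to the number of its terms modulo `x - 1` -/
theorem dvd_geom_sum_sub (x : ℤ) (k : ℕ) : x - 1 ∣ (∑ i ∈ Finset.range k, x ^ i) - k := by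
  have h : (∑ i ∈ Finset.range k, x ^ i) - k = ∑ i ∈ Finset.range k, (x ^ i - 1 ^ i) := by
    rw [Finset.sum_sub_distrib]
    simp
  rw [h]
  exact Finset.dvd_sum fun i _ => sub_dvd_pow_sub_pow x 1 i

/-- the alternating sum of an odd number of ones -/
theorem sum_neg_one_pow_odd (d : ℕ) (hd : Odd d) : ∑ i ∈ Finset.range d, (-1 : ℤ) ^ i = 1 := by
  have h := geom_sum_mul (-1 : ℤ) d
  rw [hd.neg_one_pow] at h
  have h2 : (∑ i ∈ Finset.range d, (-1 : ℤ) ^ i) * (-2) = 1 * (-2) := by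
    rw [one_mul]
    have : (-1 : ℤ) - 1 = -2 := by norm_num
    rw [this] at h
    rw [h]
  exact mul_right_cancel₀ (by norm_num) h2

/-- (NTA) the arithmetic of the irreducible case. -/
theorem nt_A (q d k o : ℕ) (hq : 2 ≤ q) (hd : Odd d) (hk : 1 ≤ k) (h1 : o ∣ q ^ d + 1)
    (h2 : o ∣ ((q ^ 2) ^ (d * k) - 1) / (q ^ 2 - 1)) : o ∣ cU q (d * k) * (q + 1) := by
  set qz : ℤ := (q : ℤ) with hqz
  have hqz2 : (2 : ℤ) ≤ qz := by rw [hqz]; exact_mod_cast hq
  set Qz : ℤ := qz ^ d with hQz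
  set a : ℤ := qz + 1 with ha
  have ha0 : a ≠ 0 := by rw [ha]; omega
  -- the cofactors
  set M : ℤ := ∑ i ∈ Finset.range d, qz ^ i * (-1) ^ (d - 1 - i) with hM
  have hMa : M * a = Qz + 1 := by
    have h := geom_sum₂_mul qz (-1) d
    rw [hd.neg_one_pow, sub_neg_eq_add, sub_neg_eq_add] at h
    exact h
  set M' : ℤ := ∑ i ∈ Finset.range d, qz ^ i with hM'
  have hM'a : M' * (qz - 1) = Qz - 1 := geom_sum_mul qz d
  set P : ℤ := ∑ i ∈ Finset.range k, (Qz ^ 2) ^ i with hP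
  have hPa : P * (Qz ^ 2 - 1) = (Qz ^ 2) ^ k - 1 := geom_sum_mul (Qz ^ 2) k
  set N' : ℤ := ∑ i ∈ Finset.range k, (-Qz) ^ i with hN'
  have hN'a : N' * (-Qz - 1) = (-Qz) ^ k - 1 := geom_sum_mul (-Qz) k
  -- congruences modulo `a`
  have haQ : a ∣ Qz + 1 := ⟨M, by rw [← hMa]; ring⟩
  have c1 : a ∣ M' - 1 := by
    have h : M' - 1 = ∑ i ∈ Finset.range d, (qz ^ i - (-1) ^ i) := by
      rw [Finset.sum_sub_distrib, sum_neg_one_pow_odd d hd]
    rw [h]
    refine Finset.dvd_sum fun i _ => ?_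
    have := sub_dvd_pow_sub_pow qz (-1) i
    rwa [sub_neg_eq_add] at this
  have c2 : a ∣ P - k := by
    have h := dvd_geom_sum_sub (Qz ^ 2) k
    refine dvd_trans ?_ h
    have : Qz ^ 2 - 1 = (Qz + 1) * (Qz - 1) := by ring
    rw [this]
    exact haQ.mul_right _
  have c3 : a ∣ N' - k := by
    have h := dvd_geom_sum_sub (-Qz) k
    refine dvd_trans ?_ h
    have : -Qz - 1 = (Qz + 1) * (-1) := by ring
    rw [this]
    exact haQ.mul_right _
  obtain ⟨t, ht⟩ : a ∣ P * M' - N' := by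
    have : P * M' - N' = (P - k) * M' + k * (M' - 1) - (N' - k) := by ring
    rw [this]
    exact dvd_sub (dvd_add (c2.mul_right _) (c1.mul_left _)) c3
  -- the quotient `R`
  have hdvdR : q ^ 2 - 1 ∣ (q ^ 2) ^ (d * k) - 1 := Nat.sub_one_dvd_pow_sub_one (q ^ 2) (d * k)
  set R : ℕ := ((q ^ 2) ^ (d * k) - 1) / (q ^ 2 - 1) with hR
  have hRm : R * (q ^ 2 - 1) = (q ^ 2) ^ (d * k) - 1 := Nat.div_mul_cancel hdvdR
  have hq2 : 1 ≤ q ^ 2 := Nat.one_le_pow _ _ (by omega)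
  have hq2k : 1 ≤ (q ^ 2) ^ (d * k) := Nat.one_le_pow _ _ (by omega)
  have hRz : (R : ℤ) * (qz ^ 2 - 1) = (qz ^ 2) ^ (d * k) - 1 := by
    have h := congrArg (fun x : ℕ => (x : ℤ)) hRm
    simp only [Nat.cast_mul, Nat.cast_sub hq2, Nat.cast_sub hq2k, Nat.cast_pow, Nat.cast_one] at h
    exact h
  have hRMP : (R : ℤ) = P * M' * M := by
    have hne : (qz - 1) * a ≠ 0 := by
      apply mul_ne_zero
      · omega
      · exact ha0
    apply mul_right_cancel₀ hne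
    have e1 : (R : ℤ) * ((qz - 1) * a) = (R : ℤ) * (qz ^ 2 - 1) := by rw [ha]; ring
    have e2 : (qz ^ 2) ^ (d * k) - 1 = (Qz ^ 2) ^ k - 1 := by rw [hQz]; ring
    have e3 : P * M' * M * ((qz - 1) * a) = P * ((M' * (qz - 1)) * (M * a)) := by ring
    rw [e1, hRz, e2, ← hPa, e3, hM'a, hMa]
    ring
  -- `o ∣ M N'`
  have ho1 : (o : ℤ) ∣ M * a := by
    rw [hMa, hQz, hqz]
    have := Int.natCast_dvd_natCast.mpr h1
    simpa using this
  have ho2 : (o : ℤ) ∣ (R : ℤ) := Int.natCast_dvd_natCast.mpr h2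
  have hoMN : (o : ℤ) ∣ M * N' := by
    have e : M * N' = (R : ℤ) - (M * a) * t := by
      rw [hRMP]
      have : P * M' = N' + a * t := by linarith
      rw [this]
      ring
    rw [e]
    exact dvd_sub ho2 (ho1.mul_right _)
  -- the value of `cU`
  have hspec := Cfsg.Agent.Helper60.Spec5.cU_spec q (d * k) (by omega)
  set g : ℕ := Nat.gcd (d * k) (q + 1) with hg
  have hg0 : g ≠ 0 := by
    rw [hg]
    exact Nat.gcd_ne_zero_right (by omega)
  obtain ⟨a', ha'⟩ : g ∣ q + 1 := Nat.gcd_dvd_right _ _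
  have ha'z : a = (g : ℤ) * (a' : ℤ) := by
    rw [ha, hqz]
    exact_mod_cast ha'
  have hqn : 1 ≤ q ^ (d * k) := Nat.one_le_pow _ _ (by omega)
  have hspecz : ((cU q (d * k) : ℕ) : ℤ) * (a * (g : ℤ)) = qz ^ (d * k) - (-1) ^ (d * k) := by
    have h := congrArg (fun x : ℕ => (x : ℤ)) hspec
    by_cases hev : Even (d * k)
    · simp only [if_pos hev] at h
      rw [hev.neg_one_pow]
      simp only [Nat.cast_mul, Nat.cast_add, Nat.cast_one, Nat.cast_sub hqn, Nat.cast_pow] at h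
      exact h
    · simp only [if_neg hev] at h
      rw [(Nat.not_even_iff_odd.mp hev).neg_one_pow]
      simp only [Nat.cast_mul, Nat.cast_add, Nat.cast_one, Nat.cast_pow] at h
      rw [sub_neg_eq_add]
      exact h
  have hsign : ((-1 : ℤ)) ^ (d * k) = (-1) ^ k := by
    rw [pow_mul, hd.neg_one_pow]
  have hsq : ((-1 : ℤ)) ^ k * (-1) ^ k = 1 := by
    rw [← mul_pow]
    norm_num
  have hA : qz ^ (d * k) - (-1) ^ (d * k) = -(-1) ^ k * (M * N') * a := by
    have e1 : qz ^ (d * k) = Qz ^ k := by rw [hQz, pow_mul]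
    have e2 : (-Qz) ^ k = (-1) ^ k * Qz ^ k := by rw [neg_pow]
    have e3 : N' * (Qz + 1) = 1 - (-1) ^ k * Qz ^ k := by
      have : N' * (Qz + 1) = -(N' * (-Qz - 1)) := by ring
      rw [this, hN'a, e2]
      ring
    have e4 : -(-1) ^ k * (M * N') * a = -(-1) ^ k * (N' * (M * a)) := by ring
    rw [e4, hMa, e3, hsign, e1]
    have : -(-1 : ℤ) ^ k * (1 - (-1) ^ k * Qz ^ k) = ((-1) ^ k * (-1) ^ k) * Qz ^ k - (-1) ^ k := by
      ring
    rw [this, hsq, one_mul]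
  have hT : ((cU q (d * k) * (q + 1) : ℕ) : ℤ) = -(-1) ^ k * (M * N') * (a' : ℤ) := by
    have hgz : (g : ℤ) ≠ 0 := by exact_mod_cast hg0
    apply mul_right_cancel₀ hgz
    have e1 : ((cU q (d * k) * (q + 1) : ℕ) : ℤ) * (g : ℤ)
        = ((cU q (d * k) : ℕ) : ℤ) * (a * (g : ℤ)) := by
      rw [ha, hqz]
      push_cast
      ring
    rw [e1, hspecz, hA, ha'z]
    ring
  have hfin : (o : ℤ) ∣ ((cU q (d * k) * (q + 1) : ℕ) : ℤ) := by
    rw [hT]
    exact (hoMN.mul_left _).mul_right _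
  exact Int.natCast_dvd_natCast.mp hfin

end Cfsg.Agent.Helper80.Spec5
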