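import Mathlib

/-!
# (RF) for helper43's S2511: rank factorisation of an idempotent matrix
-/

set_option autoImplicit false
set_option linter.unusedSectionVars false

namespace Cfsg.Agent.Helper80.Spec5

open Matrix Polynomial

variable {F : Type*} [Field F] [Fintype F]

/-- (RF) rank factorisation of an idempotent. -/
theorem exists_rank_factorization {n : ℕ} (e : Matrix (Fin n) (Fin n) F) (he : e * e = e) :
    ∃ (P : Matrix (Fin n) (Fin e.rank) F) (Q : Matrix (Fin e.rank) (Fin n) F),
      Q * P = 1 ∧ P * Q = e := by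
  classical
  set W : Submodule F (Fin n → F) := LinearMap.range e.mulVecLin with hW
  have hfr : Module.finrank F W = e.rank := rfl
  let b : Module.Basis (Fin e.rank) F W := Module.finBasisOfFinrankEq F W hfr
  let ι : W →ₗ[F] (Fin n → F) := W.subtype
  let f : (Fin n → F) →ₗ[F] W := e.mulVecLin.rangeRestrict
  have hfι : f ∘ₗ ι = LinearMap.id := by
    apply LinearMap.ext
    rintro ⟨w, v, rfl⟩
    apply Subtype.ext
    change e.mulVecLin (e.mulVecLin v) = e.mulVecLin v
    simp only [Matrix.mulVecLin_apply, Matrix.mulVec_mulVec, he]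
  have hιf : ι ∘ₗ f = e.mulVecLin := by
    apply LinearMap.ext
    intro v
    rfl
  refine ⟨LinearMap.toMatrix b (Pi.basisFun F (Fin n)) ι,
    LinearMap.toMatrix (Pi.basisFun F (Fin n)) b f, ?_, ?_⟩
  · rw [← LinearMap.toMatrix_comp, hfι, LinearMap.toMatrix_id]
  · rw [← LinearMap.toMatrix_comp, hιf, LinearMap.toMatrix_eq_toMatrix', ← Matrix.toLin'_apply', LinearMap.toMatrix'_toLin']

end Cfsg.Agent.Helper80.Spec5
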