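import Mathlib
import Cfsg.Agent.S2587
import Cfsg.Agent.Helper53.Spec4Common

/-!
# (U1) for helper43's S2511: a unitary matrix with irreducible minimal polynomial of degree `d`:
`d` is odd and `s^(q^d+1) = 1`
-/

set_option autoImplicit false
set_option linter.unusedSectionVars false
set_option linter.style.haveILetI false

namespace Cfsg.Agent.Helper80.Spec5

open Matrix Polynomial Module Cfsg.Agent.S2587 Cfsg.Agent.Helper53.Spec4

/-- an involutory automorphism of a finite field is `x ↦ x^Q` with `Q^2 = |A|` -/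
theorem involution_eq_pow {K : Type*} [Field K] [Fintype K] {A : Type*} [Field A] [Fintype A]
    [Algebra K A] (σ : A ≃ₐ[K] A) (hσ2 : ∀ x, σ (σ x) = x) (hσ : ∃ x, σ x ≠ x) :
    ∃ Q : ℕ, Fintype.card A = Q * Q ∧ ∀ x, σ x = x ^ Q := by
  classical
  set q := Fintype.card K with hq
  set n := finrank K A with hn
  obtain ⟨k, hk⟩ := (FiniteField.bijective_frobeniusAlgEquivOfAlgebraic_pow K A).2 σ
  have hk' : ∀ x : A, σ x = x ^ (q ^ (k : ℕ)) := by
    intro x
    rw [← hk]
    show ((FiniteField.frobeniusAlgEquivOfAlgebraic K A) ^ (k : ℕ)) x = _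
    rw [AlgEquiv.coe_pow, FiniteField.coe_frobeniusAlgEquivOfAlgebraic, pow_iterate]
  have hq1 : 1 < q := Fintype.one_lt_card
  have hk0 : (k : ℕ) ≠ 0 := by
    intro h0
    obtain ⟨x, hx⟩ := hσ
    apply hx
    rw [hk', h0, pow_zero, pow_one]
  have h2k : 2 * (k : ℕ) = n := by
    have hpow : (FiniteField.frobeniusAlgEquivOfAlgebraic K A) ^ (2 * (k : ℕ)) = 1 := by
      apply AlgEquiv.ext
      intro x
      rw [two_mul, pow_add, AlgEquiv.mul_apply]
      have : ((FiniteField.frobeniusAlgEquivOfAlgebraic K A) ^ (k : ℕ)) = σ := hk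
      rw [this, hσ2]
      rfl
    have hdvd := orderOf_dvd_of_pow_eq_one hpow
    rw [FiniteField.orderOf_frobeniusAlgEquivOfAlgebraic] at hdvd
    obtain ⟨c, hc⟩ := hdvd
    have hkn : (k : ℕ) < n := k.2
    have hc1 : c = 1 := by
      rcases c with _ | _ | c
      · omega
      · rfl
      · exfalso
        have : n * 2 ≤ 2 * (k : ℕ) := by
          rw [hc]
          exact Nat.mul_le_mul_left _ (by omega)
        omega
    rw [hc1, mul_one] at hc
    exact hc
  refine ⟨q ^ (k : ℕ), ?_, hk'⟩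
  rw [Module.card_eq_pow_finrank (K := K) (V := A), ← pow_add]
  have h3 : finrank K A = (k : ℕ) + (k : ℕ) := by omega
  exact congrArg (fun m => Fintype.card K ^ m) h3

variable {F : Type*} [Field F] [Fintype F]

/-- the `q`-power map is not the identity on a field with `q^2` elements -/
theorem exists_pow_ne {q : ℕ} (hF : Fintype.card F = q ^ 2) : ∃ c : F, c ^ q ≠ c := by
  classical
  have hcard : 1 < Fintype.card F := Fintype.one_lt_card
  have hq2 : 2 ≤ q := by
    rw [hF] at hcard
    rcases q with _ | _ | q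
    · norm_num at hcard
    · norm_num at hcard
    · omega
  by_contra hall
  push Not at hall
  obtain ⟨ζ, hζ⟩ := IsCyclic.exists_generator (α := Fˣ)
  have hord : orderOf ζ = q ^ 2 - 1 := by
    rw [orderOf_eq_card_of_forall_mem_zpowers hζ, Nat.card_eq_fintype_card, Fintype.card_units, hF]
  have h1 : ζ ^ (q - 1) = 1 := by
    have h2 : ζ ^ q = ζ := by
      apply Units.ext
      rw [Units.val_pow_eq_pow_val]
      exact hall _
    have h3 : ζ ^ (q - 1) * ζ = ζ := by
      rw [← pow_succ, Nat.sub_add_cancel (by omega), h2]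
    exact mul_right_cancel (b := ζ) (by rw [h3, one_mul])
  have h4 : q ^ 2 - 1 ∣ q - 1 := by
    rw [← hord]
    exact orderOf_dvd_of_pow_eq_one h1
  have h5 : q ^ 2 - 1 ≤ q - 1 := Nat.le_of_dvd (by omega) h4
  have h6 : q * 2 ≤ q ^ 2 := by
    rw [sq]
    exact Nat.mul_le_mul_left _ hq2
  omega

/-- (U1) a unitary matrix with irreducible minimal polynomial of degree `d`: `d` is odd and
`s^(q^d+1) = 1`. -/
theorem unitary_irreducible {n q : ℕ} (hF : Fintype.card F = q ^ 2) (bar : F →+* F)
    (hbar : ∀ x, bar x = x ^ q) (s : Matrix (Fin n) (Fin n) F) (hs : st bar s * s = 1)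
    (hirr : Irreducible (minpoly F s)) :
    Odd (minpoly F s).natDegree ∧ s ^ (q ^ (minpoly F s).natDegree + 1) = 1 := by
  classical
  -- `n ≥ 1`
  have hn : 1 ≤ n := by
    rcases Nat.eq_zero_or_pos n with rfl | h
    · exfalso
      have : minpoly F s = 1 := minpoly.subsingleton F s
      rw [this] at hirr
      exact hirr.not_isUnit isUnit_one
    · exact h
  haveI : Nonempty (Fin n) := ⟨⟨0, hn⟩⟩
  haveI : Fact (Irreducible (minpoly F s)) := ⟨hirr⟩
  have hbar2 : ∀ y, bar (bar y) = y := by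
    intro y
    rw [hbar, hbar, ← pow_mul, ← sq, ← hF, FiniteField.pow_card]
  have hint : IsIntegral F s := Algebra.IsIntegral.isIntegral s
  haveI : Module.Finite F (AdjoinRoot (minpoly F s)) := (minpoly.monic hint).finite_adjoinRoot
  haveI : Finite (AdjoinRoot (minpoly F s)) := Module.finite_of_finite F
  letI : Fintype (AdjoinRoot (minpoly F s)) := Fintype.ofFinite _
  set E := AdjoinRoot (minpoly F s) with hE
  set ρ : E := AdjoinRoot.root (minpoly F s) with hρ
  have hφinj : Function.Injective (phiM s) := phiM_injective hn s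
  have hφρ : phiM s ρ = s := phiM_root s
  have hs' : s * st bar s = 1 := mul_eq_one_comm.mp hs
  have hρ0 : ρ ≠ 0 := by
    intro h0
    have h1 : s = 0 := by
      have h2 := hφρ
      rw [h0, map_zero] at h2
      exact h2.symm
    rw [h1, mul_zero] at hs
    exact zero_ne_one hs
  have hφinv : phiM s ρ⁻¹ = st bar s := by
    have h1 : phiM s ρ⁻¹ * s = 1 := by
      have h2 : phiM s ρ⁻¹ * phiM s ρ = 1 := by
        rw [← map_mul, inv_mul_cancel₀ hρ0, map_one]
      rwa [hφρ] at h2
    calc phiM s ρ⁻¹ = phiM s ρ⁻¹ * (s * st bar s) := by rw [hs', mul_one]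
      _ = (phiM s ρ⁻¹ * s) * st bar s := by rw [mul_assoc]
      _ = st bar s := by rw [h1, one_mul]
  -- the semilinear involution
  set i : F →+* E := (algebraMap F E).comp bar with hi
  have hkey : ∀ p : F[X], phiM s (p.eval₂ i ρ⁻¹) = st bar (aeval s p) := by
    intro p
    have h1 : phiM s (p.eval₂ i ρ⁻¹)
        = p.eval₂ (((phiM s : E →ₐ[F] Matrix (Fin n) (Fin n) F) : E →+* Matrix (Fin n) (Fin n) F).comp i)
          (phiM s ρ⁻¹) :=
      Polynomial.hom_eval₂ p i
        ((phiM s : E →ₐ[F] Matrix (Fin n) (Fin n) F) : E →+* Matrix (Fin n) (Fin n) F) ρ⁻¹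
    rw [h1, hφinv, st_aeval, aeval_def, Polynomial.eval₂_map]
    congr 1
    apply RingHom.ext
    intro c
    simp only [RingHom.comp_apply, hi]
    exact (phiM s).commutes (bar c)
  have hroot : (minpoly F s).eval₂ i ρ⁻¹ = 0 := by
    apply hφinj
    rw [hkey, minpoly.aeval, map_zero]
    ext a b
    simp [st_apply]
  set τ₀ : E →+* E := AdjoinRoot.lift i ρ⁻¹ hroot with hτ₀
  have hτφ : ∀ y : E, phiM s (τ₀ y) = st bar (phiM s y) := by
    intro y
    obtain ⟨p, rfl⟩ := AdjoinRoot.mk_surjective y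
    rw [hτ₀, AdjoinRoot.lift_mk, hkey]
    rfl
  have hττ : ∀ y : E, τ₀ (τ₀ y) = y := by
    intro y
    apply hφinj
    rw [hτφ, hτφ, st_st bar hbar2]
  have hτρ : τ₀ ρ = ρ⁻¹ := AdjoinRoot.lift_root hroot
  have hτof : ∀ c : F, τ₀ (algebraMap F E c) = algebraMap F E (bar c) := by
    intro c
    exact AdjoinRoot.lift_of hroot
  -- characteristic
  obtain ⟨p, hpc⟩ := CharP.exists F
  haveI : CharP F p := hpc
  haveI : Fact p.Prime := ⟨CharP.char_is_prime F p⟩
  haveI : CharP E p := charP_of_injective_algebraMap (algebraMap F E).injective p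
  letI : Algebra (ZMod p) E := ZMod.algebra E p
  let τR : E ≃+* E := RingEquiv.ofRingHom τ₀ τ₀ (RingHom.ext hττ) (RingHom.ext hττ)
  let τA : E ≃ₐ[ZMod p] E := AlgEquiv.ofRingEquiv (f := τR) (fun c =>
    RingHom.congr_fun (Subsingleton.elim (τ₀.comp (algebraMap (ZMod p) E))
      (algebraMap (ZMod p) E)) c)
  have hτA : ∀ y, τA y = τ₀ y := fun y => rfl
  obtain ⟨c₀, hc₀⟩ := exists_pow_ne hF
  obtain ⟨Q, hQ, hτQ⟩ := involution_eq_pow τA (fun y => hττ y) ⟨algebraMap F E c₀, by
    rw [hτA, hτof, hbar]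
    intro h
    exact hc₀ ((algebraMap F E).injective h)⟩
  -- `Q = q^d`
  set d := (minpoly F s).natDegree with hd
  have hfr : Module.finrank F E = d := by
    rw [(AdjoinRoot.powerBasis hirr.ne_zero).finrank, AdjoinRoot.powerBasis_dim]
  have hcardE : Fintype.card E = q ^ d * q ^ d := by
    rw [Module.card_eq_pow_finrank (K := F) (V := E), hfr, hF, ← pow_mul, ← pow_add]
    congr 1
    ring
  have hQd : Q = q ^ d := by
    rw [hQ] at hcardE
    exact Nat.mul_self_inj.mp hcardE
  have hτpow : ∀ y : E, τ₀ y = y ^ (q ^ d) := by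
    intro y
    rw [← hτA, hτQ, hQd]
  constructor
  · -- `d` is odd
    rw [← Nat.not_even_iff_odd]
    rintro ⟨t, ht⟩
    apply hc₀
    apply (algebraMap F E).injective
    have h1 := hτpow (algebraMap F E c₀)
    rw [hτof, hbar] at h1
    rw [h1, ← map_pow]
    congr 1
    have : q ^ d = (Fintype.card F) ^ t := by
      rw [hF, ← pow_mul, ht]
      congr 1
      ring
    rw [this, FiniteField.pow_card_pow]
  · have h1 : ρ ^ (q ^ d + 1) = 1 := by
      rw [pow_succ, ← hτpow, hτρ, inv_mul_cancel₀ hρ0]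
    have h2 := congrArg (phiM s) h1
    rwa [map_pow, hφρ, map_one] at h2

end Cfsg.Agent.Helper80.Spec5
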