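import Mathlib
import Cfsg.Agent.Helper51.SqComm
import Cfsg.Agent.Helper84.PSLnGenU

/-!
# (L) for helper51's S4625: Sylow 2-subgroups of `PSL_n(F)`, `F` of characteristic 2, have
elementary abelian commutator quotient
-/

set_option autoImplicit false

namespace Cfsg.Agent.Helper80.Sq

open Matrix Cfsg Cfsg.Agent.Helper51.SQ Cfsg.Agent.Helper14.AutPSL Cfsg.Agent.Helper84.PSLn

/-- (L) -/
theorem sq_PSL {F : Type*} [Field F] [Fintype F] [CharP F 2] (n : ℕ) (hn : 2 ≤ n)
    (P : Sylow 2 (Matrix.ProjectiveSpecialLinearGroup (Fin n) F)) :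
    SqComm (P : Subgroup (Matrix.ProjectiveSpecialLinearGroup (Fin n) F)) := by
  classical
  have : Fact (Nat.Prime 2) := ⟨Nat.prime_two⟩
  obtain ⟨f, -, hcard⟩ := FiniteField.card F 2
  have hf : 1 ≤ (f : ℕ) := f.pos
  -- generation of `UT`
  have hcl : Subgroup.closure (rootSet n F) = UT n F := by
    apply le_antisymm
    · rw [Subgroup.closure_le]
      rintro x ⟨i, j, hij, r, rfl⟩
      exact tv_single_mem_UT hij r
    · exact UT_le_closure_rootSet
  have hsq : SqComm ((UT n F).map prj) := by
    refine sqComm_of_closure_involutions ((UT n F).map prj) (prj '' rootSet n F) ?_ ?_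
    · rw [← MonoidHom.map_closure, hcl]
    · rintro y ⟨x, ⟨i, j, hij, r, rfl⟩, rfl⟩
      rw [← map_pow, sq, tv_mul_center]
      have hφ : (Pi.single j 1 : Fin n → F) + Pi.single j 1 = 0 := by
        ext k
        rw [Pi.add_apply, CharTwo.add_self_eq_zero]
        rfl
      have h1 : tv (r • Pi.single i 1) ((Pi.single j 1 : Fin n → F) + Pi.single j 1)
          (by rw [hφ, zero_dotProduct]) = 1 := by
        apply Subtype.ext
        rw [tv_coe, hφ, vecMulVec_zero, add_zero]
        rfl
      rw [h1, map_one]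
  have h0 := sylow_all_of_one (sylUT hcard hf n (by omega))
    (by rw [coe_sylUT]; exact hsq)
  exact h0 P

end Cfsg.Agent.Helper80.Sq
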