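import Mathlib
import Cfsg.Prelude.Def_Classical
import Cfsg.Agent.Helper51.SqComm
import Cfsg.Agent.Helper84.PSLnGenU
import Cfsg.Agent.Helper84.PSpCard

/-!
# (S) for helper51's S4625: Sylow 2-subgroups of `PSp_{2m}(F)`, `F` of characteristic 2, have
elementary abelian commutator quotient
-/

set_option autoImplicit false
set_option linter.unusedVariables false

namespace Cfsg.Agent.Helper80.Sq

open Matrix Cfsg Cfsg.Agent.Helper51.SQ Cfsg.Agent.Helper14.AutPSL Cfsg.Agent.Helper84.PSLn
  Cfsg.Agent.Helper84.PSp

/-- the standard Sylow 2-subgroup of `Sp_{2m}(F)` in characteristic 2 is generated by involutions -/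
theorem sqComm_U0 {F : Type*} [Field F] [CharP F 2] (m : ℕ) : SqComm (U0 m F) := by
  classical
  have hcl : Subgroup.closure (rootSet m F) = UT m F := by
    apply le_antisymm
    · rw [Subgroup.closure_le]
      rintro x ⟨i, j, hij, r, rfl⟩
      exact tv_single_mem_UT hij r
    · exact UT_le_closure_rootSet
  refine sqComm_of_closure_involutions (U0 m F)
    ((R m F : Set (Matrix.symplecticGroup (Fin m) F)) ∪ (lvS m F) '' rootSet m F) ?_ ?_
  · apply le_antisymm
    · rw [Subgroup.closure_le]
      rintro g (hg | ⟨x, hx, rfl⟩)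
      · exact R_le_U0 hg
      · apply lvS_mem_U0
        rw [← hcl]
        exact Subgroup.subset_closure hx
    · intro g hg
      obtain ⟨r, hr, P, hP, rfl⟩ := exists_mul_lvS_of_mem_U0 hg
      apply mul_mem
      · exact Subgroup.subset_closure (Or.inl hr)
      · have h1 : lvS m F P ∈ (Subgroup.closure (rootSet m F)).map (lvS m F) := by
          rw [hcl]
          exact Subgroup.mem_map_of_mem _ hP
        rw [MonoidHom.map_closure] at h1
        exact Subgroup.closure_mono Set.subset_union_right h1
  · rintro g (hg | ⟨x, ⟨i, j, hij, r, rfl⟩, rfl⟩)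
    · obtain ⟨f, hf⟩ := (rEquiv m F).surjective ⟨g, hg⟩
      have hgf : g = rSf f := by
        have := congrArg Subtype.val hf
        exact this.symm
      have hff : f + f = 0 := by
        ext k
        rw [Pi.add_apply, CharTwo.add_self_eq_zero]
        rfl
      rw [hgf, sq, ← rSf_add, hff, rSf_zero]
    · rw [← map_pow, sq, tv_mul_center]
      have hφ : (Pi.single j 1 : Fin m → F) + Pi.single j 1 = 0 := by
        ext k
        rw [Pi.add_apply, CharTwo.add_self_eq_zero]
        rfl
      have h1 : tv (r • Pi.single i 1) ((Pi.single j 1 : Fin m → F) + Pi.single j 1)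
          (by rw [hφ, zero_dotProduct]) = 1 := by
        apply Subtype.ext
        rw [tv_coe, hφ, vecMulVec_zero, add_zero]
        rfl
      rw [h1, map_one]

/-- (S) -/
theorem sq_PSp {F : Type*} [Field F] [Fintype F] [CharP F 2] (m : ℕ) (hm : 2 ≤ m)
    (P : Sylow 2 (PSp m F)) : SqComm (P : Subgroup (PSp m F)) := by
  classical
  have : Fact (Nat.Prime 2) := ⟨Nat.prime_two⟩
  obtain ⟨f, -, hcard⟩ := FiniteField.card F 2
  have hf : 1 ≤ (f : ℕ) := f.pos
  have h0 : ∀ Q : Sylow 2 (Matrix.symplecticGroup (Fin m) F),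
      SqComm (Q : Subgroup (Matrix.symplecticGroup (Fin m) F)) :=
    sylow_all_of_one (sylU0 hcard hf m) (by rw [coe_sylU0]; exact sqComm_U0 m)
  exact sylow_all_of_surjective
    (QuotientGroup.mk' (Subgroup.center (Matrix.symplecticGroup (Fin m) F)))
    (QuotientGroup.mk'_surjective _) h0 P

end Cfsg.Agent.Helper80.Sq
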