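import Mathlib
import Cfsg.Agent.Helper42.SylowEA

/-!
# Sylow `p`-subgroups of symmetric groups are generated by their elements of order dividing `p`

(helper80, for helper88's WANTED #4006 (W1), S5165.)  Same induction as
`Cfsg.Agent.Helper42.sylow_perm_EA`, on the explicit Sylow subgroup `C_p^m ⋊ P_m`.
-/

set_option autoImplicit false

namespace Cfsg.Agent.Helper80

open Equiv Cfsg.Agent.Helper42

/-- `G` is generated by its elements `x` with `x ^ p = 1` -/
def GenP (p : ℕ) (G : Type*) [Group G] : Prop := Subgroup.closure {x : G | x ^ p = 1} = ⊤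

theorem GenP.of_mulEquiv {p : ℕ} {G G' : Type*} [Group G] [Group G'] (e : G ≃* G')
    (h : GenP p G) : GenP p G' := by
  unfold GenP at *
  rw [eq_top_iff, ← Subgroup.map_top_of_surjective e.toMonoidHom e.surjective, ← h,
    MonoidHom.map_closure]
  apply Subgroup.closure_mono
  rintro _ ⟨x, hx, rfl⟩
  show (e x) ^ p = 1
  rw [← map_pow, (hx : x ^ p = 1), map_one]

theorem GenP.of_subsingleton {p : ℕ} {G : Type*} [Group G] [Subsingleton G] : GenP p G := by
  unfold GenP
  rw [eq_top_iff]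
  intro x _
  rw [Subsingleton.elim x 1]
  exact Subgroup.one_mem _

section wr

variable {β : Type*} [DecidableEq β] [Fintype β] {p : ℕ} [Fact p.Prime]

/-- `GenP` passes from `K` to `F ⋊ K` -/
theorem GenP_wr (F : AddSubgroup (β → ZMod p)) (K : Subgroup (Perm β))
    (hFK : ∀ σ ∈ K, ∀ f ∈ F, f ∘ σ.symm ∈ F) (hK : GenP p K) : GenP p (wr F K hFK) := by
  unfold GenP at *
  rw [eq_top_iff]
  rintro ⟨g, f, hf, σ, hσ, rfl⟩ -
  have hb_mem : tr f ∈ wr F K hFK := ⟨f, hf, 1, K.one_mem, by rw [lf_one, mul_one]⟩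
  have hh_mem : lf p σ ∈ wr F K hFK := ⟨0, F.zero_mem, σ, hσ, by rw [tr_zero, one_mul]⟩
  have hsplit : (⟨tr f * lf p σ, f, hf, σ, hσ, rfl⟩ : wr F K hFK) =
      ⟨tr f, hb_mem⟩ * ⟨lf p σ, hh_mem⟩ := rfl
  rw [hsplit]
  apply Subgroup.mul_mem
  · apply Subgroup.subset_closure
    show (⟨tr f, hb_mem⟩ : wr F K hFK) ^ p = 1
    apply Subtype.ext
    rw [Subgroup.coe_pow]
    exact tr_pow_p f
  · let ψ : ↥K →* ↥(wr F K hFK) :=
      { toFun := fun τ => ⟨lf p τ.1, 0, F.zero_mem, τ.1, τ.2, by rw [tr_zero, one_mul]⟩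
        map_one' := Subtype.ext lf_one
        map_mul' := fun a b => Subtype.ext (lf_mul a.1 b.1) }
    have h1 : (⟨σ, hσ⟩ : ↥K) ∈ Subgroup.closure {x : ↥K | x ^ p = 1} := by
      rw [hK]; trivial
    have h2 : ψ ⟨σ, hσ⟩ ∈ (Subgroup.closure {x : ↥K | x ^ p = 1}).map ψ := ⟨_, h1, rfl⟩
    rw [MonoidHom.map_closure] at h2
    refine Subgroup.closure_mono ?_ h2
    rintro _ ⟨x, hx, rfl⟩
    show (ψ x) ^ p = 1
    rw [← map_pow, (hx : x ^ p = 1), map_one]

end wr

/-- Sylow subgroups of `Perm (Fin n)` are generated by their elements of order dividing `p`. -/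
theorem sylow_perm_fin_genP (p : ℕ) [hp : Fact p.Prime] (n : ℕ) :
    ∀ P : Sylow p (Perm (Fin n)), GenP p (P : Subgroup (Perm (Fin n))) := by
  induction n using Nat.strong_induction_on with
  | _ n ih =>
    intro P
    rcases Nat.eq_zero_or_pos n with h0 | hpos
    · subst h0
      exact GenP.of_subsingleton
    · have hlt : n / p < n := Nat.div_lt_self hpos hp.out.one_lt
      let Pm : Sylow p (Perm (Fin (n / p))) := default
      have hPm := ih (n / p) hlt Pm
      obtain ⟨ι⟩ := exists_embedding p n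
      have hW := GenP_wr (⊤ : AddSubgroup (Fin (n / p) → ZMod p))
        (Pm : Subgroup (Perm (Fin (n / p)))) (top_invariant _) hPm
      let Q : Sylow p (Perm (Fin n)) := Sylow.ofCard _ (card_std p n Pm ι)
      have hQ : GenP p (Q : Subgroup (Perm (Fin n))) :=
        GenP.of_mulEquiv (Subgroup.equivMapOfInjective _ _ (Perm.viaEmbeddingHom_injective ι)) hW
      exact GenP.of_mulEquiv (Q.equiv P) hQ

/-- transport to any group isomorphic to `Perm (Fin n)` -/
theorem sylow_genP_of_mulEquiv (p : ℕ) [hp : Fact p.Prime] {G : Type*} [Group G] [Finite G]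
    {n : ℕ} (e : G ≃* Perm (Fin n)) (P : Sylow p G) : GenP p (P : Subgroup G) := by
  let Q₀ : Sylow p (Perm (Fin n)) := default
  have hQ₀ := sylow_perm_fin_genP p n Q₀
  have hcard : Nat.card ((Q₀ : Subgroup (Perm (Fin n))).map e.symm.toMonoidHom) =
      p ^ (Nat.card G).factorization p := by
    rw [Subgroup.card_map_of_injective e.symm.injective, Q₀.card_eq_multiplicity,
      Nat.card_congr e.toEquiv]
  let Q : Sylow p G := Sylow.ofCard _ hcard
  have hQ : GenP p (Q : Subgroup G) :=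
    GenP.of_mulEquiv (Subgroup.equivMapOfInjective _ _ e.symm.injective) hQ₀
  exact GenP.of_mulEquiv (Q.equiv P) hQ

/-- **(W1)** a Sylow `p`-subgroup of `Perm β` is generated by its elements `σ` with `σ ^ p = 1`. -/
theorem sylow_perm_gen_by_order_p (p : ℕ) [Fact p.Prime] {β : Type*} [Fintype β] [DecidableEq β]
    (P : Sylow p (Perm β)) :
    (P : Subgroup (Perm β)) = Subgroup.closure {σ : Perm β | σ ∈ P ∧ σ ^ p = 1} := by
  have e : Perm β ≃* Perm (Fin (Fintype.card β)) := (Fintype.equivFin β).permCongrHom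
  have h := sylow_genP_of_mulEquiv p e P
  unfold GenP at h
  apply le_antisymm
  · intro σ hσ
    have h1 : (⟨σ, hσ⟩ : ↥(P : Subgroup (Perm β))) ∈
        Subgroup.closure {x : ↥(P : Subgroup (Perm β)) | x ^ p = 1} := by
      rw [h]; trivial
    have h2 : (P : Subgroup (Perm β)).subtype ⟨σ, hσ⟩ ∈
        (Subgroup.closure {x : ↥(P : Subgroup (Perm β)) | x ^ p = 1}).map
          (P : Subgroup (Perm β)).subtype := ⟨_, h1, rfl⟩
    rw [MonoidHom.map_closure] at h2
    refine Subgroup.closure_mono ?_ h2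
    rintro _ ⟨x, hx, rfl⟩
    refine ⟨x.2, ?_⟩
    have := congrArg Subtype.val (hx : x ^ p = 1)
    simpa using this
  · rw [Subgroup.closure_le]
    rintro σ ⟨hσ, -⟩
    exact hσ

end Cfsg.Agent.Helper80
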