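import Cfsg.Agent.Helper42.TupleRotate

/-!
# Weighted McKay rotation argument (helper80, for helper16's KNV-WB2, WANTED #3658)

`sum_tuples_prod_eq_one_prime`: for a prime `p`, the weighted sum over the `p`-tuples with
product `1` of `∏ i, b (v i)` equals `∑_{g^p = 1} b g ^ p` modulo `p`.
-/

set_option autoImplicit false

namespace Cfsg.Agent.Helper80.KNV

open Cfsg.Agent.Helper42.TupleRotate (prod_ofFn_shift const_of_shift)

/-- A sum over a finite set stable under a permutation of prime order `p` without fixed points in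
the set, of a function invariant under the permutation, is a multiple of `p`. -/
theorem exists_sum_eq_prime_mul {α : Type*} [DecidableEq α] {R : Type*} [CommRing R] (p : ℕ)
    [hp : Fact p.Prime] (σ : Equiv.Perm α) (hσ : σ ^ p = 1) (f : α → R) :
    ∀ (Y : Finset α), (∀ y ∈ Y, σ y ∈ Y) → (∀ y ∈ Y, σ y ≠ y) → (∀ y ∈ Y, f (σ y) = f y) →
      ∃ r : R, ∑ y ∈ Y, f y = (p : R) * r := by
  intro Y
  induction Y using Finset.strongInduction with
  | H Y ih =>
    intro hstab hfix hinv
    rcases Y.eq_empty_or_nonempty with rfl | ⟨y, hy⟩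
    · exact ⟨0, by simp⟩
    -- the orbit of `y`
    have hiterY : ∀ j : ℕ, (σ : α → α)^[j] y ∈ Y := by
      intro j
      induction j with
      | zero => simpa using hy
      | succ j ihj => rw [Function.iterate_succ_apply']; exact hstab _ ihj
    have hiterf : ∀ j : ℕ, f ((σ : α → α)^[j] y) = f y := by
      intro j
      induction j with
      | zero => simp
      | succ j ihj => rw [Function.iterate_succ_apply', hinv _ (hiterY j), ihj]
    have hper : Function.IsPeriodicPt (σ : α → α) p y := by
      unfold Function.IsPeriodicPt Function.IsFixedPt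
      rw [Equiv.Perm.iterate_eq_pow, hσ]; rfl
    have hmin : Function.minimalPeriod (σ : α → α) y = p := by
      have hdvd := hper.minimalPeriod_dvd
      rcases (Nat.dvd_prime hp.out).mp hdvd with h1 | h1
      · exact absurd (Function.minimalPeriod_eq_one_iff_isFixedPt.mp h1) (hfix y hy)
      · exact h1
    let O : Finset α := (Finset.range p).image (fun j => (σ : α → α)^[j] y)
    have hinj : Set.InjOn (fun j => (σ : α → α)^[j] y) (Finset.range p : Set ℕ) := by
      have := Function.iterate_injOn_Iio_minimalPeriod (f := (σ : α → α)) (x := y)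
      rw [hmin] at this
      intro i hi j hj hij
      exact this (by simpa using hi) (by simpa using hj) hij
    have hOY : O ⊆ Y := by
      intro z hz
      obtain ⟨j, _, rfl⟩ := Finset.mem_image.mp hz
      exact hiterY j
    have hyO : y ∈ O := Finset.mem_image.mpr ⟨0, Finset.mem_range.mpr hp.out.pos, rfl⟩
    have hsumO : ∑ z ∈ O, f z = (p : R) * f y := by
      rw [Finset.sum_image hinj]
      rw [Finset.sum_congr rfl (fun j _ => hiterf j)]
      simp
    -- the complement is stable
    have hOstab : ∀ z, σ z ∈ O → z ∈ O := by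
      intro z hz
      obtain ⟨j, hj, hjz⟩ := Finset.mem_image.mp hz
      rcases Nat.eq_zero_or_pos j with rfl | hjpos
      · -- σ z = y = σ^[p] y
        have h1 : (σ : α → α)^[p] y = y := hper
        have h2 : σ z = σ ((σ : α → α)^[p - 1] y) := by
          rw [← Function.iterate_succ_apply' (σ : α → α) (p - 1) y,
            show (p - 1).succ = p from Nat.succ_pred_eq_of_pos hp.out.pos, h1]
          simpa using hjz.symm
        rw [σ.injective h2]
        exact Finset.mem_image.mpr ⟨p - 1, Finset.mem_range.mpr (by have := hp.out.pos; omega), rfl⟩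
      · have h2 : σ z = σ ((σ : α → α)^[j - 1] y) := by
          rw [← Function.iterate_succ_apply' (σ : α → α) (j - 1) y,
            show (j - 1).succ = j from Nat.succ_pred_eq_of_pos hjpos]
          exact hjz.symm
        rw [σ.injective h2]
        exact Finset.mem_image.mpr ⟨j - 1, Finset.mem_range.mpr
          (by have := Finset.mem_range.mp hj; omega), rfl⟩
    obtain ⟨r', hr'⟩ := ih (Y \ O)
      (Finset.sdiff_ssubset hOY ⟨y, hyO⟩)
      (fun z hz => by
        rw [Finset.mem_sdiff] at hz ⊢
        exact ⟨hstab z hz.1, fun h => hz.2 (hOstab z h)⟩)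
      (fun z hz => hfix z (Finset.mem_sdiff.mp hz).1)
      (fun z hz => hinv z (Finset.mem_sdiff.mp hz).1)
    refine ⟨r' + f y, ?_⟩
    rw [← Finset.sum_sdiff hOY, hr', hsumO, mul_add]

/-- The cyclic shift of tuples, as a permutation. -/
def shiftEquiv (k : ℕ) (G : Type*) : Equiv.Perm (Fin (k + 1) → G) where
  toFun v := fun i => v (i + 1)
  invFun v := fun i => v (i - 1)
  left_inv v := by funext i; simp
  right_inv v := by funext i; simp

theorem shiftEquiv_apply (k : ℕ) (G : Type*) (v : Fin (k + 1) → G) (i : Fin (k + 1)) :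
    shiftEquiv k G v i = v (i + 1) := rfl

open Fin.NatCast in
theorem shiftEquiv_pow_apply (k : ℕ) (G : Type*) (j : ℕ) (v : Fin (k + 1) → G)
    (i : Fin (k + 1)) : ((shiftEquiv k G) ^ j) v i = v (i + (j : Fin (k + 1))) := by
  induction j generalizing v i with
  | zero => simp
  | succ j ih =>
    rw [pow_succ, Equiv.Perm.mul_apply, ih, shiftEquiv_apply, Nat.cast_succ, add_assoc]

open Fin.NatCast in
theorem shiftEquiv_pow_card (k : ℕ) (G : Type*) : (shiftEquiv k G) ^ (k + 1) = 1 := by
  ext v i
  rw [shiftEquiv_pow_apply]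
  simp

variable {G : Type*} [Group G] [Fintype G] [DecidableEq G] {R : Type*} [CommRing R]

theorem sum_tuples_aux (p : ℕ) [hp : Fact p.Prime] (k : ℕ) (hk : k + 1 = p) (b : G → R) :
    ∃ r : R, (∑ v : Fin (k + 1) → G, if (List.ofFn v).prod = 1 then ∏ i, b (v i) else 0) =
      (∑ g ∈ Finset.univ.filter (fun g : G => g ^ (k + 1) = 1), b g ^ (k + 1)) + (p : R) * r := by
  classical
  set σ := shiftEquiv k G with hσdef
  set wt : (Fin (k + 1) → G) → R := fun v => ∏ i, b (v i) with hwt
  set X : Finset (Fin (k + 1) → G) := Finset.univ.filter (fun v => (List.ofFn v).prod = 1) with hX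
  have hσX : ∀ v ∈ X, σ v ∈ X := by
    intro v hv
    rw [hX, Finset.mem_filter] at hv ⊢
    refine ⟨Finset.mem_univ _, ?_⟩
    change (List.ofFn (fun i => v (i + 1))).prod = 1
    rw [prod_ofFn_shift, hv.2]; group
  have hwtσ : ∀ v, wt (σ v) = wt v := by
    intro v
    change ∏ i, b (v (i + 1)) = ∏ i, b (v i)
    exact Fintype.prod_equiv (Equiv.addRight (1 : Fin (k + 1))) _ _ (fun i => rfl)
  have hsplit : (∑ v : Fin (k + 1) → G, if (List.ofFn v).prod = 1 then ∏ i, b (v i) else 0) =
      ∑ v ∈ X.filter (fun v => σ v = v), wt v + ∑ v ∈ X.filter (fun v => ¬ σ v = v), wt v := by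
    rw [Finset.sum_filter_add_sum_filter_not, hX, Finset.sum_filter]
  -- non-fixed part
  obtain ⟨r, hr⟩ := exists_sum_eq_prime_mul p σ (by rw [← hk]; exact shiftEquiv_pow_card k G) wt
    (X.filter (fun v => ¬ σ v = v))
    (fun v hv => by
      rw [Finset.mem_filter] at hv ⊢
      exact ⟨hσX v hv.1, fun h => hv.2 (σ.injective h)⟩)
    (fun v hv => (Finset.mem_filter.mp hv).2)
    (fun v _ => hwtσ v)
  -- fixed part
  have hconst : ∀ v, σ v = v → ∀ i, v i = v 0 := by
    intro v hv
    exact const_of_shift k v (fun i => congrFun hv i)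
  have hfixsum : ∑ v ∈ X.filter (fun v => σ v = v), wt v =
      ∑ g ∈ Finset.univ.filter (fun g : G => g ^ (k + 1) = 1), b g ^ (k + 1) := by
    refine Finset.sum_nbij' (fun v => v 0) (fun g => fun _ => g) ?_ ?_ ?_ ?_ ?_
    · intro v hv
      rw [Finset.mem_filter, hX, Finset.mem_filter] at hv
      rw [Finset.mem_filter]
      refine ⟨Finset.mem_univ _, ?_⟩
      have h1 : v = fun _ => v 0 := funext (hconst v hv.2)
      have h2 := hv.1.2
      rw [h1, List.ofFn_const, List.prod_replicate] at h2
      exact h2
    · intro g hg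
      rw [Finset.mem_filter] at hg
      rw [Finset.mem_filter, hX, Finset.mem_filter]
      refine ⟨⟨Finset.mem_univ _, ?_⟩, rfl⟩
      rw [List.ofFn_const, List.prod_replicate]
      exact hg.2
    · intro v hv
      rw [Finset.mem_filter] at hv
      exact (funext (hconst v hv.2)).symm
    · intro g _
      rfl
    · intro v hv
      rw [Finset.mem_filter] at hv
      change ∏ i, b (v i) = b (v 0) ^ (k + 1)
      rw [Finset.prod_congr rfl (fun i _ => by rw [hconst v hv.2 i]), Finset.prod_const,
        Finset.card_univ, Fintype.card_fin]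
  exact ⟨r, by rw [hsplit, hfixsum, hr]⟩

/-- **(KNV-WB2)** weighted McKay rotation count for a prime `p`. -/
theorem sum_tuples_prod_eq_one_prime {G : Type*} [Group G] [Fintype G] [DecidableEq G]
    {R : Type*} [CommRing R] (p : ℕ) [Fact p.Prime] (b : G → R) :
    ∃ r : R, (∑ v : Fin p → G, if (List.ofFn v).prod = 1 then ∏ i, b (v i) else 0) =
      (∑ g ∈ Finset.univ.filter (fun g : G => g ^ p = 1), b g ^ p) + (p : R) * r := by
  have hpos : p ≠ 0 := (Fact.out : p.Prime).ne_zero
  obtain ⟨k, hk⟩ := Nat.exists_eq_succ_of_ne_zero hpos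
  have key : ∀ N : ℕ, N = k + 1 →
      ∃ r : R, (∑ v : Fin N → G, if (List.ofFn v).prod = 1 then ∏ i, b (v i) else 0) =
        (∑ g ∈ Finset.univ.filter (fun g : G => g ^ N = 1), b g ^ N) + (p : R) * r := by
    intro N hN
    subst hN
    exact sum_tuples_aux p k hk.symm b
  exact key p hk

end Cfsg.Agent.Helper80.KNV
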