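import Mathlib
import Cfsg.Agent.Helper80.TwoClassesSylow
import Cfsg.Agent.S4836

set_option autoImplicit false

/-!
# Two-class characters: centralizers outside `N`, the centre of a Sylow subgroup (Gagola)
-/

namespace Cfsg.Agent.Helper80

open Cfsg
open scoped ComplexConjugate commutatorElement

universe u

section centralpart

/-- Sum over the irreducible characters with `N` in the kernel, as a sum over `Irr(G/N)`. -/
theorem sum_filter_ker_eq {G : Type u} [Group G] [Fintype G] [Fintype (IrrCharacter G)]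
    (N : Subgroup G) [N.Normal] [Fintype (IrrCharacter (G ⧸ N))] {M : Type*} [AddCommMonoid M]
    [DecidablePred fun χ : IrrCharacter G => ∀ n ∈ N, (χ : G → ℂ) n = (χ : G → ℂ) 1]
    (F : IrrCharacter G → M) :
    ∑ χ ∈ Finset.univ.filter (fun χ : IrrCharacter G => ∀ n ∈ N, (χ : G → ℂ) n = (χ : G → ℂ) 1),
      F χ = ∑ φ : IrrCharacter (G ⧸ N), F (irrQuotientEquiv N φ).1 := by
  classical
  rw [Finset.sum_subtype (Finset.univ.filter
    (fun χ : IrrCharacter G => ∀ n ∈ N, (χ : G → ℂ) n = (χ : G → ℂ) 1))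
    (p := fun χ : IrrCharacter G => ∀ n ∈ N, (χ : G → ℂ) n = (χ : G → ℂ) 1) (by simp) F]
  exact (Fintype.sum_equiv (irrQuotientEquiv N) _ _ fun ψ => rfl).symm

/-- In Gagola's situation, an element outside `N` has a centralizer of the same order as that of
its image in `G ⧸ N`. -/
theorem two_classes_card_centralizer_quot {G : Type u} [Group G] [Finite G] (hG : 2 < Nat.card G)
    (χ : IrrCharacter G)
    (hχ : Nat.card {C : ConjClasses G // ∃ g ∈ C.carrier, (χ : G → ℂ) g ≠ 0} = 2) (p : ℕ)
    [Fact p.Prime] (N : Subgroup G) [N.Normal] (hN : ∀ g : G, g ∈ N ↔ (χ : G → ℂ) g ≠ 0)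
    (hNp : IsPGroup p N) (hN1 : N ≠ ⊥) (x : G) (hx : x ∉ N) :
    Nat.card (Subgroup.centralizer ({x} : Set G)) =
      Nat.card (Subgroup.centralizer ({(x : G ⧸ N)} : Set (G ⧸ N))) := by
  classical
  have := Fintype.ofFinite G
  have hfin : Finite (IrrCharacter G) := Helper79.irr_finite'
  have := Fintype.ofFinite (IrrCharacter G)
  have : Fintype (G ⧸ N) := Fintype.ofFinite _
  have hfin' : Finite (IrrCharacter (G ⧸ N)) := Helper79.irr_finite'
  have := Fintype.ofFinite (IrrCharacter (G ⧸ N))
  obtain ⟨g, hgN, hg1, hclN, hotherN, hminN, hcent, hNcard, hB⟩ :=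
    two_classes_setup hG χ hχ p N hN hNp hN1
  have hfaith := (Cfsg.Agent.S4836.result hG χ hχ).1
  have h1 := Helper79.column_orthogonality (G := G) x x
  rw [if_pos (IsConj.refl x)] at h1
  have h2 := Helper79.column_orthogonality (G := G ⧸ N) (x : G ⧸ N) (x : G ⧸ N)
  rw [if_pos (IsConj.refl _)] at h2
  have hχx : (χ : G → ℂ) x = 0 := by
    by_contra h
    exact hx ((hN x).mpr h)
  have hfilter : Finset.univ.filter
      (fun ψ : IrrCharacter G => ∀ n ∈ N, (ψ : G → ℂ) n = (ψ : G → ℂ) 1) =
      Finset.univ.erase χ := by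
    ext ψ
    simp only [Finset.mem_filter, Finset.mem_univ, true_and, Finset.mem_erase, and_true]
    constructor
    · intro h hψχ
      rw [hψχ] at h
      exact hg1 (hfaith g (h g hgN))
    · intro hψχ n hn
      exact hotherN ψ hψχ n hn
  have h3 : ∑ ψ : IrrCharacter G, (ψ : G → ℂ) x * conj ((ψ : G → ℂ) x) =
      ∑ φ : IrrCharacter (G ⧸ N), (φ : G ⧸ N → ℂ) (x : G ⧸ N) *
        conj ((φ : G ⧸ N → ℂ) (x : G ⧸ N)) := by
    rw [← Finset.add_sum_erase _ _ (Finset.mem_univ χ), hχx, zero_mul, zero_add, ← hfilter,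
      sum_filter_ker_eq N (fun ψ : IrrCharacter G => (ψ : G → ℂ) x * conj ((ψ : G → ℂ) x))]
    rfl
  have h4 : (Nat.card (Subgroup.centralizer ({x} : Set G)) : ℂ) =
      (Nat.card (Subgroup.centralizer ({(x : G ⧸ N)} : Set (G ⧸ N))) : ℂ) := by
    rw [← h1, h3, h2]
  exact_mod_cast h4

/-- A `p`-subgroup centralizing an element outside `N` is small. -/
theorem two_classes_pbound {G : Type u} [Group G] [Finite G] (hG : 2 < Nat.card G)
    (χ : IrrCharacter G)
    (hχ : Nat.card {C : ConjClasses G // ∃ g ∈ C.carrier, (χ : G → ℂ) g ≠ 0} = 2) (p : ℕ)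
    [Fact p.Prime] (N : Subgroup G) [N.Normal] (hN : ∀ g : G, g ∈ N ↔ (χ : G → ℂ) g ≠ 0)
    (hNp : IsPGroup p N) (hN1 : N ≠ ⊥) (P : Sylow p G) (C : Subgroup G) (hC : IsPGroup p C)
    (z : G) (hz : z ∉ N) (hCz : C ≤ Subgroup.centralizer ({z} : Set G)) :
    Nat.card C * Nat.card N ≤ Nat.card (P : Subgroup G) := by
  have hp : p.Prime := Fact.out
  have h1 : Nat.card C ∣ Nat.card (Subgroup.centralizer ({z} : Set G)) :=
    Subgroup.card_dvd_of_le hCz
  rw [two_classes_card_centralizer_quot hG χ hχ p N hN hNp hN1 z hz] at h1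
  have h2 : Nat.card (Subgroup.centralizer ({(z : G ⧸ N)} : Set (G ⧸ N))) ∣ Nat.card (G ⧸ N) :=
    Subgroup.card_subgroup_dvd_card _
  have h3 : Nat.card C ∣ N.index := by
    rw [Subgroup.index_eq_card]; exact h1.trans h2
  obtain ⟨j, hj⟩ := IsPGroup.iff_card.mp hC
  obtain ⟨a, ha⟩ := IsPGroup.iff_card.mp hNp
  have h4 := Subgroup.card_mul_index N
  have hidx0 : N.index ≠ 0 := Subgroup.index_ne_zero_of_finite
  have h5 : (Nat.card G).factorization p = a + N.index.factorization p := by
    rw [← h4, Nat.factorization_mul (Nat.card_pos.ne') hidx0, ha, Nat.factorization_pow,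
      hp.factorization]
    simp
  have h6 : j ≤ N.index.factorization p := by
    rw [hj] at h3
    exact (hp.pow_dvd_iff_le_factorization hidx0).mp h3
  rw [hj, ha, Sylow.card_eq_multiplicity, ← pow_add]
  exact Nat.pow_le_pow_right hp.pos (by omega)

/-- The centre of a Sylow `p`-subgroup lies in `N`. -/
theorem two_classes_center_le {G : Type u} [Group G] [Finite G] (hG : 2 < Nat.card G)
    (χ : IrrCharacter G)
    (hχ : Nat.card {C : ConjClasses G // ∃ g ∈ C.carrier, (χ : G → ℂ) g ≠ 0} = 2) (p : ℕ)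
    [Fact p.Prime] (N : Subgroup G) [N.Normal] (hN : ∀ g : G, g ∈ N ↔ (χ : G → ℂ) g ≠ 0)
    (hNp : IsPGroup p N) (hN1 : N ≠ ⊥) (P : Sylow p G) :
    (Subgroup.center ↥(P : Subgroup G)).map (P : Subgroup G).subtype ≤ N := by
  intro x hx
  obtain ⟨z, hz, rfl⟩ := Subgroup.mem_map.mp hx
  by_contra hzN
  have hle : (P : Subgroup G) ≤ Subgroup.centralizer ({((P : Subgroup G).subtype z)} : Set G) := by
    intro u hu
    rw [Subgroup.mem_centralizer_iff]
    intro h hh
    rw [Set.mem_singleton_iff.mp hh]
    have := Subgroup.mem_center_iff.mp hz ⟨u, hu⟩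
    exact (congrArg Subtype.val this).symm
  have h1 := two_classes_pbound hG χ hχ p N hN hNp hN1 P (P : Subgroup G) P.2 _ hzN hle
  have h2 : 1 < Nat.card N := (Subgroup.one_lt_card_iff_ne_bot N).mpr hN1
  have h3 : 0 < Nat.card (P : Subgroup G) := Nat.card_pos
  nlinarith

/-- The centre of a Sylow `p`-subgroup equals `N` exactly when the Sylow subgroup is normal. -/
theorem two_classes_center_eq_iff {G : Type u} [Group G] [Finite G] (hG : 2 < Nat.card G)
    (χ : IrrCharacter G)
    (hχ : Nat.card {C : ConjClasses G // ∃ g ∈ C.carrier, (χ : G → ℂ) g ≠ 0} = 2) (p : ℕ)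
    [Fact p.Prime] (N : Subgroup G) [N.Normal] (hN : ∀ g : G, g ∈ N ↔ (χ : G → ℂ) g ≠ 0)
    (hNp : IsPGroup p N) (hN1 : N ≠ ⊥) (P : Sylow p G) :
    (Subgroup.center ↥(P : Subgroup G)).map (P : Subgroup G).subtype = N ↔
      (P : Subgroup G).Normal := by
  obtain ⟨g, hgN, hg1, hclN, hotherN, hminN, hcent, hNcard, hB⟩ :=
    two_classes_setup hG χ hχ p N hN hNp hN1
  have hNP : N ≤ (P : Subgroup G) := hNp.le_sylow_of_normal P
  constructor
  · intro hZ
    have h1 : (P : Subgroup G) ≤ Subgroup.centralizer (N : Set G) := by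
      intro u hu
      rw [Subgroup.mem_centralizer_iff]
      intro n hn
      have hn' : n ∈ (Subgroup.center ↥(P : Subgroup G)).map (P : Subgroup G).subtype := by
        rw [hZ]; exact hn
      obtain ⟨z, hz, rfl⟩ := Subgroup.mem_map.mp hn'
      have := Subgroup.mem_center_iff.mp hz ⟨u, hu⟩
      exact (congrArg Subtype.val this).symm
    have h2 : Subgroup.centralizer (N : Set G) ≤ Subgroup.centralizer ({g} : Set G) :=
      Subgroup.centralizer_le (by
        intro x hx
        rw [Set.mem_singleton_iff.mp hx]; exact hgN)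
    have h3 : Nat.card (Subgroup.centralizer ({g} : Set G)) ≤ Nat.card (P : Subgroup G) := by
      rw [hcent g hgN hg1, Sylow.card_eq_multiplicity]
    have h4 : (P : Subgroup G) = Subgroup.centralizer ({g} : Set G) :=
      Subgroup.eq_of_le_of_card_ge (h1.trans h2) h3
    have h5 : (P : Subgroup G) = Subgroup.centralizer (N : Set G) :=
      le_antisymm h1 (by rw [h4]; exact h2)
    rw [h5]
    exact Subgroup.normal_centralizer
  · intro hPn
    haveI := hPn
    have hp : p.Prime := Fact.out
    apply le_antisymm (two_classes_center_le hG χ hχ p N hN hNp hN1 P)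
    have hZn : ((Subgroup.center ↥(P : Subgroup G)).map (P : Subgroup G).subtype).Normal :=
      ConjAct.normal_of_characteristic_of_normal
    have hnt : Nontrivial ↥(P : Subgroup G) :=
      ⟨⟨⟨g, hNP hgN⟩, 1, fun h => hg1 (congrArg Subtype.val h)⟩⟩
    have hcen : Nontrivial (Subgroup.center ↥(P : Subgroup G)) :=
      (P.2 : IsPGroup p ↥(P : Subgroup G)).center_nontrivial
    have hZb : (Subgroup.center ↥(P : Subgroup G)).map (P : Subgroup G).subtype ≠ ⊥ := by
      intro h
      obtain ⟨z, hz⟩ := exists_ne (1 : Subgroup.center ↥(P : Subgroup G))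
      have h2 : ((z : ↥(P : Subgroup G)) : G) ∈
          (Subgroup.center ↥(P : Subgroup G)).map (P : Subgroup G).subtype :=
        Subgroup.mem_map.mpr ⟨z, z.2, rfl⟩
      rw [h, Subgroup.mem_bot] at h2
      exact hz (Subtype.ext (Subtype.ext h2))
    exact hminN _ hZn hZb

/-- `N` is a term of the upper central series of a Sylow `p`-subgroup. -/
theorem two_classes_upperCentral {G : Type u} [Group G] [Finite G] (hG : 2 < Nat.card G)
    (χ : IrrCharacter G)
    (hχ : Nat.card {C : ConjClasses G // ∃ g ∈ C.carrier, (χ : G → ℂ) g ≠ 0} = 2) (p : ℕ)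
    [Fact p.Prime] (N : Subgroup G) [N.Normal] (hN : ∀ g : G, g ∈ N ↔ (χ : G → ℂ) g ≠ 0)
    (hNp : IsPGroup p N) (hN1 : N ≠ ⊥) (P : Sylow p G) :
    ∃ i : ℕ, Subgroup.upperCentralSeries ↥(P : Subgroup G) i = N.subgroupOf (P : Subgroup G) := by
  classical
  have hp : p.Prime := Fact.out
  have hNP : N ≤ (P : Subgroup G) := hNp.le_sylow_of_normal P
  have hN'card : Nat.card (N.subgroupOf (P : Subgroup G)) = Nat.card N :=
    Nat.card_congr (Subgroup.subgroupOfEquivOfLe hNP).toEquiv
  -- key step
  have key : ∀ i, Subgroup.upperCentralSeries ↥(P : Subgroup G) i ≤ N.subgroupOf (P : Subgroup G) →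
      Subgroup.upperCentralSeries ↥(P : Subgroup G) i ≠ N.subgroupOf (P : Subgroup G) →
      Subgroup.upperCentralSeries ↥(P : Subgroup G) (i + 1) ≤ N.subgroupOf (P : Subgroup G) := by
    intro i hle hne z hz
    rw [Subgroup.mem_subgroupOf]
    by_contra hzN
    have hcomm : ∀ u : ↥(P : Subgroup G),
        ⁅z, u⁆ ∈ Subgroup.upperCentralSeries ↥(P : Subgroup G) i :=
      Subgroup.mem_upperCentralSeries_succ_iff.mp hz
    -- Claim A
    have hA : Nat.card (P : Subgroup G) ≤
        Nat.card (Subgroup.centralizer ({z} : Set ↥(P : Subgroup G))) *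
          Nat.card (Subgroup.upperCentralSeries ↥(P : Subgroup G) i) := by
      let f : ↥(P : Subgroup G) → Subgroup.upperCentralSeries ↥(P : Subgroup G) i :=
        fun u => ⟨⁅z, u⁆, hcomm u⟩
      have hf : ∀ u v, f u = f v ↔
          u⁻¹ * v ∈ Subgroup.centralizer ({z} : Set ↥(P : Subgroup G)) := by
        intro u v
        rw [Subtype.ext_iff]
        simp only [f, commutatorElement_def, Subgroup.mem_centralizer_iff,
          Set.mem_singleton_iff, forall_eq]
        constructor
        · intro h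
          have hz' : z = u⁻¹ * v * z * v⁻¹ * u := by
            calc z = u⁻¹ * (z * u * z⁻¹ * u⁻¹)⁻¹ * z * u := by group
              _ = u⁻¹ * (z * v * z⁻¹ * v⁻¹)⁻¹ * z * u := by rw [h]
              _ = u⁻¹ * v * z * v⁻¹ * u := by group
          calc z * (u⁻¹ * v) = (u⁻¹ * v * z * v⁻¹ * u) * (u⁻¹ * v) := by rw [← hz']
            _ = u⁻¹ * v * z := by group
        · intro h
          have h' : u⁻¹ * v * z⁻¹ = z⁻¹ * (u⁻¹ * v) := by
            calc u⁻¹ * v * z⁻¹ = z⁻¹ * (z * (u⁻¹ * v)) * z⁻¹ := by group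
              _ = z⁻¹ * (u⁻¹ * v * z) * z⁻¹ := by rw [h]
              _ = z⁻¹ * (u⁻¹ * v) := by group
          calc z * u * z⁻¹ * u⁻¹ = z * u * (z⁻¹ * (u⁻¹ * v)) * v⁻¹ := by group
            _ = z * u * (u⁻¹ * v * z⁻¹) * v⁻¹ := by rw [h']
            _ = z * v * z⁻¹ * v⁻¹ := by group
      let F : (↥(P : Subgroup G) ⧸ Subgroup.centralizer ({z} : Set ↥(P : Subgroup G))) →
          Subgroup.upperCentralSeries ↥(P : Subgroup G) i :=
        Quotient.lift f (fun u v huv => (hf u v).mpr (QuotientGroup.leftRel_apply.mp huv))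
      have hFinj : Function.Injective F := by
        intro a b
        induction a using Quotient.inductionOn with
        | h a =>
          induction b using Quotient.inductionOn with
          | h b =>
            intro h
            exact Quotient.sound (QuotientGroup.leftRel_apply.mpr ((hf _ _).mp h))
      have h1 : (Subgroup.centralizer ({z} : Set ↥(P : Subgroup G))).index ≤
          Nat.card (Subgroup.upperCentralSeries ↥(P : Subgroup G) i) := by
        rw [Subgroup.index_eq_card]
        exact Nat.card_le_card_of_injective F hFinj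
      calc Nat.card (P : Subgroup G)
          = Nat.card (Subgroup.centralizer ({z} : Set ↥(P : Subgroup G))) *
            (Subgroup.centralizer ({z} : Set ↥(P : Subgroup G))).index :=
            (Subgroup.card_mul_index _).symm
        _ ≤ _ := Nat.mul_le_mul_left _ h1
    -- Claim B
    have hB : Nat.card (Subgroup.centralizer ({z} : Set ↥(P : Subgroup G))) * Nat.card N ≤
        Nat.card (P : Subgroup G) := by
      have hCp : IsPGroup p ((Subgroup.centralizer ({z} : Set ↥(P : Subgroup G))).map
          (P : Subgroup G).subtype) :=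
        IsPGroup.map ((P.2 : IsPGroup p ↥(P : Subgroup G)).to_subgroup _) _
      have hCle : (Subgroup.centralizer ({z} : Set ↥(P : Subgroup G))).map
          (P : Subgroup G).subtype ≤ Subgroup.centralizer ({(z : G)} : Set G) := by
        intro x hx
        obtain ⟨u, hu, rfl⟩ := Subgroup.mem_map.mp hx
        rw [Subgroup.mem_centralizer_iff]
        intro h hh
        rw [Set.mem_singleton_iff.mp hh]
        have := Subgroup.mem_centralizer_iff.mp hu z (Set.mem_singleton z)
        exact congrArg Subtype.val this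
      have h1 := two_classes_pbound hG χ hχ p N hN hNp hN1 P _ hCp (z : G) hzN hCle
      rwa [Subgroup.card_map_of_injective (Subgroup.subtype_injective _)] at h1
    have hlt : Nat.card (Subgroup.upperCentralSeries ↥(P : Subgroup G) i) < Nat.card N := by
      rw [← hN'card]
      by_contra h
      push Not at h
      exact hne (Subgroup.eq_of_le_of_card_ge hle h)
    have hCpos : 0 < Nat.card (Subgroup.centralizer ({z} : Set ↥(P : Subgroup G))) :=
      Nat.card_pos
    nlinarith
  -- induction
  have hind : ∀ i, Subgroup.upperCentralSeries ↥(P : Subgroup G) i ≤ N.subgroupOf (P : Subgroup G) ∨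
      ∃ j, Subgroup.upperCentralSeries ↥(P : Subgroup G) j = N.subgroupOf (P : Subgroup G) := by
    intro i
    induction i with
    | zero =>
      left
      rw [Subgroup.upperCentralSeries_zero]
      exact bot_le
    | succ i ih =>
      rcases ih with h | h
      · by_cases hne : Subgroup.upperCentralSeries ↥(P : Subgroup G) i =
            N.subgroupOf (P : Subgroup G)
        · right; exact ⟨i, hne⟩
        · left; exact key i h hne
      · right; exact h
  have hnil : Group.IsNilpotent ↥(P : Subgroup G) :=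
    (P.2 : IsPGroup p ↥(P : Subgroup G)).isNilpotent
  obtain ⟨c, hc⟩ := hnil.nilpotent'
  rcases hind c with h | h
  · refine ⟨c, le_antisymm h ?_⟩
    rw [hc]
    exact le_top
  · exact h

end centralpart

end Cfsg.Agent.Helper80
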