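import Mathlib

/-!
# Piece (ULTE) of helper13's WANTED #7436 (S5982)

`(q₀²)^j - 1 = (q₀^j - 1)(q₀^j + 1)` and an odd prime divides at most one of the factors.
-/

set_option autoImplicit false

namespace Cfsg.Agent.Helper80.USubULTE

/-- (ULTE) -/
theorem padicValNat_sq_pow_sub_one_eq (r q₀ : ℕ) [Fact r.Prime] (hr2 : r ≠ 2) (hq₀ : 1 < q₀)
    (hA : ∀ j, 0 < j → r ∣ (q₀ ^ 2) ^ j - 1 → r ∣ (if Even j then q₀ ^ j - 1 else q₀ ^ j + 1))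
    (j : ℕ) (hj : 0 < j) :
    padicValNat r ((q₀ ^ 2) ^ j - 1) =
      padicValNat r (if Even j then q₀ ^ j - 1 else q₀ ^ j + 1) := by
  have hr : r.Prime := Fact.out
  have hge : 2 ≤ q₀ ^ j := by
    calc 2 ≤ q₀ := hq₀
      _ = q₀ ^ 1 := (pow_one _).symm
      _ ≤ q₀ ^ j := Nat.pow_le_pow_right (by omega) hj
  have hfac : (q₀ ^ 2) ^ j - 1 = (q₀ ^ j - 1) * (q₀ ^ j + 1) := by
    rw [← pow_mul, mul_comm 2 j, pow_mul]
    obtain ⟨b, hb⟩ : ∃ b, q₀ ^ j = b + 1 := ⟨q₀ ^ j - 1, by omega⟩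
    rw [hb]
    have h1 : (b + 1) ^ 2 - 1 = b * (b + 2) := by
      have : (b + 1) ^ 2 = b * (b + 2) + 1 := by ring
      omega
    rw [h1, Nat.add_sub_cancel]
  have hX0 : q₀ ^ j - 1 ≠ 0 := by omega
  have hY0 : q₀ ^ j + 1 ≠ 0 := by omega
  have hnot : ¬ (r ∣ q₀ ^ j - 1 ∧ r ∣ q₀ ^ j + 1) := by
    rintro ⟨h1, h2⟩
    have h3 : r ∣ (q₀ ^ j + 1) - (q₀ ^ j - 1) := Nat.dvd_sub h2 h1
    have h4 : (q₀ ^ j + 1) - (q₀ ^ j - 1) = 2 := by omega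
    rw [h4] at h3
    exact hr2 ((Nat.prime_dvd_prime_iff_eq hr Nat.prime_two).1 h3)
  by_cases hd : r ∣ (q₀ ^ 2) ^ j - 1
  · have h1 := hA j hj hd
    rw [hfac, padicValNat.mul hX0 hY0]
    split_ifs at h1 ⊢ with he
    · have h2 : ¬ r ∣ q₀ ^ j + 1 := fun h => hnot ⟨h1, h⟩
      rw [padicValNat.eq_zero_of_not_dvd h2, add_zero]
    · have h2 : ¬ r ∣ q₀ ^ j - 1 := fun h => hnot ⟨h, h1⟩
      rw [padicValNat.eq_zero_of_not_dvd h2, zero_add]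
  · rw [padicValNat.eq_zero_of_not_dvd hd]
    symm
    apply padicValNat.eq_zero_of_not_dvd
    intro h
    apply hd
    rw [hfac]
    split_ifs at h
    · exact h.mul_right _
    · exact h.mul_left _

end Cfsg.Agent.Helper80.USubULTE
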